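import Mathlib
import Cfsg.Agent.Lib.H24.FusEss

/-!
Automorphism groups of dihedral and generalized quaternion 2-groups of order at least 16 are 2-groups.
-/

set_option autoImplicit false

namespace Cfsg.Agent.H24

open Cfsg Cfsg.FusionSystem

section Abstract

variable {X : Type*} [Group X]

theorem isPGroup_two_of_odd_trivial {A : Type*} [Group A] [Finite A]
    (h : ∀ a : A, Odd (orderOf a) → a = 1) : IsPGroup 2 A := by
  intro a
  have hm : orderOf a ≠ 0 := (orderOf_pos a).ne'
  obtain ⟨k, q, hq, hkq⟩ := Nat.exists_eq_two_pow_mul_odd hm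
  refine ⟨k, h _ ?_⟩
  have h1 : orderOf (a ^ 2 ^ k) ∣ q := by
    apply orderOf_dvd_of_pow_eq_one
    rw [← pow_mul, ← hkq, pow_orderOf_eq_one]
  exact Odd.of_dvd_nat hq h1

/-- The abstract shape of the dihedral and generalized quaternion groups. -/
theorem aut_odd_trivial (r s : X) {e : ℕ} (he : 3 ≤ e) (hr : orderOf r = 2 ^ e)
    (hs : ∀ i : ℕ, (s * r ^ i) ^ 4 = 1) (hsr : ∀ i : ℕ, s ≠ r ^ i)
    (hX : ∀ x : X, (∃ i : ℕ, x = r ^ i) ∨ (∃ i : ℕ, x = s * r ^ i))
    (α : MulAut X) (hα : Odd (orderOf α)) : α = 1 := by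
  have hq1 : α ^ orderOf α = 1 := pow_orderOf_eq_one α
  set q := orderOf α with hq
  have hord : orderOf (α r) = 2 ^ e := by
    rw [← hr]
    exact MulEquiv.orderOf_eq α r
  -- the image of `r` is a power of `r`
  obtain ⟨a, ha⟩ : ∃ a : ℕ, α r = r ^ a := by
    rcases hX (α r) with h | ⟨i, h⟩
    · exact h
    · exfalso
      have h1 : (α r) ^ 4 = 1 := by rw [h]; exact hs i
      have h2 : orderOf (α r) ∣ 4 := orderOf_dvd_of_pow_eq_one h1
      rw [hord] at h2
      have h3 : 2 ^ 3 ∣ 2 ^ e := pow_dvd_pow 2 he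
      have h4 := Nat.le_of_dvd (by norm_num) (h3.trans h2)
      norm_num at h4
  have hodd : Nat.Coprime a (2 ^ e) := by
    apply Nat.Coprime.pow_right
    rw [Nat.coprime_two_right] 
    by_contra hae
    rw [Nat.not_odd_iff_even] at hae
    obtain ⟨c, hc⟩ := hae
    have he1 : e = (e - 1) + 1 := by omega
    have h1 : (α r) ^ 2 ^ (e - 1) = 1 := by
      rw [ha, ← pow_mul, hc]
      have : (c + c) * 2 ^ (e - 1) = c * 2 ^ e := by
        rw [he1]
        simp only [Nat.add_sub_cancel]
        ring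
      rw [this, mul_comm, pow_mul, ← hr, pow_orderOf_eq_one, one_pow]
    have h2 : orderOf (α r) ∣ 2 ^ (e - 1) := orderOf_dvd_of_pow_eq_one h1
    rw [hord] at h2
    have h3 := (Nat.pow_dvd_pow_iff_le_right (x := 2) (by norm_num)).1 h2
    omega
  have hpow : ∀ n : ℕ, (α ^ n) r = r ^ a ^ n := by
    intro n
    induction n with
    | zero => simp
    | succ n ih =>
      rw [pow_succ', MulAut.mul_apply, ih, map_pow, ha, ← pow_mul, pow_succ']
  have hr1 : r ^ 1 = r ^ a ^ q := by
    rw [pow_one, ← hpow, hq1]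
    rfl
  have hmod : a ^ q ≡ 1 [MOD 2 ^ e] := by
    have := (pow_eq_pow_iff_modEq (x := r) (n := 1) (m := a ^ q)).1 hr1
    rw [hr] at this
    exact this.symm
  have hfix : α r = r := by
    rw [ha]
    -- in the unit group of `ZMod (2^e)`
    have : NeZero (2 ^ e) := ⟨by positivity⟩
    let u : (ZMod (2 ^ e))ˣ := ZMod.unitOfCoprime a hodd
    have hu1 : u ^ q = 1 := by
      ext
      push_cast
      simp only [u, ZMod.coe_unitOfCoprime]
      rw [← Nat.cast_pow, (ZMod.natCast_eq_natCast_iff _ _ _).2 hmod, Nat.cast_one]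
    have hu2 : u ^ (2 ^ (e - 1)) = 1 := by
      have h1 := pow_card_eq_one (x := u)
      rw [ZMod.card_units_eq_totient, Nat.totient_prime_pow Nat.prime_two (by omega)] at h1
      simpa using h1
    have hcop : Nat.Coprime q (2 ^ (e - 1)) := by
      apply Nat.Coprime.pow_right
      exact Nat.coprime_two_right.2 hα
    have hu : u = 1 := by
      have := pow_gcd_eq_one.2 ⟨hu1, hu2⟩
      rwa [hcop.gcd_eq_one, pow_one] at this
    have h3 : ((a : ℕ) : ZMod (2 ^ e)) = ((1 : ℕ) : ZMod (2 ^ e)) := by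
      have := congrArg Units.val hu
      simpa [u, ZMod.coe_unitOfCoprime] using this
    have h4 := (ZMod.natCast_eq_natCast_iff _ _ _).1 h3
    have h5 : r ^ a = r ^ 1 := (pow_eq_pow_iff_modEq).2 (by rw [hr]; exact h4)
    rw [h5, pow_one]
  -- the image of `s`
  obtain ⟨b, hb⟩ : ∃ b : ℕ, α s = s * r ^ b := by
    rcases hX (α s) with ⟨i, h⟩ | h
    · exfalso
      have h1 : α s = α (r ^ i) := by rw [map_pow, hfix, h]
      exact hsr i (α.injective h1)
    · exact h
  have hpows : ∀ n : ℕ, (α ^ n) s = s * r ^ (n * b) := by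
    intro n
    induction n with
    | zero => simp
    | succ n ih =>
      rw [pow_succ', MulAut.mul_apply, ih, map_mul, map_pow, hfix, hb, mul_assoc, ← pow_add]
      congr 2
      ring
  have hb1 : (r ^ b) ^ q = 1 := by
    have h1 := hpows q
    rw [hq1] at h1
    have h2 : s = s * r ^ (q * b) := h1
    have h3 : r ^ (q * b) = 1 := by
      have := mul_left_cancel (a := s) (b := 1) (c := r ^ (q * b)) (by rw [mul_one]; exact h2)
      exact this.symm
    rw [← pow_mul, mul_comm]
    exact h3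
  have hb2 : (r ^ b) ^ 2 ^ e = 1 := by
    rw [← pow_mul, mul_comm, pow_mul, ← hr, pow_orderOf_eq_one, one_pow]
  have hb3 : r ^ b = 1 := by
    have := pow_gcd_eq_one.2 ⟨hb1, hb2⟩
    have hcop : Nat.Coprime q (2 ^ e) := Nat.Coprime.pow_right _ (Nat.coprime_two_right.2 hα)
    rwa [hcop.gcd_eq_one, pow_one] at this
  have hsfix : α s = s := by rw [hb, hb3, mul_one]
  ext x
  rcases hX x with ⟨i, rfl⟩ | ⟨i, rfl⟩
  · rw [map_pow, hfix]
    rfl
  · rw [map_mul, map_pow, hfix, hsfix]
    rfl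

end Abstract

theorem isPGroup_mulAut_dihedral {e : ℕ} (he : 3 ≤ e) : IsPGroup 2 (MulAut (DihedralGroup (2 ^ e))) := by
  have hne : NeZero (2 ^ e) := ⟨by positivity⟩
  have : Finite (MulAut (DihedralGroup (2 ^ e))) := inferInstance
  apply isPGroup_two_of_odd_trivial
  intro α hα
  refine aut_odd_trivial (DihedralGroup.r 1) (DihedralGroup.sr 0) he DihedralGroup.orderOf_r_one ?_ ?_ ?_ α hα
  · intro i
    rw [DihedralGroup.r_one_pow, DihedralGroup.sr_mul_r]
    have h1 : (DihedralGroup.sr (0 + (i : ZMod (2 ^ e)))) ^ 2 = 1 := by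
      rw [pow_two, DihedralGroup.sr_mul_self]
    rw [show 4 = 2 * 2 from rfl, pow_mul, h1, one_pow]
  · intro i h
    rw [DihedralGroup.r_one_pow] at h
    exact absurd h (by simp)
  · rintro (x | x)
    · left
      refine ⟨x.val, ?_⟩
      rw [DihedralGroup.r_one_pow, ZMod.natCast_zmod_val]
    · right
      refine ⟨x.val, ?_⟩
      rw [DihedralGroup.r_one_pow, DihedralGroup.sr_mul_r, ZMod.natCast_zmod_val, zero_add]

theorem isPGroup_mulAut_quaternion {e : ℕ} (he : 2 ≤ e) : IsPGroup 2 (MulAut (QuaternionGroup (2 ^ e))) := by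
  have hne : NeZero (2 ^ e) := ⟨by positivity⟩
  have hne2 : NeZero (2 * 2 ^ e) := ⟨by positivity⟩
  have : Finite (MulAut (QuaternionGroup (2 ^ e))) := inferInstance
  apply isPGroup_two_of_odd_trivial
  intro α hα
  have h3 : 3 ≤ e + 1 := by omega
  have hr : orderOf (QuaternionGroup.a 1 : QuaternionGroup (2 ^ e)) = 2 ^ (e + 1) := by
    rw [QuaternionGroup.orderOf_a_one, pow_succ, mul_comm]
  refine aut_odd_trivial (QuaternionGroup.a 1) (QuaternionGroup.xa 0) h3 hr ?_ ?_ ?_ α hα
  · intro i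
    rw [QuaternionGroup.a_one_pow, QuaternionGroup.xa_mul_a]
    exact QuaternionGroup.xa_pow_four _
  · intro i h
    rw [QuaternionGroup.a_one_pow] at h
    exact absurd h (by simp)
  · rintro (x | x)
    · left
      refine ⟨x.val, ?_⟩
      rw [QuaternionGroup.a_one_pow, ZMod.natCast_zmod_val]
    · right
      refine ⟨x.val, ?_⟩
      rw [QuaternionGroup.a_one_pow, QuaternionGroup.xa_mul_a, ZMod.natCast_zmod_val, zero_add]

theorem isPGroup_mulAut_congr {X Y : Type*} [Group X] [Group Y] {p : ℕ} (e : X ≃* Y)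
    (h : IsPGroup p (MulAut Y)) : IsPGroup p (MulAut X) := by
  let f : MulAut X →* MulAut Y :=
    { toFun := fun α => e.symm.trans (α.trans e)
      map_one' := by ext x; simp
      map_mul' := by intro a b; ext x; simp }
  refine h.of_injective f ?_
  intro a b hab
  ext x
  have := congrArg (fun c : MulAut Y => c (e x)) hab
  simpa [f] using this

variable {Ω : Type*} [Group Ω] {S : Subgroup Ω} {F : FusionSystem S}

/-- Saturated: if `Aut(S)` is a `p`-group, then `Aut_F(S) = Inn(S)`. -/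
theorem autGroup_eq_inn_of_isPGroup [Finite S] {p : ℕ} [Fact p.Prime] (hF : F.IsSaturated p)
    (h : IsPGroup p (MulAut S)) : F.autGroup S = Inn S := by
  apply le_antisymm
  · obtain ⟨Q, hQ, hfa, -⟩ := hF S le_rfl
    have hQS : Q ≤ S := IsConj.le_right hQ
    have heq : Q = S := by
      have hfin : Finite S := inferInstance
      exact Subgroup.eq_of_le_of_card_ge hQS (le_of_eq (IsConj.card_eq hQ))
    subst heq
    obtain ⟨-, R, hR⟩ := hfa
    have hp : IsPGroup p (F.autGroup Q) := h.of_injective (F.autGroup Q).subtype Subtype.val_injective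
    have htop : (R : Subgroup (F.autGroup Q)) = ⊤ := by
      exact (R.is_maximal' (Q := ⊤) (hp.of_injective Subgroup.topEquiv.toMonoidHom (MulEquiv.injective _)) le_top).symm
    intro α hα
    have h1 : (⟨α, hα⟩ : F.autGroup Q) ∈ (R : Subgroup (F.autGroup Q)) := by
      rw [htop]; exact Subgroup.mem_top _
    rw [hR] at h1
    have h2 : α ∈ autInducedBy Q Q := h1
    refine (Subgroup.closure_le _).2 ?_ h2
    rintro β ⟨g, hg, hβ⟩
    refine ⟨⟨g, hg⟩, ?_⟩
    ext x
    exact (hβ x).symm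
  · exact inn_le_autGroup le_rfl

/-- S5112. -/
theorem autGroup_eq_inn_dihedral_quaternion [Finite S] (n : ℕ) (hn : 4 ≤ n)
    (hshape : Nonempty (S ≃* DihedralGroup (2 ^ (n - 1))) ∨ Nonempty (S ≃* QuaternionGroup (2 ^ (n - 2))))
    (hF : F.IsSaturated 2) : F.autGroup S = Inn S := by
  have : Fact (Nat.Prime 2) := ⟨Nat.prime_two⟩
  apply autGroup_eq_inn_of_isPGroup hF
  rcases hshape with ⟨⟨e⟩⟩ | ⟨⟨e⟩⟩
  · exact isPGroup_mulAut_congr e (isPGroup_mulAut_dihedral (by omega))
  · exact isPGroup_mulAut_congr e (isPGroup_mulAut_quaternion (by omega))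

end Cfsg.Agent.H24
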