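import Mathlib

/-!
Transfer attached to an `S × S`-set whose second factor acts freely.
-/

set_option autoImplicit false
set_option linter.style.haveILetI false

namespace Cfsg.Agent.H24

universe u v w

section

variable (S : Type u) [Group S] (X : Type v) [MulAction (S × S) X]

/-- Orbits of the second factor. -/
def rSetoid : Setoid X where
  r ω ω' := ∃ s : S, ((1 : S), s) • ω = ω'
  iseqv := by
    refine ⟨fun ω => ⟨1, ?_⟩, ?_, ?_⟩
    · exact one_smul (S × S) ω
    · rintro a b ⟨s, rfl⟩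
      refine ⟨s⁻¹, ?_⟩
      rw [smul_smul]
      have : ((1 : S), s⁻¹) * ((1 : S), s) = 1 := by ext <;> simp
      rw [this, one_smul]
    · rintro a b c ⟨s, rfl⟩ ⟨t, rfl⟩
      refine ⟨t * s, ?_⟩
      rw [smul_smul]
      congr 1
      ext <;> simp

/-- The set of orbits of the second factor. -/
def Uq : Type v := Quotient (rSetoid S X)

instance [Finite X] : Finite (Uq S X) := Quotient.finite _

noncomputable instance [Finite X] : Fintype (Uq S X) := Fintype.ofFinite _

variable {S X}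

/-- The class of a point. -/
def uq (ω : X) : Uq S X := Quotient.mk (rSetoid S X) ω

theorem uq_eq {ω ω' : X} : (uq ω : Uq S X) = uq ω' ↔ ∃ s : S, ((1 : S), s) • ω = ω' :=
  Quotient.eq (r := rSetoid S X)

theorem uq_surj (u : Uq S X) : ∃ ω : X, uq ω = u := Quotient.exists_rep u

theorem comm_smul (x s : S) (ω : X) : ((x, (1 : S)) • ((1 : S), s) • ω : X) = ((1 : S), s) • (x, (1 : S)) • ω := by
  rw [smul_smul, smul_smul]
  congr 1
  ext <;> simp

/-- The action of the first factor on `Uq`. -/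
def lq (x : S) : Uq S X → Uq S X :=
  Quotient.map' (s₁ := rSetoid S X) (s₂ := rSetoid S X) (fun ω => (x, (1 : S)) • ω) (by
    rintro a b ⟨s, rfl⟩
    exact ⟨s, (comm_smul x s a).symm⟩)

theorem lq_uq (x : S) (ω : X) : lq x (uq ω : Uq S X) = uq ((x, (1 : S)) • ω) := rfl

theorem lq_one (u : Uq S X) : lq (1 : S) u = u := by
  obtain ⟨ω, rfl⟩ := uq_surj u
  rw [lq_uq]
  congr 1
  exact one_smul (S × S) ω

theorem lq_mul (x y : S) (u : Uq S X) : lq (x * y) u = lq x (lq y u) := by
  obtain ⟨ω, rfl⟩ := uq_surj u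
  rw [lq_uq, lq_uq, lq_uq, smul_smul]
  congr 2
  ext <;> simp

/-- The permutation of `Uq` induced by an element. -/
def lqPerm (x : S) : Equiv.Perm (Uq S X) where
  toFun := lq x
  invFun := lq x⁻¹
  left_inv u := by rw [← lq_mul]; simp [lq_one]
  right_inv u := by rw [← lq_mul]; simp [lq_one]

/-- A section of `X → Uq`. -/
def IsSec (r : Uq S X → X) : Prop := ∀ u, uq (r u) = u

theorem exists_sec : ∃ r : Uq S X → X, IsSec r := ⟨Quotient.out, fun u => Quotient.out_eq u⟩

theorem exists_cc {r : Uq S X → X} (hr : IsSec r) (x : S) (u : Uq S X) :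
    ∃ c : S, (x, (1 : S)) • r u = ((1 : S), c⁻¹) • r (lq x u) := by
  have h1 : (uq (r (lq x u)) : Uq S X) = uq ((x, (1 : S)) • r u) := by
    rw [hr, ← lq_uq, hr]
  obtain ⟨s, hs⟩ := uq_eq.1 h1
  exact ⟨s⁻¹, by rw [inv_inv]; exact hs.symm⟩

/-- The cocycle attached to a section. -/
noncomputable def cc {r : Uq S X → X} (hr : IsSec r) (x : S) (u : Uq S X) : S :=
  Classical.choose (exists_cc hr x u)

theorem cc_spec {r : Uq S X → X} (hr : IsSec r) (x : S) (u : Uq S X) :
    (x, (1 : S)) • r u = ((1 : S), (cc hr x u)⁻¹) • r (lq x u) :=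
  Classical.choose_spec (exists_cc hr x u)

/-- Freeness of the second factor. -/
def RFree (S : Type u) [Group S] (X : Type v) [MulAction (S × S) X] : Prop :=
  ∀ (ω : X) (s : S), ((1 : S), s) • ω = ω → s = 1

theorem RFree.eq {h : RFree S X} {ω : X} {s t : S} (hst : ((1 : S), s) • ω = ((1 : S), t) • ω) : s = t := by
  have h1 : ((1 : S), t⁻¹ * s) • ω = ω := by
    have : ((1 : S), t⁻¹ * s) = ((1 : S), t⁻¹) * ((1 : S), s) := by ext <;> simp
    rw [this, mul_smul, hst, smul_smul]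
    have e : ((1 : S), t⁻¹) * ((1 : S), t) = 1 := by ext <;> simp
    rw [e, one_smul]
  have h2 := h ω _ h1
  exact (inv_mul_eq_one.1 h2).symm

theorem cc_eq {hf : RFree S X} {r : Uq S X → X} (hr : IsSec r) {x : S} {u : Uq S X} {c : S}
    (hc : (x, (1 : S)) • r u = ((1 : S), c⁻¹) • r (lq x u)) : cc hr x u = c := by
  have h1 := (cc_spec hr x u).symm.trans hc
  exact inv_injective (RFree.eq (h := hf) h1)

theorem cc_mul {hf : RFree S X} {r : Uq S X → X} (hr : IsSec r) (x y : S) (u : Uq S X) :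
    cc hr (x * y) u = cc hr x (lq y u) * cc hr y u := by
  apply cc_eq (hf := hf)
  have e : ((x * y, (1 : S)) : S × S) = (x, (1 : S)) * (y, (1 : S)) := by ext <;> simp
  rw [e, mul_smul, cc_spec hr y u, comm_smul, cc_spec hr x, smul_smul, lq_mul]
  congr 1
  ext <;> simp

variable {A : Type w} [CommGroup A] [Finite X]

/-- The transfer of a homomorphism with respect to a section. -/
noncomputable def trS {r : Uq S X → X} (hr : IsSec r) (lam : S →* A) (x : S) : A :=
  ∏ u : Uq S X, lam (cc hr x u)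

theorem trS_mul {hf : RFree S X} {r : Uq S X → X} (hr : IsSec r) (lam : S →* A) (x y : S) :
    trS hr lam (x * y) = trS hr lam x * trS hr lam y := by
  unfold trS
  simp only [cc_mul (hf := hf) hr, map_mul]
  rw [Finset.prod_mul_distrib]
  congr 1
  exact Equiv.prod_comp (lqPerm y) (fun u => lam (cc hr x u))

theorem trS_indep {hf : RFree S X} {r r' : Uq S X → X} (hr : IsSec r) (hr' : IsSec r') (lam : S →* A) (x : S) :
    trS hr' lam x = trS hr lam x := by
  have h1 : ∀ u, ∃ s : S, r' u = ((1 : S), s) • r u := by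
    intro u
    have : (uq (r u) : Uq S X) = uq (r' u) := by rw [hr, hr']
    obtain ⟨s, hs⟩ := uq_eq.1 this
    exact ⟨s, hs.symm⟩
  choose s hs using h1
  have h2 : ∀ u, cc hr' x u = s (lq x u) * cc hr x u * (s u)⁻¹ := by
    intro u
    apply cc_eq (hf := hf)
    rw [hs u, comm_smul, cc_spec hr x u, hs (lq x u), smul_smul, smul_smul]
    congr 1
    ext <;> simp [mul_assoc]
  unfold trS
  simp only [h2, map_mul, map_inv]
  rw [Finset.prod_mul_distrib, Finset.prod_mul_distrib, Finset.prod_inv_distrib]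
  have h3 : ∏ u, lam (s (lq x u)) = ∏ u, lam (s u) := Equiv.prod_comp (lqPerm x) (fun u => lam (s u))
  rw [h3, mul_comm (∏ u, lam (s u)), mul_assoc, mul_inv_cancel, mul_one]

/-- The transfer. -/
noncomputable def bisetTr (hf : RFree S X) (lam : S →* A) : S →* A :=
  MonoidHom.mk' (trS (exists_sec (S := S) (X := X)).choose_spec lam) (trS_mul (hf := hf) _ lam)

theorem bisetTr_eq (hf : RFree S X) (lam : S →* A) {r : Uq S X → X} (hr : IsSec r) (x : S) :
    bisetTr hf lam x = trS hr lam x :=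
  trS_indep (hf := hf) hr _ lam x

/-- Isomorphic actions of two elements have the same transfer. -/
theorem bisetTr_eq_of_equiv (hf : RFree S X) (lam : S →* A) {x y : S} (ι : X ≃ X)
    (h1 : ∀ ω, ι ((x, (1 : S)) • ω) = (y, (1 : S)) • ι ω)
    (h2 : ∀ (s : S) ω, ι (((1 : S), s) • ω) = ((1 : S), s) • ι ω) :
    bisetTr hf lam x = bisetTr hf lam y := by
  classical
  -- the induced bijection on `Uq`
  have hwd : ∀ ω ω' : X, (uq ω : Uq S X) = uq ω' → (uq (ι ω) : Uq S X) = uq (ι ω') := by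
    intro ω ω' h
    obtain ⟨s, rfl⟩ := uq_eq.1 h
    rw [h2]
    exact uq_eq.2 ⟨s, rfl⟩
  have hwd' : ∀ ω ω' : X, (uq ω : Uq S X) = uq ω' → (uq (ι.symm ω) : Uq S X) = uq (ι.symm ω') := by
    intro ω ω' h
    obtain ⟨s, rfl⟩ := uq_eq.1 h
    refine uq_eq.2 ⟨s, ?_⟩
    apply ι.injective
    rw [h2]
    simp
  let i₀ : Uq S X → Uq S X := Quotient.lift (fun ω => (uq (ι ω) : Uq S X)) (fun a b hab => hwd a b (uq_eq.2 hab))
  let i₁ : Uq S X → Uq S X := Quotient.lift (fun ω => (uq (ι.symm ω) : Uq S X)) (fun a b hab => hwd' a b (uq_eq.2 hab))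
  have hi₀ : ∀ ω, i₀ (uq ω) = uq (ι ω) := fun _ => rfl
  have hi₁ : ∀ ω, i₁ (uq ω) = uq (ι.symm ω) := fun _ => rfl
  let I : Equiv.Perm (Uq S X) :=
    { toFun := i₀
      invFun := i₁
      left_inv := fun u => by
        obtain ⟨ω, rfl⟩ := uq_surj u
        rw [hi₀, hi₁, Equiv.symm_apply_apply]
      right_inv := fun u => by
        obtain ⟨ω, rfl⟩ := uq_surj u
        rw [hi₁, hi₀, Equiv.apply_symm_apply] }
  obtain ⟨r, hr⟩ := exists_sec (S := S) (X := X)
  let r' : Uq S X → X := fun u => ι (r (i₁ u))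
  have hr' : IsSec r' := by
    intro u
    show uq (ι (r (i₁ u))) = u
    rw [← hi₀, hr]
    exact I.right_inv u
  have hlq : ∀ u, lq y (i₀ u) = i₀ (lq x u) := by
    intro u
    obtain ⟨ω, rfl⟩ := uq_surj u
    rw [hi₀, lq_uq, lq_uq, hi₀, h1]
  have hcc : ∀ u, cc hr' y (i₀ u) = cc hr x u := by
    intro u
    apply cc_eq (hf := hf)
    have e1 : i₁ (i₀ u) = u := I.left_inv u
    have e2 : i₁ (lq y (i₀ u)) = lq x u := by
      rw [hlq]
      exact I.left_inv _
    show (y, (1 : S)) • ι (r (i₁ (i₀ u))) = ((1 : S), (cc hr x u)⁻¹) • ι (r (i₁ (lq y (i₀ u))))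
    rw [e1, e2, ← h1, cc_spec hr x u, h2]
  rw [bisetTr_eq hf lam hr, bisetTr_eq hf lam hr']
  unfold trS
  calc ∏ u, lam (cc hr x u) = ∏ u, lam (cc hr' y (I u)) :=
        Finset.prod_congr rfl (fun u _ => by rw [show I u = i₀ u from rfl, hcc])
    _ = ∏ u, lam (cc hr' y u) := Equiv.prod_comp I (fun u => lam (cc hr' y u))

end

end Cfsg.Agent.H24
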