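import Mathlib

/-!
Finite `G`-sets and their marks (numbers of fixed points of subgroups).
-/

set_option autoImplicit false
set_option linter.style.haveILetI false

namespace Cfsg.Agent.H24

universe u v

section Marks

variable {G : Type u} [Group G]

/-- The set of fixed points of a subgroup. -/
def fixSet (X : Type*) [MulAction G X] (H : Subgroup G) : Set X := {x | ∀ h ∈ H, h • x = x}

/-- The mark of a subgroup on a `G`-set: the number of fixed points. -/
noncomputable def mrk (X : Type*) [MulAction G X] (H : Subgroup G) : ℕ := Nat.card (fixSet X H)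

variable {X Y : Type*} [MulAction G X] [MulAction G Y]

theorem mem_fixSet {H : Subgroup G} {x : X} : x ∈ fixSet X H ↔ ∀ h ∈ H, h • x = x := Iff.rfl

theorem mem_fixSet_iff_le {H : Subgroup G} {x : X} : x ∈ fixSet X H ↔ H ≤ MulAction.stabilizer G x :=
  Iff.rfl

theorem mrk_congr (e : X ≃ Y) (he : ∀ (g : G) x, e (g • x) = g • e x) (H : Subgroup G) :
    mrk X H = mrk Y H := by
  apply Nat.card_congr
  refine Equiv.subtypeEquiv e ?_
  intro x
  constructor
  · intro h g hg
    rw [← he, h g hg]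
  · intro h g hg
    apply e.injective
    rw [he, h g hg]

theorem mrk_sum [Finite X] [Finite Y] (H : Subgroup G) : mrk (X ⊕ Y) H = mrk X H + mrk Y H := by
  unfold mrk
  rw [← Nat.card_sum]
  apply Nat.card_congr
  refine ⟨fun z => match z with
    | ⟨Sum.inl x, hx⟩ => Sum.inl ⟨x, fun h hh => Sum.inl_injective (hx h hh)⟩
    | ⟨Sum.inr y, hy⟩ => Sum.inr ⟨y, fun h hh => Sum.inr_injective (hy h hh)⟩,
    fun z => match z with
    | Sum.inl ⟨x, hx⟩ => ⟨Sum.inl x, fun h hh => congrArg Sum.inl (hx h hh)⟩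
    | Sum.inr ⟨y, hy⟩ => ⟨Sum.inr y, fun h hh => congrArg Sum.inr (hy h hh)⟩, ?_, ?_⟩
  · rintro ⟨x | y, hx⟩ <;> rfl
  · rintro (⟨x, hx⟩ | ⟨y, hy⟩) <;> rfl

theorem mrk_sigma {ι : Type*} [Finite ι] (Z : ι → Type*) [∀ i, MulAction G (Z i)] [∀ i, Finite (Z i)]
    (H : Subgroup G) : mrk (Σ i, Z i) H = ∑ᶠ i, mrk (Z i) H := by
  classical
  haveI := Fintype.ofFinite ι
  rw [finsum_eq_sum_of_fintype]
  unfold mrk
  rw [← Nat.card_sigma]
  apply Nat.card_congr
  refine ⟨fun z => ⟨z.1.1, ⟨z.1.2, fun h hh => ?_⟩⟩,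
    fun z => ⟨⟨z.1, z.2.1⟩, fun h hh => ?_⟩, ?_, ?_⟩
  · have := z.2 h hh
    have h2 : (⟨z.1.1, h • z.1.2⟩ : Σ i, Z i) = ⟨z.1.1, z.1.2⟩ := this
    exact eq_of_heq (Sigma.mk.inj_iff.1 h2).2
  · show (⟨z.1, h • z.2.1⟩ : Σ i, Z i) = ⟨z.1, z.2.1⟩
    rw [z.2.2 h hh]
  · rintro ⟨⟨i, x⟩, hx⟩
    rfl
  · rintro ⟨i, ⟨x, hx⟩⟩
    rfl

theorem mrk_conj (g : G) (H : Subgroup G) : mrk X (H.map (MulAut.conj g).toMonoidHom) = mrk X H := by
  apply Nat.card_congr
  refine ⟨fun x => ⟨g⁻¹ • x.1, ?_⟩, fun x => ⟨g • x.1, ?_⟩, ?_, ?_⟩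
  · intro h hh
    have h1 := x.2 (g * h * g⁻¹) ⟨h, hh, rfl⟩
    calc h • (g⁻¹ • x.1) = g⁻¹ • ((g * h * g⁻¹) • x.1) := by
          simp only [smul_smul]
          congr 1
          group
      _ = g⁻¹ • x.1 := by rw [h1]
  · rintro _ ⟨h, hh, rfl⟩
    have h1 := x.2 h hh
    show (g * h * g⁻¹) • g • x.1 = g • x.1
    calc (g * h * g⁻¹) • g • x.1 = g • (h • x.1) := by
          simp only [smul_smul]
          congr 1
          group
      _ = g • x.1 := by rw [h1]
  · intro x
    apply Subtype.ext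
    simp
  · intro x
    apply Subtype.ext
    simp

theorem mrk_le_card [Finite X] (H : Subgroup G) : mrk X H ≤ Nat.card X := by
  unfold mrk
  exact Nat.card_le_card_of_injective _ Subtype.val_injective

/-- The number of fixed points of `K` on `G / K`. -/
noncomputable def wd (K : Subgroup G) : ℕ := mrk (G ⧸ K) K

theorem mem_fixSet_quot {H K : Subgroup G} {a : G} :
    ((a : G ⧸ K) ∈ fixSet (G ⧸ K) H) ↔ ∀ h ∈ H, a⁻¹ * h * a ∈ K := by
  constructor
  · intro h1 h hh
    have h2 := h1 h hh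
    have h3 : ((h * a : G) : G ⧸ K) = (a : G ⧸ K) := h2
    have h4 := QuotientGroup.eq.1 h3
    have h5 := K.inv_mem h4
    simpa [mul_assoc] using h5
  · intro h1 h hh
    show ((h * a : G) : G ⧸ K) = (a : G ⧸ K)
    rw [QuotientGroup.eq]
    have h5 := K.inv_mem (h1 h hh)
    simpa [mul_assoc] using h5

theorem card_wd [Finite G] (K : Subgroup G) :
    Nat.card K * wd K = Nat.card (Subgroup.normalizer (K : Set G)) := by
  have h0 : fixSet (G ⧸ K) K = MulAction.fixedPoints K (G ⧸ K) := by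
    ext x
    constructor
    · intro h g
      exact h g.1 g.2
    · intro h g hg
      exact h ⟨g, hg⟩
  have h1 : wd K = Nat.card (MulAction.fixedPoints K (G ⧸ K)) := by
    unfold wd mrk
    rw [h0]
  rw [h1, Nat.card_congr (Sylow.fixedPointsMulLeftCosetsEquivQuotient K)]
  have h2 := Subgroup.card_mul_index (Subgroup.comap ((Subgroup.normalizer (K : Set G)).subtype :
    Subgroup.normalizer (K : Set G) →* G) K)
  have h3 : Nat.card (Subgroup.comap ((Subgroup.normalizer (K : Set G)).subtype :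
    Subgroup.normalizer (K : Set G) →* G) K) = Nat.card K := by
    apply Nat.card_congr
    refine ⟨fun x => ⟨x.1.1, x.2⟩, fun x => ⟨⟨x.1, Subgroup.le_normalizer x.2⟩, x.2⟩, ?_, ?_⟩
    · intro x; rfl
    · intro x; rfl
  rw [h3] at h2
  exact h2

theorem wd_pos [Finite G] (K : Subgroup G) : 0 < wd K := by
  have h := card_wd K
  by_contra h0
  have h1 : wd K = 0 := by omega
  rw [h1, mul_zero] at h
  exact Nat.card_pos.ne h

theorem wd_conj [Finite G] (K : Subgroup G) (g : G) :
    wd (K.map (MulAut.conj g).toMonoidHom) = wd K := by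
  have h1 := card_wd K
  have h2 := card_wd (K.map (MulAut.conj g).toMonoidHom)
  have h3 : Nat.card (K.map (MulAut.conj g).toMonoidHom) = Nat.card K :=
    Nat.card_congr (K.equivMapOfInjective _ (MulEquiv.injective _)).toEquiv.symm
  have h4 : Nat.card (Subgroup.normalizer ((K.map (MulAut.conj g).toMonoidHom : Subgroup G) : Set G)) =
      Nat.card (Subgroup.normalizer (K : Set G)) := by
    have h5 : Subgroup.normalizer ((K.map (MulAut.conj g).toMonoidHom : Subgroup G) : Set G) =
        (Subgroup.normalizer (K : Set G)).map (MulAut.conj g).toMonoidHom :=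
      Subgroup.map_equiv_normalizer_eq K (MulAut.conj g) |>.symm ▸ rfl
    rw [h5]
    exact Nat.card_congr (Subgroup.equivMapOfInjective _ _ (MulEquiv.injective _)).toEquiv.symm
  rw [h3, h4, ← h1] at h2
  exact Nat.eq_of_mul_eq_mul_left Nat.card_pos h2

theorem wd_dvd_card [Finite G] (K : Subgroup G) : wd K ∣ Nat.card G := by
  have h1 := card_wd K
  have h2 : Nat.card (Subgroup.normalizer (K : Set G)) ∣ Nat.card G := Subgroup.card_subgroup_dvd_card _
  rw [← h1] at h2
  exact dvd_of_mul_left_dvd h2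

theorem mrk_quot_of_card [Finite G] {H K : Subgroup G} (hc : Nat.card K < Nat.card H) :
    mrk (G ⧸ K) H = 0 := by
  unfold mrk
  haveI : IsEmpty (fixSet (G ⧸ K) H) := by
    constructor
    rintro ⟨x, hx⟩
    obtain ⟨a, rfl⟩ := QuotientGroup.mk_surjective x
    rw [mem_fixSet_quot] at hx
    have h1 : H.map (MulAut.conj a⁻¹).toMonoidHom ≤ K := by
      rintro _ ⟨h, hh, rfl⟩
      have := hx h hh
      simpa using this
    have h2 : Nat.card (H.map (MulAut.conj a⁻¹).toMonoidHom) = Nat.card H :=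
      Nat.card_congr (H.equivMapOfInjective _ (MulEquiv.injective _)).toEquiv.symm
    have h3 := Subgroup.card_le_of_le h1
    omega
  exact Nat.card_of_isEmpty

theorem mrk_quot_of_not_conj [Finite G] {H K : Subgroup G} (hc : Nat.card K = Nat.card H)
    (hn : ∀ g : G, H ≠ K.map (MulAut.conj g).toMonoidHom) : mrk (G ⧸ K) H = 0 := by
  unfold mrk
  haveI : IsEmpty (fixSet (G ⧸ K) H) := by
    constructor
    rintro ⟨x, hx⟩
    obtain ⟨a, rfl⟩ := QuotientGroup.mk_surjective x
    rw [mem_fixSet_quot] at hx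
    have h1 : H.map (MulAut.conj a⁻¹).toMonoidHom ≤ K := by
      rintro _ ⟨h, hh, rfl⟩
      have := hx h hh
      simpa using this
    have h2 : Nat.card (H.map (MulAut.conj a⁻¹).toMonoidHom) = Nat.card H :=
      Nat.card_congr (H.equivMapOfInjective _ (MulEquiv.injective _)).toEquiv.symm
    have h3 : H.map (MulAut.conj a⁻¹).toMonoidHom = K :=
      Subgroup.eq_of_le_of_card_ge h1 (by omega)
    apply hn a
    rw [← h3, Subgroup.map_map]
    have e : ∀ x, ((MulEquiv.toMonoidHom (MulAut.conj a)).comp (MulEquiv.toMonoidHom (MulAut.conj a⁻¹))) x = x := by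
      intro x
      show a * (a⁻¹ * x * a⁻¹⁻¹) * a⁻¹ = x
      group
    ext y
    simp only [Subgroup.mem_map, e]
    simp
  exact Nat.card_of_isEmpty

theorem mrk_quot_of_conj [Finite G] (K : Subgroup G) (g : G) :
    mrk (G ⧸ K) (K.map (MulAut.conj g).toMonoidHom) = wd K := by
  rw [mrk_conj]
  rfl

/-- Burnside's lemma in divisibility form. -/
theorem card_dvd_sum_fixedBy (N : Type*) [Group N] [Finite N] (Z : Type*) [MulAction N Z] [Finite Z] :
    Nat.card N ∣ ∑ᶠ n : N, Nat.card (MulAction.fixedBy Z n) := by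
  classical
  haveI := Fintype.ofFinite N
  haveI := Fintype.ofFinite Z
  have h := MulAction.sum_card_fixedBy_eq_card_orbits_mul_card_group N Z
  rw [finsum_eq_sum_of_fintype, Nat.card_eq_fintype_card]
  simp only [Nat.card_eq_fintype_card]
  rw [h]
  exact Dvd.intro_left _ rfl

/-- The number of fixed points on `X ^ H` of elements of a group acting through `f`. -/
theorem burnside_mark {N : Type*} [Group N] [Fintype N] [Finite X] (f : N →* G) (H : Subgroup G)
    (hf : ∀ n, f n ∈ Subgroup.normalizer (H : Set G)) :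
    Nat.card N ∣ ∑ n : N, mrk X (H ⊔ Subgroup.zpowers (f n)) := by
  classical
  have hmem : ∀ (n : N) (y : fixSet X H), f n • y.1 ∈ fixSet X H := by
    intro n y h hh
    have h1 : (f n)⁻¹ * h * f n ∈ H := by
      have := (Subgroup.mem_normalizer_iff.1 (Subgroup.inv_mem _ (hf n)) h).1 hh
      simpa using this
    have h2 := y.2 _ h1
    calc h • f n • y.1 = f n • (((f n)⁻¹ * h * f n) • y.1) := by
          simp only [smul_smul]
          congr 1
          group
      _ = f n • y.1 := by rw [h2]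
  letI : MulAction N (fixSet X H) :=
    { smul := fun n y => ⟨f n • y.1, hmem n y⟩
      one_smul := fun y => Subtype.ext (by
        show f 1 • y.1 = y.1
        simp)
      mul_smul := fun a b y => Subtype.ext (by
        show f (a * b) • y.1 = f a • f b • y.1
        rw [map_mul, mul_smul]) }
  have h1 := card_dvd_sum_fixedBy N (fixSet X H)
  rw [finsum_eq_sum_of_fintype] at h1
  have h2 : ∀ n : N, Nat.card (MulAction.fixedBy (fixSet X H) n) = mrk X (H ⊔ Subgroup.zpowers (f n)) := by
    intro n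
    apply Nat.card_congr
    refine ⟨fun y => ⟨y.1.1, ?_⟩, fun x => ⟨⟨x.1, ?_⟩, ?_⟩, ?_, ?_⟩
    · -- fixed by the join
      have hy1 : ∀ h ∈ H, h • y.1.1 = y.1.1 := y.1.2
      have hy2 : f n • y.1.1 = y.1.1 := congrArg Subtype.val y.2
      have : H ⊔ Subgroup.zpowers (f n) ≤ MulAction.stabilizer G y.1.1 := by
        apply sup_le hy1
        rw [Subgroup.zpowers_le]
        exact hy2
      exact this
    · intro h hh
      exact x.2 h (Subgroup.mem_sup_left hh)
    · apply Subtype.ext
      exact x.2 _ (Subgroup.mem_sup_right (Subgroup.mem_zpowers _))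
    · intro y
      rfl
    · intro x
      rfl
  simp only [h2] at h1
  exact h1

end Marks

section System

variable {G : Type u} [Group G]

/-- A family of subgroups with representatives and comparison maps on normalizers. -/
structure MarkSys (G : Type u) [Group G] where
  Fam : Subgroup G → Prop
  rep : Subgroup G → Subgroup G
  rep_mem : ∀ H, Fam H → Fam (rep H)
  rep_rep : ∀ H, Fam H → rep (rep H) = rep H
  rep_conj : ∀ H g, Fam H → rep (H.map (MulAut.conj g).toMonoidHom) = rep H
  card_rep : ∀ H, Fam H → Nat.card (rep H) = Nat.card H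
  fam_conj : ∀ H g, Fam H → Fam (H.map (MulAut.conj g).toMonoidHom)
  fam_le : ∀ H K, Fam K → H ≤ K → Fam H
  theta : ∀ H, Fam H → ∃ Θ : Subgroup.normalizer (H : Set G) →* G,
     (∀ n, Θ n ∈ Subgroup.normalizer (rep H : Set G)) ∧
     (∀ n : Subgroup.normalizer (H : Set G), (n : G) ∈ H → Θ n ∈ rep H) ∧
     ∀ n : Subgroup.normalizer (H : Set G), (n : G) ∉ H →
       (Fam (H ⊔ Subgroup.zpowers (n : G)) → Fam (rep H ⊔ Subgroup.zpowers (Θ n)) ∧
          rep (rep H ⊔ Subgroup.zpowers (Θ n)) = rep (H ⊔ Subgroup.zpowers (n : G))) ∧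
       (Fam (rep H ⊔ Subgroup.zpowers (Θ n)) → Fam (H ⊔ Subgroup.zpowers (n : G)))

variable (Sy : MarkSys G)

/-- All stabilizers lie in the family. -/
def StabIn (X : Type*) [MulAction G X] : Prop := ∀ x : X, Sy.Fam (MulAction.stabilizer G x)

variable {Sy}

theorem mrk_eq_zero_of_not_fam {X : Type*} [MulAction G X] (hX : StabIn Sy X) {K : Subgroup G}
    (hK : ¬ Sy.Fam K) : mrk X K = 0 := by
  unfold mrk
  haveI : IsEmpty (fixSet X K) := by
    constructor
    rintro ⟨x, hx⟩
    exact hK (Sy.fam_le _ _ (hX x) (mem_fixSet_iff_le.1 hx))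
  exact Nat.card_of_isEmpty

variable [Finite G]

theorem MarkSys.congr (Sy : MarkSys G) {X : Type*} [MulAction G X] [Finite X] (hX : StabIn Sy X) (t : ℕ)
    (hgood : ∀ K, Sy.Fam K → t < Nat.card K → mrk X K = mrk X (Sy.rep K))
    (H : Subgroup G) (hH : Sy.Fam H) (ht : Nat.card H = t) :
    (wd H : ℤ) ∣ (mrk X H : ℤ) - mrk X (Sy.rep H) := by
  classical
  obtain ⟨Θ, hΘ1, hΘ2, hΘ3⟩ := Sy.theta H hH
  let N := Subgroup.normalizer (H : Set G)
  haveI : Fintype N := Fintype.ofFinite N
  have hA := burnside_mark (X := X) (N := N) N.subtype H (fun n => n.2)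
  have hB := burnside_mark (X := X) (N := N) Θ (Sy.rep H) hΘ1
  set u : ℤ := (mrk X H : ℤ) with hu
  set v : ℤ := (mrk X (Sy.rep H) : ℤ) with hv
  have hterm : ∀ n : N, (mrk X (H ⊔ Subgroup.zpowers (N.subtype n)) : ℤ) -
      mrk X (Sy.rep H ⊔ Subgroup.zpowers (Θ n)) = if (n : G) ∈ H then u - v else 0 := by
    intro n
    split_ifs with hn
    · have h1 : H ⊔ Subgroup.zpowers (N.subtype n) = H := by
        apply sup_eq_left.2
        rw [Subgroup.zpowers_le]
        exact hn
      have h2 : Sy.rep H ⊔ Subgroup.zpowers (Θ n) = Sy.rep H := by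
        apply sup_eq_left.2
        rw [Subgroup.zpowers_le]
        exact hΘ2 n hn
      rw [h1, h2]
    · obtain ⟨h1, h2⟩ := hΘ3 n hn
      have e : H ⊔ Subgroup.zpowers (N.subtype n) = H ⊔ Subgroup.zpowers (n : G) := rfl
      rw [e]
      have hlt : t < Nat.card (H ⊔ Subgroup.zpowers (n : G) : Subgroup G) := by
        rw [← ht]
        by_contra hc
        have e2 := Subgroup.eq_of_le_of_card_ge (le_sup_left : H ≤ H ⊔ Subgroup.zpowers (n : G)) (not_lt.1 hc)
        exact hn (e2.ge (Subgroup.mem_sup_right (Subgroup.mem_zpowers _)))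
      by_cases hK : Sy.Fam (H ⊔ Subgroup.zpowers (n : G))
      · obtain ⟨h3, h4⟩ := h1 hK
        have h5 := hgood _ hK hlt
        have hcard : Nat.card (Sy.rep H ⊔ Subgroup.zpowers (Θ n) : Subgroup G) =
            Nat.card (H ⊔ Subgroup.zpowers (n : G) : Subgroup G) := by
          rw [← Sy.card_rep _ h3, h4, Sy.card_rep _ hK]
        have h6 := hgood _ h3 (by rw [hcard]; exact hlt)
        rw [h5, h6, h4]
        simp
      · have h3 : ¬ Sy.Fam (Sy.rep H ⊔ Subgroup.zpowers (Θ n)) := fun h => hK (h2 h)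
        rw [mrk_eq_zero_of_not_fam hX hK, mrk_eq_zero_of_not_fam hX h3]
        simp
  have hsum : (∑ n : N, (mrk X (H ⊔ Subgroup.zpowers (N.subtype n)) : ℤ)) -
      ∑ n : N, (mrk X (Sy.rep H ⊔ Subgroup.zpowers (Θ n)) : ℤ) = (Nat.card H : ℤ) * (u - v) := by
    rw [← Finset.sum_sub_distrib]
    simp only [hterm]
    rw [Finset.sum_ite, Finset.sum_const_zero, add_zero, Finset.sum_const, nsmul_eq_mul]
    congr 1
    have hc : (Finset.univ.filter (fun n : N => (n : G) ∈ H)).card = Nat.card H := by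
      rw [← Fintype.card_subtype, ← Nat.card_eq_fintype_card]
      apply Nat.card_congr
      exact ⟨fun n => ⟨n.1.1, n.2⟩, fun h => ⟨⟨h.1, Subgroup.le_normalizer h.2⟩, h.2⟩,
        fun _ => rfl, fun _ => rfl⟩
    rw [hc]
  have hNc := card_wd H
  have hdv : ((Nat.card H * wd H : ℕ) : ℤ) ∣ (Nat.card H : ℤ) * (u - v) := by
    rw [hNc, ← hsum]
    apply dvd_sub
    · have := Int.natCast_dvd_natCast.2 hA
      push_cast at this
      exact this
    · have := Int.natCast_dvd_natCast.2 hB
      push_cast at this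
      exact this
  push_cast at hdv
  have hne : (Nat.card H : ℤ) ≠ 0 := by
    have : 0 < Nat.card H := Nat.card_pos
    omega
  exact (mul_dvd_mul_iff_left hne).1 hdv

theorem stabIn_sum {X : Type u} [MulAction G X] (hX : StabIn Sy X) (K : Subgroup G) (hK : Sy.Fam K) :
    StabIn Sy (X ⊕ (G ⧸ K)) := by
  rintro (x | q)
  · have e : MulAction.stabilizer G (Sum.inl x : X ⊕ (G ⧸ K)) = MulAction.stabilizer G x := by
      ext g
      simp only [MulAction.mem_stabilizer_iff]
      constructor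
      · intro h
        exact Sum.inl_injective h
      · intro h
        exact congrArg Sum.inl h
    rw [e]
    exact hX x
  · obtain ⟨a, rfl⟩ := QuotientGroup.mk_surjective q
    have e : MulAction.stabilizer G (Sum.inr (a : G ⧸ K) : X ⊕ (G ⧸ K)) =
        K.map (MulAut.conj a).toMonoidHom := by
      ext g
      simp only [MulAction.mem_stabilizer_iff]
      constructor
      · intro h
        have h1 : ((g * a : G) : G ⧸ K) = (a : G ⧸ K) := Sum.inr_injective h
        have h2 := QuotientGroup.eq.1 h1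
        have h3 := K.inv_mem h2
        refine ⟨a⁻¹ * g * a, by simpa [mul_assoc] using h3, ?_⟩
        show a * (a⁻¹ * g * a) * a⁻¹ = g
        group
      · rintro ⟨k, hk, rfl⟩
        apply congrArg Sum.inr
        show (((a * k * a⁻¹) * a : G) : G ⧸ K) = (a : G ⧸ K)
        rw [QuotientGroup.eq]
        have h3 := K.inv_mem hk
        simpa [mul_assoc] using h3
    rw [e]
    exact Sy.fam_conj K a hK

theorem MarkSys.fill (Sy : MarkSys G) (t L : ℕ) (hL : ∀ H, Sy.Fam H → Nat.card H = t → L ∣ H.index)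
    (M : Subgroup G → ℕ)
    (hM : ∀ H g, Sy.Fam H → Nat.card H = t → M (H.map (MulAut.conj g).toMonoidHom) = M H) :
    ∀ (d : ℕ) (X : Type u) [MulAction G X] [Finite X], StabIn Sy X →
      (∀ H, Sy.Fam H → Nat.card H = t → mrk X H ≤ M H ∧ (wd H : ℤ) ∣ (M H : ℤ) - mrk X H) →
      (∑ᶠ H ∈ {H : Subgroup G | Sy.Fam H ∧ Nat.card H = t}, (M H - mrk X H)) = d →
      ∃ (X' : Type u) (_ : MulAction G X') (_ : Finite X'), StabIn Sy X' ∧
        (∀ H : Subgroup G, t < Nat.card H → mrk X' H = mrk X H) ∧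
        (∀ H, Sy.Fam H → Nat.card H = t → mrk X' H = M H) ∧
        Nat.card X' ≡ Nat.card X [MOD L] := by
  classical
  haveI : Finite (Subgroup G) := inferInstance
  intro d
  induction d using Nat.strong_induction_on with
  | _ d ih =>
    intro X _ _ hX hcond hd
    by_cases hall : ∀ H, Sy.Fam H → Nat.card H = t → mrk X H = M H
    · exact ⟨X, inferInstance, inferInstance, hX, fun _ _ => rfl, hall, Nat.ModEq.refl _⟩
    · push Not at hall
      obtain ⟨H₀, hH₀, hH₀t, hne⟩ := hall
      have hlt₀ : mrk X H₀ < M H₀ := lt_of_le_of_ne (hcond H₀ hH₀ hH₀t).1 hne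
      -- marks of the new set
      have hmk : ∀ K : Subgroup G, mrk (X ⊕ (G ⧸ H₀)) K = mrk X K + mrk (G ⧸ H₀) K := fun K => mrk_sum K
      have hX₁ : StabIn Sy (X ⊕ (G ⧸ H₀)) := stabIn_sum hX H₀ hH₀
      have hcond₁ : ∀ H, Sy.Fam H → Nat.card H = t →
          mrk (X ⊕ (G ⧸ H₀)) H ≤ M H ∧ (wd H : ℤ) ∣ (M H : ℤ) - mrk (X ⊕ (G ⧸ H₀)) H := by
        intro H hH hHt
        rw [hmk]
        by_cases hconj : ∃ g : G, H = H₀.map (MulAut.conj g).toMonoidHom
        · obtain ⟨g, rfl⟩ := hconj
          rw [mrk_quot_of_conj, mrk_conj, hM H₀ g hH₀ hH₀t, wd_conj]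
          obtain ⟨-, hdv⟩ := hcond H₀ hH₀ hH₀t
          have hpos : (0 : ℤ) < (M H₀ : ℤ) - mrk X H₀ := by omega
          have hle := Int.le_of_dvd hpos hdv
          constructor
          · omega
          · have : (M H₀ : ℤ) - ((mrk X H₀ + wd H₀ : ℕ) : ℤ) = ((M H₀ : ℤ) - mrk X H₀) - wd H₀ := by
              push_cast; ring
            rw [this]
            exact dvd_sub hdv (dvd_refl _)
        · push Not at hconj
          rw [mrk_quot_of_not_conj (by omega) hconj, add_zero]
          exact hcond H hH hHt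
      have hfin : {H : Subgroup G | Sy.Fam H ∧ Nat.card H = t}.Finite := Set.toFinite _
      have hdlt : (∑ᶠ H ∈ {H : Subgroup G | Sy.Fam H ∧ Nat.card H = t},
          (M H - mrk (X ⊕ (G ⧸ H₀)) H)) < d := by
        rw [← hd, finsum_mem_eq_finite_toFinset_sum _ hfin, finsum_mem_eq_finite_toFinset_sum _ hfin]
        apply Finset.sum_lt_sum
        · intro H _
          rw [hmk]
          omega
        · refine ⟨H₀, by simpa using ⟨hH₀, hH₀t⟩, ?_⟩
          rw [hmk]
          have h1 := (hcond₁ H₀ hH₀ hH₀t).1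
          rw [hmk] at h1
          have h2 : 0 < mrk (G ⧸ H₀) H₀ := by
            have := mrk_quot_of_conj (G := G) H₀ 1
            have e : H₀.map (MulAut.conj (1 : G)).toMonoidHom = H₀ := by
              ext y
              simp
            rw [e] at this
            rw [this]
            exact wd_pos H₀
          omega
      obtain ⟨X', i1, i2, hX', h1, h2, h3⟩ := ih _ hdlt (X ⊕ (G ⧸ H₀)) hX₁ hcond₁ rfl
      refine ⟨X', i1, i2, hX', ?_, h2, ?_⟩
      · intro H hH
        rw [h1 H hH, hmk, mrk_quot_of_card (by omega), add_zero]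
      · refine h3.trans ?_
        have h4 : Nat.card (X ⊕ (G ⧸ H₀)) = Nat.card X + H₀.index := by
          rw [Nat.card_sum]
          rfl
        rw [h4]
        obtain ⟨c, hc⟩ := hL H₀ hH₀ hH₀t
        rw [hc]
        simp [Nat.ModEq]

theorem MarkSys.exists_good (Sy : MarkSys G) (t₀ L : ℕ) (X₀ : Type u) [MulAction G X₀] [Finite X₀]
    (hX₀ : StabIn Sy X₀) (h₀ : ∀ H, Sy.Fam H → t₀ ≤ Nat.card H → mrk X₀ H = mrk X₀ (Sy.rep H))
    (hL : ∀ H, Sy.Fam H → Nat.card H < t₀ → L ∣ H.index) :
    ∃ (X : Type u) (_ : MulAction G X) (_ : Finite X), StabIn Sy X ∧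
      (∀ H, Sy.Fam H → mrk X H = mrk X (Sy.rep H)) ∧ Nat.card X ≡ Nat.card X₀ [MOD L] := by
  have key : ∀ s, s ≤ t₀ → ∃ (X : Type u) (_ : MulAction G X) (_ : Finite X), StabIn Sy X ∧
      (∀ H, Sy.Fam H → t₀ - s ≤ Nat.card H → mrk X H = mrk X (Sy.rep H)) ∧
      Nat.card X ≡ Nat.card X₀ [MOD L] := by
    intro s
    induction s with
    | zero =>
      intro _
      exact ⟨X₀, inferInstance, inferInstance, hX₀, h₀, Nat.ModEq.refl _⟩
    | succ s ih =>
      intro hs
      obtain ⟨X, i1, i2, hX, hgood, hmod⟩ := ih (by omega)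
      set t := t₀ - (s + 1) with ht
      have ht1 : t₀ - s = t + 1 := by omega
      rw [ht1] at hgood
      let c := Nat.card X * Nat.card G
      let M : Subgroup G → ℕ := fun H => mrk X (Sy.rep H) + c
      have hM : ∀ H g, Sy.Fam H → Nat.card H = t → M (H.map (MulAut.conj g).toMonoidHom) = M H := by
        intro H g hH _
        show mrk X (Sy.rep _) + c = mrk X (Sy.rep _) + c
        rw [Sy.rep_conj H g hH]
      have hcond : ∀ H, Sy.Fam H → Nat.card H = t → mrk X H ≤ M H ∧ (wd H : ℤ) ∣ (M H : ℤ) - mrk X H := by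
        intro H hH hHt
        constructor
        · have h1 := mrk_le_card (X := X) H
          have h2 : Nat.card X ≤ c := Nat.le_mul_of_pos_right _ Nat.card_pos
          show mrk X H ≤ mrk X (Sy.rep H) + c
          omega
        · have h1 := Sy.congr hX t (fun K hK hKt => hgood K hK (by omega)) H hH hHt
          have h2 : (wd H : ℤ) ∣ (c : ℤ) := by
            have := wd_dvd_card H
            exact Int.natCast_dvd_natCast.2 (Dvd.dvd.mul_left this _)
          have e : (M H : ℤ) - mrk X H = (c : ℤ) - ((mrk X H : ℤ) - mrk X (Sy.rep H)) := by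
            show ((mrk X (Sy.rep H) + c : ℕ) : ℤ) - _ = _
            push_cast
            ring
          rw [e]
          exact dvd_sub h2 h1
      obtain ⟨X', i1', i2', hX', h1, h2, h3⟩ := Sy.fill t L (fun H hH hHt => hL H hH (by omega)) M hM _ X hX hcond rfl
      refine ⟨X', i1', i2', hX', ?_, h3.trans hmod⟩
      intro H hH hHt
      rcases Nat.lt_or_ge t (Nat.card H) with hlt | hle
      · rw [h1 H hlt, h1 _ (by rw [Sy.card_rep H hH]; exact hlt)]
        exact hgood H hH hlt
      · have hHt2 : Nat.card H = t := by omega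
        rw [h2 H hH hHt2, h2 _ (Sy.rep_mem H hH) (by rw [Sy.card_rep H hH]; exact hHt2)]
        show mrk X (Sy.rep H) + c = mrk X (Sy.rep (Sy.rep H)) + c
        rw [Sy.rep_rep H hH]
  obtain ⟨X, i1, i2, hX, hgood, hmod⟩ := key t₀ le_rfl
  exact ⟨X, i1, i2, hX, fun H hH => hgood H hH (by omega), hmod⟩

end System

end Cfsg.Agent.H24
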