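import Mathlib
import Cfsg.Agent.Lib.H24.Marks

/-!
Finite `G`-sets with the same marks are isomorphic.
-/

set_option autoImplicit false
set_option linter.style.haveILetI false

namespace Cfsg.Agent.H24

universe u v

section

variable {Γ : Type u} [Group Γ]

/-- The complement of a sub-action. -/
def complSub {X : Type*} [MulAction Γ X] (A : SubMulAction Γ X) : SubMulAction Γ X where
  carrier := {x | x ∉ A}
  smul_mem' := by
    intro g x hx h
    apply hx
    have := A.smul_mem g⁻¹ h
    simpa using this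

/-- An orbit as a sub-action. -/
def orbitSub {X : Type*} [MulAction Γ X] (x : X) : SubMulAction Γ X where
  carrier := MulAction.orbit Γ x
  smul_mem' := by
    rintro g _ ⟨h, rfl⟩
    exact ⟨g * h, by simp [mul_smul]⟩

theorem mem_orbitSub {X : Type*} [MulAction Γ X] {x z : X} : z ∈ orbitSub (Γ := Γ) x ↔ ∃ g : Γ, g • x = z :=
  Iff.rfl

/-- A `G`-set is the sum of a sub-action and its complement. -/
noncomputable def sumComplEquiv {X : Type*} [MulAction Γ X] (A : SubMulAction Γ X) :
    (A ⊕ complSub A) ≃ X := by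
  classical
  exact Equiv.sumCompl (fun x => x ∈ A)

theorem sumComplEquiv_smul {X : Type*} [MulAction Γ X] (A : SubMulAction Γ X) (g : Γ) (z : A ⊕ complSub A) :
    sumComplEquiv A (g • z) = g • sumComplEquiv A z := by
  classical
  rcases z with z | z <;> rfl

theorem mrk_split {X : Type*} [MulAction Γ X] [Finite X] (A : SubMulAction Γ X) (K : Subgroup Γ) :
    mrk X K = mrk A K + mrk (complSub A) K := by
  haveI : Finite A := inferInstanceAs (Finite {x // x ∈ A})
  haveI : Finite (complSub A) := inferInstanceAs (Finite {x // x ∈ complSub A})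
  rw [← mrk_sum]
  exact (mrk_congr (sumComplEquiv A) (sumComplEquiv_smul A) K).symm

theorem mrk_bot {X : Type*} [MulAction Γ X] : mrk X (⊥ : Subgroup Γ) = Nat.card X := by
  apply Nat.card_congr
  refine ⟨fun x => x.1, fun x => ⟨x, fun h hh => ?_⟩, fun _ => rfl, fun _ => rfl⟩
  rw [Subgroup.mem_bot.1 hh, one_smul]

theorem mrk_pos_of_mem {X : Type*} [MulAction Γ X] [Finite X] {K : Subgroup Γ} {x : X} (hx : x ∈ fixSet X K) :
    0 < mrk X K := by
  unfold mrk
  haveI : Nonempty (fixSet X K) := ⟨⟨x, hx⟩⟩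
  exact Nat.card_pos

theorem exists_mem_of_mrk_pos {X : Type*} [MulAction Γ X] {K : Subgroup Γ} (h : 0 < mrk X K) :
    ∃ x : X, x ∈ fixSet X K := by
  unfold mrk at h
  haveI := (Nat.card_pos_iff.1 h).1
  obtain ⟨x⟩ := ‹Nonempty (fixSet X K)›
  exact ⟨x.1, x.2⟩

/-- Equal stabilizers give isomorphic orbits. -/
theorem exists_orbit_equiv {X Y : Type*} [MulAction Γ X] [MulAction Γ Y] (x : X) (y : Y)
    (hst : MulAction.stabilizer Γ x = MulAction.stabilizer Γ y) :
    ∃ e : orbitSub (Γ := Γ) x ≃ orbitSub (Γ := Γ) y, ∀ (g : Γ) z, e (g • z) = g • e z := by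
  have key : ∀ g g' : Γ, g • x = g' • x ↔ g • y = g' • y := by
    intro g g'
    have h1 : g • x = g' • x ↔ g'⁻¹ * g ∈ MulAction.stabilizer Γ x := by
      rw [MulAction.mem_stabilizer_iff, mul_smul, inv_smul_eq_iff]
    have h2 : g • y = g' • y ↔ g'⁻¹ * g ∈ MulAction.stabilizer Γ y := by
      rw [MulAction.mem_stabilizer_iff, mul_smul, inv_smul_eq_iff]
    rw [h1, h2, hst]
  choose gx hgx using (fun z : orbitSub (Γ := Γ) x => (mem_orbitSub.1 z.2))
  let f : orbitSub (Γ := Γ) x → orbitSub (Γ := Γ) y := fun z => ⟨gx z • y, ⟨gx z, rfl⟩⟩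
  have hf : ∀ (g : Γ), f ⟨g • x, ⟨g, rfl⟩⟩ = ⟨g • y, ⟨g, rfl⟩⟩ := by
    intro g
    apply Subtype.ext
    show gx _ • y = g • y
    exact (key _ _).1 (hgx _)
  have hbij : Function.Bijective f := by
    constructor
    · intro z z' hzz
      have h1 : gx z • y = gx z' • y := congrArg Subtype.val hzz
      have h2 := (key _ _).2 h1
      apply Subtype.ext
      rw [← hgx z, ← hgx z']
      exact h2
    · rintro ⟨_, ⟨g, rfl⟩⟩
      exact ⟨⟨g • x, ⟨g, rfl⟩⟩, hf g⟩
  refine ⟨Equiv.ofBijective f hbij, ?_⟩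
  intro g z
  show f (g • z) = g • f z
  apply Subtype.ext
  show gx (g • z) • y = g • gx z • y
  rw [← mul_smul]
  apply (key _ _).1
  rw [hgx, mul_smul, hgx]
  rfl

variable [Finite Γ]

theorem exists_equiv_of_marks_aux :
    ∀ (n : ℕ) (X Y : Type v) [MulAction Γ X] [MulAction Γ Y] [Finite X] [Finite Y], Nat.card X = n →
      (∀ K : Subgroup Γ, mrk X K = mrk Y K) → ∃ ι : X ≃ Y, ∀ (g : Γ) x, ι (g • x) = g • ι x := by
  intro n
  induction n using Nat.strong_induction_on with
  | _ n ih =>
    intro X Y _ _ _ _ hn hm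
    by_cases hX : IsEmpty X
    · have hc : Nat.card Y = 0 := by
        rw [← mrk_bot (Γ := Γ), ← hm, mrk_bot, Nat.card_of_isEmpty]
      haveI : IsEmpty Y := by
        rcases isEmpty_or_nonempty Y with h | h
        · exact h
        · exact absurd hc Nat.card_pos.ne'
      exact ⟨Equiv.equivOfIsEmpty X Y, fun g x => (IsEmpty.false x).elim⟩
    · rw [not_isEmpty_iff] at hX
      -- a subgroup of maximal order with fixed points
      haveI hne : Nonempty {K : Subgroup Γ // 0 < mrk X K} :=
        ⟨⟨⊥, by rw [mrk_bot]; exact Nat.card_pos⟩⟩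
      obtain ⟨⟨K₀, hK₀⟩, hmax⟩ := Finite.exists_max (fun K : {K : Subgroup Γ // 0 < mrk X K} => Nat.card K.1)
      obtain ⟨x₀, hx₀⟩ := exists_mem_of_mrk_pos hK₀
      obtain ⟨y₀, hy₀⟩ := exists_mem_of_mrk_pos (X := Y) (K := K₀) (by rw [← hm]; exact hK₀)
      have hstx : K₀ = MulAction.stabilizer Γ x₀ := by
        apply Subgroup.eq_of_le_of_card_ge (mem_fixSet_iff_le.1 hx₀)
        exact hmax ⟨MulAction.stabilizer Γ x₀, mrk_pos_of_mem (x := x₀) (fun h hh => hh)⟩
      have hsty : K₀ = MulAction.stabilizer Γ y₀ := by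
        apply Subgroup.eq_of_le_of_card_ge (mem_fixSet_iff_le.1 hy₀)
        exact hmax ⟨MulAction.stabilizer Γ y₀, by
          rw [hm]
          exact mrk_pos_of_mem (x := y₀) (fun h hh => hh)⟩
      obtain ⟨e₁, he₁⟩ := exists_orbit_equiv x₀ y₀ (hstx.symm.trans hsty)
      let A := orbitSub (Γ := Γ) x₀
      let B := orbitSub (Γ := Γ) y₀
      haveI : Finite A := inferInstanceAs (Finite {x // x ∈ A})
      haveI : Finite B := inferInstanceAs (Finite {x // x ∈ B})
      haveI : Finite (complSub A) := inferInstanceAs (Finite {x // x ∈ complSub A})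
      haveI : Finite (complSub B) := inferInstanceAs (Finite {x // x ∈ complSub B})
      have hm' : ∀ K : Subgroup Γ, mrk (complSub A) K = mrk (complSub B) K := by
        intro K
        have h1 := mrk_split A K
        have h2 := mrk_split B K
        have h3 : mrk A K = mrk B K := mrk_congr e₁ he₁ K
        have h4 := hm K
        omega
      have hlt : Nat.card (complSub A) < n := by
        have h1 := Nat.card_congr (sumComplEquiv A)
        rw [Nat.card_sum, hn] at h1
        have h2 : 0 < Nat.card A := by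
          haveI : Nonempty A := ⟨⟨x₀, ⟨1, one_smul _ _⟩⟩⟩
          exact Nat.card_pos
        omega
      obtain ⟨ι', hι'⟩ := ih _ hlt (complSub A) (complSub B) rfl hm'
      refine ⟨(sumComplEquiv A).symm.trans ((Equiv.sumCongr e₁ ι').trans (sumComplEquiv B)), ?_⟩
      intro g x
      obtain ⟨z, rfl⟩ := (sumComplEquiv A).surjective x
      rw [← sumComplEquiv_smul]
      simp only [Equiv.trans_apply, Equiv.symm_apply_apply]
      rw [← sumComplEquiv_smul]
      congr 1
      rcases z with z | z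
      · show Sum.inl (e₁ (g • z)) = Sum.inl (g • e₁ z)
        rw [he₁]
      · show Sum.inr (ι' (g • z)) = Sum.inr (g • ι' z)
        rw [hι']

theorem exists_equiv_of_marks {X Y : Type v} [MulAction Γ X] [MulAction Γ Y] [Finite X] [Finite Y]
    (hm : ∀ K : Subgroup Γ, mrk X K = mrk Y K) : ∃ ι : X ≃ Y, ∀ (g : Γ) x, ι (g • x) = g • ι x :=
  exists_equiv_of_marks_aux _ X Y rfl hm

end

end Cfsg.Agent.H24
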