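import Mathlib
import Cfsg.Agent.Lib.H25.Fus3
import Cfsg.Agent.Lib.H24.MarksIso
import Cfsg.Agent.Lib.H24.BisetT

/-!
Graphs of maps of a fusion system as a family of subgroups of `S × S`.
-/

set_option autoImplicit false
set_option linter.style.haveILetI false

namespace Cfsg.Agent.H24

open Cfsg Cfsg.FusionSystem
open Cfsg.Agent.H25

universe u

variable {Ω : Type u} [Group Ω] {S : Subgroup Ω}

/-- `K` is the graph of a map of the system. -/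
def IsFG (F : FusionSystem S) (K : Subgroup (↥S × ↥S)) : Prop :=
  ∃ (P : Subgroup Ω) (f : Ω → Ω), Mp F P f ∧ ∀ a b : ↥S, (a, b) ∈ K ↔ (a : Ω) ∈ P ∧ (b : Ω) = f a

/-- The first projection of a subgroup of `S × S`, as a subgroup of the ambient group. -/
def fstS (K : Subgroup (↥S × ↥S)) : Subgroup Ω := (K.map (MonoidHom.fst _ _)).map S.subtype

theorem mem_fstS {K : Subgroup (↥S × ↥S)} {x : Ω} :
    x ∈ fstS K ↔ ∃ a b : ↥S, (a, b) ∈ K ∧ (a : Ω) = x := by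
  constructor
  · rintro ⟨_, ⟨⟨a, b⟩, hq, rfl⟩, rfl⟩
    exact ⟨a, b, hq, rfl⟩
  · rintro ⟨a, b, hq, rfl⟩
    exact ⟨a, ⟨(a, b), hq, rfl⟩, rfl⟩

theorem fstS_le (K : Subgroup (↥S × ↥S)) : fstS K ≤ S := by
  rintro _ ⟨a, -, rfl⟩
  exact a.2

variable {F : FusionSystem S}

theorem graph_mem {K : Subgroup (↥S × ↥S)} {P : Subgroup Ω} {f : Ω → Ω} (hf : Mp F P f)
    (h : ∀ a b : ↥S, (a, b) ∈ K ↔ (a : Ω) ∈ P ∧ (b : Ω) = f a) {x : Ω} (hx : x ∈ P) :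
    ((⟨x, hf.le hx⟩, ⟨f x, hf.mem hx⟩) : ↥S × ↥S) ∈ K :=
  (h _ _).2 ⟨hx, rfl⟩

theorem fstS_of_graph {K : Subgroup (↥S × ↥S)} {P : Subgroup Ω} {f : Ω → Ω} (hf : Mp F P f)
    (h : ∀ a b : ↥S, (a, b) ∈ K ↔ (a : Ω) ∈ P ∧ (b : Ω) = f a) : fstS K = P := by
  ext x
  rw [mem_fstS]
  constructor
  · rintro ⟨a, b, hq, rfl⟩
    exact ((h a b).1 hq).1
  · intro hx
    exact ⟨⟨x, hf.le hx⟩, ⟨f x, hf.mem hx⟩, graph_mem hf h hx, rfl⟩

theorem card_of_graph {K : Subgroup (↥S × ↥S)} {P : Subgroup Ω} {f : Ω → Ω} (hf : Mp F P f)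
    (h : ∀ a b : ↥S, (a, b) ∈ K ↔ (a : Ω) ∈ P ∧ (b : Ω) = f a) : Nat.card K = Nat.card P := by
  apply Nat.card_congr
  refine ⟨fun q => ⟨(q.1.1 : Ω), ((h q.1.1 q.1.2).1 q.2).1⟩,
    fun x => ⟨(⟨x.1, hf.le x.2⟩, ⟨f x.1, hf.mem x.2⟩), graph_mem hf h x.2⟩, ?_, ?_⟩
  · rintro ⟨⟨a, b⟩, hq⟩
    have h1 := (h a b).1 hq
    apply Subtype.ext
    apply Prod.ext
    · rfl
    · exact Subtype.ext h1.2.symm
  · intro x
    rfl

/-- The diagonal subgroup of a subgroup. -/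
def diagS (R : Subgroup Ω) : Subgroup (↥S × ↥S) where
  carrier := {q | (q.1 : Ω) ∈ R ∧ q.1 = q.2}
  mul_mem' := by
    rintro ⟨a, b⟩ ⟨c, d⟩ ⟨h1, h2⟩ ⟨h3, h4⟩
    exact ⟨R.mul_mem h1 h3, congrArg₂ (· * ·) h2 h4⟩
  one_mem' := ⟨R.one_mem, rfl⟩
  inv_mem' := by
    rintro ⟨a, b⟩ ⟨h1, h2⟩
    exact ⟨R.inv_mem h1, congrArg (·⁻¹) h2⟩

theorem mem_diagS {R : Subgroup Ω} {a b : ↥S} : ((a, b) : ↥S × ↥S) ∈ diagS R ↔ (a : Ω) ∈ R ∧ a = b := Iff.rfl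

theorem diag_graph {R : Subgroup Ω} (a b : ↥S) :
    ((a, b) : ↥S × ↥S) ∈ diagS R ↔ (a : Ω) ∈ R ∧ (b : Ω) = _root_.id (a : Ω) := by
  rw [mem_diagS]
  constructor
  · rintro ⟨h, rfl⟩
    exact ⟨h, rfl⟩
  · rintro ⟨h, h2⟩
    exact ⟨h, Subtype.ext h2.symm⟩

theorem isFG_diag {R : Subgroup Ω} (hR : R ≤ S) : IsFG F (diagS R) :=
  ⟨R, _root_.id, Mp.id hR, diag_graph⟩

theorem fstS_diag (F : FusionSystem S) {R : Subgroup Ω} (hR : R ≤ S) : fstS (diagS R : Subgroup (↥S × ↥S)) = R :=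
  fstS_of_graph (F := F) (Mp.id hR) diag_graph

theorem card_diag (F : FusionSystem S) {R : Subgroup Ω} (hR : R ≤ S) : Nat.card (diagS R : Subgroup (↥S × ↥S)) = Nat.card R :=
  card_of_graph (F := F) (Mp.id hR) diag_graph

theorem card_of_isConj {P Q : Subgroup Ω} (h : F.IsConj P Q) : Nat.card P = Nat.card Q := by
  obtain ⟨f, hf⟩ := H25.isConj_iff.1 h
  apply Nat.card_congr
  refine Equiv.ofBijective (fun x => ⟨f x.1, hf.maps x.1 x.2⟩) ⟨?_, ?_⟩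
  · intro x y hxy
    exact Subtype.ext (hf.mp.inj x.2 y.2 (congrArg Subtype.val hxy))
  · rintro ⟨y, hy⟩
    obtain ⟨x, hx, rfl⟩ := hf.surj y hy
    exact ⟨⟨x, hx⟩, rfl⟩

section Pick

variable (F) (p : ℕ)

/-- A fully automized receptive conjugate, depending only on the conjugacy class. -/
noncomputable def pick (Q : Subgroup Ω) : Subgroup Ω :=
  Classical.epsilon (fun R => F.IsConj Q R ∧ Far F p R)

variable {F p}

theorem pick_spec (hF : F.IsSaturated p) {Q : Subgroup Ω} (hQ : Q ≤ S) :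
    F.IsConj Q (pick F p Q) ∧ Far F p (pick F p Q) := by
  apply Classical.epsilon_spec (p := fun R => F.IsConj Q R ∧ Far F p R)
  obtain ⟨R, f, hR, hf⟩ := exists_far hF hQ
  exact ⟨R, H25.isConj_iff.2 ⟨f, hf⟩, hR⟩

theorem pick_congr {Q Q' : Subgroup Ω} (h : F.IsConj Q Q') : pick F p Q = pick F p Q' := by
  unfold pick
  congr 1
  funext R
  apply propext
  constructor
  · rintro ⟨h1, h2⟩
    exact ⟨isConj_trans (isConj_symm h) h1, h2⟩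
  · rintro ⟨h1, h2⟩
    exact ⟨isConj_trans h h1, h2⟩

end Pick

/-- Membership in a conjugate of a subgroup of `S × S`. -/
theorem mem_conj_iff {K : Subgroup (↥S × ↥S)} {g : ↥S × ↥S} {q : ↥S × ↥S} :
    q ∈ K.map (MulAut.conj g).toMonoidHom ↔ g⁻¹ * q * g ∈ K := by
  constructor
  · rintro ⟨k, hk, rfl⟩
    have e : g⁻¹ * ((MulAut.conj g).toMonoidHom k) * g = k := by
      show g⁻¹ * (g * k * g⁻¹) * g = k
      group
    rwa [e]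
  · intro h
    exact ⟨_, h, by
      show g * (g⁻¹ * q * g) * g⁻¹ = q
      group⟩

/-- Transfer of graphs along two maps of the system. -/
theorem graph_transfer {A B : Subgroup Ω} {θ₁ θ₂ : Ω → Ω} (hθ₁ : Mp F A θ₁) (hθ₂ : Mp F B θ₂)
    {K₁ K₂ : Subgroup (↥S × ↥S)}
    (h1 : ∀ a b : ↥S, (a, b) ∈ K₁ → (a : Ω) ∈ A ∧ (b : Ω) ∈ B)
    (h12 : ∀ a b a' b' : ↥S, (a, b) ∈ K₁ → (a' : Ω) = θ₁ a → (b' : Ω) = θ₂ b → (a', b') ∈ K₂)
    (h21 : ∀ a' b' : ↥S, (a', b') ∈ K₂ → ∃ a b : ↥S, (a, b) ∈ K₁ ∧ (a' : Ω) = θ₁ a ∧ (b' : Ω) = θ₂ b) :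
    (IsFG F K₁ → IsFG F K₂ ∧ F.IsConj (fstS K₁) (fstS K₂)) ∧ (IsFG F K₂ → IsFG F K₁) := by
  constructor
  · rintro ⟨P, f, hf, hK⟩
    have hPS : P ≤ S := hf.le
    have hPA : P ≤ A := fun x hx =>
      (h1 ⟨x, hf.le hx⟩ ⟨f x, hf.mem hx⟩ (graph_mem hf hK hx)).1
    have hfB : ∀ x ∈ P, f x ∈ B := fun x hx =>
      (h1 ⟨x, hf.le hx⟩ ⟨f x, hf.mem hx⟩ (graph_mem hf hK hx)).2
    have hm : Mp F P θ₁ := hθ₁.restrict hPA
    have hI : Iso F P hm.img θ₁ := Iso.of_mp hm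
    obtain ⟨g, hg, hg1, hg2⟩ := hI.inv
    have hf₂ : Mp F hm.img (θ₂ ∘ f ∘ g) :=
      (hg.mp.comp hg.maps hf).comp (Q := B) (fun y hy => hfB _ (hg.maps y hy)) hθ₂
    have hgraph : ∀ a b : ↥S, (a, b) ∈ K₂ ↔ (a : Ω) ∈ hm.img ∧ (b : Ω) = (θ₂ ∘ f ∘ g) a := by
      intro a' b'
      constructor
      · intro h
        obtain ⟨a, b, hab, e1, e2⟩ := h21 a' b' h
        obtain ⟨hP, hb⟩ := (hK a b).1 hab
        refine ⟨?_, ?_⟩
        · rw [e1]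
          exact hI.maps _ hP
        · simp only [Function.comp]
          rw [e1, hg1 _ hP, e2, hb]
      · rintro ⟨ha, hb⟩
        obtain ⟨x, hx, hxa⟩ := hm.mem_img.1 ha
        refine h12 ⟨x, hf.le hx⟩ ⟨f x, hf.mem hx⟩ a' b' (graph_mem hf hK hx) hxa.symm ?_
        rw [hb]
        simp only [Function.comp]
        rw [← hxa, hg1 _ hx]
    refine ⟨⟨_, _, hf₂, hgraph⟩, ?_⟩
    rw [fstS_of_graph hf hK, fstS_of_graph hf₂ hgraph]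
    exact H25.isConj_iff.2 ⟨θ₁, hI⟩
  · rintro ⟨P₂, f₂, hf₂, hK₂⟩
    have hP₁A : fstS K₁ ≤ A := by
      intro x hx
      obtain ⟨a, b, hab, rfl⟩ := mem_fstS.1 hx
      exact (h1 a b hab).1
    have hm : Mp F (fstS K₁) θ₁ := hθ₁.restrict hP₁A
    have hI₂ : Iso F B hθ₂.img θ₂ := Iso.of_mp hθ₂
    obtain ⟨g, hg, hg1, hg2⟩ := hI₂.inv
    have key : ∀ a b : ↥S, (a, b) ∈ K₁ → θ₁ a ∈ P₂ ∧ f₂ (θ₁ a) = θ₂ b := by
      intro a b hab
      have hA := (h1 a b hab)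
      have := h12 a b ⟨θ₁ a, hθ₁.mem hA.1⟩ ⟨θ₂ b, hθ₂.mem hA.2⟩ hab rfl rfl
      have h3 := (hK₂ _ _).1 this
      exact ⟨h3.1, h3.2.symm⟩
    have hmaps₁ : ∀ x ∈ fstS K₁, θ₁ x ∈ P₂ := by
      intro x hx
      obtain ⟨a, b, hab, rfl⟩ := mem_fstS.1 hx
      exact (key a b hab).1
    have hmaps₂ : ∀ x ∈ fstS K₁, (f₂ ∘ θ₁) x ∈ hθ₂.img := by
      intro x hx
      obtain ⟨a, b, hab, rfl⟩ := mem_fstS.1 hx
      simp only [Function.comp]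
      rw [(key a b hab).2]
      exact hI₂.maps _ (h1 a b hab).2
    have hf₁ : Mp F (fstS K₁) (g ∘ (f₂ ∘ θ₁)) :=
      (hm.comp hmaps₁ hf₂).comp hmaps₂ hg.mp
    refine ⟨_, _, hf₁, ?_⟩
    have hval : ∀ a b : ↥S, (a, b) ∈ K₁ → (g ∘ (f₂ ∘ θ₁)) a = b := by
      intro a b hab
      simp only [Function.comp]
      rw [(key a b hab).2, hg1 _ (h1 a b hab).2]
    intro a b
    constructor
    · intro hab
      exact ⟨mem_fstS.2 ⟨a, b, hab, rfl⟩, (hval a b hab).symm⟩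
    · rintro ⟨ha, hb⟩
      obtain ⟨a₀, b₀, hab₀, e⟩ := mem_fstS.1 ha
      have e' : a₀ = a := Subtype.ext e
      subst e'
      have := hval a₀ b₀ hab₀
      have e2 : b = b₀ := Subtype.ext (by rw [hb, this])
      rw [e2]
      exact hab₀

/-- Conjugates of graphs are graphs, with conjugate first projections. -/
theorem isFG_conj {K : Subgroup (↥S × ↥S)} (g : ↥S × ↥S) (hK : IsFG F K) :
    IsFG F (K.map (MulAut.conj g).toMonoidHom) ∧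
      F.IsConj (fstS K) (fstS (K.map (MulAut.conj g).toMonoidHom)) := by
  refine (graph_transfer (F := F) (A := S) (B := S) (θ₁ := fun x => (g.1 : Ω) * x * (g.1 : Ω)⁻¹)
    (θ₂ := fun x => (g.2 : Ω) * x * (g.2 : Ω)⁻¹) (Mp.conj le_rfl g.1.2) (Mp.conj le_rfl g.2.2) ?_ ?_ ?_).1 hK
  · intro a b _
    exact ⟨a.2, b.2⟩
  · intro a b a' b' hab e1 e2
    refine ⟨(a, b), hab, ?_⟩
    apply Prod.ext
    · apply Subtype.ext
      rw [e1]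
      rfl
    · apply Subtype.ext
      rw [e2]
      rfl
  · rintro a' b' ⟨⟨a, b⟩, hab, e⟩
    refine ⟨a, b, hab, ?_, ?_⟩
    · rw [← congrArg (fun q => ((q.1 : ↥S) : Ω)) e]
      rfl
    · rw [← congrArg (fun q => ((q.2 : ↥S) : Ω)) e]
      rfl

/-- Subgroups of graphs are graphs. -/
theorem isFG_le {H K : Subgroup (↥S × ↥S)} (hK : IsFG F K) (hHK : H ≤ K) : IsFG F H := by
  obtain ⟨P, f, hf, hgr⟩ := hK
  have hle : fstS H ≤ P := by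
    intro x hx
    obtain ⟨a, b, hab, rfl⟩ := mem_fstS.1 hx
    exact ((hgr a b).1 (hHK hab)).1
  refine ⟨fstS H, f, hf.restrict hle, ?_⟩
  intro a b
  constructor
  · intro hab
    exact ⟨mem_fstS.2 ⟨a, b, hab, rfl⟩, ((hgr a b).1 (hHK hab)).2⟩
  · rintro ⟨ha, hb⟩
    obtain ⟨a₀, b₀, hab₀, e⟩ := mem_fstS.1 ha
    have e' : a₀ = a := Subtype.ext e
    subst e'
    have h2 := ((hgr a₀ b₀).1 (hHK hab₀)).2
    have e2 : b = b₀ := Subtype.ext (by rw [hb, h2])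
    rw [e2]
    exact hab₀

end Cfsg.Agent.H24
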