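import Mathlib
import Cfsg.Agent.Lib.H24.BisetF

/-!
The mark system of graphs of a saturated fusion system.
-/

set_option autoImplicit false
set_option linter.style.haveILetI false

namespace Cfsg.Agent.H24

open Cfsg Cfsg.FusionSystem
open Cfsg.Agent.H25

universe u

variable {Ω : Type u} [Group Ω] {S : Subgroup Ω} {F : FusionSystem S} {p : ℕ}

/-- The representative of a graph: the diagonal of a chosen far conjugate of its first projection. -/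
noncomputable def repF (F : FusionSystem S) (p : ℕ) (K : Subgroup (↥S × ↥S)) : Subgroup (↥S × ↥S) :=
  diagS (pick F p (fstS K))

section

variable {A B : Subgroup Ω} {θ₁ θ₂ φ : Ω → Ω} {Q : Subgroup Ω} {H : Subgroup (↥S × ↥S)}

/-- Elements of the normalizer of a graph. -/
theorem norm_graph (hφ : Mp F Q φ) (hH : ∀ a b : ↥S, (a, b) ∈ H ↔ (a : Ω) ∈ Q ∧ (b : Ω) = φ a)
    {a b : ↥S} (hn : ((a, b) : ↥S × ↥S) ∈ Subgroup.normalizer (H : Set (↥S × ↥S))) {x : Ω} (hx : x ∈ Q) :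
    (a : Ω) * x * (a : Ω)⁻¹ ∈ Q ∧ φ ((a : Ω) * x * (a : Ω)⁻¹) = (b : Ω) * φ x * (b : Ω)⁻¹ := by
  have h1 := graph_mem hφ hH hx
  have h2 := (Subgroup.mem_normalizer_iff.1 hn _).1 h1
  have h3 := (hH _ _).1 (show ((a * ⟨x, hφ.le hx⟩ * a⁻¹, b * ⟨φ x, hφ.mem hx⟩ * b⁻¹) : ↥S × ↥S) ∈ H from h2)
  exact ⟨h3.1, h3.2.symm⟩

theorem norm_fst (hφ : Mp F Q φ) (hH : ∀ a b : ↥S, (a, b) ∈ H ↔ (a : Ω) ∈ Q ∧ (b : Ω) = φ a)
    {a b : ↥S} (hn : ((a, b) : ↥S × ↥S) ∈ Subgroup.normalizer (H : Set (↥S × ↥S))) :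
    (a : Ω) ∈ normalizerIn S Q := by
  refine ⟨a.2, mem_normalizer_of_conj (fun x hx => (norm_graph hφ hH hn hx).1) (fun x hx => ?_)⟩
  have hn' : ((a⁻¹, b⁻¹) : ↥S × ↥S) ∈ Subgroup.normalizer (H : Set (↥S × ↥S)) :=
    Subgroup.inv_mem _ hn
  have := (norm_graph hφ hH hn' hx).1
  simpa using this

theorem norm_snd (hφ : Mp F Q φ) (hH : ∀ a b : ↥S, (a, b) ∈ H ↔ (a : Ω) ∈ Q ∧ (b : Ω) = φ a)
    {a b : ↥S} (hn : ((a, b) : ↥S × ↥S) ∈ Subgroup.normalizer (H : Set (↥S × ↥S))) :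
    (b : Ω) ∈ normalizerIn S hφ.img := by
  have key : ∀ {c d : ↥S}, ((c, d) : ↥S × ↥S) ∈ Subgroup.normalizer (H : Set (↥S × ↥S)) →
      ∀ y ∈ hφ.img, (d : Ω) * y * (d : Ω)⁻¹ ∈ hφ.img := by
    intro c d hcd y hy
    obtain ⟨x, hx, rfl⟩ := hφ.mem_img.1 hy
    obtain ⟨h1, h2⟩ := norm_graph hφ hH hcd hx
    exact hφ.mem_img.2 ⟨_, h1, h2⟩
  refine ⟨b.2, mem_normalizer_of_conj (key hn) (fun y hy => ?_)⟩
  have hn' : ((a⁻¹, b⁻¹) : ↥S × ↥S) ∈ Subgroup.normalizer (H : Set (↥S × ↥S)) :=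
    Subgroup.inv_mem _ hn
  have := key hn' y hy
  simpa using this

end

section Theta

variable [Finite S] [Fact p.Prime]

/-- The pair of extensions attached to a graph. -/
theorem exists_pair (hS : IsPGroup p S) (hF : F.IsSaturated p) {Q : Subgroup Ω} {φ : Ω → Ω} (hφ : Mp F Q φ)
    {H : Subgroup (↥S × ↥S)} (hH : ∀ a b : ↥S, (a, b) ∈ H ↔ (a : Ω) ∈ Q ∧ (b : Ω) = φ a) :
    ∃ (A B : Subgroup Ω) (θ₁ θ₂ : Ω → Ω), Mp F A θ₁ ∧ Mp F B θ₂ ∧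
      (∀ x ∈ Q, θ₁ x ∈ pick F p Q ∧ θ₂ (φ x) = θ₁ x) ∧
      (∀ y ∈ pick F p Q, ∃ x ∈ Q, θ₁ x = y) ∧
      Q ≤ A ∧ hφ.img ≤ B ∧
      ∀ a b : ↥S, ((a, b) : ↥S × ↥S) ∈ Subgroup.normalizer (H : Set (↥S × ↥S)) → (a : Ω) ∈ A ∧ (b : Ω) ∈ B := by
  have hQS : Q ≤ S := hφ.le
  obtain ⟨hconj, hfar⟩ := pick_spec (p := p) hF hQS
  obtain ⟨θ₁, hθ₁, hI⟩ := exists_ext_normalizer hS hfar hconj
  have hIφ : Iso F Q hφ.img φ := Iso.of_mp hφ
  obtain ⟨φ', hφ', hφ'1, hφ'2⟩ := hIφ.inv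
  have hρ : Iso F hφ.img (pick F p Q) (θ₁ ∘ φ') := hφ'.comp hI
  let BB : Subgroup Ω := Subgroup.closure {g : Ω | g ∈ S ∧ g ∈ Subgroup.normalizer (hφ.img : Set Ω) ∧
      ∃ s ∈ S, ∀ x ∈ hφ.img, (θ₁ ∘ φ') (g * x * g⁻¹) = s * (θ₁ ∘ φ') x * s⁻¹}
  have hRB : hφ.img ≤ BB := fun x hx => Subgroup.subset_closure (mem_good_of_mem hρ hx)
  obtain ⟨θ₂, hθ₂, hθ₂v⟩ := recept_ext hfar.recep hρ hRB le_rfl
  have hQA : Q ≤ normalizerIn S Q := le_normalizerIn hQS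
  refine ⟨normalizerIn S Q, BB, θ₁, θ₂, hθ₁, hθ₂, ?_, hI.surj, hQA, hRB, ?_⟩
  · intro x hx
    refine ⟨hI.maps x hx, ?_⟩
    rw [hθ₂v _ (hIφ.maps x hx)]
    simp only [Function.comp]
    rw [hφ'1 x hx]
  · intro a b hn
    have ha := norm_fst hφ hH hn
    refine ⟨ha, Subgroup.subset_closure ⟨b.2, (norm_snd hφ hH hn).2, θ₁ a, hθ₁.mem ha, ?_⟩⟩
    intro y hy
    obtain ⟨x, hx, rfl⟩ := hφ.mem_img.1 hy
    obtain ⟨h1, h2⟩ := norm_graph hφ hH hn hx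
    simp only [Function.comp]
    rw [← h2, hφ'1 _ h1, hφ'1 _ hx, hθ₁.map_mul (normalizerIn S Q |>.mul_mem ha (hQA hx)) ((normalizerIn S Q).inv_mem ha),
      hθ₁.map_mul ha (hQA hx), hθ₁.map_inv ha]

theorem theta_exists (hS : IsPGroup p S) (hF : F.IsSaturated p) {H : Subgroup (↥S × ↥S)} (hH : IsFG F H) :
    ∃ Θ : Subgroup.normalizer (H : Set (↥S × ↥S)) →* (↥S × ↥S),
     (∀ n, Θ n ∈ Subgroup.normalizer (repF F p H : Set (↥S × ↥S))) ∧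
     (∀ n : Subgroup.normalizer (H : Set (↥S × ↥S)), (n : ↥S × ↥S) ∈ H → Θ n ∈ repF F p H) ∧
     ∀ n : Subgroup.normalizer (H : Set (↥S × ↥S)), (n : ↥S × ↥S) ∉ H →
       (IsFG F (H ⊔ Subgroup.zpowers (n : ↥S × ↥S)) → IsFG F (repF F p H ⊔ Subgroup.zpowers (Θ n)) ∧
          repF F p (repF F p H ⊔ Subgroup.zpowers (Θ n)) = repF F p (H ⊔ Subgroup.zpowers (n : ↥S × ↥S))) ∧
       (IsFG F (repF F p H ⊔ Subgroup.zpowers (Θ n)) → IsFG F (H ⊔ Subgroup.zpowers (n : ↥S × ↥S))) := by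
  obtain ⟨Q, φ, hφ, hgr⟩ := hH
  obtain ⟨A, B, θ₁, θ₂, hθ₁, hθ₂, hq, hsurj, hQA, hRB, hN⟩ := exists_pair hS hF hφ hgr
  have hfst : fstS H = Q := fstS_of_graph hφ hgr
  have hrep : repF F p H = diagS (pick F p Q) := by
    unfold repF
    rw [hfst]
  rw [hrep]
  set P := pick F p Q with hP
  set N := Subgroup.normalizer (H : Set (↥S × ↥S)) with hNdef
  have hNa : ∀ n : N, (n.1.1 : Ω) ∈ A := fun n => (hN n.1.1 n.1.2 n.2).1
  have hNb : ∀ n : N, (n.1.2 : Ω) ∈ B := fun n => (hN n.1.1 n.1.2 n.2).2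
  let Θ : N →* (↥S × ↥S) := MonoidHom.mk'
    (fun n => (⟨θ₁ n.1.1, hθ₁.mem (hNa n)⟩, ⟨θ₂ n.1.2, hθ₂.mem (hNb n)⟩)) (by
      intro m n
      apply Prod.ext
      · apply Subtype.ext
        exact hθ₁.map_mul (hNa m) (hNa n)
      · apply Subtype.ext
        exact hθ₂.map_mul (hNb m) (hNb n))
  have hΘ1 : ∀ n : N, (((Θ n).1 : ↥S) : Ω) = θ₁ n.1.1 := fun _ => rfl
  have hΘ2 : ∀ n : N, (((Θ n).2 : ↥S) : Ω) = θ₂ n.1.2 := fun _ => rfl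
  have key : ∀ n : N, ∀ y ∈ P, θ₁ n.1.1 * y * (θ₁ n.1.1)⁻¹ ∈ P ∧
      θ₁ n.1.1 * y * (θ₁ n.1.1)⁻¹ = θ₂ n.1.2 * y * (θ₂ n.1.2)⁻¹ := by
    intro n y hy
    obtain ⟨x, hx, rfl⟩ := hsurj y hy
    have hn : ((n.1.1, n.1.2) : ↥S × ↥S) ∈ N := n.2
    obtain ⟨h1, h2⟩ := norm_graph hφ hgr hn hx
    have e1 : θ₁ n.1.1 * θ₁ x * (θ₁ n.1.1)⁻¹ = θ₁ ((n.1.1 : Ω) * x * (n.1.1 : Ω)⁻¹) := by
      rw [hθ₁.map_mul (A.mul_mem (hNa n) (hQA hx)) (A.inv_mem (hNa n)), hθ₁.map_mul (hNa n) (hQA hx),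
        hθ₁.map_inv (hNa n)]
    have hφx : φ x ∈ B := hRB (hφ.mem_img.2 ⟨x, hx, rfl⟩)
    have e2 : θ₂ n.1.2 * θ₁ x * (θ₂ n.1.2)⁻¹ = θ₂ ((n.1.2 : Ω) * φ x * (n.1.2 : Ω)⁻¹) := by
      rw [hθ₂.map_mul (B.mul_mem (hNb n) hφx) (B.inv_mem (hNb n)), hθ₂.map_mul (hNb n) hφx,
        hθ₂.map_inv (hNb n), (hq x hx).2]
    rw [e1, e2, ← h2, (hq _ h1).2]
    exact ⟨(hq _ h1).1, rfl⟩
  have key2 : ∀ n : N, ∀ q ∈ (diagS P : Subgroup (↥S × ↥S)), Θ n * q * (Θ n)⁻¹ ∈ (diagS P : Subgroup (↥S × ↥S)) := by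
    rintro n ⟨c, d⟩ ⟨h1, h2⟩
    have h2' : c = d := h2
    subst h2'
    obtain ⟨k1, k2⟩ := key n c h1
    refine ⟨k1, ?_⟩
    apply Subtype.ext
    exact k2
  refine ⟨Θ, ?_, ?_, ?_⟩
  · intro n
    apply mem_normalizer_of_conj (key2 n)
    intro q hq'
    have := key2 n⁻¹ q hq'
    rwa [map_inv, inv_inv] at this
  · intro n hn
    have h1 := (hgr n.1.1 n.1.2).1 hn
    refine ⟨(hq _ h1.1).1, ?_⟩
    apply Subtype.ext
    show θ₁ n.1.1 = θ₂ n.1.2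
    rw [h1.2, (hq _ h1.1).2]
  · intro n _
    have hK₁N : H ⊔ Subgroup.zpowers (n : ↥S × ↥S) ≤ N :=
      sup_le Subgroup.le_normalizer ((Subgroup.zpowers_le).2 n.2)
    have hdiagK : ∀ m : N, (m : ↥S × ↥S) ∈ H → Θ m ∈ (diagS P : Subgroup (↥S × ↥S)) := by
      intro m hm
      have h1 := (hgr m.1.1 m.1.2).1 hm
      refine ⟨(hq _ h1.1).1, ?_⟩
      apply Subtype.ext
      show θ₁ m.1.1 = θ₂ m.1.2
      rw [h1.2, (hq _ h1.1).2]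
    have hmain := graph_transfer (F := F) (K₁ := H ⊔ Subgroup.zpowers (n : ↥S × ↥S))
      (K₂ := diagS P ⊔ Subgroup.zpowers (Θ n)) hθ₁ hθ₂
      (fun a b hab => hN a b (hK₁N hab)) ?_ ?_
    · refine ⟨fun h => ?_, hmain.2⟩
      obtain ⟨h1, h2⟩ := hmain.1 h
      refine ⟨h1, ?_⟩
      unfold repF
      rw [pick_congr (isConj_symm h2)]
    · intro a b a' b' hab e1 e2
      have hle : H ⊔ Subgroup.zpowers (n : ↥S × ↥S) ≤
          ((diagS P ⊔ Subgroup.zpowers (Θ n)).comap Θ).map N.subtype := by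
        refine sup_le (fun h hh => ?_) ?_
        · refine ⟨⟨h, Subgroup.le_normalizer hh⟩, ?_, rfl⟩
          exact Subgroup.mem_sup_left (hdiagK ⟨h, Subgroup.le_normalizer hh⟩ hh)
        · rw [Subgroup.zpowers_le]
          exact ⟨n, Subgroup.mem_sup_right (Subgroup.mem_zpowers _), rfl⟩
      obtain ⟨m, hm, hme⟩ := hle hab
      have hme' : (m : ↥S × ↥S) = (a, b) := hme
      have he : ((a', b') : ↥S × ↥S) = Θ m := by
        apply Prod.ext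
        · apply Subtype.ext
          show (a' : Ω) = θ₁ (m : ↥S × ↥S).1
          rw [hme', e1]
        · apply Subtype.ext
          show (b' : Ω) = θ₂ (m : ↥S × ↥S).2
          rw [hme', e2]
      rw [he]
      exact hm
    · intro a' b' hab
      have hle : diagS P ⊔ Subgroup.zpowers (Θ n) ≤
          ((H ⊔ Subgroup.zpowers (n : ↥S × ↥S)).comap N.subtype).map Θ := by
        refine sup_le ?_ ?_
        · rintro ⟨c, d⟩ ⟨h1, h2⟩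
          have h2' : c = d := h2
          subst h2'
          obtain ⟨x, hx, hxc⟩ := hsurj _ h1
          have hxH : ((⟨x, hφ.le hx⟩, ⟨φ x, hφ.mem hx⟩) : ↥S × ↥S) ∈ H := graph_mem hφ hgr hx
          refine ⟨⟨_, Subgroup.le_normalizer hxH⟩, Subgroup.mem_sup_left hxH, ?_⟩
          apply Prod.ext
          · apply Subtype.ext
            exact hxc
          · apply Subtype.ext
            show θ₂ (φ x) = c
            rw [(hq x hx).2, hxc]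
        · rw [Subgroup.zpowers_le]
          exact ⟨n, Subgroup.mem_sup_right (Subgroup.mem_zpowers _), rfl⟩
      obtain ⟨m, hm, hme⟩ := hle hab
      refine ⟨(m : ↥S × ↥S).1, (m : ↥S × ↥S).2, hm, ?_, ?_⟩
      · exact (congrArg (fun q : ↥S × ↥S => ((q.1 : ↥S) : Ω)) hme).symm
      · exact (congrArg (fun q : ↥S × ↥S => ((q.2 : ↥S) : Ω)) hme).symm

/-- The mark system of graphs. -/
noncomputable def fgSys (hS : IsPGroup p S) (hF : F.IsSaturated p) : MarkSys (↥S × ↥S) where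
  Fam := IsFG F
  rep := repF F p
  rep_mem H _ := isFG_diag (pick_spec hF (fstS_le H)).2.le
  rep_rep H _ := by
    obtain ⟨h1, h2⟩ := pick_spec hF (fstS_le H)
    unfold repF
    rw [fstS_diag F h2.le, pick_congr (isConj_symm h1)]
  rep_conj H g hH := by
    unfold repF
    rw [pick_congr (isConj_symm (isFG_conj g hH).2)]
  card_rep H hH := by
    obtain ⟨h1, h2⟩ := pick_spec hF (fstS_le H)
    unfold repF
    rw [card_diag F h2.le, ← card_of_isConj h1]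
    obtain ⟨P, f, hf, hgr⟩ := hH
    rw [fstS_of_graph hf hgr, card_of_graph hf hgr]
  fam_conj H g hH := (isFG_conj g hH).1
  fam_le H K hK hHK := isFG_le hK hHK
  theta H hH := theta_exists hS hF hH

end Theta

end Cfsg.Agent.H24
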