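import Mathlib
import Cfsg.Agent.Lib.H24.BisetS

/-!
Existence of a characteristic biset of a saturated fusion system.
-/

set_option autoImplicit false
set_option linter.style.haveILetI false

namespace Cfsg.Agent.H24

open Cfsg Cfsg.FusionSystem
open Cfsg.Agent.H25

universe u

variable {Ω : Type u} [Group Ω] {S : Subgroup Ω} {F : FusionSystem S} {p : ℕ}

/-- The function of an automorphism of `S`. -/
noncomputable def autFun (α : MulAut ↥S) : Ω → Ω := toFun (S.subtype.comp α.toMonoidHom)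

theorem autFun_coe (α : MulAut ↥S) (x : ↥S) : autFun α x = ((α x : ↥S) : Ω) := toFun_aut α x

/-- The basic set: copies of `S` twisted by automorphisms. -/
def BaseSet (I : Type u) (_α : I → MulAut ↥S) : Type u := I × ↥S

section Base

variable {I : Type u} {α : I → MulAut ↥S}

instance : MulAction (↥S × ↥S) (BaseSet I α) where
  smul q x := (x.1, q.2 * x.2 * (α x.1 q.1)⁻¹)
  one_smul x := by
    show (x.1, (1 : ↥S) * x.2 * (α x.1 1)⁻¹) = x
    simp only [map_one, inv_one, mul_one, one_mul]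
    rfl
  mul_smul q r x := by
    show (x.1, (q.2 * r.2) * x.2 * (α x.1 (q.1 * r.1))⁻¹) = (x.1, q.2 * (r.2 * x.2 * (α x.1 r.1)⁻¹) * (α x.1 q.1)⁻¹)
    simp [mul_assoc]

theorem base_smul_fst (q : ↥S × ↥S) (x : BaseSet I α) : (q • x).1 = x.1 := rfl

theorem base_smul_snd (q : ↥S × ↥S) (x : BaseSet I α) : (q • x).2 = q.2 * x.2 * (α x.1 q.1)⁻¹ := rfl

theorem base_fix {q : ↥S × ↥S} {x : BaseSet I α} : q • x = x ↔ q.2 = x.2 * α x.1 q.1 * x.2⁻¹ := by
  constructor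
  · intro h
    have h2 : q.2 * x.2 * (α x.1 q.1)⁻¹ = x.2 := congrArg Prod.snd h
    rw [← h2]
    group
    nth_rw 1 [← h2]
    group
  · intro h
    apply Prod.ext
    · rfl
    · show q.2 * x.2 * (α x.1 q.1)⁻¹ = x.2
      rw [h]
      group

theorem base_stab (hα : ∀ i, α i ∈ F.autGroup S) (x : BaseSet I α) :
    IsFG F (MulAction.stabilizer (↥S × ↥S) x) := by
  refine ⟨S, fun y => (x.2 : Ω) * autFun (α x.1) y * (x.2 : Ω)⁻¹, ?_, ?_⟩
  · have h1 : Mp F S (autFun (α x.1)) := Mp.of_mem_autGroup le_rfl (hα x.1)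
    have h2 : ∀ y ∈ S, autFun (α x.1) y ∈ S := fun y hy => h1.mem hy
    exact h1.comp h2 (Mp.conj le_rfl x.2.2)
  · intro a b
    rw [MulAction.mem_stabilizer_iff, base_fix]
    show b = x.2 * α x.1 a * x.2⁻¹ ↔ _ ∧ (b : Ω) = (x.2 : Ω) * autFun (α x.1) a * (x.2 : Ω)⁻¹
    rw [autFun_coe]
    constructor
    · intro h
      refine ⟨a.2, ?_⟩
      have := congrArg (Subtype.val) h
      exact this
    · rintro ⟨-, h⟩
      exact Subtype.ext h

/-- Graphs with full first projection. -/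
theorem big_graph [Finite S] {H : Subgroup (↥S × ↥S)} (hH : IsFG F H) (hc : Nat.card S ≤ Nat.card H) :
    ∃ ψ ∈ F.autGroup S, ∀ a b : ↥S, (a, b) ∈ H ↔ b = ψ a := by
  obtain ⟨P, f, hf, hgr⟩ := hH
  have hPS : P ≤ S := hf.le
  haveI : Finite P := finite_of_le hPS
  have hPc : Nat.card S ≤ Nat.card P := by
    rwa [card_of_graph hf hgr] at hc
  have hPe : P = S := Subgroup.eq_of_le_of_card_ge hPS hPc
  subst hPe
  have hI : Iso F P P f := Iso.of_maps hf (fun x hx => hf.mem hx)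
  refine ⟨autOfIso hI, autOfIso_mem hI, ?_⟩
  intro a b
  rw [hgr]
  constructor
  · rintro ⟨-, h⟩
    exact Subtype.ext h
  · intro h
    refine ⟨a.2, ?_⟩
    rw [h]
    rfl

/-- The marks of the base set on full graphs. -/
theorem base_mark [Finite S] {O : Subgroup (MulAut ↥S)}
    {J : Subgroup O} (hJ : ∀ j : O, j ∈ J ↔ ∃ s : ↥S, (j : MulAut ↥S) = MulAut.conj s)
    (α : (O ⧸ J) → MulAut ↥S) (hα : α = fun i => ((Quotient.out i : O) : MulAut ↥S))
    {H : Subgroup (↥S × ↥S)} {ψ : MulAut ↥S} (hψ : ψ ∈ O) (hgr : ∀ a b : ↥S, (a, b) ∈ H ↔ b = ψ a) :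
    mrk (BaseSet (O ⧸ J) α) H = Nat.card (Subgroup.center ↥S) := by
  classical
  -- the class of `ψ`
  let i₀ : O ⧸ J := QuotientGroup.mk ⟨ψ, hψ⟩
  obtain ⟨j, hj, hje⟩ : ∃ j ∈ J, Quotient.out i₀ = ⟨ψ, hψ⟩ * j := by
    obtain ⟨h, hh⟩ := QuotientGroup.mk_out_eq_mul J (⟨ψ, hψ⟩ : O)
    exact ⟨h, h.2, hh⟩
  obtain ⟨s, hs⟩ := (hJ j).1 hj
  have hαi₀ : α i₀ = ψ * MulAut.conj s := by
    rw [hα]
    show ((Quotient.out i₀ : O) : MulAut ↥S) = _
    rw [hje]
    show ψ * (j : MulAut ↥S) = _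
    rw [hs]
  let ω₀ : ↥S := (ψ s)⁻¹
  have hω₀ : ψ = MulAut.conj ω₀ * α i₀ := by
    rw [hαi₀]
    ext x
    show ((ψ x : ↥S) : Ω) = ((ω₀ * ψ (s * x * s⁻¹) * ω₀⁻¹ : ↥S) : Ω)
    simp [ω₀, mul_assoc]
  have hfix : ∀ x : BaseSet (O ⧸ J) α, x ∈ fixSet (BaseSet (O ⧸ J) α) H ↔ ψ = MulAut.conj x.2 * α x.1 := by
    intro x
    rw [mem_fixSet]
    constructor
    · intro h
      ext a
      have h1 := base_fix.1 (h (a, ψ a) ((hgr _ _).2 rfl))
      exact congrArg Subtype.val h1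
    · rintro h ⟨a, b⟩ hab
      have hb := (hgr a b).1 hab
      apply base_fix.2
      show b = _
      rw [hb, h]
      rfl
  have hi : ∀ x : BaseSet (O ⧸ J) α, x ∈ fixSet (BaseSet (O ⧸ J) α) H → x.1 = i₀ := by
    intro x hx
    have h1 := (hfix x).1 hx
    have h2 : ((⟨ψ, hψ⟩ : O)⁻¹ * Quotient.out x.1 : O) ∈ J := by
      refine (hJ _).2 ⟨ψ⁻¹ (x.2⁻¹), ?_⟩
      have hαx : α x.1 = ((Quotient.out x.1 : O) : MulAut ↥S) := by rw [hα]
      show ψ⁻¹ * ((Quotient.out x.1 : O) : MulAut ↥S) = _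
      rw [← hαx]
      have h3 : (α x.1 : MulAut ↥S) = (MulAut.conj x.2)⁻¹ * ψ := by
        rw [h1]
        group
      rw [h3]
      ext y
      have e : ψ y = ψ (ψ⁻¹ (ψ y)) := by simp
      show ((ψ⁻¹ (x.2⁻¹ * ψ y * x.2) : ↥S) : Ω) = (((ψ⁻¹ (x.2⁻¹)) * y * (ψ⁻¹ (x.2⁻¹))⁻¹ : ↥S) : Ω)
      rw [map_mul, map_mul, map_inv]
      simp
    have h3 : (QuotientGroup.mk (Quotient.out x.1) : O ⧸ J) = QuotientGroup.mk ⟨ψ, hψ⟩ :=
      (QuotientGroup.eq.2 h2).symm
    rw [← QuotientGroup.out_eq' x.1]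
    exact h3
  have hconj1 : ∀ z : ↥(Subgroup.center ↥S), MulAut.conj ((z : ↥S)) = 1 := by
    intro z
    ext y
    show (((z : ↥S) * y * (z : ↥S)⁻¹ : ↥S) : Ω) = y
    rw [(Subgroup.mem_center_iff.1 z.2 y).symm]
    simp
  unfold mrk
  apply Nat.card_congr
  symm
  refine ⟨fun z => ⟨((i₀, ω₀ * z.1) : (O ⧸ J) × ↥S), (hfix _).2 ?_⟩, fun x => ⟨ω₀⁻¹ * x.1.2, ?_⟩, ?_, ?_⟩
  · show ψ = MulAut.conj (ω₀ * z.1) * α i₀
    rw [map_mul, hconj1, mul_one]
    exact hω₀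
  · have h1 := (hfix x.1).1 x.2
    rw [hi x.1 x.2] at h1
    have h2 : MulAut.conj x.1.2 = MulAut.conj ω₀ := by
      have := h1.symm.trans hω₀
      exact mul_right_cancel this
    rw [Subgroup.mem_center_iff]
    intro y
    have h3 := congrArg (fun f : MulAut ↥S => f y) h2
    have h4 : x.1.2 * y * x.1.2⁻¹ = ω₀ * y * ω₀⁻¹ := h3
    have h5 : y = ω₀⁻¹ * x.1.2 * y * (ω₀⁻¹ * x.1.2)⁻¹ := by
      calc y = ω₀⁻¹ * (ω₀ * y * ω₀⁻¹) * ω₀ := by group
        _ = ω₀⁻¹ * (x.1.2 * y * x.1.2⁻¹) * ω₀ := by rw [h4]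
        _ = _ := by group
    exact eq_mul_inv_iff_mul_eq.1 h5
  · intro z
    apply Subtype.ext
    simp
  · intro x
    apply Subtype.ext
    show ((i₀, ω₀ * (ω₀⁻¹ * x.1.2)) : (O ⧸ J) × ↥S) = x.1
    rw [mul_inv_cancel_left, ← hi x.1 x.2]
    rfl

end Base

theorem card_uq_mul {T : Type u} [Group T] {X : Type u} [MulAction (T × T) X] (hf : RFree T X) :
    Nat.card X = Nat.card (Uq T X) * Nat.card T := by
  obtain ⟨r, hr⟩ := exists_sec (S := T) (X := X)
  rw [← Nat.card_prod]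
  apply Nat.card_congr
  symm
  refine Equiv.ofBijective (fun q : Uq T X × T => (((1 : T), q.2) • r q.1 : X)) ⟨?_, ?_⟩
  · rintro ⟨u, s⟩ ⟨u', s'⟩ h
    have h1 : (uq (((1 : T), s) • r u : X) : Uq T X) = uq (((1 : T), s') • r u') := by
      exact congrArg uq h
    have h2 : (uq (((1 : T), s) • r u : X) : Uq T X) = u := by
      rw [← hr u]
      rw [hr u]
      exact (uq_eq.2 ⟨s, rfl⟩).symm.trans (hr u)
    have h3 : (uq (((1 : T), s') • r u' : X) : Uq T X) = u' :=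
      (uq_eq.2 ⟨s', rfl⟩).symm.trans (hr u')
    have hu : u = u' := by rw [← h2, h1, h3]
    subst hu
    have hss : s = s' := RFree.eq (h := hf) h
    rw [hss]
  · intro ω
    have h1 : (uq (r (uq ω)) : Uq T X) = uq ω := hr _
    obtain ⟨s, hs⟩ := uq_eq.1 h1
    exact ⟨(uq ω, s), hs⟩

section Main

variable [Finite S] [Fact p.Prime]

instance : Finite (MulAut ↥S) := Finite.of_injective (fun f : MulAut ↥S => (f : ↥S → ↥S))
  (fun _ _ h => MulEquiv.ext (congrFun h))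

theorem fullyAutomized_top (hF : F.IsSaturated p) : F.IsFullyAutomized p S := by
  obtain ⟨Q, f, hQ, hf⟩ := exists_far hF (le_refl S)
  have hQS : Q ≤ S := hQ.le
  have hc : Nat.card S ≤ Nat.card Q := (card_of_isConj (H25.isConj_iff.2 ⟨f, hf⟩)).le
  have he : Q = S := Subgroup.eq_of_le_of_card_ge hQS hc
  subst he
  exact hQ.auto

theorem index_divides_of_small (hS : IsPGroup p S) {H : Subgroup (↥S × ↥S)} (hH : Nat.card H < Nat.card S) :
    p * Nat.card S ∣ H.index := by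
  have hp : p.Prime := Fact.out
  obtain ⟨n, hn⟩ := IsPGroup.iff_card.1 hS
  have h1 : Nat.card H * H.index = Nat.card S * Nat.card S := by
    rw [Subgroup.card_mul_index, Nat.card_prod]
  rw [hn] at h1 hH ⊢
  rw [← pow_add] at h1
  have h2 : Nat.card H ∣ p ^ (n + n) := ⟨_, h1.symm⟩
  obtain ⟨k, hk, hke⟩ := (Nat.dvd_prime_pow hp).1 h2
  rw [hke] at h1 hH
  have hkn : k < n := (Nat.pow_lt_pow_iff_right hp.one_lt).1 hH
  have h3 : H.index = p ^ (n + n - k) := by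
    have e : p ^ (n + n) = p ^ k * p ^ (n + n - k) := by
      rw [← pow_add]
      congr 1
      omega
    rw [e] at h1
    exact Nat.eq_of_mul_eq_mul_left (pow_pos hp.pos k) h1
  rw [h3]
  have e2 : p * p ^ n = p ^ (n + 1) := by ring
  rw [e2]
  exact pow_dvd_pow p (by omega)

/-- Existence of a characteristic biset. -/
theorem exists_char (hS : IsPGroup p S) (hF : F.IsSaturated p) :
    ∃ (X : Type u) (_ : MulAction (↥S × ↥S) X) (_ : Finite X),
      StabIn (fgSys hS hF) X ∧ (∀ H, IsFG F H → mrk X H = mrk X (repF F p H)) ∧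
      RFree ↥S X ∧ ¬ p ∣ Nat.card (Uq ↥S X) := by
  have hp : p.Prime := Fact.out
  let O : Subgroup (MulAut ↥S) := F.autGroup S
  let J : Subgroup O := (autInducedBy S S).subgroupOf O
  have hJ : ∀ j : O, j ∈ J ↔ ∃ s : ↥S, (j : MulAut ↥S) = MulAut.conj s := by
    intro j
    rw [Subgroup.mem_subgroupOf]
    constructor
    · intro h
      obtain ⟨s, hs, hsv⟩ := exists_of_mem_autInducedBy h
      refine ⟨⟨s, hs⟩, ?_⟩
      ext x
      exact hsv x
    · rintro ⟨s, hs⟩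
      refine Subgroup.subset_closure ⟨s, s.2, fun x => ?_⟩
      rw [hs]
      rfl
  let α : (O ⧸ J) → MulAut ↥S := fun i => ((Quotient.out i : O) : MulAut ↥S)
  have hαm : ∀ i, α i ∈ F.autGroup S := fun i => (Quotient.out i : O).2
  haveI : Finite O := inferInstance
  haveI : Finite (BaseSet (O ⧸ J) α) := by
    unfold BaseSet
    infer_instance
  have hbig : ∀ H, IsFG F H → Nat.card S ≤ Nat.card H →
      mrk (BaseSet (O ⧸ J) α) H = Nat.card (Subgroup.center ↥S) := by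
    intro H hH hc
    obtain ⟨ψ, hψ, hgr⟩ := big_graph hH hc
    exact base_mark hJ α rfl hψ hgr
  obtain ⟨X, i1, i2, hX, hmark, hcard⟩ := (fgSys hS hF).exists_good (Nat.card S) (p * Nat.card S)
    (BaseSet (O ⧸ J) α) (fun x => base_stab hαm x)
    (fun H hH hc => by
      rw [hbig H hH hc, hbig _ ((fgSys hS hF).rep_mem H hH)]
      rw [(fgSys hS hF).card_rep H hH]
      exact hc)
    (fun H _ hc => index_divides_of_small hS hc)
  have hfree : RFree ↥S X := by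
    intro ω s hs
    obtain ⟨P, f, hf, hgr⟩ := hX ω
    have h1 := (hgr 1 s).1 (MulAction.mem_stabilizer_iff.2 hs)
    apply Subtype.ext
    rw [h1.2]
    exact hf.map_one
  refine ⟨X, i1, i2, hX, hmark, hfree, ?_⟩
  have hc1 := card_uq_mul hfree
  have hc2 : Nat.card (BaseSet (O ⧸ J) α) = Nat.card (O ⧸ J) * Nat.card ↥S := by
    unfold BaseSet
    exact Nat.card_prod _ _
  rw [hc1, hc2] at hcard
  have hS0 : Nat.card ↥S ≠ 0 := Nat.card_pos.ne'
  have hmod : Nat.card (Uq ↥S X) ≡ Nat.card (O ⧸ J) [MOD p] := Nat.ModEq.mul_right_cancel' hS0 hcard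
  obtain ⟨-, R, hR⟩ := fullyAutomized_top (F := F) (p := p) hF
  have h5 : ¬ p ∣ Nat.card (O ⧸ J) := by
    have := R.not_dvd_index
    rw [hR] at this
    exact this
  intro h6
  exact h5 ((hmod.dvd_iff (dvd_refl p)).1 h6)

end Main

end Cfsg.Agent.H24
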