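import Mathlib
import Cfsg.Agent.Lib.H24.BisetE

/-!
Fusion invariance and central values of the transfer of a characteristic biset.
-/

set_option autoImplicit false
set_option linter.style.haveILetI false

namespace Cfsg.Agent.H24

open Cfsg Cfsg.FusionSystem
open Cfsg.Agent.H25

universe u v w

/-- A set with an action pulled back along a homomorphism. -/
def ActOn {Γ G : Type u} [Group Γ] [Group G] (_hom : Γ →* G) (X : Type u) : Type u := X

section Act

variable {Γ G : Type u} [Group Γ] [Group G] {X : Type u} [MulAction G X] (hom : Γ →* G)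

instance : MulAction Γ (ActOn hom X) := MulAction.compHom X hom

theorem mrk_actOn (K : Subgroup Γ) : mrk (ActOn hom X) K = mrk X (K.map hom) := by
  unfold mrk
  apply Nat.card_congr
  apply Equiv.setCongr
  ext x
  constructor
  · rintro h _ ⟨k, hk, rfl⟩
    exact h k hk
  · intro h k hk
    exact h (hom k) ⟨k, hk, rfl⟩

end Act

section Inv

variable {Ω : Type u} [Group Ω] {S : Subgroup Ω} {F : FusionSystem S} {p : ℕ}
variable [Finite S] [Fact p.Prime] {hS : IsPGroup p S} {hF : F.IsSaturated p}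
variable {X : Type u} [MulAction (↥S × ↥S) X] [Finite X] {A : Type w} [CommGroup A]

/-- The two embeddings of `P × S` attached to a map of the system. -/
def hom₁ {P : Subgroup Ω} (hP : P ≤ S) : (↥P × ↥S) →* (↥S × ↥S) :=
  (Subgroup.inclusion hP).prodMap (MonoidHom.id _)

/-- The embedding twisted by a map. -/
noncomputable def hom₂ {P : Subgroup Ω} {f : Ω → Ω} (hf : Mp F P f) : (↥P × ↥S) →* (↥S × ↥S) :=
  (MonoidHom.mk' (fun c : ↥P => (⟨f c, hf.mem c.2⟩ : ↥S)) (fun a b => Subtype.ext (hf.map_mul a.2 b.2))).prodMap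
    (MonoidHom.id _)

theorem marks_twist (hX : StabIn (fgSys hS hF) X) (hmark : ∀ H, IsFG F H → mrk X H = mrk X (repF F p H))
    {P : Subgroup Ω} {f : Ω → Ω} (hf : Mp F P f) (K : Subgroup (↥P × ↥S)) :
    mrk X (K.map (hom₁ hf.le)) = mrk X (K.map (hom₂ hf)) := by
  have hmain := graph_transfer (F := F) (A := P) (B := S) (θ₁ := f) (θ₂ := _root_.id)
    (K₁ := K.map (hom₁ hf.le)) (K₂ := K.map (hom₂ hf)) hf (Mp.id le_rfl) ?_ ?_ ?_
  · by_cases h : IsFG F (K.map (hom₁ hf.le))
    · obtain ⟨h1, h2⟩ := hmain.1 h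
      rw [hmark _ h, hmark _ h1]
      unfold repF
      rw [pick_congr h2]
    · have h' : ¬ IsFG F (K.map (hom₂ hf)) := fun h3 => h (hmain.2 h3)
      rw [mrk_eq_zero_of_not_fam (Sy := fgSys hS hF) hX h, mrk_eq_zero_of_not_fam (Sy := fgSys hS hF) hX h']
  · rintro a b ⟨⟨c, s⟩, hk, e⟩
    have e1 : (c : Ω) = a := congrArg (fun q : ↥S × ↥S => ((q.1 : ↥S) : Ω)) e
    exact ⟨e1 ▸ c.2, b.2⟩
  · rintro a b a' b' ⟨⟨c, s⟩, hk, e⟩ h1 h2
    refine ⟨(c, s), hk, ?_⟩
    have e1 : (c : Ω) = a := congrArg (fun q : ↥S × ↥S => ((q.1 : ↥S) : Ω)) e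
    have e2 : s = b := congrArg (fun q : ↥S × ↥S => q.2) e
    apply Prod.ext
    · apply Subtype.ext
      show f c = a'
      rw [h1, e1]
    · apply Subtype.ext
      show (s : Ω) = b'
      rw [h2, e2]
      rfl
  · rintro a' b' ⟨⟨c, s⟩, hk, e⟩
    have e1 : f c = a' := congrArg (fun q : ↥S × ↥S => ((q.1 : ↥S) : Ω)) e
    have e2 : s = b' := congrArg (fun q : ↥S × ↥S => q.2) e
    refine ⟨⟨c, hf.le c.2⟩, s, ⟨(c, s), hk, rfl⟩, e1.symm, ?_⟩
    rw [← e2]
    rfl

/-- The transfer is invariant under the system. -/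
theorem bisetTr_fus (hX : StabIn (fgSys hS hF) X) (hmark : ∀ H, IsFG F H → mrk X H = mrk X (repF F p H))
    (hfree : RFree ↥S X) (lam : ↥S →* A) {P : Subgroup Ω} {f : Ω → Ω} (hf : Mp F P f) {x : Ω} (hx : x ∈ P) :
    bisetTr hfree lam ⟨x, hf.le hx⟩ = bisetTr hfree lam ⟨f x, hf.mem hx⟩ := by
  haveI : Finite P := finite_of_le hf.le
  haveI : Finite (ActOn (hom₁ hf.le) X) := ‹Finite X›
  haveI : Finite (ActOn (hom₂ hf) X) := ‹Finite X›
  obtain ⟨ι, hι⟩ := exists_equiv_of_marks (Γ := ↥P × ↥S) (X := ActOn (hom₁ hf.le) X) (Y := ActOn (hom₂ hf) X)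
    (fun K => by
      rw [mrk_actOn, mrk_actOn]
      exact marks_twist hX hmark hf K)
  refine bisetTr_eq_of_equiv hfree lam (x := ⟨x, hf.le hx⟩) (y := ⟨f x, hf.mem hx⟩) ι ?_ ?_
  · intro ω
    have := hι (⟨x, hx⟩, 1) ω
    exact this
  · intro s ω
    have h2 : hom₂ hf ((1 : ↥P), s) = ((1 : ↥S), s) := by
      apply Prod.ext
      · exact Subtype.ext hf.map_one
      · rfl
    let ι' : X ≃ X := ι
    have h3 : ι' (((1 : ↥S), s) • ω) = hom₂ hf ((1 : ↥P), s) • ι' ω := hι (1, s) ω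
    rw [h2] at h3
    exact h3

end Inv

section Section

variable {X U : Type*}

theorem semiconj_zpow (q : X → U) (δ : Equiv.Perm X) (σ : Equiv.Perm U) (hc : ∀ ω, q (δ ω) = σ (q ω)) (j : ℤ) (ω : X) :
    q ((δ ^ j) ω) = (σ ^ j) (q ω) := by
  have hc' : ∀ ω, q (δ⁻¹ ω) = σ⁻¹ (q ω) := by
    intro ω
    rw [Equiv.Perm.eq_inv_iff_eq, ← hc]
    simp
  induction j using Int.induction_on generalizing ω with
  | zero => simp
  | succ i ih =>
    rw [zpow_add_one, zpow_add_one]
    simp only [Equiv.Perm.mul_apply]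
    rw [ih, hc]
  | pred i ih =>
    rw [zpow_sub_one, zpow_sub_one]
    simp only [Equiv.Perm.mul_apply]
    rw [ih, hc']

/-- Equivariant sections. -/
theorem exists_equi_sec (q : X → U) (hq : Function.Surjective q) (δ : Equiv.Perm X) (σ : Equiv.Perm U)
    (hc : ∀ ω, q (δ ω) = σ (q ω)) (hfix : ∀ (j : ℤ) (ω : X), (σ ^ j) (q ω) = q ω → (δ ^ j) ω = ω) :
    ∃ r : U → X, (∀ u, q (r u) = u) ∧ ∀ u, δ (r u) = r (σ u) := by
  classical
  let st : Setoid U := Equiv.Perm.SameCycle.setoid σ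
  let rep : U → U := fun u => Quotient.out (Quotient.mk st u)
  have hrep : ∀ u, σ.SameCycle (rep u) u := fun u => by
    have : st.r (rep u) u := Quotient.exact (Quotient.out_eq (Quotient.mk st u))
    exact this
  choose j hj using hrep
  let ω₀ : U → X := Function.surjInv hq
  have hω₀ : ∀ v, q (ω₀ v) = v := Function.surjInv_eq hq
  let r : U → X := fun u => (δ ^ j u) (ω₀ (rep u))
  refine ⟨r, ?_, ?_⟩
  · intro u
    show q ((δ ^ j u) (ω₀ (rep u))) = u
    rw [semiconj_zpow q δ σ hc, hω₀, hj]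
  · intro u
    have hsc : σ.SameCycle u (σ u) := ⟨1, by simp⟩
    have hrepe : rep (σ u) = rep u := by
      show Quotient.out (Quotient.mk st (σ u)) = Quotient.out (Quotient.mk st u)
      have : Quotient.mk st (σ u) = Quotient.mk st u := Quotient.sound (show st.r (σ u) u from hsc.symm)
      rw [this]
    have h1 : (σ ^ j (σ u)) (rep u) = σ u := by
      have := hj (σ u)
      rwa [hrepe] at this
    set k := j (σ u) - (j u + 1) with hk
    have e : σ ^ j (σ u) = σ ^ (j u + 1) * σ ^ k := by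
      rw [← zpow_add, hk]
      congr 1
      ring
    have e' : δ ^ j (σ u) = δ ^ (j u + 1) * δ ^ k := by
      rw [← zpow_add, hk]
      congr 1
      ring
    have e2 : (σ ^ (j u + 1)) (rep u) = σ u := by
      rw [add_comm, zpow_one_add, Equiv.Perm.mul_apply, hj]
    have e3 : (σ ^ (j u + 1)) (rep u) = (σ ^ (j u + 1)) ((σ ^ k) (rep u)) := by
      rw [e2, ← h1, e, Equiv.Perm.mul_apply]
    have h2 : (σ ^ k) (q (ω₀ (rep u))) = q (ω₀ (rep u)) := by
      rw [hω₀]
      exact ((σ ^ (j u + 1)).injective e3).symm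
    have h3 := hfix _ _ h2
    show δ ((δ ^ j u) (ω₀ (rep u))) = (δ ^ j (σ u)) (ω₀ (rep (σ u)))
    rw [hrepe, e', Equiv.Perm.mul_apply, h3, add_comm, zpow_one_add, Equiv.Perm.mul_apply]

end Section

section Central

variable {S : Type u} [Group S] {X : Type u} [MulAction (S × S) X] [Finite X] {A : Type w} [CommGroup A]

/-- The transfer at a central element acting diagonally on stabilizers. -/
theorem bisetTr_central (hf : RFree S X) (lam : S →* A) {z : S}
    (hfix : ∀ (j : ℤ) (ω : X) (t : S), ((z ^ j, t) : S × S) • ω = ω → t = z ^ j) :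
    bisetTr hf lam z = lam z ^ Nat.card (Uq S X) := by
  let δ : Equiv.Perm X := MulAction.toPerm ((z, z) : S × S)
  have hδ : ∀ (j : ℤ) (ω : X), (δ ^ j) ω = ((z ^ j, z ^ j) : S × S) • ω := by
    intro j ω
    have : δ = MulAction.toPermHom (S × S) X (z, z) := rfl
    rw [this, ← map_zpow]
    have e : ((z, z) : S × S) ^ j = (z ^ j, z ^ j) := by
      apply Prod.ext <;> simp
    rw [e]
    rfl
  have hc : ∀ ω : X, (uq (δ ω) : Uq S X) = lqPerm z (uq ω) := by
    intro ω
    show (uq (((z, z) : S × S) • ω) : Uq S X) = lq z (uq ω)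
    rw [lq_uq]
    refine uq_eq.2 ⟨z⁻¹, ?_⟩
    rw [smul_smul]
    congr 1
    apply Prod.ext <;> simp
  obtain ⟨r, hr1, hr2⟩ := exists_equi_sec (uq : X → Uq S X) uq_surj δ (lqPerm z) hc (by
    intro j ω h
    rw [← semiconj_zpow _ δ _ hc, hδ] at h
    obtain ⟨s, hs⟩ := uq_eq.1 h
    rw [smul_smul] at hs
    have e : ((1 : S), s) * ((z ^ j, z ^ j) : S × S) = (z ^ j, s * z ^ j) := by
      apply Prod.ext <;> simp
    rw [e] at hs
    have h2 := hfix j ω _ hs
    have h3 : s = 1 := mul_eq_right.1 h2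
    rw [h3, one_mul] at hs
    rw [hδ]
    exact hs)
  have hcc : ∀ u, cc hr1 z u = z := by
    intro u
    apply cc_eq (hf := hf)
    have h1 : ((z, z) : S × S) • r u = r (lq z u) := hr2 u
    rw [← h1, smul_smul]
    congr 1
    apply Prod.ext <;> simp
  rw [bisetTr_eq hf lam hr1]
  unfold trS
  simp only [hcc]
  rw [Finset.prod_const, Finset.card_univ, Nat.card_eq_fintype_card]

end Central

end Cfsg.Agent.H24
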