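import Mathlib
import Cfsg.Agent.Lib.H24.BisetI
import Cfsg.Agent.Lib.H24.FusNorm
import Cfsg.Agent.Lib.H25.FusGrun

set_option autoImplicit false
namespace Cfsg.Agent.H24

open Cfsg Cfsg.FusionSystem
open Cfsg.Agent.H25

universe u w

variable {Ω : Type u} [Group Ω] {S : Subgroup Ω} {F : FusionSystem S} {p : ℕ}
variable [Finite S] [Fact p.Prime] {hS : IsPGroup p S} {hF : F.IsSaturated p}
variable {X : Type u} [MulAction (↥S × ↥S) X] [Finite X] {A : Type w} [CommGroup A]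

/-- The transfer kills the focal subgroup. -/
theorem foc_le_ker (hX : StabIn (fgSys hS hF) X) (hmark : ∀ H, IsFG F H → mrk X H = mrk X (repF F p H))
    (hfree : RFree ↥S X) (lam : ↥S →* A) {z : Ω} (hz : z ∈ F.focalSubgroup) :
    ∃ h : z ∈ S, bisetTr hfree lam ⟨z, h⟩ = 1 := by
  have hle : F.focalSubgroup ≤ ((bisetTr hfree lam).ker).map S.subtype := by
    refine (Subgroup.closure_le _).2 ?_
    rintro y ⟨P, φ, x, hφ, rfl⟩
    have hm := mp_of_mem hφ
    have hxS : (x : Ω) ∈ S := hm.le x.2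
    have hφx : φ x ∈ S := (F.le_of_mem hφ).2 x
    have h1 := bisetTr_fus (hS := hS) (hF := hF) hX hmark hfree lam hm x.2
    have e : (⟨toFun φ x, hm.mem x.2⟩ : ↥S) = ⟨φ x, hφx⟩ := Subtype.ext (toFun_coe φ x)
    rw [e] at h1
    refine ⟨(⟨(x : Ω), hxS⟩ : ↥S)⁻¹ * ⟨φ x, hφx⟩, ?_, rfl⟩
    rw [SetLike.mem_coe, MonoidHom.mem_ker, map_mul, map_inv]
    rw [h1]
    simp
  obtain ⟨t, ht, rfl⟩ := hle hz
  exact ⟨t.2, ht⟩

end Cfsg.Agent.H24

namespace Cfsg.Agent.H24

open Cfsg Cfsg.FusionSystem Cfsg.Agent.H25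

theorem foc_inf_center {Ω : Type*} [Group Ω] {S : Subgroup Ω} [Finite S] (p : ℕ) [Fact p.Prime] (hS : IsPGroup p S) (F : Cfsg.FusionSystem S) (hF : F.IsSaturated p) : F.focalSubgroup ⊓ F.center = ⁅(S : Subgroup Ω), (S : Subgroup Ω)⁆ ⊓ F.center := by
  have hp : p.Prime := Fact.out
  have hZ : F.IsCentral F.center := isCentral_center
  have hfoc : ⁅(S : Subgroup Ω), (S : Subgroup Ω)⁆ ≤ F.focalSubgroup := by
    rw [Subgroup.commutator_le]
    intro a ha b hb
    refine Subgroup.subset_closure ⟨S, conjHom S b, ⟨a⁻¹, S.inv_mem ha⟩, F.conj_mem le_rfl hb, ?_⟩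
    simp [conjHom, commutatorElement_def, mul_assoc]
  apply le_antisymm
  · rintro z ⟨hz1, hz2⟩
    refine ⟨?_, hz2⟩
    obtain ⟨X, i1, i2, hX, hmark, hfree, hm⟩ := exists_char hS hF
    let lam : ↥S →* Abelianization ↥S := Abelianization.of
    obtain ⟨hzS, hT⟩ := foc_le_ker (hS := hS) (hF := hF) hX hmark hfree lam hz1
    have hc := bisetTr_central hfree lam (z := ⟨z, hzS⟩) (by
      intro j ω t hjt
      obtain ⟨P, f, hf, hgr⟩ := hX ω
      have h1 := (hgr _ _).1 (MulAction.mem_stabilizer_iff.2 hjt)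
      apply Subtype.ext
      rw [h1.2]
      have h2 : (((⟨z, hzS⟩ : ↥S) ^ j : ↥S) : Ω) = z ^ j := by simp
      rw [h2] at h1 ⊢
      exact central_fixed hZ hf h1.1 (Subgroup.zpow_mem _ hz2 j))
    rw [hT] at hc
    have h1 : IsPGroup p (Abelianization ↥S) := by
      exact IsPGroup.of_surjective hS lam (QuotientGroup.mk'_surjective _)
    have h2 : lam ⟨z, hzS⟩ = 1 := by
      obtain ⟨k, hk⟩ := h1 (lam ⟨z, hzS⟩)
      have hcop : Nat.Coprime (p ^ k) (Nat.card (Uq ↥S X)) :=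
        Nat.Coprime.pow_left _ ((Nat.Prime.coprime_iff_not_dvd hp).2 hm)
      exact orderOf_eq_one_iff.1 (Nat.eq_one_of_dvd_coprimes hcop (orderOf_dvd_of_pow_eq_one hk) (orderOf_dvd_of_pow_eq_one hc.symm))
    have h3 : (⟨z, hzS⟩ : ↥S) ∈ commutator ↥S := by
      have : (⟨z, hzS⟩ : ↥S) ∈ lam.ker := h2
      rwa [Abelianization.ker_of] at this
    have h4 := Subgroup.mem_map_of_mem S.subtype h3
    rw [commutator_def, Subgroup.map_commutator, ← MonoidHom.range_eq_map, Subgroup.range_subtype] at h4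
    exact h4
  · exact inf_le_inf_right _ hfoc

end Cfsg.Agent.H24
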