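import Mathlib
import Cfsg.Agent.Lib.H24.BisetFoc

/-!
Transfer of an involution in a biset: reduction to a count of fixed points.
-/

set_option autoImplicit false
set_option linter.style.haveILetI false

namespace Cfsg.Agent.H24

open Cfsg Cfsg.FusionSystem
open Cfsg.Agent.H25

universe u w

section Orbits

variable {H Z : Type*} [Group H] [MulAction H Z] [Finite Z]

theorem dvd_card_of_dvd_orbit (d : ℕ) (h : ∀ z : Z, d ∣ Nat.card (MulAction.orbit H z)) : d ∣ Nat.card Z := by
  classical
  haveI : Fintype (MulAction.orbitRel.Quotient H Z) := Fintype.ofFinite _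
  rw [Nat.card_congr (MulAction.selfEquivSigmaOrbits H Z), Nat.card_sigma]
  exact Finset.dvd_sum fun q _ => h _

theorem card_dvd_of_free (hfree : ∀ (z : Z) (g : H), g • z = z → g = 1) : Nat.card H ∣ Nat.card Z := by
  apply dvd_card_of_dvd_orbit (H := H)
  intro z
  have e : Nat.card H = Nat.card (MulAction.orbit H z) := by
    apply Nat.card_congr
    refine Equiv.ofBijective (fun g => ⟨g • z, MulAction.mem_orbit z g⟩) ⟨?_, ?_⟩
    · intro a b hab
      have h1 : a • z = b • z := congrArg Subtype.val hab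
      have h2 : (b⁻¹ * a) • z = z := by
        rw [mul_smul, h1, inv_smul_smul]
      exact (inv_mul_eq_one.1 (hfree z _ h2)).symm
    · rintro ⟨_, g, rfl⟩
      exact ⟨g, rfl⟩
  rw [e]

end Orbits

section General

open Classical in
/-- The elements fixed on the orbit space. -/
noncomputable def fxU {S : Type u} [Group S] {X : Type u} [MulAction (S × S) X] [Finite X] (i : S) :
    Finset (Uq S X) :=
  Finset.univ.filter (fun u => lq i u = u)

variable {S : Type u} [Group S] {X : Type u} [MulAction (S × S) X] [Finite X] {A : Type w} [CommGroup A]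

theorem mem_fxU {i : S} {u : Uq S X} : u ∈ fxU i ↔ lq i u = u := by
  classical
  unfold fxU
  simp

theorem cc_one {hf : RFree S X} {r : Uq S X → X} (hr : IsSec r) (u : Uq S X) : cc hr (1 : S) u = 1 := by
  apply cc_eq (hf := hf)
  rw [lq_one, inv_one]

/-- A product over the points moved by an involution cancels. -/
theorem prod_moved {B : Type*} [CommMonoid B] {i : S} (hi : i * i = 1) (f : Uq S X → B)
    (hfu : ∀ u, f (lq i u) * f u = 1) (u₀ : Finset (Uq S X)) (hu₀ : ∀ u, u ∈ u₀ ↔ lq i u ≠ u) :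
    ∏ u ∈ u₀, f u = 1 := by
  have hinv : ∀ u : Uq S X, lq i (lq i u) = u := by
    intro u
    rw [← lq_mul, hi, lq_one]
  refine Finset.prod_involution (fun u _ => lq i u) ?_ ?_ ?_ ?_
  · intro u _
    rw [mul_comm]
    exact hfu u
  · intro u hu _
    exact (hu₀ u).1 hu
  · intro u hu
    refine (hu₀ _).2 ?_
    rw [hinv]
    exact fun h => (hu₀ u).1 hu h.symm
  · intro u _
    exact hinv u

/-- The transfer of an involution is a product over the fixed orbits. -/
theorem trS_invol {hf : RFree S X} {r : Uq S X → X} (hr : IsSec r) (lam : S →* A) {i : S} (hi : i * i = 1) :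
    trS hr lam i = ∏ u ∈ fxU i, lam (cc hr i u) := by
  classical
  unfold trS
  rw [← Finset.prod_filter_mul_prod_filter_not Finset.univ (fun u => lq i u = u)]
  have h0 : ∏ u ∈ Finset.univ.filter (fun u => ¬ lq i u = u), lam (cc hr i u) = 1 := by
    apply prod_moved hi (fun u => lam (cc hr i u))
    · intro u
      show lam (cc hr i (lq i u)) * lam (cc hr i u) = 1
      rw [← map_mul, ← cc_mul (hf := hf), hi, cc_one (hf := hf), map_one]
    · intro u
      simp
  rw [h0, mul_one]
  unfold fxU
  apply Finset.prod_congr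
  · ext u
    simp
  · intros
    rfl

/-- The number of fixed orbits of an involution has the parity of the number of orbits. -/
theorem fxU_card_odd {i : S} (hi : i * i = 1) (hm : Odd (Nat.card (Uq S X))) : Odd (fxU (X := X) i).card := by
  classical
  have h1 : (Finset.univ.filter (fun u : Uq S X => lq i u = u)).card +
      (Finset.univ.filter (fun u : Uq S X => ¬ lq i u = u)).card = Finset.univ.card :=
    Finset.card_filter_add_card_filter_not _
  have h2 : ∏ _u ∈ Finset.univ.filter (fun u : Uq S X => ¬ lq i u = u), (-1 : ℤˣ) = 1 := by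
    apply prod_moved hi (fun _ => (-1 : ℤˣ))
    · intro _
      simp
    · intro u
      simp
  rw [Finset.prod_const] at h2
  have h3 : Even (Finset.univ.filter (fun u : Uq S X => ¬ lq i u = u)).card := by
    by_contra hc
    rw [Nat.not_even_iff_odd] at hc
    rw [hc.neg_one_pow] at h2
    exact absurd h2 (by decide)
  rw [Finset.card_univ, ← Nat.card_eq_fintype_card] at h1
  rw [← h1] at hm
  unfold fxU
  rcases Nat.even_or_odd (Finset.univ.filter (fun u : Uq S X => lq i u = u)).card with h4 | h4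
  · exact absurd (h4.add h3) (Nat.not_even_iff_odd.2 hm)
  · exact h4

/-- Uniqueness of the second coordinate in a stabilizer. -/
theorem snd_unique (hf : RFree S X) {i c c' : S} {ω : X} (h1 : ((i, c) : S × S) • ω = ω) (h2 : ((i, c') : S × S) • ω = ω) :
    c = c' := by
  have h3 : ((i, c) : S × S) • ω = ((i, c') : S × S) • ω := h1.trans h2.symm
  have e1 : ((i, c) : S × S) = ((1 : S), c) * (i, (1 : S)) := by ext <;> simp
  have e2 : ((i, c') : S × S) = ((1 : S), c') * (i, (1 : S)) := by ext <;> simp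
  rw [e1, e2, mul_smul, mul_smul] at h3
  exact RFree.eq (h := hf) h3

/-- Translating a fixed point. -/
theorem fix_translate {i c s : S} {ω : X} (h1 : ((i, c) : S × S) • ω = ω) :
    ((i, s * c * s⁻¹) : S × S) • (((1 : S), s) • ω) = ((1 : S), s) • ω := by
  rw [smul_smul]
  have e : ((i, s * c * s⁻¹) : S × S) * ((1 : S), s) = ((1 : S), s) * (i, c) := by
    ext <;> simp
  rw [e, mul_smul, h1]

/-- The fixed point given by the cocycle. -/
theorem cc_fix {r : Uq S X → X} (hr : IsSec r) {i : S} {u : Uq S X} (hu : u ∈ fxU i) :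
    ((i, cc hr i u) : S × S) • r u = r u := by
  have h1 := cc_spec hr i u
  rw [mem_fxU.1 hu] at h1
  have e : ((i, cc hr i u) : S × S) = ((1 : S), cc hr i u) * (i, (1 : S)) := by ext <;> simp
  rw [e, mul_smul, h1, smul_smul]
  have e2 : ((1 : S), cc hr i u) * ((1 : S), (cc hr i u)⁻¹) = 1 := by ext <;> simp
  rw [e2, one_smul]

/-- Points with a fixed second coordinate in a normal subset: a bijection with pairs. -/
theorem card_fixSet_in {hf : RFree S X} {r : Uq S X → X} (hr : IsSec r) {i : S} (D : Set S)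
    (hD : ∀ c s : S, c ∈ D → s * c * s⁻¹ ∈ D) :
    Nat.card {ω : X // ∃ c ∈ D, ((i, c) : S × S) • ω = ω} =
      Nat.card {u // u ∈ (fxU (X := X) i) ∧ cc hr i u ∈ D} * Nat.card S := by
  rw [← Nat.card_prod]
  symm
  apply Nat.card_congr
  have hmem : ∀ q : {u // u ∈ (fxU (X := X) i) ∧ cc hr i u ∈ D} × S,
      ∃ c ∈ D, ((i, c) : S × S) • (((1 : S), q.2) • r q.1.1) = ((1 : S), q.2) • r q.1.1 := fun q =>
    ⟨_, hD _ q.2 q.1.2.2, fix_translate (cc_fix hr q.1.2.1)⟩
  refine Equiv.ofBijective (fun q => ⟨((1 : S), q.2) • r q.1.1, hmem q⟩) ⟨?_, ?_⟩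
  · rintro ⟨⟨u, hu⟩, s⟩ ⟨⟨u', hu'⟩, s'⟩ h
    have h0 : ((1 : S), s) • r u = ((1 : S), s') • r u' := congrArg Subtype.val h
    have h1 : (uq (((1 : S), s) • r u : X) : Uq S X) = u := (uq_eq.2 ⟨s, rfl⟩).symm.trans (hr u)
    have h2 : (uq (((1 : S), s') • r u' : X) : Uq S X) = u' := (uq_eq.2 ⟨s', rfl⟩).symm.trans (hr u')
    have hue : u = u' := by rw [← h1, h0, h2]
    subst hue
    have hss : s = s' := RFree.eq (h := hf) h0
    subst hss
    rfl
  · rintro ⟨ω, c, hc, hω⟩
    have h1 : (uq ω : Uq S X) = uq (r (uq ω)) := (hr _).symm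
    obtain ⟨t, ht⟩ := uq_eq.1 h1
    have hfx : uq ω ∈ fxU (X := X) i := by
      rw [mem_fxU, lq_uq]
      refine (uq_eq.2 ⟨c⁻¹, ?_⟩).symm
      nth_rw 1 [← hω]
      rw [smul_smul]
      have e : ((1 : S), c⁻¹) * (i, c) = (i, (1 : S)) := by ext <;> simp
      rw [e]
    have h2 : ((i, t * c * t⁻¹) : S × S) • r (uq ω) = r (uq ω) := by
      rw [← ht]
      exact fix_translate hω
    have h3 := snd_unique hf (cc_fix hr hfx) h2
    refine ⟨(⟨uq ω, hfx, ?_⟩, t⁻¹), ?_⟩
    · rw [h3]
      exact hD _ _ hc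
    · apply Subtype.ext
      show ((1 : S), t⁻¹) • r (uq ω) = ω
      rw [← ht, smul_smul]
      have e : ((1 : S), t⁻¹) * ((1 : S), t) = 1 := by ext <;> simp
      rw [e, one_smul]

end General

end Cfsg.Agent.H24
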