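import Mathlib
import Cfsg.Agent.Lib.H24.BisetTh1

/-!
A Thompson-type transfer theorem for saturated fusion systems on `2`-groups.
-/

set_option autoImplicit false
set_option linter.style.haveILetI false

namespace Cfsg.Agent.H24

open Cfsg Cfsg.FusionSystem
open Cfsg.Agent.H25

universe u w

section Gen

variable {G : Type*} [Group G] {X : Type*} [MulAction G X]

theorem card_fix_eq_mrk (g : G) : Nat.card {ω : X // g • ω = ω} = mrk X (Subgroup.zpowers g) := by
  unfold mrk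
  apply Nat.card_congr
  apply Equiv.subtypeEquivRight
  intro ω
  constructor
  · intro h k hk
    have h1 : g ∈ MulAction.stabilizer G ω := h
    have h2 : Subgroup.zpowers g ≤ MulAction.stabilizer G ω := (Subgroup.zpowers_le).2 h1
    exact h2 hk
  · intro h
    exact h g (Subgroup.mem_zpowers g)

end Gen

variable {Ω : Type u} [Group Ω] {S : Subgroup Ω} {F : FusionSystem S}

theorem fstS_zpowers (a b : ↥S) : fstS (Subgroup.zpowers ((a, b) : ↥S × ↥S)) = Subgroup.zpowers (a : Ω) := by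
  ext x
  rw [mem_fstS]
  constructor
  · rintro ⟨a', b', ⟨n, hn⟩, rfl⟩
    have h1 : (a, b) ^ n = (a', b') := hn
    have h2 : a ^ n = a' := congrArg Prod.fst h1
    refine ⟨n, ?_⟩
    show (a : Ω) ^ n = a'
    rw [← h2]
    simp
  · rintro ⟨n, rfl⟩
    refine ⟨a ^ n, b ^ n, ⟨n, ?_⟩, ?_⟩
    · ext <;> simp
    · simp

theorem isFG_zpowers {i : Ω} (hi : i ∈ S) {f : Ω → Ω} (hf : Mp F (Subgroup.zpowers i) f) :
    IsFG F (Subgroup.zpowers (((⟨i, hi⟩ : ↥S), (⟨f i, hf.mem (Subgroup.mem_zpowers i)⟩ : ↥S)) : ↥S × ↥S)) := by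
  refine ⟨_, f, hf, ?_⟩
  intro a b
  constructor
  · rintro ⟨n, hn⟩
    have h1 : ((⟨i, hi⟩ : ↥S) ^ n, (⟨f i, hf.mem (Subgroup.mem_zpowers i)⟩ : ↥S) ^ n) = (a, b) := by
      rw [← hn]
      ext <;> simp
    have ha : (a : Ω) = i ^ n := by
      have h3 : (⟨i, hi⟩ : ↥S) ^ n = a := congrArg Prod.fst h1
      rw [← h3]
      simp
    have hb : (b : Ω) = f i ^ n := by
      have h3 : (⟨f i, hf.mem (Subgroup.mem_zpowers i)⟩ : ↥S) ^ n = b := congrArg Prod.snd h1
      rw [← h3]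
      simp
    refine ⟨⟨n, ha.symm⟩, ?_⟩
    rw [ha, hb, hf.map_zpow (Subgroup.mem_zpowers i)]
  · rintro ⟨⟨n, hn⟩, hb⟩
    have hn' : i ^ n = a := hn
    refine ⟨n, ?_⟩
    have e1 : (⟨i, hi⟩ : ↥S) ^ n = a := Subtype.ext (by simpa using hn')
    have e2 : (⟨f i, hf.mem (Subgroup.mem_zpowers i)⟩ : ↥S) ^ n = b := by
      apply Subtype.ext
      rw [hb, ← hn', hf.map_zpow (Subgroup.mem_zpowers i)]
      simp
    show ((⟨i, hi⟩ : ↥S), (⟨f i, hf.mem (Subgroup.mem_zpowers i)⟩ : ↥S)) ^ n = (a, b)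
    ext <;> simp [← e1, ← e2]

theorem iso_zpowers {i : Ω} {f : Ω → Ω} (hf : Mp F (Subgroup.zpowers i) f) :
    Iso F (Subgroup.zpowers i) (Subgroup.zpowers (f i)) f := by
  refine ⟨hf, ?_, ?_⟩
  · rintro x ⟨n, rfl⟩
    show f (i ^ n) ∈ _
    rw [hf.map_zpow (Subgroup.mem_zpowers i)]
    exact Subgroup.zpow_mem _ (Subgroup.mem_zpowers _) n
  · rintro y ⟨n, rfl⟩
    refine ⟨i ^ n, Subgroup.zpow_mem _ (Subgroup.mem_zpowers _) n, ?_⟩
    exact hf.map_zpow (Subgroup.mem_zpowers i) n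

/-- For an involution, the normalizer of the generated group is the centralizer. -/
theorem card_cent_eq {c : ↥S} (hc : c * c = 1) (hc1 : c ≠ 1) :
    Nat.card (Subgroup.centralizer {c}) = Nat.card (normalizerIn S (Subgroup.zpowers (c : Ω))) := by
  have hc' : (c : Ω) * c = 1 := by
    have := congrArg Subtype.val hc
    simpa using this
  have hc1' : (c : Ω) ≠ 1 := fun h => hc1 (Subtype.ext h)
  have hzp : ∀ n : ℤ, (c : Ω) ^ n = 1 ∨ (c : Ω) ^ n = c := by
    intro n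
    rcases Int.even_or_odd' n with ⟨k, rfl | rfl⟩
    · left
      rw [zpow_mul, zpow_two, hc', one_zpow]
    · right
      rw [zpow_add, zpow_mul, zpow_two, hc', one_zpow, one_mul, zpow_one]
  have hmem : ∀ s : ↥S, s ∈ Subgroup.centralizer {c} ↔ (s : Ω) ∈ normalizerIn S (Subgroup.zpowers (c : Ω)) := by
    intro s
    rw [Subgroup.mem_centralizer_singleton_iff]
    constructor
    · intro h
      have h' : (s : Ω) * c = c * s := congrArg Subtype.val h
      have hconj : (s : Ω) * c * (s : Ω)⁻¹ = c := by rw [h']; group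
      have hconj' : (s : Ω)⁻¹ * c * (s : Ω) = c := by
        calc (s : Ω)⁻¹ * c * (s : Ω) = (s : Ω)⁻¹ * ((s : Ω) * c * (s : Ω)⁻¹) * (s : Ω) := by rw [hconj]
          _ = c := by group
      refine ⟨s.2, mem_normalizer_of_conj ?_ ?_⟩
      · rintro x ⟨n, rfl⟩
        refine ⟨n, ?_⟩
        show (c : Ω) ^ n = (s : Ω) * (c : Ω) ^ n * (s : Ω)⁻¹
        rw [← conj_zpow, hconj]
      · rintro x ⟨n, rfl⟩
        refine ⟨n, ?_⟩
        show (c : Ω) ^ n = (s : Ω)⁻¹ * (c : Ω) ^ n * (s : Ω)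
        have := conj_zpow (a := (s : Ω)⁻¹) (b := (c : Ω)) (i := n)
        rw [inv_inv] at this
        rw [← this, hconj']
    · rintro ⟨-, hn⟩
      have h1 : (s : Ω) * c * (s : Ω)⁻¹ ∈ Subgroup.zpowers (c : Ω) :=
        conj_mem_of_normalizer hn (Subgroup.mem_zpowers _)
      obtain ⟨n, hn'⟩ := h1
      have hn'' : (c : Ω) ^ n = (s : Ω) * c * (s : Ω)⁻¹ := hn'
      have h2 : (s : Ω) * c * (s : Ω)⁻¹ = c := by
        rcases hzp n with h3 | h3
        · rw [h3] at hn''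
          exfalso
          apply hc1'
          have : (s : Ω)⁻¹ * ((s : Ω) * c * (s : Ω)⁻¹) * (s : Ω) = 1 := by rw [← hn'']; group
          rw [← this]
          group
        · rw [← hn'', h3]
      apply Subtype.ext
      show (s : Ω) * c = c * s
      rw [mul_inv_eq_iff_eq_mul] at h2
      exact h2
  apply Nat.card_congr
  refine ⟨fun s => ⟨s.1, (hmem s.1).1 s.2⟩, fun s => ⟨⟨s.1, s.2.1⟩, (hmem _).2 s.2⟩, ?_, ?_⟩
  · intro s
    rfl
  · intro s
    rfl

section Main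

variable [Finite S] 
variable {X : Type u} [MulAction (↥S × ↥S) X] [Finite X]

/-- The main count. -/
theorem even_count (hS : IsPGroup 2 ↥S) (hF : F.IsSaturated 2) (T' : Subgroup ↥S) [hTn : T'.Normal]
    {i : Ω} (hi : i ∈ S) (hi2 : (⟨i, hi⟩ : ↥S) * ⟨i, hi⟩ = 1) (hi1 : (⟨i, hi⟩ : ↥S) ≠ 1)
    (h : ∀ c : ↥S, F.IsConjElt i c → F.IsFullyNormalized (Subgroup.zpowers (c : Ω)) → c ∉ T')
    (hX : StabIn (fgSys hS hF) X) (hmark : ∀ H, IsFG F H → mrk X H = mrk X (repF F 2 H))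
    (hfree : RFree ↥S X) :
    2 * Nat.card ↥S ∣ Nat.card {ω : X // ∃ c ∈ (T' : Set ↥S), (((⟨i, hi⟩ : ↥S), c) : ↥S × ↥S) • ω = ω} := by
  classical
  have hp : Nat.Prime 2 := Nat.prime_two
  set ι : ↥S := ⟨i, hi⟩ with hι
  set M₀ := mrk X (diagS (pick F 2 (Subgroup.zpowers i)) : Subgroup (↥S × ↥S)) with hM₀
  -- marks on graphs
  have hM : ∀ c : ↥S, IsFG F (Subgroup.zpowers ((ι, c) : ↥S × ↥S)) →
      Nat.card {ω : X // ((ι, c) : ↥S × ↥S) • ω = ω} = M₀ := by
    intro c hc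
    rw [card_fix_eq_mrk, hmark _ hc, hM₀]
    unfold repF
    rw [fstS_zpowers]
  -- the far conjugate
  have hle : Subgroup.zpowers i ≤ S := (Subgroup.zpowers_le).2 hi
  obtain ⟨Q, f, hQ, hf⟩ := exists_far hF hle
  have hjm : f i ∈ S := hf.mp.mem (Subgroup.mem_zpowers i)
  set j : ↥S := ⟨f i, hjm⟩ with hj
  have hQe : Q = Subgroup.zpowers (j : Ω) := by
    ext y
    constructor
    · intro hy
      obtain ⟨x, hx, rfl⟩ := hf.surj y hy
      exact (iso_zpowers hf.mp).maps x hx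
    · intro hy
      obtain ⟨x, hx, rfl⟩ := (iso_zpowers hf.mp).surj y hy
      exact hf.maps x hx
  have hQfn : F.IsFullyNormalized Q := far_fullyNormalized hS hQ
  have hi2' : i * i = 1 := by
    have := congrArg Subtype.val hi2
    simpa using this
  have hi1' : i ≠ 1 := fun e => hi1 (Subtype.ext e)
  have hprops : ∀ (c : ↥S) (g : Ω → Ω), Mp F (Subgroup.zpowers i) g → g i = c →
      c * c = 1 ∧ c ≠ 1 ∧ F.IsConjElt i c ∧ F.IsConj (Subgroup.zpowers (c : Ω)) Q := by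
    intro c g hg hgc
    refine ⟨?_, ?_, ?_, ?_⟩
    · apply Subtype.ext
      show (c : Ω) * c = 1
      rw [← hgc, ← hg.map_mul (Subgroup.mem_zpowers i) (Subgroup.mem_zpowers i), hi2', hg.map_one]
    · intro hc1
      apply hi1'
      apply hg.inj (Subgroup.mem_zpowers i) (Subgroup.one_mem _)
      rw [hgc, hg.map_one, hc1]
      rfl
    · obtain ⟨φ, hφ, hv⟩ := hg
      exact ⟨φ, hφ, by rw [hv ⟨i, Subgroup.mem_zpowers i⟩]; exact hgc⟩
    · have h1 := iso_zpowers hg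
      rw [hgc] at h1
      obtain ⟨g', hg', -, -⟩ := h1.inv
      exact H25.isConj_iff.2 ⟨_, hg'.comp hf⟩
  obtain ⟨hjj, hj1, -, -⟩ := hprops j f hf.mp rfl
  -- the set of second coordinates
  let D : Set ↥S := {c | c ∈ T' ∧ ∃ ω : X, ((ι, c) : ↥S × ↥S) • ω = ω}
  have hDfam : ∀ c ∈ D, IsFG F (Subgroup.zpowers ((ι, c) : ↥S × ↥S)) := by
    rintro c ⟨-, ω, hω⟩
    exact isFG_le (hX ω) ((Subgroup.zpowers_le).2 hω)
  have hDg : ∀ c ∈ D, ∃ g : Ω → Ω, Mp F (Subgroup.zpowers i) g ∧ g i = c := by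
    rintro c ⟨-, ω, hω⟩
    obtain ⟨P, g, hg, hgr⟩ := hX ω
    have h1 := (hgr ι c).1 hω
    exact ⟨g, hg.restrict ((Subgroup.zpowers_le).2 h1.1), h1.2.symm⟩
  have hstrict : ∀ c ∈ D, Nat.card (Subgroup.centralizer {c}) < Nat.card (Subgroup.centralizer {j}) := by
    intro c hc
    obtain ⟨g, hg, hgc⟩ := hDg c hc
    obtain ⟨hcc, hc1, hce, hcq⟩ := hprops c g hg hgc
    rw [card_cent_eq hcc hc1, card_cent_eq hjj hj1, ← hQe]
    refine lt_of_le_of_ne (hQfn.2 _ (isConj_symm hcq)) ?_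
    intro he
    refine h c hce ⟨?_, fun R hR => ?_⟩ hc.1
    · exact (Subgroup.zpowers_le).2 c.2
    · rw [he]
      exact hQfn.2 R (isConj_trans (isConj_symm hcq) hR)
  -- orders
  obtain ⟨n, hn⟩ := IsPGroup.iff_card.1 hS
  have hjc : Nat.card (Subgroup.centralizer {j}) ∣ 2 ^ n := by
    rw [← hn]
    exact Subgroup.card_subgroup_dvd_card _
  obtain ⟨e, hen, hee⟩ := (Nat.dvd_prime_pow hp).1 hjc
  -- the orbits on `D`
  have hDconj : ∀ (s c : ↥S), c ∈ D → s * c * s⁻¹ ∈ D := by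
    rintro s c ⟨h1, ω, hω⟩
    exact ⟨hTn.conj_mem c h1 s, _, fix_translate hω⟩
  letI actD : MulAction ↥S ↥D :=
    { smul := fun s c => ⟨s * c.1 * s⁻¹, hDconj s c.1 c.2⟩
      one_smul := fun c => by
        apply Subtype.ext
        show (1 : ↥S) * c.1 * (1 : ↥S)⁻¹ = c.1
        simp
      mul_smul := fun a b c => by
        apply Subtype.ext
        show (a * b) * c.1 * (a * b)⁻¹ = a * (b * c.1 * b⁻¹) * a⁻¹
        group }
  have hstab : ∀ c : ↥D, Nat.card (MulAction.stabilizer ↥S c) = Nat.card (Subgroup.centralizer {c.1}) := by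
    intro c
    have : MulAction.stabilizer ↥S c = Subgroup.centralizer {c.1} := by
      ext s
      rw [MulAction.mem_stabilizer_iff, Subgroup.mem_centralizer_singleton_iff]
      constructor
      · intro h1
        have h2 : s * c.1 * s⁻¹ = c.1 := congrArg Subtype.val h1
        exact mul_inv_eq_iff_eq_mul.1 h2
      · intro h1
        apply Subtype.ext
        show s * c.1 * s⁻¹ = c.1
        exact mul_inv_eq_iff_eq_mul.2 h1
    rw [this]
  have horb : ∀ c : ↥D, 2 ^ (n + 1 - e) ∣ Nat.card (MulAction.orbit ↥S c) := by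
    intro c
    have h1 : Nat.card (MulAction.orbit ↥S c) = (MulAction.stabilizer ↥S c).index := by
      rw [MulAction.index_stabilizer, Nat.card_coe_set_eq]
    rw [h1]
    have h2 := Subgroup.card_mul_index (MulAction.stabilizer ↥S c)
    rw [hn] at h2
    have h3 : Nat.card (MulAction.stabilizer ↥S c) ∣ 2 ^ n := ⟨_, h2.symm⟩
    obtain ⟨k, hk, hke⟩ := (Nat.dvd_prime_pow hp).1 h3
    have h4 : Nat.card (MulAction.stabilizer ↥S c) < 2 ^ e := by
      rw [hstab c, ← hee]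
      exact hstrict c.1 c.2
    rw [hke] at h4 h2
    have hke2 : k < e := (Nat.pow_lt_pow_iff_right (by norm_num)).1 h4
    have h5 : (MulAction.stabilizer ↥S c).index = 2 ^ (n - k) := by
      have e5 : 2 ^ n = 2 ^ k * 2 ^ (n - k) := by
        rw [← pow_add]
        congr 1
        omega
      rw [e5] at h2
      exact Nat.eq_of_mul_eq_mul_left (pow_pos (by norm_num) k) h2
    rw [h5]
    exact pow_dvd_pow 2 (by omega)
  have hDcard : 2 ^ (n + 1 - e) ∣ Nat.card ↥D := dvd_card_of_dvd_orbit (H := ↥S) _ horb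
  -- the fixed points of `j`
  have hM₀j : Nat.card {ω : X // ((ι, j) : ↥S × ↥S) • ω = ω} = M₀ := hM j (isFG_zpowers hi hf.mp)
  have hM₀d : 2 ^ e ∣ M₀ := by
    rw [← hM₀j, ← hee]
    letI actZ : MulAction (Subgroup.centralizer {j}) {ω : X // ((ι, j) : ↥S × ↥S) • ω = ω} :=
      { smul := fun s ω => ⟨((1 : ↥S), (s : ↥S)) • ω.1, by
          have h1 := fix_translate (s := (s : ↥S)) ω.2
          have h2 : (s : ↥S) * j * (s : ↥S)⁻¹ = j :=
            mul_inv_eq_iff_eq_mul.2 (Subgroup.mem_centralizer_singleton_iff.1 s.2)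
          rwa [h2] at h1⟩
        one_smul := fun ω => by
          apply Subtype.ext
          exact one_smul (↥S × ↥S) ω.1
        mul_smul := fun a b ω => by
          apply Subtype.ext
          show ((1 : ↥S), ((a * b : Subgroup.centralizer {j}) : ↥S)) • ω.1 = ((1 : ↥S), (a : ↥S)) • ((1 : ↥S), (b : ↥S)) • ω.1
          rw [smul_smul]
          congr 1
          ext <;> simp }
    apply card_dvd_of_free
    intro ω s hs
    have h1 : ((1 : ↥S), (s : ↥S)) • ω.1 = ω.1 := congrArg Subtype.val hs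
    exact Subtype.ext (hfree _ _ h1)
  -- the sum
  have hY : Nat.card {ω : X // ∃ c ∈ (T' : Set ↥S), ((ι, c) : ↥S × ↥S) • ω = ω} = Nat.card ↥D * M₀ := by
    haveI : Fintype ↥D := Fintype.ofFinite _
    let π : {ω : X // ∃ c ∈ (T' : Set ↥S), ((ι, c) : ↥S × ↥S) • ω = ω} → ↥D :=
      fun ω => ⟨ω.2.choose, ω.2.choose_spec.1, ω.1, ω.2.choose_spec.2⟩
    have hfib : ∀ c : ↥D, Nat.card {ω // π ω = c} = M₀ := by
      intro c
      rw [← hM c.1 (hDfam c.1 c.2)]
      apply Nat.card_congr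
      refine ⟨fun ω => ⟨ω.1.1, ?_⟩, fun ω => ⟨⟨ω.1, c.1, c.2.1, ω.2⟩, ?_⟩, ?_, ?_⟩
      · have h1 : ω.1.2.choose = c.1 := congrArg Subtype.val ω.2
        have h2 := ω.1.2.choose_spec.2
        rwa [h1] at h2
      · apply Subtype.ext
        exact snd_unique hfree (⟨ω.1, c.1, c.2.1, ω.2⟩ : {ω : X // ∃ c ∈ (T' : Set ↥S), ((ι, c) : ↥S × ↥S) • ω = ω}).2.choose_spec.2 ω.2
      · intro ω
        rfl
      · intro ω
        rfl
    rw [Nat.card_congr (Equiv.sigmaFiberEquiv π).symm, Nat.card_sigma]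
    simp only [hfib, Finset.sum_const, Finset.card_univ, smul_eq_mul, Nat.card_eq_fintype_card]
  rw [hY, hn]
  have e1 : 2 * 2 ^ n = 2 ^ (n + 1 - e) * 2 ^ e := by
    rw [← pow_add, ← pow_succ']
    congr 1
    omega
  rw [e1]
  exact mul_dvd_mul hDcard hM₀d

end Main

theorem hyp_le_foc (F : FusionSystem S) (p : ℕ) : F.hyperfocalSubgroup p ≤ F.focalSubgroup := by
  refine (Subgroup.closure_le _).2 ?_
  rintro y ⟨P, α, x, hP, -, rfl⟩
  refine Subgroup.subset_closure ⟨P, P.subtype.comp (α : MulAut P).toMonoidHom, x, ?_, rfl⟩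
  exact mem_hom_iff.2 (Mp.of_mem_autGroup hP α.2)

/-- The Thompson-type transfer theorem. -/
theorem thompson_fus {Ω : Type*} [Group Ω] [Finite Ω] {S : Subgroup Ω}
    (hS : IsPGroup 2 ↥S) (F : Cfsg.FusionSystem S) (hF : F.IsSaturated 2)
    (T : Subgroup Ω) (hT : T.relIndex S = 2)
    (i : Ω) (hi : i ∈ S) (hi2 : orderOf i = 2)
    (h : ∀ j : Ω, F.IsConjElt i j → F.IsFullyNormalized (Subgroup.zpowers j) → j ∉ T) :
    i ∉ F.hyperfocalSubgroup 2 := by
  classical
  haveI : Fact (Nat.Prime 2) := ⟨Nat.prime_two⟩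
  set T' : Subgroup ↥S := T.subgroupOf S with hT'
  have hidx : T'.index = 2 := hT
  haveI hN : T'.Normal := Subgroup.normal_of_index_eq_two hidx
  let lam : ↥S →* ℤˣ := MonoidHom.mk' (fun s => if s ∈ T' then 1 else -1) (by
    intro a b
    have h1 := Subgroup.mul_mem_iff_of_index_two hidx (a := a) (b := b)
    by_cases ha : a ∈ T' <;> by_cases hb : b ∈ T' <;> simp [ha, hb, h1])
  have hlam : ∀ s, lam s = if s ∈ T' then 1 else -1 := fun _ => rfl
  obtain ⟨X, i1, i2, hX, hmark, hfree, hm⟩ := exists_char hS hF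
  obtain ⟨r, hr⟩ := exists_sec (S := ↥S) (X := X)
  set ι : ↥S := ⟨i, hi⟩ with hι
  have hii : i * i = 1 := by
    have := pow_orderOf_eq_one i
    rw [hi2, pow_two] at this
    exact this
  have hι2 : ι * ι = 1 := Subtype.ext hii
  have hι1 : ι ≠ 1 := by
    intro e
    have h1 : i = 1 := congrArg Subtype.val e
    rw [h1, orderOf_one] at hi2
    exact absurd hi2 (by norm_num)
  intro hmem
  obtain ⟨hiS, hT1⟩ := foc_le_ker (hS := hS) (hF := hF) hX hmark hfree lam (hyp_le_foc F 2 hmem)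
  have h3 : bisetTr hfree lam ι = 1 := hT1
  rw [bisetTr_eq hfree lam hr, trS_invol (hf := hfree) hr lam hι2] at h3
  simp only [hlam] at h3
  rw [Finset.prod_ite] at h3
  simp only [Finset.prod_const_one, one_mul, Finset.prod_const] at h3
  have heven := even_count hS hF T' hi hι2 hι1 (fun c h1 h2 hc => h c h1 h2 hc) hX hmark hfree
  rw [card_fixSet_in (hf := hfree) hr (T' : Set ↥S) (fun c s hc => hN.conj_mem c hc s)] at heven
  have hS0 : 0 < Nat.card ↥S := Nat.card_pos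
  have h4 : 2 ∣ Nat.card {u // u ∈ (fxU (X := X) ι) ∧ cc hr ι u ∈ (T' : Set ↥S)} := by
    exact Nat.dvd_of_mul_dvd_mul_right hS0 heven
  have h5 : Nat.card {u // u ∈ (fxU (X := X) ι) ∧ cc hr ι u ∈ (T' : Set ↥S)} =
      ((fxU (X := X) ι).filter (fun u => cc hr ι u ∈ T')).card := by
    have e : {u // u ∈ (fxU (X := X) ι) ∧ cc hr ι u ∈ (T' : Set ↥S)} ≃
        ↥((fxU (X := X) ι).filter (fun u => cc hr ι u ∈ T')) :=
      Equiv.subtypeEquivRight (fun u => by simp [Finset.mem_filter])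
    rw [Nat.card_congr e, Nat.card_eq_fintype_card, Fintype.card_coe]
  rw [h5] at h4
  have hodd := fxU_card_odd (X := X) hι2 (Nat.not_even_iff_odd.1 (fun he => hm he.two_dvd))
  have h7 := Finset.card_filter_add_card_filter_not (s := fxU (X := X) ι) (fun u => cc hr ι u ∈ T')
  have h8 : Odd ((fxU (X := X) ι).filter (fun u => ¬ cc hr ι u ∈ T')).card := by
    rw [← h7] at hodd
    rcases Nat.even_or_odd ((fxU (X := X) ι).filter (fun u => ¬ cc hr ι u ∈ T')).card with h9 | h9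
    · exact absurd ((even_iff_two_dvd.2 h4).add h9) (Nat.not_even_iff_odd.2 hodd)
    · exact h9
  rw [h8.neg_one_pow] at h3
  exact absurd h3 (by decide)

end Cfsg.Agent.H24
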