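import Mathlib
import Cfsg.Agent.Lib.H24.CQ3b
import Cfsg.Agent.Lib.H08.CQ.Sect

/-! Quotients of `p`-stable groups and control of strong fusion, for all odd primes `p`. -/

set_option autoImplicit false
set_option linter.unusedSectionVars false
set_option linter.unusedVariables false

namespace Cfsg.Agent.H24.CQ3

open Cfsg Cfsg.Agent Cfsg.Agent.H09 Cfsg.Agent.H08.CQ Cfsg.Agent.H08.CQ.Sec
open scoped commutatorElement

universe u

section CQ

variable {G : Type u} [Group G] [Finite G] {p : ℕ} [Fact p.Prime]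

theorem cq_main_odd (hp2 : p ≠ 2) (hst : IsNormalizerPStable p G) {Z Q : Subgroup G} (hZn : Z.Normal)
    (hZp : IsPGroup p Z) (hZc : ∀ g : G, (orderOf g).Coprime p → g ∈ Subgroup.centralizer (Z : Set G))
    (hQ : IsPGroup p Q) (hZQ : Z ≤ Q) {x y : G} (hxQ : x ∈ Subgroup.normalizer (Q : Set G))
    (hyQ : y ∈ Subgroup.normalizer (Q : Set G)) (hqx : ∀ q ∈ Q, ⁅⁅q, x⁆, x⁆ ∈ Z)
    (hqy : ∀ q ∈ Q, ⁅⁅q, y⁆, y⁆ ∈ Z) {k : G} (hk : k ∈ Subgroup.closure ({x, y} : Set G))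
    (hk2 : (orderOf k).Coprime p) : ∀ q ∈ Q, ⁅q, k⁆ ∈ Z := by
  classical
  have hp : p.Prime := Fact.out
  by_contra hcon
  push Not at hcon
  obtain ⟨q₀, hq₀, hq₀Z⟩ := hcon
  set H : Subgroup G := Subgroup.closure ({x, y} : Set G) with hH
  have hxH : x ∈ H := Subgroup.subset_closure (Or.inl rfl)
  have hyH : y ∈ H := Subgroup.subset_closure (Or.inr rfl)
  have hinv : ∀ B : Subgroup G, x ∈ Subgroup.normalizer (B : Set G) → y ∈ Subgroup.normalizer (B : Set G) →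
      H ≤ Subgroup.normalizer (B : Set G) := by
    intro B h1 h2
    rw [hH, Subgroup.closure_le]
    rintro _ (rfl | rfl)
    · exact h1
    · exact h2
  have hconj : ∀ {B : Subgroup G}, x ∈ Subgroup.normalizer (B : Set G) → y ∈ Subgroup.normalizer (B : Set G) →
      ∀ g ∈ H, ∀ a ∈ B, g * a * g⁻¹ ∈ B := by
    intro B h1 h2 g hg a ha
    exact (Subgroup.mem_normalizer_iff.mp (hinv B h1 h2 hg) a).mp ha
  -- a minimal invariant subgroup
  let F : Set (Subgroup G) := {B | Z ≤ B ∧ B ≤ Q ∧ x ∈ Subgroup.normalizer (B : Set G) ∧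
    y ∈ Subgroup.normalizer (B : Set G) ∧ ∃ k' ∈ H, (orderOf k').Coprime p ∧ ∃ q ∈ B, ⁅q, k'⁆ ∉ Z}
  have hF : F.Nonempty := ⟨Q, hZQ, le_refl _, hxQ, hyQ, k, hk, hk2, q₀, hq₀, hq₀Z⟩
  obtain ⟨Q₀, hQ₀min⟩ := F.toFinite.exists_minimal hF
  obtain ⟨hZQ₀, hQ₀Q, hxQ₀, hyQ₀, k₀, hk₀, hk₀c, q₁, hq₁, hq₁Z⟩ := hQ₀min.prop
  have hQ₀p : IsPGroup p Q₀ := hQ.to_le hQ₀Q
  have hZnorm : ∀ g : G, g ∈ Subgroup.normalizer (Z : Set G) := by
    intro g
    rw [Subgroup.normalizer_eq_top_iff.mpr hZn]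
    trivial
  have hZne : Z ≠ Q₀ := by
    rintro rfl
    apply hq₁Z
    have h1 := (Subgroup.mem_centralizer_iff.mp (hZc k₀ hk₀c)) q₁ hq₁
    have h2 : ⁅q₁, k₀⁆ = 1 := by
      rw [commutatorElement_def, h1]
      group
    rw [h2]
    exact Z.one_mem
  -- a maximal proper invariant subgroup
  let F₂ : Set (Subgroup G) := {B | Z ≤ B ∧ B ≤ Q₀ ∧ B ≠ Q₀ ∧ x ∈ Subgroup.normalizer (B : Set G) ∧
    y ∈ Subgroup.normalizer (B : Set G)}
  have hF₂ : F₂.Nonempty := ⟨Z, le_refl _, hZQ₀, hZne, hZnorm x, hZnorm y⟩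
  obtain ⟨Q₂, hQ₂max⟩ := F₂.toFinite.exists_maximal hF₂
  obtain ⟨hZQ₂, hQ₂Q₀, hQ₂ne, hxQ₂, hyQ₂⟩ := hQ₂max.prop
  have hmax : ∀ B : Subgroup G, Z ≤ B → B ≤ Q₀ → B ≠ Q₀ → x ∈ Subgroup.normalizer (B : Set G) →
      y ∈ Subgroup.normalizer (B : Set G) → Q₂ ≤ B → B = Q₂ := by
    intro B h1 h2 h3 h4 h5 h6
    exact le_antisymm (hQ₂max.le_of_ge ⟨h1, h2, h3, h4, h5⟩ h6) h6
  -- `Q₂` is normal in `Q₀`
  have hN₂ : Q₀ ≤ Subgroup.normalizer (Q₂ : Set G) := by
    by_contra hnle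
    set B := Q₀ ⊓ Subgroup.normalizer (Q₂ : Set G) with hB
    have hBne : B ≠ Q₀ := by
      intro h
      apply hnle
      rw [← h]
      exact inf_le_right
    have hQ₂B : Q₂ ≤ B := le_inf hQ₂Q₀ Subgroup.le_normalizer
    have hmemN : ∀ g : G, g ∈ Subgroup.normalizer (Q₀ : Set G) → g ∈ Subgroup.normalizer (Q₂ : Set G) →
        g ∈ Subgroup.normalizer (B : Set G) := by
      intro g h1 h2
      apply Cfsg.Agent.H13.mem_normalizer_of_map_conj_le
      rintro _ ⟨b, hb, rfl⟩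
      refine ⟨(Subgroup.mem_normalizer_iff.mp h1 b).mp hb.1, ?_⟩
      exact Subgroup.mul_mem _ (Subgroup.mul_mem _ h2 hb.2) (Subgroup.inv_mem _ h2)
    have hBeq := hmax B (hZQ₂.trans hQ₂B) inf_le_left hBne (hmemN x hxQ₀ hxQ₂) (hmemN y hyQ₀ hyQ₂) hQ₂B
    obtain ⟨u, huQ, huQ₂, huN⟩ := Cfsg.Agent.H14.exists_mem_normalizer_of_pgroup hQ₀p hQ₂Q₀ hQ₂ne
    apply huQ₂
    rw [← hBeq]
    exact ⟨huQ, huN⟩
  have hn : ∀ a ∈ Q₀, ∀ c ∈ Q₂, a * c * a⁻¹ ∈ Q₂ := fun a ha c hc =>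
    (Subgroup.mem_normalizer_iff.mp (hN₂ ha) c).mp hc
  -- the section is elementary abelian
  have hQ₂top : Q₂.subgroupOf Q₀ ≠ ⊤ := by
    intro h
    apply hQ₂ne
    rw [Subgroup.subgroupOf_eq_top] at h
    exact le_antisymm hQ₂Q₀ h
  have hQ₀p' : IsPGroup p Q₀ := hQ₀p
  obtain ⟨M, hM1, hM2, hM3, hM4⟩ := exists_index_p hQ₀p' (Q₂.subgroupOf Q₀) hQ₂top
  let Fr : Subgroup G := Q₂ ⊔ Subgroup.closure {w | ∃ a ∈ Q₀, ∃ b ∈ Q₀, w = a * b * a⁻¹ * b⁻¹} ⊔
    Subgroup.closure {w | ∃ a ∈ Q₀, w = a ^ p}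
  have hFrM : Fr ≤ M.map Q₀.subtype := by
    refine sup_le (sup_le ?_ ?_) ?_
    · intro c hc
      exact ⟨⟨c, hQ₂Q₀ hc⟩, hM1 (Subgroup.mem_subgroupOf.mpr hc), rfl⟩
    · rw [Subgroup.closure_le]
      rintro _ ⟨a, ha, b, hb, rfl⟩
      exact ⟨_, hM3 ⟨a, ha⟩ ⟨b, hb⟩, rfl⟩
    · rw [Subgroup.closure_le]
      rintro _ ⟨a, ha, rfl⟩
      exact ⟨_, hM4 ⟨a, ha⟩, rfl⟩
  have hFrQ₀ : Fr ≤ Q₀ := hFrM.trans (Subgroup.map_subtype_le _)
  have hFrne : Fr ≠ Q₀ := by
    intro h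
    apply hM2
    rw [eq_top_iff]
    rintro a -
    have h1 : (a : G) ∈ Fr := by rw [h]; exact a.2
    obtain ⟨b, hb, e⟩ := hFrM h1
    have : b = a := Subtype.ext e
    rwa [← this]
  have hFrN : ∀ g : G, g ∈ Subgroup.normalizer (Q₀ : Set G) → g ∈ Subgroup.normalizer (Q₂ : Set G) →
      g ∈ Subgroup.normalizer (Fr : Set G) := by
    intro g h1 h2
    apply Cfsg.Agent.H13.mem_normalizer_of_map_conj_le
    rw [Subgroup.map_le_iff_le_comap]
    refine sup_le (sup_le ?_ ?_) ?_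
    · intro c hc
      exact Subgroup.mem_sup_left (Subgroup.mem_sup_left ((Subgroup.mem_normalizer_iff.mp h2 c).mp hc))
    · rw [Subgroup.closure_le]
      rintro _ ⟨a, ha, b, hb, rfl⟩
      apply Subgroup.mem_sup_left
      apply Subgroup.mem_sup_right
      refine Subgroup.subset_closure ⟨g * a * g⁻¹, (Subgroup.mem_normalizer_iff.mp h1 a).mp ha,
        g * b * g⁻¹, (Subgroup.mem_normalizer_iff.mp h1 b).mp hb, ?_⟩
      change g * (a * b * a⁻¹ * b⁻¹) * g⁻¹ = _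
      group
    · rw [Subgroup.closure_le]
      rintro _ ⟨a, ha, rfl⟩
      apply Subgroup.mem_sup_right
      refine Subgroup.subset_closure ⟨g * a * g⁻¹, (Subgroup.mem_normalizer_iff.mp h1 a).mp ha, ?_⟩
      change g * a ^ p * g⁻¹ = _
      rw [conj_pow]
  have hQ₂Fr : Q₂ ≤ Fr := le_sup_left.trans le_sup_left
  have hFreq : Fr = Q₂ := hmax Fr (hZQ₂.trans hQ₂Fr) hFrQ₀ hFrne (hFrN x hxQ₀ hxQ₂) (hFrN y hyQ₀ hyQ₂) hQ₂Fr
  have hcomm : ∀ a ∈ Q₀, ∀ b ∈ Q₀, a * b * a⁻¹ * b⁻¹ ∈ Q₂ := by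
    intro a ha b hb
    rw [← hFreq]
    exact Subgroup.mem_sup_left (Subgroup.mem_sup_right (Subgroup.subset_closure ⟨a, ha, b, hb, rfl⟩))
  have hexp : ∀ a ∈ Q₀, a ^ p ∈ Q₂ := by
    intro a ha
    rw [← hFreq]
    exact Subgroup.mem_sup_right (Subgroup.subset_closure ⟨a, ha, rfl⟩)
  -- elements of order prime to `p` centralize `Q₂`
  have hpc : ∀ g ∈ H, (orderOf g).Coprime p → g ∈ Subgroup.centralizer (Q₂ : Set G) := by
    intro g hg hgc
    have h1 : ∀ q ∈ Q₂, ⁅q, g⁆ ∈ Z := by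
      by_contra hcon
      push Not at hcon
      obtain ⟨q, hq, hqZ⟩ := hcon
      have hQ₂F : Q₂ ∈ F := ⟨hZQ₂, hQ₂Q₀.trans hQ₀Q, hxQ₂, hyQ₂, g, hg, hgc, q, hq, hqZ⟩
      exact hQ₂ne (le_antisymm hQ₂Q₀ (hQ₀min.le_of_le hQ₂F hQ₂Q₀))
    rw [Subgroup.mem_centralizer_iff]
    intro q hq
    have h2 := centralizes_of_coprime hgc hZp
      (fun c hc => ((Subgroup.mem_centralizer_iff.mp (hZc g hgc)) c hc).symm) (Y₁ := Q₂)
      (fun a ha => by
        have h3 := Z.inv_mem (h1 a ha)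
        have e : g * a * g⁻¹ * a⁻¹ = ⁅a, g⁆⁻¹ := by
          rw [commutatorElement_def]
          group
        rw [e]
        exact h3) q hq
    exact h2.symm
  obtain ⟨W, _, _, ⟨S⟩⟩ := exists_sec (H := H) hQ₀p hQ₂Q₀ hn hcomm hexp (hconj hxQ₀ hyQ₀) (hconj hxQ₂ hyQ₂) hpc
  have hnt : Nontrivial W := by
    obtain ⟨a, ha, haQ⟩ : ∃ a ∈ Q₀, a ∉ Q₂ := by
      by_contra hcon
      push Not at hcon
      exact hQ₂ne (le_antisymm hQ₂Q₀ hcon)
    refine ⟨⟨S.π a, 0, ?_⟩⟩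
    intro h0
    exact haQ ((S.h0 a ha).mp h0)
  let x' : H := ⟨x, hxH⟩
  let y' : H := ⟨y, hyH⟩
  have hgen : Subgroup.closure ({x', y'} : Set H) = ⊤ := by
    have h1 := Subgroup.closure_closure_coe_preimage (k := ({x, y} : Set G))
    rw [← h1]
    congr 1
    ext g
    constructor
    · rintro (rfl | rfl)
      · exact Or.inl rfl
      · exact Or.inr rfl
    · rintro (h | h)
      · exact Or.inl (Subtype.ext h)
      · exact Or.inr (Subtype.ext h)
  have hquad : ∀ g : H, (∀ q ∈ Q, ⁅⁅q, (g : G)⁆, (g : G)⁆ ∈ Z) → (S.σ g - 1) * (S.σ g - 1) = 0 := by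
    intro g hg
    apply AddMonoidHom.ext
    intro w
    obtain ⟨a, ha, rfl⟩ := S.hsurj w
    have hgQ := S.hH g g.2 a ha
    set c := (g : G) * a * (g : G)⁻¹ * a⁻¹ with hc
    have hcQ : c ∈ Q₀ := Q₀.mul_mem hgQ (Q₀.inv_mem ha)
    have h1 : (S.σ g - 1) (S.π a) = S.π c := by
      rw [hc, S.hadd _ hgQ _ (Q₀.inv_mem ha), S.π_inv ha, ← S.hσ g a ha]
      change S.σ g (S.π a) - S.π a = _
      abel
    have hgQc := S.hH g g.2 c hcQ
    have h2 : (S.σ g - 1) (S.π c) = S.π ((g : G) * c * (g : G)⁻¹ * c⁻¹) := by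
      rw [S.hadd _ hgQc _ (Q₀.inv_mem hcQ), S.π_inv hcQ, ← S.hσ g c hcQ]
      change S.σ g (S.π c) - S.π c = _
      abel
    change (S.σ g - 1) ((S.σ g - 1) (S.π a)) = 0
    rw [h1, h2, S.h0 _ (Q₀.mul_mem hgQc (Q₀.inv_mem hcQ))]
    apply hZQ₂
    have h3 := hg a (hQ₀Q ha)
    have h4 : (⁅a, (g : G)⁆)⁻¹ * ⁅⁅a, (g : G)⁆, (g : G)⁆ * ⁅a, (g : G)⁆ = (g : G) * c * (g : G)⁻¹ * c⁻¹ := by
      rw [hc]
      simp only [commutatorElement_def]
      group
    rw [← h4]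
    have h5 := hZn.conj_mem _ h3 (⁅a, (g : G)⁆)⁻¹
    simpa using h5
  have hirr : ∀ W' : AddSubgroup W, (∀ w ∈ W', S.σ x' w ∈ W') → (∀ w ∈ W', S.σ y' w ∈ W') → W' = ⊥ ∨ W' = ⊤ := by
    intro W' h1 h2
    let B : Subgroup G :=
      { carrier := {a | a ∈ Q₀ ∧ S.π a ∈ W'}
        mul_mem' := by
          rintro a b ⟨ha, ha'⟩ ⟨hb, hb'⟩
          refine ⟨Q₀.mul_mem ha hb, ?_⟩
          rw [S.hadd a ha b hb]
          exact W'.add_mem ha' hb'
        one_mem' := by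
          refine ⟨Q₀.one_mem, ?_⟩
          rw [S.π_one]
          exact W'.zero_mem
        inv_mem' := by
          rintro a ⟨ha, ha'⟩
          refine ⟨Q₀.inv_mem ha, ?_⟩
          rw [S.π_inv ha]
          exact W'.neg_mem ha' }
    have hQ₂B : Q₂ ≤ B := by
      intro c hc
      refine ⟨hQ₂Q₀ hc, ?_⟩
      rw [(S.h0 c (hQ₂Q₀ hc)).mpr hc]
      exact W'.zero_mem
    have hBN : ∀ g : H, (∀ w ∈ W', S.σ g w ∈ W') → (g : G) ∈ Subgroup.normalizer (B : Set G) := by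
      intro g hg
      apply Cfsg.Agent.H13.mem_normalizer_of_map_conj_le
      rintro _ ⟨a, ⟨ha, ha'⟩, rfl⟩
      refine ⟨S.hH g g.2 a ha, ?_⟩
      change S.π ((g : G) * a * (g : G)⁻¹) ∈ W'
      rw [← S.hσ g a ha]
      exact hg _ ha'
    by_cases hBQ : B = Q₀
    · right
      rw [eq_top_iff]
      intro w _
      obtain ⟨a, ha, rfl⟩ := S.hsurj w
      rw [← hBQ] at ha
      exact ha.2
    · left
      have hBeq := hmax B (hZQ₂.trans hQ₂B) (fun a ha => ha.1) hBQ (hBN x' h1) (hBN y' h2) hQ₂B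
      rw [eq_bot_iff]
      intro w hw
      obtain ⟨a, ha, rfl⟩ := S.hsurj w
      have h3 : a ∈ B := ⟨ha, hw⟩
      rw [hBeq] at h3
      rw [AddSubgroup.mem_bot]
      exact (S.h0 a ha).mpr h3
  have hne : S.σ x' ≠ 1 ∨ S.σ y' ≠ 1 := by
    by_contra hcon
    push Not at hcon
    obtain ⟨h1, h2⟩ := hcon
    have hall : ∀ g : H, S.σ g = 1 := by
      intro g
      have hle : Subgroup.closure ({x', y'} : Set H) ≤ S.σ.ker := by
        rw [Subgroup.closure_le]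
        rintro _ (rfl | rfl)
        · exact h1
        · exact h2
      have hg : g ∈ Subgroup.closure ({x', y'} : Set H) := by rw [hgen]; trivial
      exact hle hg
    have h3 := S.centralizes ⟨k₀, hk₀⟩ hk₀c (hall _) q₁ hq₁
    apply hq₁Z
    have h4 : ⁅q₁, k₀⁆ = 1 := by
      rw [commutatorElement_def]
      have h5 : k₀ * q₁ = q₁ * k₀ := h3
      calc q₁ * k₀ * q₁⁻¹ * k₀⁻¹ = (k₀ * q₁) * q₁⁻¹ * k₀⁻¹ := by rw [h5]
        _ = 1 := by group
    rw [h4]
    exact Z.one_mem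
  obtain ⟨u, v, hα, hβ, hαβ⟩ := Cfsg.Agent.H14.quad_pair hp2 S.hW S.σ hgen (hquad x' hqx) (hquad y' hqy) hirr hne
  exact false_of_pair_odd S hp2 hst u v hα hβ hαβ

theorem stable_quot_odd (hp2 : p ≠ 2) (hst : IsNormalizerPStable p G) {O : Subgroup G} [O.Normal]
    (hOp : IsPGroup p O)
    (hOc : ∀ g : G, (orderOf g).Coprime p → g ∈ Subgroup.centralizer (O : Set G)) :
    IsNormalizerPStable p (G ⧸ O) := by
  classical
  have hp : p.Prime := Fact.out
  apply stable_of_centralizes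
  intro Pb hPb xb yb hxb hyb hqx hqy tb htb hco
  set π := QuotientGroup.mk' O with hπ
  have hπs : Function.Surjective π := QuotientGroup.mk'_surjective O
  have hπ1 : ∀ a : G, π a = 1 ↔ a ∈ O := fun a => QuotientGroup.eq_one_iff a
  obtain ⟨x, rfl⟩ := hπs xb
  obtain ⟨y, rfl⟩ := hπs yb
  set Q : Subgroup G := Pb.comap π with hQ
  have hker : IsPGroup p (π.ker) := by
    rw [hπ, QuotientGroup.ker_mk']
    exact hOp
  have hQp : IsPGroup p Q := IsPGroup.comap_of_ker_isPGroup hPb π hker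
  have hOQ : O ≤ Q := by
    intro a ha
    rw [hQ, Subgroup.mem_comap, (hπ1 a).mpr ha]
    exact Pb.one_mem
  have hxQ : x ∈ Subgroup.normalizer (Q : Set G) := H14.comap_mem_normalizer π hxb
  have hyQ : y ∈ Subgroup.normalizer (Q : Set G) := H14.comap_mem_normalizer π hyb
  have hqx' : ∀ q ∈ Q, ⁅⁅q, x⁆, x⁆ ∈ O := by
    intro q hq
    rw [← hπ1, map_commutatorElement, map_commutatorElement]
    exact hqx _ hq
  have hqy' : ∀ q ∈ Q, ⁅⁅q, y⁆, y⁆ ∈ O := by
    intro q hq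
    rw [← hπ1, map_commutatorElement, map_commutatorElement]
    exact hqy _ hq
  have hmap : tb ∈ (Subgroup.closure ({x, y} : Set G)).map π := by
    rw [MonoidHom.map_closure, Set.image_pair]
    exact htb
  obtain ⟨t₀, ht₀, rfl⟩ := hmap
  rcases Nat.eq_or_lt_of_le (Nat.one_le_iff_ne_zero.mpr (orderOf_pos (π t₀)).ne') with h1 | h1
  · have : π t₀ = 1 := orderOf_eq_one_iff.mp h1.symm
    rw [this]
    exact Subgroup.one_mem _
  obtain ⟨k, hk1, hk2⟩ := exists_coprime_part (p := p) π t₀ h1 (pow_orderOf_eq_one _) hco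
  have hk3 : t₀ ^ k ∈ Subgroup.closure ({x, y} : Set G) := pow_mem ht₀ _
  have h := cq_main_odd hp2 hst (inferInstance : O.Normal) hOp hOc hQp hOQ hxQ hyQ hqx' hqy' hk3 hk2
  rw [← hk1, Subgroup.mem_centralizer_iff]
  intro ub hub
  obtain ⟨u, rfl⟩ := hπs ub
  have h2 := h u hub
  rw [← hπ1, map_commutatorElement, commutatorElement_eq_one_iff_mul_comm] at h2
  exact h2

end CQ

section
variable {p : ℕ} [hp : Fact p.Prime] {𝓦 : Set (∀ (Q : Type u) [Group Q], Subgroup Q)}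

theorem sect_main_cl_odd (hp2 : p ≠ 2) (h𝓦 : ∀ W ∈ 𝓦, IsCharPFunctor.{u} p W)
    (hyp : ∀ (Y : Type u) [Group Y] [Finite Y], IsNormalizerPStable p Y →
        Subgroup.centralizer (pCore p Y : Set Y) ≤ pCore p Y →
        FamilyControlsStrongFusionIn p (indF 𝓦 Y) ⊤) :
    ∀ (n : ℕ) (X : Type u) [Group X] [Finite X], Nat.card X ≤ n → IsNormalizerPStable p X →
      FamilyControlsStrongFusionIn p (indF 𝓦 X) ⊤ := by
  intro n
  induction n with
  | zero =>
    intro X _ _ hn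
    have := Nat.card_pos (α := X)
    omega
  | succ n ih =>
    intro X _ _ hn hXs
    have ih' : ∀ (Y : Type u) [Group Y] [Finite Y], Nat.card Y < Nat.card X →
        IsNormalizerPStable p Y → FamilyControlsStrongFusionIn p (indF 𝓦 Y) ⊤ := by
      intro Y _ _ hc hi
      exact ih Y (by omega) hi
    obtain ⟨S⟩ : Nonempty (Sylow p X) := inferInstance
    apply familyControls_of_sctl S
    have hSp := S.isPGroup'
    by_cases hY : ∃ Y : Subgroup X, Y.Normal ∧ (Nat.card Y).Coprime p ∧ Y ≠ ⊥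
    · obtain ⟨Y, hYn, hYc, hYne⟩ := hY
      intro A g hA hgA
      exact sctl_of_quot h𝓦 S Y hYc (ih' (X ⧸ Y) (card_quot_lt Y hYne)
        (stable_quot_coprime hXs hYc)) hA hgA
    have hnop : ∀ Y : Subgroup X, Y.Normal → (Nat.card Y).Coprime p → Y = ⊥ := by
      intro Y h1 h2
      by_contra h3
      exact hY ⟨Y, h1, h2, h3⟩
    set O : Subgroup X := pCore p X with hOdef
    haveI hOn : O.Normal := H01.pCore_normal p
    have hOp : IsPGroup p O := H01.pCore_isPGroup p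
    have hOS : O ≤ (S : Subgroup X) := H01.pCore_le_sylow p S
    have hmax : ∀ V : Subgroup X, V.Normal → IsPGroup p V → V ≤ O := fun V h1 h2 =>
      H01.le_pCore h1 h2
    have hsub : ∀ K : Subgroup X, IsNormalizerPStable p K := fun K => S3836.result hXs K
    have hover : ∀ K : Subgroup X, (S : Subgroup X) ≤ K → K ≠ ⊤ → ∀ k ∈ K, ∀ B : Set X,
        B ⊆ (S : Subgroup X) → cjs k B ⊆ (S : Subgroup X) → SCtl 𝓦 (S : Subgroup X) B k := by
      intro K hSK hK k hk B hB hkB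
      exact sctl_of_sub h𝓦 S K hSK (ih' K (card_sub_lt K hK) (hsub K)) hk hB hkB
    by_cases hO : O = ⊥
    · -- no normal `p`-subgroups
      have hC := sctl_sys (𝓦 := 𝓦) (S : Subgroup X)
      refine engine_main S (placedFamily_fullyNormalized S) hC (indF 𝓦 X) (indF_conj h𝓦) ?_ ?_
      · intro W hW z hz B hB hzB
        exact ⟨z, Chain.single ⟨hB, hzB, W, hW, Subgroup.mem_inf.2 ⟨Subgroup.mem_top _, hz⟩⟩,
          fun a _ => rfl⟩
      · intro T hT hTne hh x hx A hA hxA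
        have hNT : Subgroup.normalizer ((T : Subgroup X) : Set X) ≠ ⊤ := by
          intro h
          apply hTne
          have hTn : T.Normal := Subgroup.normalizer_eq_top_iff.1 h
          have : T ≤ O := hmax T hTn (hSp.to_le hT.1)
          rw [hO] at this
          exact le_bot_iff.1 this
        have hK := ih' _ (card_sub_lt _ hNT) (hsub _)
        obtain ⟨c, hc, hag⟩ := chain_of_sub h𝓦 _ _ inf_le_right (isPGroup_inf_left S _) hT.2 hK hx hA hxA
        refine AgreeCtl.congr ?_ hag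
        clear hag
        induction hc with
        | nil => exact ⟨1, Chain.nil, fun a _ => rfl⟩
        | @snoc c y _ hy ih =>
          obtain ⟨h1, h2, W, hW, hyW⟩ := hy
          exact hC.comp ih (hh W hW y hyW _ h1 h2)
    -- `O ≠ 1`
    by_cases hP : (S : Subgroup X) ⊓ Subgroup.centralizer (O : Set X) ≤ O
    · have hcon := centralizer_le_of_inf_le S hOn hnop hP
      have hX := hyp X hXs hcon
      intro A g hA hgA
      refine familyControls_any (indF_conj h𝓦) hX le_top hSp ?_ (Subgroup.mem_top g) hA hgA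
      rw [Subgroup.relIndex_top_right]
      exact S.not_dvd_index
    have hC := sctl_sys (𝓦 := 𝓦) (S : Subgroup X)
    by_cases hCS : (S : Subgroup X) ⊔ Subgroup.centralizer (O : Set X) = ⊤
    · refine reduce_quot S hC ?_ hOS hmax ?_ hover hCS (indF 𝓦 (X ⧸ O)) (indF_conj h𝓦)
        (ih' (X ⧸ O) (card_quot_lt O hO) (stable_quot_odd hp2 hXs hOp
          (fun g hg => coprime_mem_centralizer hSp hCS g hg)))
      · intro A a b hab hac
        exact AgreeCtl.congr hac hab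
      · intro hSO
        exact hP (inf_le_left.trans hSO)
    · refine reduce_CS S hC hOn hOS hover hCS ?_
      intro hM
      apply hP
      have hPn : ((S : Subgroup X) ⊓ Subgroup.centralizer (O : Set X)).Normal :=
        Subgroup.normalizer_eq_top_iff.1 hM
      exact hmax _ hPn (isPGroup_inf_left S _)

/-- Main theorem: for odd `p`, in a normalizer `p`-stable group, the normalizer of `Z(J(P))`
controls strong fusion in `P`. -/
theorem strongFusion_of_stable_odd (hp2 : p ≠ 2) {G : Type u} [Group G] [Finite G]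
    (hst : IsNormalizerPStable p G) (P : Sylow p G) (A : Set G) (hA : A ⊆ (P : Subgroup G)) :
    ControlsStrongFusionOf (Subgroup.normalizer (centerThompsonAOf (P : Subgroup G) : Set G))
      (P : Subgroup G) A := by
  classical
  set W : ∀ (Q : Type u) [Group Q], Subgroup Q := H14.zjF with hWdef
  have hW : IsCharPFunctor.{u} p W := H14.isCharPFunctor_zjF p
  have h𝓦 : ∀ W' ∈ ({W} : Set (∀ (Q : Type u) [Group Q], Subgroup Q)), IsCharPFunctor.{u} p W' := by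
    rintro _ rfl
    exact hW
  have hbase : FamilyControlsStrongFusionIn p
      (indF ({W} : Set (∀ (Q : Type u) [Group Q], Subgroup Q)) G) ⊤ := by
    refine sect_main_cl_odd hp2 h𝓦 ?_ _ G le_rfl hst
    intro Y _ _ hYs hcon
    obtain ⟨S⟩ : Nonempty (Sylow p Y) := inferInstance
    have hD : Cfsg.IsStronglyClosed (S : Subgroup Y) (S : Subgroup Y) := ⟨le_refl _, fun _ _ _ h => h⟩
    have hn : (inducedFunctor (G := Y) W (S : Subgroup Y)).Normal := by
      have h1 := H14.zz_normal (H14.abFam Y) hp2 S hD hYs hcon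
      rw [hWdef, H14.inducedFunctor_zjF, H14.centerThompsonAOf_eq_zz]
      exact h1
    refine familyControls_of_sctl S ?_
    intro A g hA hgA
    refine ⟨g, Chain.single ⟨hA, hgA, _, ⟨W, rfl, rfl⟩, Subgroup.mem_inf.2 ⟨Subgroup.mem_top _, ?_⟩⟩, fun a _ => rfl⟩
    rw [normalizer_eq_top_of_normal hn]
    exact Subgroup.mem_top _
  refine ⟨hA, fun g hg => ?_⟩
  obtain ⟨c, hc, hag⟩ := familyControls_any (indF_conj h𝓦) hbase le_top P.isPGroup'
    (by rw [Subgroup.relIndex_top_right]; exact P.not_dvd_index) (Subgroup.mem_top g) hA hg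
  refine ⟨c, ?_, fun a ha => (hag a ha).symm⟩
  clear hag
  induction hc with
  | nil => exact Subgroup.one_mem _
  | @snoc c y _ hy ih =>
    obtain ⟨h1, h2, _, ⟨W', hW', rfl⟩, hyW⟩ := hy
    obtain rfl : W' = W := hW'
    refine Subgroup.mul_mem _ ?_ ih
    have h3 := (Subgroup.mem_inf.1 hyW).2
    have h4 : inducedFunctor (G := G) W (P : Subgroup G) = centerThompsonAOf (P : Subgroup G) :=
      H14.inducedFunctor_zjF _
    rw [← h4]
    exact h3

end

end Cfsg.Agent.H24.CQ3
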