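import Mathlib
import Cfsg.Agent.Lib.H24.ModUniq
import Cfsg.Agent.Lib.H24.FusGroup3
import Cfsg.Agent.Lib.H05.Residual
import Cfsg.Agent.Lib.H03.PSolv
import Cfsg.Agent.Lib.H24.FusInv

/-!
Group theory for the residual series: `O^{p'}(G)`, normal subgroups of groups containing the
centralizer of their `p`-core, extensions of `p`-solvable groups, and realized fusion systems.
-/

set_option autoImplicit false
set_option linter.style.haveILetI false

namespace Cfsg.Agent.H24.RS

open Cfsg Cfsg.FusionSystem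

section Grp

variable {G : Type*} [Group G] {p : ℕ}

theorem eq_one_of_coprime {x : G} {a b : ℕ} (h : Nat.Coprime a b) (ha : x ^ a = 1) (hb : x ^ b = 1) : x = 1 := by
  have := pow_gcd_eq_one.mpr ⟨ha, hb⟩
  rw [h] at this
  simpa using this

/-- `O^{p'}(G)`: the subgroup generated by the `p`-elements. -/
def oP (p : ℕ) (G : Type*) [Group G] : Subgroup G := Subgroup.closure {g | ∃ k : ℕ, g ^ p ^ k = 1}

theorem oP_normal : (oP p G).Normal :=
  Cfsg.Agent.H05.normal_closure_of_conj (fun g ⟨k, hk⟩ a => ⟨k, by rw [conj_pow, hk]; group⟩)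

theorem mem_oP {g : G} {k : ℕ} (h : g ^ p ^ k = 1) : g ∈ oP p G := Subgroup.subset_closure ⟨k, h⟩

variable [Fact p.Prime]

theorem sylow_le_oP (T : Sylow p G) : (T : Subgroup G) ≤ oP p G := fun x hx => by
  obtain ⟨k, hk⟩ := T.isPGroup' ⟨x, hx⟩
  exact mem_oP (congrArg Subtype.val hk)

theorem not_dvd_index_oP [Finite G] (T : Sylow p G) : ¬ p ∣ (oP p G).index := fun h =>
  T.not_dvd_index (h.trans (Subgroup.index_dvd_of_le (sylow_le_oP T)))

/-- A normal subgroup of a group containing the centralizer of its `p`-core has the same property. -/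
theorem cent_core_normal [Finite G] (hC : Subgroup.centralizer ((pCore p G : Subgroup G) : Set G) ≤ pCore p G)
    (K : Subgroup G) [hK : K.Normal] :
    Subgroup.centralizer ((pCore p K : Subgroup K) : Set K) ≤ pCore p K := by
  have hp : p.Prime := Fact.out
  have hPn : (pCore p G).Normal := Cfsg.Agent.H01.pCore_normal (G := G) p
  have hPp : IsPGroup p (pCore p G) := Cfsg.Agent.H01.pCore_isPGroup (G := G) p
  have hOn : (pCore p K).Normal := Cfsg.Agent.H01.pCore_normal (G := K) p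
  have hle : (pCore p G).subgroupOf K ≤ pCore p K := by
    apply Cfsg.Agent.H01.le_pCore (G := K)
    · exact hPn.subgroupOf K
    · exact IsPGroup.comap_of_injective hPp K.subtype (Subgroup.subtype_injective K)
  refine Cfsg.Agent.H01.le_pCore (G := K) inferInstance ?_
  rintro ⟨y, hy⟩
  obtain ⟨a, m, hm, hmo⟩ := Nat.exists_eq_pow_mul_and_not_dvd (orderOf_pos y).ne' p hp.ne_one
  refine ⟨a, Subtype.ext ?_⟩
  show y ^ p ^ a = 1
  obtain ⟨w, hw⟩ : ∃ w, w = y ^ p ^ a := ⟨_, rfl⟩
  rw [← hw]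
  have hwC : w ∈ Subgroup.centralizer ((pCore p K : Subgroup K) : Set K) := by
    rw [hw]
    exact Subgroup.pow_mem _ hy _
  have hwm : ((w : K) : G) ^ m = 1 := by
    have h1 : y ^ (p ^ a * m) = 1 := by
      rw [← hmo]
      exact pow_orderOf_eq_one y
    rw [hw, pow_mul] at *
    exact congrArg Subtype.val h1
  have hcop : Nat.Coprime m p := ((Nat.Prime.coprime_iff_not_dvd hp).2 hm).symm
  -- `w` centralizes `O_p(G)`
  have hwP : ((w : K) : G) ∈ Subgroup.centralizer ((pCore p G : Subgroup G) : Set G) := by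
    rw [Subgroup.mem_centralizer_iff]
    intro u hu
    have hu' : u ∈ pCore p G := hu
    obtain ⟨c, hc⟩ : ∃ c, c = u⁻¹ * (w : G) * u * (w : G)⁻¹ := ⟨_, rfl⟩
    have hcP : c ∈ pCore p G := by
      have e : c = u⁻¹ * ((w : G) * u * (w : G)⁻¹) := by rw [hc]; group
      rw [e]
      exact (pCore p G).mul_mem ((pCore p G).inv_mem hu') (hPn.conj_mem _ hu' _)
    have hcK : c ∈ K := by
      have e : c = (u⁻¹ * (w : G) * u⁻¹⁻¹) * (w : G)⁻¹ := by rw [hc]; group
      rw [e]
      exact K.mul_mem (hK.conj_mem _ w.2 _) (K.inv_mem w.2)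
    have hcO : (⟨c, hcK⟩ : K) ∈ pCore p K := hle (Subgroup.mem_subgroupOf.2 hcP)
    have hwc : (w : G) * c = c * (w : G) := by
      have h1 := Subgroup.mem_centralizer_iff.1 hwC ⟨c, hcK⟩ hcO
      exact (congrArg Subtype.val h1).symm
    have hpw : ∀ n : ℕ, (w : G) ^ n * u * ((w : G) ^ n)⁻¹ = u * c ^ n := by
      intro n
      induction n with
      | zero => simp
      | succ n ih =>
        have e1 : (w : G) * u * (w : G)⁻¹ = u * c := by rw [hc]; group
        have e2 : (w : G) * c ^ n * (w : G)⁻¹ = c ^ n := by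
          have h2 : Commute (w : G) (c ^ n) := (show Commute (w : G) c from hwc).pow_right n
          rw [h2.eq]
          group
        calc (w : G) ^ (n + 1) * u * ((w : G) ^ (n + 1))⁻¹
            = (w : G) * ((w : G) ^ n * u * ((w : G) ^ n)⁻¹) * (w : G)⁻¹ := by
              rw [pow_succ']
              group
          _ = ((w : G) * u * (w : G)⁻¹) * ((w : G) * c ^ n * (w : G)⁻¹) := by rw [ih]; group
          _ = u * c ^ (n + 1) := by
              rw [e1, e2, pow_succ']
              group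
    have hcm : c ^ m = 1 := by
      have h1 := hpw m
      rw [hwm] at h1
      simpa using h1.symm
    obtain ⟨t, ht⟩ := hPp ⟨c, hcP⟩
    have ht' : c ^ p ^ t = 1 := congrArg Subtype.val ht
    have hc1 : c = 1 := eq_one_of_coprime (hcop.pow_right t) hcm ht'
    rw [hc1] at hc
    have h3 : u⁻¹ * (w : G) * u = (w : G) := by
      have := hc.symm
      calc u⁻¹ * (w : G) * u = (u⁻¹ * (w : G) * u * (w : G)⁻¹) * (w : G) := by group
        _ = (w : G) := by rw [this, one_mul]
    calc u * (w : G) = u * (u⁻¹ * (w : G) * u) := by rw [h3]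
      _ = (w : G) * u := by group
  have hwO := hC hwP
  obtain ⟨t, ht⟩ := hPp ⟨_, hwO⟩
  have ht' : ((w : K) : G) ^ p ^ t = 1 := congrArg Subtype.val ht
  exact Subtype.ext (eq_one_of_coprime (hcop.pow_right t) hwm ht')

end Grp

section PSolv

universe u

variable {p : ℕ}

theorem psolv_of_subsingleton {G : Type*} [Group G] [Subsingleton G] : IsPSolvable p G := by
  refine ⟨0, fun _ => ⊥, rfl, ?_, fun _ _ _ => le_rfl, fun _ => inferInstance, fun i => i.elim0⟩
  exact Subsingleton.elim _ _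

/-- An extension of a normal `p`-subgroup or `p'`-subgroup by a `p`-solvable group. -/
theorem psolv_pull {G : Type*} [Group G] (N : Subgroup G) [hN : N.Normal]
    (hc : (∃ m, Nat.card N = p ^ m) ∨ (Nat.card N).Coprime p) (h : IsPSolvable p (G ⧸ N)) : IsPSolvable p G := by
  obtain ⟨n, H, h0, hn, hmono, hnorm, hfac⟩ := h
  let φ : G →* G ⧸ N := QuotientGroup.mk' N
  have hφ : Function.Surjective φ := QuotientGroup.mk'_surjective N
  refine ⟨n + 1, Fin.cons ⊥ (fun i => (H i).comap φ), rfl, ?_, ?_, ?_, ?_⟩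
  · have h1 : Fin.last (n + 1) = (Fin.last n).succ := rfl
    rw [h1, Fin.cons_succ, hn]
    exact Subgroup.comap_top _
  · rw [Fin.monotone_iff_le_succ]
    intro i
    refine Fin.cases ?_ (fun j => ?_) i
    · rw [Fin.castSucc_zero, Fin.cons_zero]
      exact bot_le
    · rw [← Fin.succ_castSucc, Fin.cons_succ, Fin.cons_succ]
      exact Subgroup.comap_mono (hmono (Fin.castSucc_lt_succ).le)
  · intro i
    refine Fin.cases ?_ (fun j => ?_) i
    · rw [Fin.cons_zero]
      infer_instance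
    · rw [Fin.cons_succ]
      haveI := hnorm j
      infer_instance
  · intro i
    refine Fin.cases ?_ (fun j => ?_) i
    · rw [Fin.castSucc_zero, Fin.cons_zero, Fin.cons_succ, h0]
      have h1 : (⊥ : Subgroup (G ⧸ N)).comap φ = N := by
        rw [MonoidHom.comap_bot]
        exact QuotientGroup.ker_mk' N
      rw [h1, Subgroup.relIndex_bot_left]
      exact hc
    · rw [← Fin.succ_castSucc, Fin.cons_succ, Fin.cons_succ, Subgroup.relIndex_comap,
        Subgroup.map_comap_eq_self_of_surjective hφ]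
      exact hfac j

theorem psolv_of_card {G : Type*} [Group G] [Finite G]
    (hc : (∃ m, Nat.card G = p ^ m) ∨ (Nat.card G).Coprime p) : IsPSolvable p G := by
  refine psolv_pull (⊤ : Subgroup G) ?_ ?_
  · rw [Subgroup.card_top]
    exact hc
  · haveI : Subsingleton (G ⧸ (⊤ : Subgroup G)) := QuotientGroup.subsingleton_quotient_top
    exact psolv_of_subsingleton

theorem pCore_char' (X : Type*) [Group X] : (pCore p X).Characteristic := by
  rw [Subgroup.characteristic_iff_map_le]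
  intro φ
  rw [Subgroup.map_le_iff_le_comap]
  refine sSup_le fun K hK => ?_
  rw [← Subgroup.map_le_iff_le_comap]
  refine le_sSup ⟨?_, ?_⟩
  · haveI := hK.1
    exact Subgroup.Normal.map hK.1 _ φ.surjective
  · exact hK.2.map _

theorem pPrimeCore_char' (X : Type*) [Group X] : (pPrimeCore p X).Characteristic := by
  rw [Subgroup.characteristic_iff_map_le]
  intro φ
  rw [Subgroup.map_le_iff_le_comap]
  refine sSup_le fun K hK => ?_
  rw [← Subgroup.map_le_iff_le_comap]
  refine le_sSup ⟨?_, ?_⟩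
  · haveI := hK.1
    exact Subgroup.Normal.map hK.1 _ φ.surjective
  · have e : Nat.card (K.map φ.toMonoidHom) = Nat.card K :=
      Nat.card_congr (K.equivMapOfInjective _ φ.injective).toEquiv.symm
    rw [e]
    exact hK.2

/-- A subgroup `A` characteristic in the normal subgroup `N` is normal. -/
theorem map_char_normal {G : Type*} [Group G] (N : Subgroup G) [hN : N.Normal] (A : Subgroup N) (hA : A.Characteristic) :
    (A.map N.subtype).Normal := by
  constructor
  rintro _ ⟨a, ha, rfl⟩ g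
  have h1 := hA.fixed (MulAut.conjNormal g)
  refine ⟨MulAut.conjNormal g a, ?_, rfl⟩
  have h2 : a ∈ A.comap (MulAut.conjNormal g).toMonoidHom := by
    rw [h1]
    exact ha
  exact h2

theorem psolv_subgroup {G : Type*} [Group G] [Finite G] [Fact p.Prime] (h : IsPSolvable p G) (K : Subgroup G) :
    IsPSolvable p K := by
  obtain ⟨n, H, h0, hn, hmono, hnorm, hfac⟩ := h
  refine ⟨n, fun i => (H i).subgroupOf K, ?_, ?_, ?_, ?_, ?_⟩
  · simp [h0]
  · simp [hn]
  · intro i j hij
    exact fun x hx => hmono hij hx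
  · intro i
    haveI := hnorm i
    infer_instance
  · intro i
    have hle : H i.castSucc ≤ H i.succ := hmono (Fin.castSucc_lt_succ).le
    have hd : ((H i.castSucc).subgroupOf K).relIndex ((H i.succ).subgroupOf K) ∣
        (H i.castSucc).relIndex (H i.succ) := by
      have e1 : ((H i.castSucc).subgroupOf K).relIndex ((H i.succ).subgroupOf K) =
          (H i.castSucc).relIndex (H i.succ ⊓ K) := by
        have e0 : ((H i.castSucc).subgroupOf K).relIndex ((H i.succ).subgroupOf K) =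
            (H i.castSucc).relIndex (((H i.succ).subgroupOf K).map K.subtype) :=
          Subgroup.relIndex_comap _ _ _
        rw [e0, Subgroup.subgroupOf_map_subtype]
      rw [e1]
      haveI := hnorm i.castSucc
      have e2 : (H i.castSucc).relIndex (H i.succ ⊓ K) = (H i.castSucc).relIndex ((H i.succ ⊓ K) ⊔ H i.castSucc) :=
        (Subgroup.relIndex_sup_right _ _).symm
      rw [e2]
      exact ⟨_, (Subgroup.relIndex_mul_relIndex _ _ _ le_sup_right (sup_le inf_le_left hle)).symm⟩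
    rcases hfac i with ⟨m, hm⟩ | hc
    · left
      rw [hm] at hd
      obtain ⟨l, _, hl⟩ := (Nat.dvd_prime_pow (Fact.out : p.Prime)).mp hd
      exact ⟨l, hl⟩
    · right
      exact Nat.Coprime.coprime_dvd_left hd hc

/-- The group is `p`-solvable when a normal subgroup is, with a `p`-group or `p'`-group as quotient. -/
theorem psolv_ext [Fact p.Prime] (n : ℕ) : ∀ (G : Type u) [Group G] [Finite G] (N : Subgroup G) [N.Normal], Nat.card N = n →
    IsPSolvable p N → ((∃ m, N.index = p ^ m) ∨ N.index.Coprime p) → IsPSolvable p G := by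
  induction n using Nat.strong_induction_on with
  | _ n ih =>
    intro G _ _ N hN hn hs hi
    by_cases hN1 : N = ⊥
    · subst hN1
      apply psolv_of_card
      rwa [Subgroup.index_bot] at hi
    · have hne : (⊤ : Subgroup N) ≠ ⊥ := by
        intro h
        apply hN1
        rw [eq_bot_iff]
        intro x hx
        have h1 : (⟨x, hx⟩ : N) ∈ (⊥ : Subgroup N) := by
          rw [← h]
          exact Subgroup.mem_top _
        exact congrArg Subtype.val (Subgroup.mem_bot.1 h1)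
      obtain ⟨M, -, hMn, hM1, hM⟩ := Cfsg.Agent.H03.exists_normal_le_of_isPSolvable hs inferInstance hne
      obtain ⟨A₀, hchar, hA₀, hcA⟩ : ∃ A₀ : Subgroup N, A₀.Characteristic ∧ A₀ ≠ ⊥ ∧
          ((∃ m, Nat.card A₀ = p ^ m) ∨ (Nat.card A₀).Coprime p) := by
        rcases hM with hM | hM
        · refine ⟨pCore p N, pCore_char' _, ?_, Or.inl ?_⟩
          · intro h
            apply hM1
            rw [eq_bot_iff, ← h]
            exact Cfsg.Agent.H01.le_pCore hMn hM
          · obtain ⟨m, hm⟩ := IsPGroup.iff_card.1 (Cfsg.Agent.H01.pCore_isPGroup (G := N) p)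
            exact ⟨m, hm⟩
        · refine ⟨pPrimeCore p N, pPrimeCore_char' _, ?_, Or.inr (Cfsg.Agent.H06.coprime_card_pPrimeCore p)⟩
          intro h
          apply hM1
          rw [eq_bot_iff, ← h]
          exact le_sSup ⟨hMn, hM⟩
      obtain ⟨A, hA⟩ : ∃ A, A = A₀.map N.subtype := ⟨_, rfl⟩
      haveI hAn : A.Normal := by
        rw [hA]
        exact map_char_normal N A₀ hchar
      have hcardA : Nat.card A = Nat.card A₀ := by
        rw [hA]
        exact Nat.card_congr (A₀.equivMapOfInjective _ (Subgroup.subtype_injective N)).toEquiv.symm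
      have hAN : A ≤ N := by
        rw [hA]
        exact Subgroup.map_subtype_le _
      refine psolv_pull A (by rwa [hcardA]) ?_
      let π : G →* G ⧸ A := QuotientGroup.mk' A
      have hπ : Function.Surjective π := QuotientGroup.mk'_surjective A
      haveI hN' : (N.map π).Normal := Subgroup.Normal.map hN π hπ
      have hker : π.ker = A := QuotientGroup.ker_mk' A
      have hidx : (N.map π).index = N.index := by
        rw [Subgroup.index_map, hker, sup_eq_left.2 hAN, MonoidHom.range_eq_top.2 hπ, Subgroup.index_top, mul_one]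
      let f : N →* N.map π := π.subgroupMap N
      have hf : Function.Surjective f := π.subgroupMap_surjective N
      have hcard : Nat.card (N.map π) < n := by
        have hk : f.ker.index = Nat.card (N.map π) := by
          rw [Subgroup.index_ker, MonoidHom.range_eq_top.2 hf, Subgroup.card_top]
        have h1 := f.ker.card_mul_index
        rw [hk, hn] at h1
        have hA₀k : A₀ ≤ f.ker := by
          intro a ha
          rw [MonoidHom.mem_ker]
          apply Subtype.ext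
          show π a = 1
          rw [← MonoidHom.mem_ker, hker, hA]
          exact ⟨a, ha, rfl⟩
        have hk1 : f.ker ≠ ⊥ := fun h => hA₀ (eq_bot_iff.2 (h ▸ hA₀k))
        have h2 : 1 < Nat.card f.ker := (Subgroup.one_lt_card_iff_ne_bot _).2 hk1
        have h3 : 0 < Nat.card (N.map π) := Nat.card_pos
        nlinarith
      exact ih _ hcard (G ⧸ A) (N.map π) rfl (Cfsg.Agent.H03.isPSolvable_of_surjective hf hs) (by rwa [hidx])

/-- A nontrivial `p`-solvable group has a proper normal subgroup whose index is a power of `p` or prime to `p`. -/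
theorem exists_top_factor {G : Type*} [Group G] [Nontrivial G] (h : IsPSolvable p G) :
    ∃ M : Subgroup G, M.Normal ∧ M ≠ ⊤ ∧ ((∃ m, M.index = p ^ m) ∨ M.index.Coprime p) := by
  classical
  obtain ⟨n, H, h0, hn, hmono, hnorm, hfac⟩ := h
  have hex : ∃ j : ℕ, ∃ hj : j < n + 1, H ⟨j, hj⟩ = ⊤ := ⟨n, Nat.lt_succ_self n, hn⟩
  obtain ⟨j, hj, hjt, hmin⟩ : ∃ j, ∃ hj : j < n + 1, H ⟨j, hj⟩ = ⊤ ∧ ∀ k (hk : k < j), H ⟨k, by omega⟩ ≠ ⊤ := by
    obtain ⟨hj, hjt⟩ := Nat.find_spec hex
    refine ⟨_, hj, hjt, fun k hk h => Nat.find_min hex hk ⟨by omega, h⟩⟩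
  have hj0 : j ≠ 0 := by
    intro h0'
    subst h0'
    have : (⟨0, hj⟩ : Fin (n + 1)) = 0 := rfl
    rw [this, h0] at hjt
    exact bot_ne_top hjt
  obtain ⟨i, rfl⟩ := Nat.exists_eq_succ_of_ne_zero hj0
  have hin : i < n := by omega
  have hprev : H ⟨i, by omega⟩ ≠ ⊤ := hmin i (by omega)
  refine ⟨H ⟨i, by omega⟩, hnorm _, hprev, ?_⟩
  have h1 := hfac ⟨i, hin⟩
  have e1 : (⟨i, hin⟩ : Fin n).castSucc = ⟨i, by omega⟩ := rfl
  have e2 : (⟨i, hin⟩ : Fin n).succ = ⟨i + 1, hj⟩ := rfl
  rw [e1, e2, hjt, Subgroup.relIndex_top_right] at h1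
  exact h1

end PSolv

section Pelt

variable {P' G : Type*} [Group P'] [Group G] [Finite G] {p : ℕ} [Fact p.Prime]

theorem conj_pow_of (f : P' →* G) (α : MulAut P') (g : G) (hg : ∀ x, f (α x) = g * f x * g⁻¹) (n : ℕ) (x : P') :
    f ((α ^ n) x) = g ^ n * f x * (g ^ n)⁻¹ := by
  induction n generalizing x with
  | zero => simp
  | succ n ih =>
    rw [pow_succ, pow_succ]
    show f ((α ^ n) (α x)) = _
    rw [ih, hg]
    group

/-- A `p`-automorphism induced by an element is induced by a `p`-element. -/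
theorem exists_pelt_conj (f : P' →* G) (α : MulAut P') (g : G) (hg : ∀ x, f (α x) = g * f x * g⁻¹) {k : ℕ}
    (hα : α ^ p ^ k = 1) : ∃ h : G, (∃ b : ℕ, h ^ p ^ b = 1) ∧ ∀ x, f (α x) = h * f x * h⁻¹ := by
  have hp : p.Prime := Fact.out
  obtain ⟨b, m, hm, hmo⟩ := Nat.exists_eq_pow_mul_and_not_dvd (orderOf_pos g).ne' p hp.ne_one
  have hco : Nat.Coprime (p ^ k) m := Nat.Coprime.pow_left k ((Nat.Prime.coprime_iff_not_dvd hp).2 hm)
  obtain ⟨t, ht1, ht0⟩ := Nat.chineseRemainder hco 1 0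
  have hdm : m ∣ t := (Nat.modEq_zero_iff_dvd).1 ht0
  have hαt : α ^ t = α := by
    have hd : orderOf α ∣ p ^ k := orderOf_dvd_of_pow_eq_one hα
    have := pow_eq_pow_iff_modEq.2 (Nat.ModEq.of_dvd hd ht1)
    rwa [pow_one] at this
  refine ⟨g ^ t, ⟨b, ?_⟩, fun x => ?_⟩
  · rw [← pow_mul]
    apply orderOf_dvd_iff_pow_eq_one.1
    rw [hmo, mul_comm]
    exact Nat.mul_dvd_mul hdm dvd_rfl
  · have := conj_pow_of f α g hg t x
    rwa [hαt] at this

/-- A prime-to-`p` automorphism induced by an element is induced by a prime-to-`p` element. -/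
theorem exists_copr_conj (f : P' →* G) (α : MulAut P') (g : G) (hg : ∀ x, f (α x) = g * f x * g⁻¹)
    (hα : Nat.Coprime (orderOf α) p) : ∃ h : G, Nat.Coprime (orderOf h) p ∧ ∀ x, f (α x) = h * f x * h⁻¹ := by
  have hp : p.Prime := Fact.out
  obtain ⟨a, m, hm, hmo⟩ := Nat.exists_eq_pow_mul_and_not_dvd (orderOf_pos g).ne' p hp.ne_one
  have hco : Nat.Coprime (orderOf α) (p ^ a) := Nat.Coprime.pow_right a hα
  obtain ⟨k, hk1, hk0⟩ := Nat.chineseRemainder hco 1 0
  have hαk : α ^ k = α := by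
    have := pow_eq_pow_iff_modEq.2 hk1
    rwa [pow_one] at this
  have hdvd : p ^ a ∣ k := (Nat.modEq_zero_iff_dvd).1 hk0
  have hgm : (g ^ k) ^ m = 1 := by
    rw [← pow_mul]
    apply orderOf_dvd_iff_pow_eq_one.1
    rw [hmo]
    exact Nat.mul_dvd_mul hdvd dvd_rfl
  refine ⟨g ^ k, ?_, fun x => ?_⟩
  · have h1 : orderOf (g ^ k) ∣ m := orderOf_dvd_of_pow_eq_one hgm
    exact Nat.Coprime.coprime_dvd_left h1 (((Nat.Prime.coprime_iff_not_dvd hp).2 hm).symm)
  · have := conj_pow_of f α g hg k x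
    rwa [hαk] at this

end Pelt

section Real

variable {Ω : Type*} [Group Ω] {S : Subgroup Ω} {G : Type*} [Group G]

theorem real_inj (ι : S →* G) (hι : Function.Injective ι) {P : Subgroup Ω} {φ : P →* Ω} (hP : P ≤ S)
    (hφ : ∀ x, φ x ∈ S) {g : G} (hg : ∀ x : P, ι ⟨φ x, hφ x⟩ = g * ι ⟨x, hP x.2⟩ * g⁻¹) : Function.Injective φ := by
  intro x y hxy
  have h1 := hg x
  have h2 := hg y
  have e : (⟨φ x, hφ x⟩ : S) = ⟨φ y, hφ y⟩ := Subtype.ext hxy
  rw [e, h2] at h1
  have h3 : ι ⟨x, hP x.2⟩ = ι ⟨y, hP y.2⟩ := by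
    have := mul_left_cancel (mul_right_cancel h1)
    exact this.symm
  have h4 := congrArg Subtype.val (hι h3)
  exact Subtype.ext h4

/-- The fusion system realized by an injective homomorphism. -/
def realFus (ι : S →* G) (hι : Function.Injective ι) : FusionSystem S where
  Hom P := {φ | ∃ (hP : P ≤ S) (hφ : ∀ x : P, φ x ∈ S) (g : G), ∀ x : P, ι ⟨φ x, hφ x⟩ = g * ι ⟨x, hP x.2⟩ * g⁻¹}
  le_of_mem := fun ⟨hP, hφ, _⟩ => ⟨hP, hφ⟩
  injective_of_mem := fun ⟨hP, hφ, _, hg⟩ => real_inj ι hι hP hφ hg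
  conj_mem := by
    intro P g hP hg
    refine ⟨hP, fun x => S.mul_mem (S.mul_mem hg (hP x.2)) (S.inv_mem hg), ι ⟨g, hg⟩, fun x => ?_⟩
    rw [← map_inv, ← map_mul, ← map_mul]
    rfl
  comp_mem := by
    rintro P Q φ ψ ⟨hP, hφ, g, hg⟩ ⟨hQ, hψ, h, hh⟩ hx
    refine ⟨hP, fun x => hψ _, h * g, fun x => ?_⟩
    have h1 := hh (φ.codRestrict Q hx x)
    have h2 := hg x
    have e : (⟨((φ.codRestrict Q hx x : Q) : Ω), hQ (φ.codRestrict Q hx x).2⟩ : S) = ⟨φ x, hφ x⟩ := rfl
    rw [e, h2] at h1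
    show ι ⟨ψ (φ.codRestrict Q hx x), _⟩ = _
    rw [h1]
    group
  inv_mem := by
    rintro P φ ⟨hP, hφ, g, hg⟩
    have hinj := real_inj ι hι hP hφ hg
    let e : P ≃* φ.range := MonoidHom.ofInjective hinj
    let ψ : φ.range →* Ω := P.subtype.comp e.symm.toMonoidHom
    have he : ∀ x : P, e.symm ⟨φ x, ⟨x, rfl⟩⟩ = x := fun x => by
      have : (⟨φ x, ⟨x, rfl⟩⟩ : φ.range) = e x := rfl
      rw [this, MulEquiv.symm_apply_apply]
    have hr : φ.range ≤ S := by
      rintro _ ⟨x, rfl⟩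
      exact hφ x
    refine ⟨ψ, ⟨hr, fun y => hP (e.symm y).2, g⁻¹, ?_⟩, fun x => ?_⟩
    · rintro ⟨_, x, rfl⟩
      have e1 : ψ ⟨φ x, ⟨x, rfl⟩⟩ = x := congrArg Subtype.val (he x)
      have e2 : (⟨ψ ⟨φ x, ⟨x, rfl⟩⟩, hP (e.symm _).2⟩ : S) = ⟨x, hP x.2⟩ := Subtype.ext e1
      rw [e2]
      show _ = g⁻¹ * ι ⟨φ x, hφ x⟩ * g⁻¹⁻¹
      rw [hg x]
      group
    · exact congrArg Subtype.val (he x)

theorem realFus_realized (ι : S →* G) (hι : Function.Injective ι) : (realFus ι hι).IsRealizedBy ι :=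
  ⟨hι, fun _ hP _ hφ => ⟨fun ⟨_, _, g, hg⟩ => ⟨g, hg⟩, fun ⟨g, hg⟩ => ⟨hP, hφ, g, hg⟩⟩⟩

variable {T : Subgroup Ω}

/-- The restriction of `ι` to `T` with values in `K`. -/
def subI (hTS : T ≤ S) (ι : S →* G) (K : Subgroup G) (hk : ∀ t : T, ι ⟨t, hTS t.2⟩ ∈ K) : T →* K :=
  (ι.comp (Subgroup.inclusion hTS)).codRestrict K hk

theorem subI_val (hTS : T ≤ S) (ι : S →* G) (K : Subgroup G) (hk : ∀ t : T, ι ⟨t, hTS t.2⟩ ∈ K) (t : T) :
    ((subI hTS ι K hk t : K) : G) = ι ⟨t, hTS t.2⟩ := rfl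

theorem subI_inj (hTS : T ≤ S) {ι : S →* G} (K : Subgroup G) (hk : ∀ t : T, ι ⟨t, hTS t.2⟩ ∈ K)
    (hι : Function.Injective ι) : Function.Injective (subI hTS ι K hk) := by
  intro x y hxy
  have h1 : ι ⟨x, hTS x.2⟩ = ι ⟨y, hTS y.2⟩ := congrArg Subtype.val hxy
  have h4 := congrArg Subtype.val (hι h1)
  exact Subtype.ext h4

variable {p : ℕ} [Fact p.Prime]

theorem exists_sylow_sub [Finite G] (hTS : T ≤ S) {ι : S →* G} (K : Subgroup G) [hK : K.Normal]
    (hk : ∀ t : T, ι ⟨t, hTS t.2⟩ ∈ K) (hT : ∀ s : S, (s : Ω) ∈ T ↔ ι s ∈ K) (T₀ : Sylow p G)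
    (hT₀ : (T₀ : Subgroup G) = ι.range) : ∃ R : Sylow p K, (R : Subgroup K) = (subI hTS ι K hk).range := by
  obtain ⟨R, hR⟩ := Cfsg.Agent.H24.exists_sylow_inf_normal T₀ K
  refine ⟨R, ?_⟩
  rw [hR, hT₀]
  ext ⟨x, hx⟩
  constructor
  · intro h
    obtain ⟨s, hs⟩ := Subgroup.mem_subgroupOf.1 h
    have hsT : (s : Ω) ∈ T := (hT s).2 (by rw [hs]; exact hx)
    exact ⟨⟨s, hsT⟩, Subtype.ext hs⟩
  · rintro ⟨t, ht⟩
    have h1 : ι ⟨t, hTS t.2⟩ = x := congrArg Subtype.val ht
    exact Subgroup.mem_subgroupOf.2 ⟨_, h1⟩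

/-- A system realized by a normal subgroup of a model is modelled by that subgroup. -/
theorem model_of_sub {F : FusionSystem S} {ι : S →* G} (hG : F.IsModel p G ι) (hTS : T ≤ S) (K : Subgroup G) [hK : K.Normal]
    (hk : ∀ t : T, ι ⟨t, hTS t.2⟩ ∈ K) (hT : ∀ s : S, (s : Ω) ∈ T ↔ ι s ∈ K) {D : FusionSystem T}
    (hD : D.IsRealizedBy (subI hTS ι K hk)) : D.IsModel p K (subI hTS ι K hk) := by
  obtain ⟨hfG, hr, ⟨T₀, hT₀⟩, hcen⟩ := hG
  exact ⟨inferInstance, hD, exists_sylow_sub hTS K hk hT T₀ hT₀, cent_core_normal hcen K⟩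

end Real

end Cfsg.Agent.H24.RS
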