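import Mathlib
import Cfsg.Agent.Lib.H24.ModExist
import Cfsg.Agent.Lib.H24.RSerA
import Cfsg.Agent.Lib.H25.RealS2
import Cfsg.Agent.Lib.H03.PSolv
import Cfsg.Agent.Lib.H24.FusNorm
import Cfsg.Agent.Lib.H24.FusAG2

/-!
The core of a system with a model, and the automorphisms it induces: `O_p(F)` is the part of `S`
over `O_p(G)`, and `Aut_F(O_p(F))` is `G / Z(O_p(G))`.  As a result a saturated system is realized by a
finite `p`-solvable group exactly when it is constrained and `Aut_F(O_p(F))` is `p`-solvable.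
-/

set_option autoImplicit false
set_option linter.style.haveILetI false

namespace Cfsg.Agent.H24.CM

open Cfsg Cfsg.FusionSystem Cfsg.Agent.H25

universe u

section
variable {Ω : Type*} [Group Ω] {S : Subgroup Ω} {F : FusionSystem S} {p : ℕ} [Fact p.Prime] {G : Type*} [Group G] {ι : S →* G}

/-- The part of `S` over a normal subgroup of `G` inside `ι(S)` is normal in the system. -/
theorem ttN_isNormal (hr : F.IsRealizedBy ι) {O : Subgroup G} (hOn : O.Normal) (hOT : O ≤ ι.range) :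
    F.IsNormal (ttN ι O) := by
  have hι := hr.1
  let Q : Subgroup Ω := ttN ι O
  have hQS : Q ≤ S := ttN_le
  have hmem : ∀ {x : Ω} (hx : x ∈ S), x ∈ Q ↔ ι ⟨x, hx⟩ ∈ O := by
    intro x hx
    constructor
    · intro h
      exact (mem_ttN.1 h).2
    · intro h
      exact mem_ttN.2 ⟨hx, h⟩
  refine ⟨hQS, fun P φ hφ => ?_⟩
  obtain ⟨g, hg⟩ := IsRealizedBy.exists_conj hr hφ
  have hPS : P ≤ S := hom_le hφ
  have hsup : P ⊔ Q ≤ S := sup_le hPS hQS
  have hW : P ⊔ Q ≤ (ι.range.comap ((MulAut.conj g).toMonoidHom.comp ι)).map S.subtype := by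
    refine sup_le ?_ ?_
    · intro x hx
      refine ⟨⟨x, hPS hx⟩, ?_, rfl⟩
      show g * ι ⟨x, hPS hx⟩ * g⁻¹ ∈ ι.range
      have := hg ⟨x, hx⟩
      exact ⟨_, this⟩
    · intro x hx
      refine ⟨⟨x, hQS hx⟩, ?_, rfl⟩
      show g * ι ⟨x, hQS hx⟩ * g⁻¹ ∈ ι.range
      exact hOT (hOn.conj_mem _ ((hmem (hQS hx)).1 hx) g)
  have hconj : ∀ y : (P ⊔ Q : Subgroup Ω), g * ι (Subgroup.inclusion hsup y) * g⁻¹ ∈ ι.range := by
    intro y
    obtain ⟨s, hs, hsy⟩ := hW y.2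
    have : s = Subgroup.inclusion hsup y := Subtype.ext hsy
    rw [← this]
    exact hs
  obtain ⟨ψ, hψ, hψv⟩ := exists_conj_lift hι hsup g hconj
  refine ⟨ψ, IsRealizedBy.hom_mem hr hsup hψ hψv, fun x => ?_, ?_⟩
  · have h1 := hψv (Subgroup.inclusion le_sup_left x)
    have h2 := hg x
    have e : Subgroup.inclusion hsup (Subgroup.inclusion le_sup_left x) = Subgroup.inclusion (hom_le hφ) x := rfl
    rw [e, ← h2] at h1
    exact congrArg Subtype.val (hι h1)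
  · apply le_antisymm
    · rintro _ ⟨y, hy, rfl⟩
      refine (hmem (hψ y)).2 ?_
      rw [hψv]
      exact hOn.conj_mem _ ((hmem (hQS hy)).1 hy) g
    · intro x hx
      have hxO := (hmem (hQS hx)).1 hx
      have h1 : g⁻¹ * ι ⟨x, hQS hx⟩ * g⁻¹⁻¹ ∈ O := hOn.conj_mem _ hxO g⁻¹
      obtain ⟨s, hs⟩ := hOT h1
      have hsQ : (s : Ω) ∈ Q := (hmem s.2).2 (hs ▸ h1)
      refine ⟨⟨s, Subgroup.mem_sup_right hsQ⟩, hsQ, ?_⟩
      have h2 := hψv ⟨s, Subgroup.mem_sup_right hsQ⟩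
      have e : ι (Subgroup.inclusion hsup ⟨s, Subgroup.mem_sup_right hsQ⟩) = ι s := rfl
      rw [e, hs] at h2
      have e2 : g * (g⁻¹ * ι ⟨x, hQS hx⟩ * g⁻¹⁻¹) * g⁻¹ = ι ⟨x, hQS hx⟩ := by group
      rw [e2] at h2
      exact congrArg Subtype.val (hι h2)

/-- In a model, a subgroup normal in the system lies over `O_p(G)`. -/
theorem le_ttN_of_isNormal (hS : IsPGroup p S) (hG : F.IsModel p G ι) {Q : Subgroup Ω} (hQ : F.IsNormal Q) :
    Q ≤ ttN ι (pCore p G) := by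
  obtain ⟨hfG, hr, ⟨T, hT⟩, hcen⟩ := hG
  have hι := hr.1
  let O : Subgroup G := pCore p G
  have hOn : O.Normal := Cfsg.Agent.H01.pCore_normal (G := G) p
  have hOT : O ≤ ι.range := by
    rw [← hT]
    exact Cfsg.Agent.H01.pCore_le_sylow p T
  let Q₁ : Subgroup Ω := ttN ι O
  have hQ₁S : Q₁ ≤ S := ttN_le
  have hQS : Q ≤ S := hQ.1
  have hnorm := normalizer_of_isNormal hQ
  -- the image of `Q` is normal in `G`
  let W : Subgroup G := (Q.comap S.subtype).map ι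
  have hWn : W.Normal := by
    constructor
    rintro _ ⟨⟨x, hxS⟩, hx, rfl⟩ g
    have hxQ : x ∈ Q := hx
    have hconj : ∀ y : Q₁, g * ι (Subgroup.inclusion hQ₁S y) * g⁻¹ ∈ ι.range := by
      intro y
      exact hOT (hOn.conj_mem _ (mem_ttN.1 y.2).2 g)
    obtain ⟨ψ₁, hψ₁, hψ₁v⟩ := exists_conj_lift hι hQ₁S g hconj
    have hψ₁F : ψ₁ ∈ F.Hom Q₁ := IsRealizedBy.hom_mem hr hQ₁S hψ₁ hψ₁v
    obtain ⟨ψ, hψF, hψe, hψQ⟩ := hQ.2 Q₁ ψ₁ hψ₁F
    obtain ⟨h, hh⟩ := IsRealizedBy.exists_conj hr hψF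
    have hcomm : h⁻¹ * g ∈ Subgroup.centralizer ((pCore p G : Subgroup G) : Set G) := by
      rw [Subgroup.mem_centralizer_iff]
      intro o ho
      obtain ⟨s, rfl⟩ := hOT ho
      have hsQ : (s : Ω) ∈ Q₁ := mem_ttN.2 ⟨s.2, ho⟩
      have h1 := hh (Subgroup.inclusion le_sup_left ⟨s, hsQ⟩)
      have h2 := hψ₁v ⟨s, hsQ⟩
      have e1 : ι (Subgroup.inclusion (hom_le hψF) (Subgroup.inclusion le_sup_left ⟨(s : Ω), hsQ⟩)) = ι s := rfl
      have e2 : ι (Subgroup.inclusion hQ₁S ⟨(s : Ω), hsQ⟩) = ι s := rfl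
      rw [e1] at h1
      rw [e2] at h2
      have e3 : (⟨ψ (Subgroup.inclusion le_sup_left ⟨(s : Ω), hsQ⟩), hom_val hψF _⟩ : S) = ⟨ψ₁ ⟨s, hsQ⟩, hψ₁ _⟩ :=
        Subtype.ext (hψe ⟨s, hsQ⟩)
      rw [e3, h2] at h1
      have h3 : g * ι s * g⁻¹ = h * ι s * h⁻¹ := h1
      calc ι s * (h⁻¹ * g) = h⁻¹ * (h * ι s * h⁻¹) * g := by group
        _ = h⁻¹ * (g * ι s * g⁻¹) * g := by rw [h3]
        _ = h⁻¹ * g * ι s := by group
    have hO' : h⁻¹ * g ∈ O := hcen hcomm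
    obtain ⟨s, hs⟩ := hOT hO'
    have hsQ₁ : (s : Ω) ∈ Q₁ := mem_ttN.2 ⟨s.2, hs ▸ hO'⟩
    have hgeq : g = h * ι s := by
      rw [hs]
      group
    -- conjugating `x` by `s`
    have hsxQ : (s : Ω) * x * (s : Ω)⁻¹ ∈ Q := by
      have := (Subgroup.mem_normalizer_iff.1 (hnorm s.2) x).1 hxQ
      exact this
    let x' : S := s * ⟨x, hxS⟩ * s⁻¹
    have hx'Q : (x' : Ω) ∈ Q := hsxQ
    have hsup : (x' : Ω) ∈ Q₁ ⊔ Q := Subgroup.mem_sup_right hx'Q
    have h4 := hh ⟨x', hsup⟩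
    have e4 : ι (Subgroup.inclusion (hom_le hψF) ⟨(x' : Ω), hsup⟩) = ι x' := rfl
    rw [e4] at h4
    have hψmem : ψ ⟨x', hsup⟩ ∈ Q := ((map_subgroupOf_eq_iff le_sup_right ψ).1 hψQ).1 _ hx'Q
    refine ⟨⟨ψ ⟨x', hsup⟩, hom_val hψF _⟩, hψmem, ?_⟩
    rw [h4, hgeq]
    have e5 : ι x' = ι s * ι ⟨x, hxS⟩ * (ι s)⁻¹ := by
      simp [x', map_mul, map_inv]
    rw [e5]
    group
  have hWp : IsPGroup p W := by
    have : IsPGroup p (Q.comap S.subtype) := by
      intro y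
      obtain ⟨k, hk⟩ := hS y.1
      refine ⟨k, Subtype.ext ?_⟩
      exact hk
    exact this.map ι
  have hWO : W ≤ pCore p G := Cfsg.Agent.H01.le_pCore hWn hWp
  intro x hx
  refine mem_ttN.2 ⟨hQS hx, hWO ⟨⟨x, hQS hx⟩, hx, rfl⟩⟩

/-- `O_p(F)` is the part of `S` over `O_p(G)`. -/
theorem core_eq_ttN [Finite S] (hS : IsPGroup p S) (hG : F.IsModel p G ι) : F.core = ttN ι (pCore p G) := by
  obtain ⟨hfG, hr, ⟨T, hT⟩, hcen⟩ := id hG
  have hOT : (pCore p G : Subgroup G) ≤ ι.range := by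
    rw [← hT]
    exact Cfsg.Agent.H01.pCore_le_sylow p T
  refine le_antisymm (sSup_le fun Q hQ => le_ttN_of_isNormal hS hG hQ) (le_sSup ?_)
  exact ttN_isNormal hr (Cfsg.Agent.H01.pCore_normal (G := G) p) hOT

/-- The isomorphism of the part over `O` with `O`. -/
noncomputable def coreEquiv (hι : Function.Injective ι) {O : Subgroup G} (hOT : O ≤ ι.range) : ttN ι O ≃* O :=
  MulEquiv.ofBijective (iotaN ι O) ⟨iotaN_inj hι O, by
    rintro ⟨o, ho⟩
    obtain ⟨s, rfl⟩ := hOT ho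
    exact ⟨⟨s, mem_ttN.2 ⟨s.2, ho⟩⟩, Subtype.ext rfl⟩⟩

theorem coreEquiv_coe (hι : Function.Injective ι) {O : Subgroup G} (hOT : O ≤ ι.range) (x : ttN ι O) :
    ((coreEquiv hι hOT x : O) : G) = ι ⟨x, ttN_le x.2⟩ := rfl

/-- The action of `G` on the part over a normal subgroup. -/
noncomputable def coreAct (hι : Function.Injective ι) {O : Subgroup G} (hOn : O.Normal) (hOT : O ≤ ι.range) :
    G →* MulAut (ttN ι O) :=
  haveI := hOn
  (MulAut.congr (coreEquiv hι hOT).symm).toMonoidHom.comp (MulAut.conjNormal : G →* MulAut O)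

theorem coreAct_apply (hι : Function.Injective ι) {O : Subgroup G} (hOn : O.Normal) (hOT : O ≤ ι.range) (g : G)
    (x : ttN ι O) : ι ⟨coreAct hι hOn hOT g x, ttN_le (coreAct hι hOn hOT g x).2⟩ = g * ι ⟨x, ttN_le x.2⟩ * g⁻¹ := by
  haveI := hOn
  have h1 : coreEquiv hι hOT (coreAct hι hOn hOT g x) = MulAut.conjNormal g (coreEquiv hι hOT x) := by
    show coreEquiv hι hOT ((coreEquiv hι hOT).symm (MulAut.conjNormal g ((coreEquiv hι hOT) x))) = _
    rw [MulEquiv.apply_symm_apply]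
  have h2 := congrArg Subtype.val h1
  rw [coreEquiv_coe, MulAut.conjNormal_apply, coreEquiv_coe] at h2
  exact h2

theorem coreAct_range (hr : F.IsRealizedBy ι) {O : Subgroup G} (hOn : O.Normal) (hOT : O ≤ ι.range) :
    (coreAct hr.1 hOn hOT).range = F.autGroup (ttN ι O) := by
  have hι := hr.1
  have hle : ttN ι O ≤ S := ttN_le
  apply le_antisymm
  · rintro _ ⟨g, rfl⟩
    rw [mem_autGroup_iff hle]
    refine IsRealizedBy.hom_mem hr hle (ψ := (ttN ι O).subtype.comp (coreAct hr.1 hOn hOT g).toMonoidHom)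
      (g := g) (fun y => ttN_le (coreAct hr.1 hOn hOT g y).2) (fun y => ?_)
    exact coreAct_apply hr.1 hOn hOT g y
  · intro α hα
    rw [mem_autGroup_iff hle] at hα
    obtain ⟨g, hg⟩ := IsRealizedBy.exists_conj hr hα
    refine ⟨g, ?_⟩
    ext y
    have h1 := hg y
    have h2 := coreAct_apply hr.1 hOn hOT g y
    have h3 : g * ι (Subgroup.inclusion (hom_le hα) y) * g⁻¹ = g * ι ⟨y, ttN_le y.2⟩ * g⁻¹ := rfl
    rw [h3, ← h2] at h1
    exact (congrArg Subtype.val (hι h1)).symm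

theorem coreAct_ker_le (hr : F.IsRealizedBy ι) {O : Subgroup G} (hOn : O.Normal) (hOT : O ≤ ι.range) :
    (coreAct hr.1 hOn hOT).ker ≤ Subgroup.centralizer (O : Set G) := by
  intro g hg
  rw [Subgroup.mem_centralizer_iff]
  intro o ho
  obtain ⟨s, rfl⟩ := hOT ho
  have hsQ : (s : Ω) ∈ ttN ι O := mem_ttN.2 ⟨s.2, ho⟩
  have h1 := coreAct_apply hr.1 hOn hOT g ⟨s, hsQ⟩
  rw [MonoidHom.mem_ker] at hg
  rw [hg] at h1
  have h2 : ι ⟨((1 : MulAut (ttN ι O)) ⟨(s : Ω), hsQ⟩ : ttN ι O), ttN_le ((1 : MulAut (ttN ι O)) ⟨(s : Ω), hsQ⟩).2⟩ = ι s := rfl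
  have h3 : ι ⟨((⟨(s : Ω), hsQ⟩ : ttN ι O) : Ω), ttN_le hsQ⟩ = ι s := rfl
  rw [h2, h3] at h1
  calc ι s * g = (g * ι s * g⁻¹) * g := by rw [← h1]
    _ = g * ι s := by group

/-- For a model, `G` is `p`-solvable exactly when `Aut_F(O_p(F))` is. -/
theorem psolv_iff_of_model [Finite S] (hS : IsPGroup p S) (hG : F.IsModel p G ι) :
    IsPSolvable p G ↔ IsPSolvable p ↥(F.autGroup F.core) := by
  rw [core_eq_ttN hS hG]
  obtain ⟨hfG, hr, ⟨T, hT⟩, hcen⟩ := hG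
  have hOn : (pCore p G : Subgroup G).Normal := Cfsg.Agent.H01.pCore_normal (G := G) p
  have hOT : (pCore p G : Subgroup G) ≤ ι.range := by
    rw [← hT]
    exact Cfsg.Agent.H01.pCore_le_sylow p T
  have hrange := coreAct_range hr hOn hOT
  let Θ := coreAct hr.1 hOn hOT
  have hΘ : ∀ g, Θ g ∈ F.autGroup (ttN ι (pCore p G)) := fun g => by
    rw [← hrange]
    exact ⟨g, rfl⟩
  let Θ' : G →* F.autGroup (ttN ι (pCore p G)) := Θ.codRestrict _ hΘ
  have hsurj : Function.Surjective Θ' := by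
    rintro ⟨α, hα⟩
    rw [← hrange] at hα
    obtain ⟨g, hg⟩ := hα
    exact ⟨g, Subtype.ext hg⟩
  constructor
  · intro h
    exact Cfsg.Agent.H03.isPSolvable_of_surjective hsurj h
  · intro h
    have hkerO : Θ'.ker ≤ pCore p G := by
      intro g hg
      apply hcen
      apply coreAct_ker_le hr hOn hOT
      rw [MonoidHom.mem_ker] at hg ⊢
      exact congrArg Subtype.val hg
    have hkp : IsPGroup p Θ'.ker := (Cfsg.Agent.H01.pCore_isPGroup (G := G) p).to_le hkerO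
    obtain ⟨m, hm⟩ := IsPGroup.iff_card.1 hkp
    refine RS.psolv_pull Θ'.ker (Or.inl ⟨m, hm⟩) ?_
    exact Cfsg.Agent.H03.isPSolvable_of_surjective
      (f := (QuotientGroup.quotientKerEquivOfSurjective Θ' hsurj).symm.toMonoidHom)
      (QuotientGroup.quotientKerEquivOfSurjective Θ' hsurj).symm.surjective h

end

section
variable {Ω : Type u} [Group Ω] {S : Subgroup Ω} {F : FusionSystem S} {p : ℕ} [Fact p.Prime]

/-- A saturated system is realized by a finite `p`-solvable group exactly when it is constrained and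
`Aut_F(O_p(F))` is `p`-solvable. -/
theorem realized_psolv_iff [Finite S] (hS : IsPGroup p S) :
    (∃ (G : Type u) (_ : Group G) (_ : Finite G) (ι : S →* G), Cfsg.IsPSolvable p G ∧ F.IsRealizedBy ι ∧
        ∃ T : Sylow p G, (T : Subgroup G) = ι.range) ↔
      (F.IsConstrained p ∧ Cfsg.IsPSolvable p ↥(F.autGroup F.core)) := by
  constructor
  · rintro ⟨G, _, _, ι, hps, hr, T, hT⟩
    let K : Subgroup G := pPrimeCore p G
    haveI hKn : K.Normal := Cfsg.Agent.H05.pp_normal (G := G) p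
    have ht : ttN ι K = ⊥ := by
      rw [eq_bot_iff]
      intro x hx
      obtain ⟨hxS, hxK⟩ := mem_ttN.1 hx
      obtain ⟨k, hk⟩ := hS ⟨x, hxS⟩
      have h1 : (ι ⟨x, hxS⟩) ^ (p ^ k) = 1 := by
        rw [← map_pow]
        have : (⟨x, hxS⟩ : S) ^ p ^ k = 1 := Subtype.ext (congrArg Subtype.val hk)
        rw [this, map_one]
      have hcop : (Nat.card K).Coprime (p ^ k) :=
        Nat.Coprime.pow_right _ (Cfsg.Agent.H06.coprime_card_pPrimeCore (G := G) p)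
      have h2 : (⟨ι ⟨x, hxS⟩, hxK⟩ : K) ^ Nat.card K = 1 := pow_card_eq_one'
      have h2' : (ι ⟨x, hxS⟩) ^ Nat.card K = 1 := congrArg Subtype.val h2
      have h3 : ι ⟨x, hxS⟩ = 1 := RS.eq_one_of_coprime hcop h2' h1
      have h4 : (⟨x, hxS⟩ : S) = 1 := hr.1 (by rw [h3, map_one])
      exact Subgroup.mem_bot.2 (congrArg Subtype.val h4)
    let ι' : S →* G ⧸ K := (QuotientGroup.mk' K).comp ι
    have hr' : F.IsRealizedBy ι' := realized_quot hr T hT K ht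
    have hsurj : Function.Surjective (QuotientGroup.mk' K) := QuotientGroup.mk'_surjective K
    have hps' : IsPSolvable p (G ⧸ K) := Cfsg.Agent.H03.isPSolvable_of_surjective hsurj hps
    have hbot : pPrimeCore p (G ⧸ K) = ⊥ := Cfsg.Agent.H08.pPrimeCore_quotient_eq_bot p
    have hmodel : F.IsModel p (G ⧸ K) ι' := by
      refine ⟨inferInstance, hr', ⟨T.mapSurjective hsurj, ?_⟩, Cfsg.Agent.H03.centralizer_pCore_le_of_isPSolvable hps' hbot⟩
      rw [Sylow.coe_mapSurjective, hT, MonoidHom.range_comp]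
    exact ⟨constrained_of_model hS hmodel, (psolv_iff_of_model hS hmodel).1 hps'⟩
  · rintro ⟨hc, hps⟩
    obtain ⟨G, _, ι, hG⟩ := exists_model hS hc
    obtain ⟨hfG, hr, hT, -⟩ := id hG
    obtain ⟨T, hT⟩ := hT
    exact ⟨G, _, hfG, ι, (psolv_iff_of_model hS hG).2 hps, hr, T, hT⟩

end

end Cfsg.Agent.H24.CM
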