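import Mathlib
import Cfsg.Prelude.Def_FusionComponents
import Cfsg.Agent.Lib.H24.FusStancu
import Cfsg.Agent.Lib.H25.FusCyc
import Cfsg.Agent.Lib.H25.FusGT

/-!
The direct product of saturated fusion systems is saturated.
-/

set_option autoImplicit false

namespace Cfsg.Agent.H24

open Cfsg Cfsg.FusionSystem
open Cfsg.Agent.H25 (Mp Iso toFun toFun_coe mp_of_mem isConj_iff recept_ext mem_good_of_mem Far
  exists_ext_normalizer maps_normalizer far_of_fullyNormalized exists_far autOfIso autOfIso_apply autOfIso_mem)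

variable {Ω₁ Ω₂ : Type*} [Group Ω₁] [Group Ω₂] {S₁ : Subgroup Ω₁} {S₂ : Subgroup Ω₂}
  {F₁ : FusionSystem S₁} {F₂ : FusionSystem S₂} {E : FusionSystem (S₁.prod S₂)}

/-- The pair of two functions. -/
def pairFun (f₁ : Ω₁ → Ω₁) (f₂ : Ω₂ → Ω₂) : Ω₁ × Ω₂ → Ω₁ × Ω₂ := fun x => (f₁ x.1, f₂ x.2)

@[simp] theorem pairFun_apply (f₁ : Ω₁ → Ω₁) (f₂ : Ω₂ → Ω₂) (x : Ω₁ × Ω₂) :
    pairFun f₁ f₂ x = (f₁ x.1, f₂ x.2) := rfl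

theorem mp_pair (hE : IsProductSystem F₁ F₂ E) {P : Subgroup (Ω₁ × Ω₂)} {f₁ : Ω₁ → Ω₁} {f₂ : Ω₂ → Ω₂}
    (h₁ : Mp F₁ (P.map (MonoidHom.fst Ω₁ Ω₂)) f₁) (h₂ : Mp F₂ (P.map (MonoidHom.snd Ω₁ Ω₂)) f₂)
    (hP : P ≤ S₁.prod S₂) : Mp E P (pairFun f₁ f₂) := by
  obtain ⟨φ₁, hφ₁, hv₁⟩ := h₁
  obtain ⟨φ₂, hφ₂, hv₂⟩ := h₂
  have m₁ : ∀ x : P, (x : Ω₁ × Ω₂).1 ∈ P.map (MonoidHom.fst Ω₁ Ω₂) := fun x => ⟨x, x.2, rfl⟩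
  have m₂ : ∀ x : P, (x : Ω₁ × Ω₂).2 ∈ P.map (MonoidHom.snd Ω₁ Ω₂) := fun x => ⟨x, x.2, rfl⟩
  let φ : P →* Ω₁ × Ω₂ :=
    { toFun := fun x => (φ₁ ⟨_, m₁ x⟩, φ₂ ⟨_, m₂ x⟩)
      map_one' := by
        have e1 : (⟨_, m₁ 1⟩ : P.map (MonoidHom.fst Ω₁ Ω₂)) = 1 := rfl
        have e2 : (⟨_, m₂ 1⟩ : P.map (MonoidHom.snd Ω₁ Ω₂)) = 1 := rfl
        rw [e1, e2, map_one, map_one]
        rfl
      map_mul' := fun x y => by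
        have e1 : (⟨_, m₁ (x * y)⟩ : P.map (MonoidHom.fst Ω₁ Ω₂)) = ⟨_, m₁ x⟩ * ⟨_, m₁ y⟩ := rfl
        have e2 : (⟨_, m₂ (x * y)⟩ : P.map (MonoidHom.snd Ω₁ Ω₂)) = ⟨_, m₂ x⟩ * ⟨_, m₂ y⟩ := rfl
        rw [e1, e2, map_mul, map_mul]
        rfl }
  refine ⟨φ, (hE P φ).mpr ⟨hP, φ₁, hφ₁, φ₂, hφ₂, fun x h1 h2 => rfl⟩, fun x => ?_⟩
  change (φ₁ _, φ₂ _) = (f₁ _, f₂ _)
  rw [hv₁, hv₂]

theorem exists_of_mp_prod (hE : IsProductSystem F₁ F₂ E) {P : Subgroup (Ω₁ × Ω₂)} {f : Ω₁ × Ω₂ → Ω₁ × Ω₂}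
    (h : Mp E P f) : ∃ f₁ f₂, Mp F₁ (P.map (MonoidHom.fst Ω₁ Ω₂)) f₁ ∧ Mp F₂ (P.map (MonoidHom.snd Ω₁ Ω₂)) f₂ ∧
      ∀ x ∈ P, f x = (f₁ x.1, f₂ x.2) := by
  obtain ⟨φ, hφ, hv⟩ := h
  obtain ⟨-, φ₁, hφ₁, φ₂, hφ₂, hf⟩ := (hE P φ).mp hφ
  refine ⟨toFun φ₁, toFun φ₂, mp_of_mem hφ₁, mp_of_mem hφ₂, fun x hx => ?_⟩
  have m₁ : x.1 ∈ P.map (MonoidHom.fst Ω₁ Ω₂) := ⟨x, hx, rfl⟩
  have m₂ : x.2 ∈ P.map (MonoidHom.snd Ω₁ Ω₂) := ⟨x, hx, rfl⟩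
  rw [toFun_coe φ₁ ⟨_, m₁⟩, toFun_coe φ₂ ⟨_, m₂⟩, ← hv ⟨x, hx⟩]
  exact hf ⟨x, hx⟩ m₁ m₂

theorem fst_prod_eq : (S₁.prod S₂).map (MonoidHom.fst Ω₁ Ω₂) = S₁ := by
  ext x
  constructor
  · rintro ⟨y, hy, rfl⟩
    exact hy.1
  · intro hx
    exact ⟨(x, 1), ⟨hx, S₂.one_mem⟩, rfl⟩

theorem snd_prod_eq : (S₁.prod S₂).map (MonoidHom.snd Ω₁ Ω₂) = S₂ := by
  ext x
  constructor
  · rintro ⟨y, hy, rfl⟩
    exact hy.2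
  · intro hx
    exact ⟨(1, x), ⟨S₁.one_mem, hx⟩, rfl⟩

theorem fst_mem_normalizer {R : Subgroup (Ω₁ × Ω₂)} {g : Ω₁ × Ω₂} (hg : g ∈ Subgroup.normalizer (R : Set (Ω₁ × Ω₂))) :
    g.1 ∈ Subgroup.normalizer ((R.map (MonoidHom.fst Ω₁ Ω₂) : Subgroup Ω₁) : Set Ω₁) := by
  apply Cfsg.Agent.H25.mem_normalizer_of_conj
  · rintro _ ⟨x, hx, rfl⟩
    exact ⟨_, Cfsg.Agent.H25.conj_mem_of_normalizer hg hx, rfl⟩
  · rintro _ ⟨x, hx, rfl⟩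
    exact ⟨_, Cfsg.Agent.H25.conj_inv_mem_of_normalizer hg hx, rfl⟩

theorem snd_mem_normalizer {R : Subgroup (Ω₁ × Ω₂)} {g : Ω₁ × Ω₂} (hg : g ∈ Subgroup.normalizer (R : Set (Ω₁ × Ω₂))) :
    g.2 ∈ Subgroup.normalizer ((R.map (MonoidHom.snd Ω₁ Ω₂) : Subgroup Ω₂) : Set Ω₂) := by
  apply Cfsg.Agent.H25.mem_normalizer_of_conj
  · rintro _ ⟨x, hx, rfl⟩
    exact ⟨_, Cfsg.Agent.H25.conj_mem_of_normalizer hg hx, rfl⟩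
  · rintro _ ⟨x, hx, rfl⟩
    exact ⟨_, Cfsg.Agent.H25.conj_inv_mem_of_normalizer hg hx, rfl⟩

variable {p : ℕ} [Fact p.Prime]

theorem finite_prod [Finite S₁] [Finite S₂] : Finite ↥(S₁.prod S₂) :=
  Finite.of_injective (fun x : ↥(S₁.prod S₂) => ((⟨x.1.1, x.2.1⟩ : S₁), (⟨x.1.2, x.2.2⟩ : S₂)))
    (fun a b h => Subtype.ext (Prod.ext (congrArg (fun y => (y.1 : Ω₁)) h) (congrArg (fun y => (y.2 : Ω₂)) h)))

theorem isPGroup_prod (h₁ : IsPGroup p S₁) (h₂ : IsPGroup p S₂) : IsPGroup p ↥(S₁.prod S₂) := by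
  rintro ⟨⟨a, b⟩, ha, hb⟩
  obtain ⟨k, hk⟩ := h₁ ⟨a, ha⟩
  obtain ⟨l, hl⟩ := h₂ ⟨b, hb⟩
  have hk' : a ^ p ^ k = 1 := congrArg Subtype.val hk
  have hl' : b ^ p ^ l = 1 := congrArg Subtype.val hl
  refine ⟨k + l, Subtype.ext (Prod.ext ?_ ?_)⟩
  · change a ^ p ^ (k + l) = 1
    rw [pow_add, pow_mul, hk', one_pow]
  · change b ^ p ^ (k + l) = 1
    rw [add_comm, pow_add, pow_mul, hl', one_pow]

variable [Finite S₁] [Finite S₂]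

/-- `p`-elements of `Aut_E(S₁ × S₂)` are inner. -/
theorem prod_inner_of_pow (h₁ : IsPGroup p S₁) (h₂ : IsPGroup p S₂) (hF₁ : F₁.IsSaturated p) (hF₂ : F₂.IsSaturated p)
    (hE : IsProductSystem F₁ F₂ E) {α : MulAut ↥(S₁.prod S₂)} (hα : α ∈ E.autGroup (S₁.prod S₂)) {k : ℕ}
    (hk : α ^ p ^ k = 1) : α ∈ autInducedBy (S₁.prod S₂) (S₁.prod S₂) := by
  have hI := Iso.of_mem_autGroup (F := E) (le_refl _) hα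
  obtain ⟨f₁, f₂, hf₁, hf₂, hv⟩ := exists_of_mp_prod hE hI.mp
  rw [fst_prod_eq] at hf₁
  rw [snd_prod_eq] at hf₂
  have hv' : ∀ x (hx : x ∈ S₁.prod S₂), ((α ⟨x, hx⟩ : ↥(S₁.prod S₂)) : Ω₁ × Ω₂) = (f₁ x.1, f₂ x.2) := by
    intro x hx
    rw [← hv x hx]
    exact (Cfsg.Agent.H25.toFun_aut α ⟨x, hx⟩).symm
  have hI₁ : Iso F₁ S₁ S₁ f₁ := Iso.of_maps hf₁ (fun _ hx => hf₁.mem hx)
  have hI₂ : Iso F₂ S₂ S₂ f₂ := Iso.of_maps hf₂ (fun _ hx => hf₂.mem hx)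
  have hiter : ∀ (n : ℕ) x (hx : x ∈ S₁.prod S₂), (((α ^ n) ⟨x, hx⟩ : ↥(S₁.prod S₂)) : Ω₁ × Ω₂) = (f₁^[n] x.1, f₂^[n] x.2) := by
    intro n
    induction n with
    | zero => intro x hx; rfl
    | succ n ih =>
      intro x hx
      rw [pow_succ']
      change ((α ((α ^ n) ⟨x, hx⟩) : ↥(S₁.prod S₂)) : Ω₁ × Ω₂) = _
      have e := ih x hx
      have hm := ((α ^ n) ⟨x, hx⟩).2
      have e2 : (α ^ n) ⟨x, hx⟩ = ⟨(f₁^[n] x.1, f₂^[n] x.2), by rw [← e]; exact hm⟩ := Subtype.ext e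
      rw [e2, hv', Function.iterate_succ_apply', Function.iterate_succ_apply']
  have hpow₁ : (autOfIso hI₁) ^ p ^ k = 1 := by
    apply MulEquiv.ext
    intro x
    apply Subtype.ext
    rw [← Cfsg.Agent.H25.iterate_aut]
    have hxm : ((x : Ω₁), (1 : Ω₂)) ∈ S₁.prod S₂ := ⟨x.2, S₂.one_mem⟩
    have := hiter (p ^ k) _ hxm
    rw [hk] at this
    exact (congrArg Prod.fst this).symm
  have hpow₂ : (autOfIso hI₂) ^ p ^ k = 1 := by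
    apply MulEquiv.ext
    intro x
    apply Subtype.ext
    rw [← Cfsg.Agent.H25.iterate_aut]
    have hxm : ((1 : Ω₁), (x : Ω₂)) ∈ S₁.prod S₂ := ⟨S₁.one_mem, x.2⟩
    have := hiter (p ^ k) _ hxm
    rw [hk] at this
    exact (congrArg Prod.snd this).symm
  obtain ⟨s₁, hs₁, hc₁⟩ := Cfsg.Agent.H25.inner_of_pow h₁ hF₁ (autOfIso_mem hI₁) hpow₁
  obtain ⟨s₂, hs₂, hc₂⟩ := Cfsg.Agent.H25.inner_of_pow h₂ hF₂ (autOfIso_mem hI₂) hpow₂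
  refine Cfsg.Agent.H25.mem_autInducedBy_of_conj (K := S₁.prod S₂) (s := (s₁, s₂)) (Subgroup.mem_prod.mpr ⟨hs₁, hs₂⟩) ?_
  rintro ⟨⟨a, b⟩, hab⟩
  obtain ⟨ha, hb⟩ := Subgroup.mem_prod.mp hab
  refine (hv' (a, b) hab).trans ?_
  have e₁ := hc₁ ⟨a, ha⟩
  have e₂ := hc₂ ⟨b, hb⟩
  rw [autOfIso_apply] at e₁ e₂
  exact Prod.ext e₁ e₂

/-- `S₁ × S₂` is fully automized. -/
theorem prod_fullyAutomized (h₁ : IsPGroup p S₁) (h₂ : IsPGroup p S₂) (hF₁ : F₁.IsSaturated p) (hF₂ : F₂.IsSaturated p)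
    (hE : IsProductSystem F₁ F₂ E) : E.IsFullyAutomized p (S₁.prod S₂) := by
  haveI : Finite ↥(S₁.prod S₂) := finite_prod
  refine ⟨le_rfl, ?_⟩
  have hpS := isPGroup_prod h₁ h₂
  have hpB : IsPGroup p ↥((autInducedBy (S₁.prod S₂) (S₁.prod S₂)).subgroupOf (E.autGroup (S₁.prod S₂))) := by
    rintro ⟨α, hα⟩
    have hα' : (α : MulAut ↥(S₁.prod S₂)) ∈ autInducedBy (S₁.prod S₂) (S₁.prod S₂) := Subgroup.mem_subgroupOf.mp hα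
    obtain ⟨s, hs, hv⟩ := Cfsg.Agent.H25.exists_of_mem_autInducedBy hα'
    obtain ⟨k, hk⟩ := hpS ⟨s, hs⟩
    have hk' : s ^ p ^ k = 1 := congrArg Subtype.val hk
    refine ⟨k, ?_⟩
    apply Subtype.ext
    apply Subtype.ext
    apply MulEquiv.ext
    intro x
    apply Subtype.ext
    have hn : ∀ n : ℕ, (((α : MulAut ↥(S₁.prod S₂)) ^ n) x : ↥(S₁.prod S₂)).1 = s ^ n * x * (s ^ n)⁻¹ := by
      intro n
      induction n with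
      | zero => simp
      | succ n ih =>
        rw [pow_succ']
        change (((α : MulAut ↥(S₁.prod S₂)) (((α : MulAut ↥(S₁.prod S₂)) ^ n) x)) : ↥(S₁.prod S₂)).1 = _
        rw [hv, ih]
        group
    change (((α : MulAut ↥(S₁.prod S₂)) ^ p ^ k) x : ↥(S₁.prod S₂)).1 = x
    rw [hn, hk']
    simp
  refine ⟨⟨_, hpB, ?_⟩, rfl⟩
  intro Q hQ hBQ
  apply le_antisymm _ hBQ
  rintro ⟨α, hαA⟩ hαQ
  obtain ⟨k, hk⟩ := hQ ⟨⟨α, hαA⟩, hαQ⟩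
  have hk' : α ^ p ^ k = 1 := by
    have h1 := congrArg Subtype.val (congrArg Subtype.val hk)
    exact h1
  exact Subgroup.mem_subgroupOf.mpr (prod_inner_of_pow h₁ h₂ hF₁ hF₂ hE hαA hk')

/-- Fully normalized subgroups are receptive in the product system. -/
theorem prod_receptive (h₁ : IsPGroup p S₁) (h₂ : IsPGroup p S₂) (hF₁ : F₁.IsSaturated p) (hF₂ : F₂.IsSaturated p)
    (hE : IsProductSystem F₁ F₂ E) {P : Subgroup (Ω₁ × Ω₂)} (hPn : E.IsFullyNormalized P) : E.IsReceptive P := by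
  classical
  haveI hfinS : Finite ↥(S₁.prod S₂) := finite_prod
  have hPS : P ≤ S₁.prod S₂ := hPn.1
  refine ⟨hPS, fun R φ hφ hφr => ?_⟩
  have hRS : R ≤ S₁.prod S₂ := (E.le_of_mem hφ).1
  -- the map as a total function
  let f := toFun φ
  have hfI : Iso E R P f := by
    refine ⟨mp_of_mem hφ, fun x hx => ?_, fun y hy => ?_⟩
    · change toFun φ x ∈ P
      rw [toFun_coe φ ⟨x, hx⟩, ← hφr]
      exact ⟨_, rfl⟩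
    · rw [← hφr] at hy
      obtain ⟨x, rfl⟩ := hy
      exact ⟨x, x.2, toFun_coe φ x⟩
  obtain ⟨f₁, f₂, hf₁, hf₂, hfv⟩ := exists_of_mp_prod hE hfI.mp
  set R₁ := R.map (MonoidHom.fst Ω₁ Ω₂) with hR₁
  set R₂ := R.map (MonoidHom.snd Ω₁ Ω₂) with hR₂
  set P₁ := P.map (MonoidHom.fst Ω₁ Ω₂) with hP₁
  set P₂ := P.map (MonoidHom.snd Ω₁ Ω₂) with hP₂
  have hI₁ : Iso F₁ R₁ P₁ f₁ := by
    refine ⟨hf₁, ?_, ?_⟩
    · rintro _ ⟨x, hx, rfl⟩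
      refine ⟨f x, hfI.maps x hx, ?_⟩
      rw [hfv x hx]
      rfl
    · rintro _ ⟨y, hy, rfl⟩
      obtain ⟨x, hx, rfl⟩ := hfI.surj y hy
      refine ⟨x.1, ⟨x, hx, rfl⟩, ?_⟩
      rw [hfv x hx]
      rfl
  have hI₂ : Iso F₂ R₂ P₂ f₂ := by
    refine ⟨hf₂, ?_, ?_⟩
    · rintro _ ⟨x, hx, rfl⟩
      refine ⟨f x, hfI.maps x hx, ?_⟩
      rw [hfv x hx]
      rfl
    · rintro _ ⟨y, hy, rfl⟩
      obtain ⟨x, hx, rfl⟩ := hfI.surj y hy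
      refine ⟨x.2, ⟨x, hx, rfl⟩, ?_⟩
      rw [hfv x hx]
      rfl
  have hP₁S : P₁ ≤ S₁ := by
    rintro _ ⟨x, hx, rfl⟩
    exact (hPS hx).1
  have hP₂S : P₂ ≤ S₂ := by
    rintro _ ⟨x, hx, rfl⟩
    exact (hPS hx).2
  -- fully automized receptive targets
  obtain ⟨Q₁, g₁, hQ₁, hg₁⟩ := exists_far hF₁ hP₁S
  obtain ⟨Q₂, g₂, hQ₂, hg₂⟩ := exists_far hF₂ hP₂S
  obtain ⟨χ₁, hχ₁, hχI₁⟩ := exists_ext_normalizer h₁ hQ₁ (isConj_iff.mpr ⟨g₁, hg₁⟩)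
  obtain ⟨χ₂, hχ₂, hχI₂⟩ := exists_ext_normalizer h₂ hQ₂ (isConj_iff.mpr ⟨g₂, hg₂⟩)
  have hk₁ : Iso F₁ R₁ Q₁ (χ₁ ∘ f₁) := hI₁.comp hχI₁
  have hk₂ : Iso F₂ R₂ Q₂ (χ₂ ∘ f₂) := hI₂.comp hχI₂
  -- the extender elements project to extender elements
  let K₁ : Subgroup Ω₁ := Subgroup.closure {g : Ω₁ | g ∈ S₁ ∧ g ∈ Subgroup.normalizer (R₁ : Set Ω₁) ∧
      ∃ s ∈ S₁, ∀ x ∈ R₁, (χ₁ ∘ f₁) (g * x * g⁻¹) = s * (χ₁ ∘ f₁) x * s⁻¹}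
  let K₂ : Subgroup Ω₂ := Subgroup.closure {g : Ω₂ | g ∈ S₂ ∧ g ∈ Subgroup.normalizer (R₂ : Set Ω₂) ∧
      ∃ s ∈ S₂, ∀ x ∈ R₂, (χ₂ ∘ f₂) (g * x * g⁻¹) = s * (χ₂ ∘ f₂) x * s⁻¹}
  have hR₁K : R₁ ≤ K₁ := fun x hx => Subgroup.subset_closure (mem_good_of_mem hk₁ hx)
  have hR₂K : R₂ ≤ K₂ := fun x hx => Subgroup.subset_closure (mem_good_of_mem hk₂ hx)
  obtain ⟨ψ₁, hψ₁, hψv₁⟩ := recept_ext hQ₁.recep hk₁ hR₁K le_rfl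
  obtain ⟨ψ₂, hψ₂, hψv₂⟩ := recept_ext hQ₂.recep hk₂ hR₂K le_rfl
  set N := extender (S₁.prod S₂) R φ with hN
  have hgen : ∀ g : Ω₁ × Ω₂, g ∈ S₁.prod S₂ → g ∈ Subgroup.normalizer (R : Set (Ω₁ × Ω₂)) →
      (∃ h ∈ S₁.prod S₂, ∀ (x : R) (hx : g * (x : Ω₁ × Ω₂) * g⁻¹ ∈ R), φ ⟨g * x * g⁻¹, hx⟩ = h * φ x * h⁻¹) →
      g.1 ∈ K₁ ∧ g.2 ∈ K₂ := by
    rintro g hgS hgN ⟨h, hhS, hh⟩
    have hfh : ∀ x ∈ R, f (g * x * g⁻¹) = h * f x * h⁻¹ := by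
      intro x hx
      have hx' : g * x * g⁻¹ ∈ R := Cfsg.Agent.H25.conj_mem_of_normalizer hgN hx
      have e1 := hh ⟨x, hx⟩ hx'
      change toFun φ _ = h * toFun φ x * h⁻¹
      rw [toFun_coe φ ⟨_, hx'⟩, toFun_coe φ ⟨x, hx⟩]
      exact e1
    have hhN : h ∈ Subgroup.normalizer (P : Set (Ω₁ × Ω₂)) := by
      apply Cfsg.Agent.H25.mem_normalizer_of_conj
      · intro y hy
        obtain ⟨x, hx, rfl⟩ := hfI.surj y hy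
        rw [← hfh x hx]
        exact hfI.maps _ (Cfsg.Agent.H25.conj_mem_of_normalizer hgN hx)
      · intro y hy
        obtain ⟨x, hx, rfl⟩ := hfI.surj y hy
        have hx' : g⁻¹ * x * g ∈ R := Cfsg.Agent.H25.conj_inv_mem_of_normalizer hgN hx
        have e := hfh _ hx'
        have e2 : g * (g⁻¹ * x * g) * g⁻¹ = x := by group
        rw [e2] at e
        have e3 : h⁻¹ * f x * h = f (g⁻¹ * x * g) := by rw [e]; group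
        rw [e3]
        exact hfI.maps _ hx'
    have hfac : ∀ x ∈ R, f₁ (g.1 * x.1 * g.1⁻¹) = h.1 * f₁ x.1 * h.1⁻¹ ∧
        f₂ (g.2 * x.2 * g.2⁻¹) = h.2 * f₂ x.2 * h.2⁻¹ := by
      intro x hx
      have hx' : g * x * g⁻¹ ∈ R := Cfsg.Agent.H25.conj_mem_of_normalizer hgN hx
      have e := hfh x hx
      rw [hfv _ hx', hfv x hx] at e
      exact ⟨congrArg Prod.fst e, congrArg Prod.snd e⟩
    have hh₁ : h.1 ∈ normalizerIn S₁ P₁ := ⟨hhS.1, fst_mem_normalizer hhN⟩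
    have hh₂ : h.2 ∈ normalizerIn S₂ P₂ := ⟨hhS.2, snd_mem_normalizer hhN⟩
    constructor
    · apply Subgroup.subset_closure
      refine ⟨hgS.1, fst_mem_normalizer hgN, χ₁ h.1, hχ₁.mem hh₁, ?_⟩
      rintro _ ⟨x, hx, rfl⟩
      have hfx : f₁ x.1 ∈ normalizerIn S₁ P₁ :=
        Cfsg.Agent.H25.le_normalizerIn hP₁S (hI₁.maps _ ⟨x, hx, rfl⟩)
      change χ₁ (f₁ (g.1 * x.1 * g.1⁻¹)) = χ₁ h.1 * χ₁ (f₁ x.1) * (χ₁ h.1)⁻¹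
      rw [(hfac x hx).1, hχ₁.map_mul (Subgroup.mul_mem _ hh₁ hfx) (Subgroup.inv_mem _ hh₁), hχ₁.map_mul hh₁ hfx,
        hχ₁.map_inv hh₁]
    · apply Subgroup.subset_closure
      refine ⟨hgS.2, snd_mem_normalizer hgN, χ₂ h.2, hχ₂.mem hh₂, ?_⟩
      rintro _ ⟨x, hx, rfl⟩
      have hfx : f₂ x.2 ∈ normalizerIn S₂ P₂ :=
        Cfsg.Agent.H25.le_normalizerIn hP₂S (hI₂.maps _ ⟨x, hx, rfl⟩)
      change χ₂ (f₂ (g.2 * x.2 * g.2⁻¹)) = χ₂ h.2 * χ₂ (f₂ x.2) * (χ₂ h.2)⁻¹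
      rw [(hfac x hx).2, hχ₂.map_mul (Subgroup.mul_mem _ hh₂ hfx) (Subgroup.inv_mem _ hh₂), hχ₂.map_mul hh₂ hfx,
        hχ₂.map_inv hh₂]
  have hNgen : ∀ g ∈ N, g.1 ∈ K₁ ∧ g.2 ∈ K₂ := by
    intro g hg
    induction hg using Subgroup.closure_induction with
    | mem g hg =>
      obtain ⟨h1, h2, h, hh, hv⟩ := hg
      exact hgen g h1 h2 ⟨h, hh, hv⟩
    | one => exact ⟨K₁.one_mem, K₂.one_mem⟩
    | mul a b _ _ iha ihb => exact ⟨K₁.mul_mem iha.1 ihb.1, K₂.mul_mem iha.2 ihb.2⟩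
    | inv a _ iha => exact ⟨K₁.inv_mem iha.1, K₂.inv_mem iha.2⟩
  have hNS : N ≤ S₁.prod S₂ := (Subgroup.closure_le _).mpr fun g hg => hg.1
  have hNN : N ≤ Subgroup.normalizer (R : Set (Ω₁ × Ω₂)) := (Subgroup.closure_le _).mpr fun g hg => hg.2.1
  have hψ : Mp E N (pairFun ψ₁ ψ₂) := by
    refine mp_pair hE (hψ₁.restrict ?_) (hψ₂.restrict ?_) hNS
    · rintro _ ⟨g, hg, rfl⟩
      exact (hNgen g hg).1
    · rintro _ ⟨g, hg, rfl⟩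
      exact (hNgen g hg).2
  set N₀ := normalizerIn (S₁.prod S₂) P with hN₀
  have hχ : Mp E N₀ (pairFun χ₁ χ₂) := by
    refine mp_pair hE (hχ₁.restrict ?_) (hχ₂.restrict ?_) inf_le_left
    · rintro _ ⟨g, hg, rfl⟩
      exact ⟨hg.1.1, fst_mem_normalizer hg.2⟩
    · rintro _ ⟨g, hg, rfl⟩
      exact ⟨hg.1.2, snd_mem_normalizer hg.2⟩
  have hPN₀ : P ≤ N₀ := Cfsg.Agent.H25.le_normalizerIn hPS
  have hχP : Mp E P (pairFun χ₁ χ₂) := hχ.restrict hPN₀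
  have hI' : Iso E P hχP.img (pairFun χ₁ χ₂) := Iso.of_mp hχP
  have hcard := hPn.2 hχP.img (isConj_iff.mpr ⟨_, hI'⟩)
  have hmapN : ∀ g ∈ N₀, pairFun χ₁ χ₂ g ∈ normalizerIn (S₁.prod S₂) hχP.img := fun g hg =>
    maps_normalizer hχ hI' hPN₀ Cfsg.Agent.H25.normalizerIn_le_normalizer hg
  haveI : Finite ↥(normalizerIn (S₁.prod S₂) hχP.img) := Cfsg.Agent.H25.finite_of_le inf_le_left
  let ι : N₀ → normalizerIn (S₁.prod S₂) hχP.img := fun x => ⟨_, hmapN x x.2⟩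
  have hιinj : Function.Injective ι := by
    intro a b hab
    exact Subtype.ext (hχ.inj a.2 b.2 (congrArg Subtype.val hab))
  have hιbij := hιinj.bijective_of_nat_card_le hcard
  have hI₀ : Iso E N₀ (normalizerIn (S₁.prod S₂) hχP.img) (pairFun χ₁ χ₂) := by
    refine ⟨hχ, hmapN, fun y hy => ?_⟩
    obtain ⟨x, hx⟩ := hιbij.2 ⟨y, hy⟩
    exact ⟨x, x.2, congrArg Subtype.val hx⟩
  obtain ⟨χ', hχ', hl, -⟩ := hI₀.inv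
  have hψR : ∀ x ∈ R, pairFun ψ₁ ψ₂ x = pairFun χ₁ χ₂ (f x) := by
    intro x hx
    rw [hfv x hx]
    simp only [pairFun_apply]
    rw [hψv₁ x.1 ⟨x, hx, rfl⟩, hψv₂ x.2 ⟨x, hx, rfl⟩]
    rfl
  have hIR : Iso E R hχP.img (pairFun ψ₁ ψ₂) := (hfI.comp hI').congr (fun x hx => (hψR x hx).symm)
  have hRN : R ≤ N := by
    intro x hx
    refine Subgroup.subset_closure ⟨hRS hx, ?_, φ ⟨x, hx⟩, (E.le_of_mem hφ).2 _, fun y hy => ?_⟩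
    · exact Cfsg.Agent.H25.mem_normalizer_of_conj (fun y hy => R.mul_mem (R.mul_mem hx hy) (R.inv_mem hx))
        (fun y hy => R.mul_mem (R.mul_mem (R.inv_mem hx) hy) hx)
    · have e : (⟨x * y * x⁻¹, hy⟩ : R) = ⟨x, hx⟩ * y * (⟨x, hx⟩ : R)⁻¹ := rfl
      rw [e, map_mul, map_mul, map_inv]
  have hmaps : ∀ g ∈ N, pairFun ψ₁ ψ₂ g ∈ normalizerIn (S₁.prod S₂) hχP.img := fun g hg =>
    maps_normalizer hψ hIR hRN hNN hg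
  obtain ⟨ψ₀, hψ₀, hv₀⟩ := hψ.comp hmaps hχ'.mp
  refine ⟨ψ₀, hψ₀, fun x hP' hN' => ?_⟩
  rw [hv₀ ⟨x, hN'⟩]
  simp only [Function.comp]
  rw [hψR x hP', hl _ (hPN₀ (hfI.maps x hP'))]
  exact toFun_coe φ ⟨x, hP'⟩

/-- S5137. -/
theorem prod_saturated (h₁ : IsPGroup p S₁) (h₂ : IsPGroup p S₂) (hF₁ : F₁.IsSaturated p) (hF₂ : F₂.IsSaturated p)
    (hE : IsProductSystem F₁ F₂ E) : E.IsSaturated p := by
  haveI : Finite ↥(S₁.prod S₂) := finite_prod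
  exact (saturated_iff_stancu (isPGroup_prod h₁ h₂)).mpr
    ⟨prod_fullyAutomized h₁ h₂ hF₁ hF₂ hE, fun P hP => prod_receptive h₁ h₂ hF₁ hF₂ hE hP⟩

end Cfsg.Agent.H24
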