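import Mathlib
import Cfsg.Prelude.Def_FusionComponents
import Cfsg.Agent.Lib.H24.FusFactor
import Cfsg.Agent.Lib.H24.FusGroup

/-!
Fusion in a quotient group: lifting conjugations, `F_S(G)/(S ∩ H) = F_{SH/H}(G/H)`.
-/

set_option autoImplicit false

namespace Cfsg.Agent.H24

open Cfsg Cfsg.FusionSystem

variable {G : Type*} [Group G] {p : ℕ}

theorem mk_mem_map_iff {H S : Subgroup G} [H.Normal] {x : G} :
    (QuotientGroup.mk x : G ⧸ H) ∈ S.map (QuotientGroup.mk' H) ↔ x ∈ S ⊔ H := by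
  constructor
  · rintro ⟨s, hs, h⟩
    have h1 : s⁻¹ * x ∈ H := QuotientGroup.eq.1 h
    have h2 : x = s * (s⁻¹ * x) := by group
    rw [h2]
    exact Subgroup.mul_mem _ (Subgroup.mem_sup_left hs) (Subgroup.mem_sup_right h1)
  · intro hx
    have hle : S ≤ Subgroup.normalizer (H : Set G) := by
      rw [Subgroup.normalizer_eq_top H]; exact le_top
    obtain ⟨s, hs, h, hh, rfl⟩ := mem_sup_of_le_normalizer hle hx
    refine ⟨s, hs, ?_⟩
    show (QuotientGroup.mk s : G ⧸ H) = QuotientGroup.mk (s * h)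
    rw [QuotientGroup.mk_mul, (QuotientGroup.eq_one_iff h).2 hh, mul_one]

variable [Finite G] [Fact p.Prime]

theorem sylow_isSylowIn_sup (S : Sylow p G) (H : Subgroup G) :
    IsSylowIn p (S : Subgroup G) ((S : Subgroup G) ⊔ H) := by
  refine (isSylowIn_iff le_sup_left).2 ⟨S.isPGroup', fun U _ hU => ?_⟩
  obtain ⟨T, hT⟩ := hU.exists_le_sylow
  calc Nat.card U ≤ Nat.card T := Subgroup.card_le_of_le hT
    _ = Nat.card S := by rw [Sylow.card_eq_multiplicity, Sylow.card_eq_multiplicity]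

/-- Conjugating a `p`-subgroup of `SH` into `S` by an element of `H`. -/
theorem exists_conj_normal (S : Sylow p G) (H : Subgroup G) [H.Normal] {U : Subgroup G}
    (hU : IsPGroup p U) (hUS : U ≤ (S : Subgroup G) ⊔ H) :
    ∃ h ∈ H, U.map (MulAut.conj h).toMonoidHom ≤ S := by
  obtain ⟨x, hx, hxU⟩ := (sylow_isSylowIn_sup S H).exists_conj hUS hU
  have hle : (S : Subgroup G) ≤ Subgroup.normalizer (H : Set G) := by
    rw [Subgroup.normalizer_eq_top H]; exact le_top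
  obtain ⟨s, hs, h, hh, rfl⟩ := mem_sup_of_le_normalizer hle hx
  refine ⟨h, hh, ?_⟩
  rintro _ ⟨u, hu, rfl⟩
  have h1 : s * h * u * (s * h)⁻¹ ∈ (S : Subgroup G) := hxU ⟨u, hu, rfl⟩
  have h2 : h * u * h⁻¹ = s⁻¹ * (s * h * u * (s * h)⁻¹) * s := by group
  show h * u * h⁻¹ ∈ (S : Subgroup G)
  rw [h2]
  exact Subgroup.mul_mem _ (Subgroup.mul_mem _ (Subgroup.inv_mem _ hs) h1) hs

/-- S5191. -/
theorem exists_lift_fusion (H : Subgroup G) [H.Normal] (S : Sylow p G) (P : Subgroup G)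
    (hP : P ≤ (S : Subgroup G)) (γ : G ⧸ H)
    (hγ : ∀ x ∈ P, γ * QuotientGroup.mk x * γ⁻¹ ∈ ((S : Subgroup G).map (QuotientGroup.mk' H))) :
    ∃ g : G, ∀ x ∈ P, g * x * g⁻¹ ∈ S ∧
      (QuotientGroup.mk (g * x * g⁻¹) : G ⧸ H) = γ * QuotientGroup.mk x * γ⁻¹ := by
  obtain ⟨g, rfl⟩ := QuotientGroup.mk_surjective γ
  have hpP : IsPGroup p P := S.isPGroup'.to_le hP
  have hU : P.map (MulAut.conj g).toMonoidHom ≤ (S : Subgroup G) ⊔ H := by
    rintro _ ⟨x, hx, rfl⟩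
    apply mk_mem_map_iff.1
    exact hγ x hx
  obtain ⟨h, hh, hle⟩ := exists_conj_normal S H (isPGroup_cj hpP g) hU
  refine ⟨h * g, fun x hx => ⟨?_, ?_⟩⟩
  · have h1 : h * (g * x * g⁻¹) * h⁻¹ ∈ (S : Subgroup G) := hle ⟨_, ⟨x, hx, rfl⟩, rfl⟩
    have h2 : h * g * x * (h * g)⁻¹ = h * (g * x * g⁻¹) * h⁻¹ := by group
    rwa [h2]
  · have h1 : (QuotientGroup.mk h : G ⧸ H) = 1 := (QuotientGroup.eq_one_iff h).2 hh
    show ((QuotientGroup.mk h : G ⧸ H) * QuotientGroup.mk g) * QuotientGroup.mk (x : G) *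
      ((QuotientGroup.mk h : G ⧸ H) * QuotientGroup.mk g)⁻¹ = _
    rw [h1, one_mul]

/-- S5135. -/
theorem groupFusion_factor (S : Sylow p G) (H : Subgroup G) [H.Normal] :
    (groupFusionSystem (S : Subgroup G)).IsFactorSystem ((S : Subgroup G) ⊓ H)
      ((QuotientGroup.mk' H).comp (S : Subgroup G).subtype)
      (groupFusionSystem ((S : Subgroup G).map (QuotientGroup.mk' H))) := by
  set θ : (S : Subgroup G) →* G ⧸ H := (QuotientGroup.mk' H).comp (S : Subgroup G).subtype with hθ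
  have hθv : ∀ x : (S : Subgroup G), θ x = (QuotientGroup.mk (x : G) : G ⧸ H) := fun _ => rfl
  have hpS : IsPGroup p (S : Subgroup G) := S.isPGroup'
  refine ⟨inf_le_left, fun s => ?_, ?_, fun P' φ' => ⟨?_, ?_⟩⟩
  · rw [hθv, QuotientGroup.eq_one_iff]
    exact ⟨fun h => ⟨s.2, h⟩, fun h => h.2⟩
  · ext y
    constructor
    · rintro ⟨s, rfl⟩
      exact ⟨s, s.2, rfl⟩
    · rintro ⟨s, hs, rfl⟩
      exact ⟨⟨s, hs⟩, rfl⟩
  · rintro ⟨hP', hv, g', hg'⟩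
    refine ⟨hP', ?_⟩
    obtain ⟨g, rfl⟩ := QuotientGroup.mk_surjective g'
    set R := preimageAlong θ P' with hR
    have hRS : R ≤ (S : Subgroup G) := preimageAlong_le P'
    have hpR : IsPGroup p R := hpS.to_le hRS
    have hU : R.map (MulAut.conj g).toMonoidHom ≤ (S : Subgroup G) ⊔ H := by
      rintro _ ⟨x, hx, rfl⟩
      apply mk_mem_map_iff.1
      obtain ⟨hxS, hxP⟩ := mem_preimageAlong.1 hx
      have h1 := hv ⟨θ ⟨x, hxS⟩, hxP⟩
      rw [hg'] at h1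
      have : (QuotientGroup.mk (g * x * g⁻¹) : G ⧸ H) =
          (QuotientGroup.mk g : G ⧸ H) * θ ⟨x, hxS⟩ * (QuotientGroup.mk g : G ⧸ H)⁻¹ := rfl
      show (QuotientGroup.mk (g * x * g⁻¹) : G ⧸ H) ∈ _
      rw [this]
      exact h1
    obtain ⟨h, hh, hle⟩ := exists_conj_normal S H (isPGroup_cj hpR g) hU
    have hval : ∀ x : R, (h * g) * (x : G) * (h * g)⁻¹ ∈ (S : Subgroup G) := by
      intro x
      have h1 : h * (g * x * g⁻¹) * h⁻¹ ∈ (S : Subgroup G) := hle ⟨_, ⟨x, x.2, rfl⟩, rfl⟩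
      have h2 : h * g * x * (h * g)⁻¹ = h * (g * x * g⁻¹) * h⁻¹ := by group
      rwa [h2]
    refine ⟨conjHom R (h * g), ⟨hRS, hval, h * g, fun x => rfl⟩, hRS, hval,
      fun x => (mem_preimageAlong.1 x.2).2, fun x => ?_⟩
    rw [hg']
    have h1 : (QuotientGroup.mk h : G ⧸ H) = 1 := (QuotientGroup.eq_one_iff h).2 hh
    show (QuotientGroup.mk g : G ⧸ H) * QuotientGroup.mk (x : G) * (QuotientGroup.mk g : G ⧸ H)⁻¹ =
      QuotientGroup.mk ((h * g) * (x : G) * (h * g)⁻¹)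
    show _ = ((QuotientGroup.mk h : G ⧸ H) * QuotientGroup.mk g) * QuotientGroup.mk (x : G) *
      ((QuotientGroup.mk h : G ⧸ H) * QuotientGroup.mk g)⁻¹
    rw [h1, one_mul]
  · rintro ⟨hP', φ, ⟨hRS, hφv, k, hk⟩, hP, hv, hP'', hind⟩
    have hr : P' ≤ θ.range := by
      intro y hy
      obtain ⟨s, hs, rfl⟩ := hP' hy
      exact ⟨⟨s, hs⟩, rfl⟩
    refine ⟨hP', fun y => ?_, (QuotientGroup.mk k : G ⧸ H), fun y => ?_⟩
    · obtain ⟨x, hx⟩ := exists_lift (θ := θ) hr y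
      have e : y = ⟨θ ⟨x, hP x.2⟩, hP'' x⟩ := Subtype.ext hx.symm
      rw [e, hind]
      exact ⟨_, hv x, rfl⟩
    · obtain ⟨x, hx⟩ := exists_lift (θ := θ) hr y
      have e : y = ⟨θ ⟨x, hP x.2⟩, hP'' x⟩ := Subtype.ext hx.symm
      rw [e, hind]
      show (QuotientGroup.mk (φ x) : G ⧸ H) = _
      rw [hk x]
      rfl

end Cfsg.Agent.H24
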