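import Mathlib
import Cfsg.Agent.Lib.H24.BisetT

/-!
The wreath group of a right-free `S × S`-set: right-equivariant permutations, the cocycle of a section,
and the associated homomorphism to an abelian group, of which the transfer is a restriction.
-/

set_option autoImplicit false
set_option linter.style.haveILetI false

namespace Cfsg.Agent.H24

universe u v w

section Cyc

variable {G : Type*} {U : Type*} [Group G] [MulAction G U] {A : Type*} [CommGroup A]

/-- Being in the same cycle of an element. -/
def cycS (β : G) : Setoid U where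
  r v w := ∃ i : ℤ, β ^ i • v = w
  iseqv := by
    refine ⟨fun v => ⟨0, by simp⟩, ?_, ?_⟩
    · rintro a b ⟨i, rfl⟩
      exact ⟨-i, by rw [smul_smul]; simp⟩
    · rintro a b c ⟨i, rfl⟩ ⟨j, rfl⟩
      exact ⟨j + i, by rw [smul_smul, zpow_add]⟩

noncomputable instance (β : G) [Finite U] : Fintype (Quotient (cycS (U := U) β)) := Fintype.ofFinite _

theorem cyc_prod [Fintype U] (β : G) (e : U → A) :
    ∏ v, e v = ∏ q : Quotient (cycS (U := U) β),
      ∏ i ∈ Finset.range (Function.minimalPeriod (β • ·) q.out), e (β ^ i • q.out) := by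
  classical
  rw [← Finset.prod_fiberwise Finset.univ (fun v => (Quotient.mk (cycS (U := U) β) v)) e]
  refine Finset.prod_congr rfl (fun q _ => ?_)
  have hinj : Set.InjOn (fun i : ℕ => β ^ i • q.out)
      (Finset.range (Function.minimalPeriod (β • ·) q.out) : Set ℕ) := by
    intro i hi j hj hij
    have h1 := Function.iterate_injOn_Iio_minimalPeriod (f := (β • ·)) (x := q.out)
    apply h1
    · simpa using hi
    · simpa using hj
    · simp only [smul_iterate] at *
      exact hij
  rw [← Finset.prod_image (f := e) hinj]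
  refine Finset.prod_congr ?_ (fun _ _ => rfl)
  ext v
  simp only [Finset.mem_filter, Finset.mem_univ, true_and, Finset.mem_image, Finset.mem_range]
  constructor
  · intro h
    have h1 : (cycS (U := U) β).r q.out v := by
      apply Quotient.exact
      rw [Quotient.out_eq, h]
    obtain ⟨i, hi⟩ := h1
    have h2 := MulAction.zpow_smul_mod_minimalPeriod β q.out i
    have hpos : 0 < Function.minimalPeriod (β • ·) q.out := Nat.pos_of_ne_zero (MulAction.minimalPeriod_pos β q.out).out
    have hnn : 0 ≤ i % (Function.minimalPeriod (β • ·) q.out : ℤ) :=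
      Int.emod_nonneg _ (by exact_mod_cast hpos.ne')
    have hlt : i % (Function.minimalPeriod (β • ·) q.out : ℤ) < (Function.minimalPeriod (β • ·) q.out : ℤ) :=
      Int.emod_lt_of_pos _ (by exact_mod_cast hpos)
    refine ⟨(i % (Function.minimalPeriod (β • ·) q.out : ℤ)).toNat, ?_, ?_⟩
    · omega
    · rw [← hi, ← h2, ← zpow_natCast, Int.toNat_of_nonneg hnn]
  · rintro ⟨i, _, rfl⟩
    have h1 : (Quotient.mk (cycS (U := U) β) (β ^ i • q.out)) = Quotient.mk (cycS (U := U) β) q.out :=
      Quotient.sound (show (cycS (U := U) β).r (β ^ i • q.out) q.out from ⟨-(i : ℤ), by rw [smul_smul]; simp⟩)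
    rw [h1, Quotient.out_eq]

/-- A `p`-group acting on a finite set, and an invariant function with values of exponent `p`. -/
theorem prod_invariant_pgroup {P : Type*} [Group P] [Finite P] {p : ℕ} [Fact p.Prime] (hP : IsPGroup p P)
    {Y : Type*} [Fintype Y] [MulAction P Y] (Fn : Y → A) (hinv : ∀ (x : P) (y : Y), Fn (x • y) = Fn y)
    (hexp : ∀ a : A, a ^ p = 1) (hfix : ∀ y : Y, (∀ x : P, x • y = y) → Fn y = 1) :
    ∏ y, Fn y = 1 := by
  classical
  rw [← Finset.prod_fiberwise Finset.univ (fun v => (Quotient.mk (MulAction.orbitRel P Y) v)) Fn]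
  refine Finset.prod_eq_one (fun q _ => ?_)
  have h1 : ∀ y ∈ Finset.univ.filter (fun v => Quotient.mk (MulAction.orbitRel P Y) v = q), Fn y = Fn q.out := by
    intro y hy
    have hy' : Quotient.mk (MulAction.orbitRel P Y) y = q := by simpa using hy
    have h2 : (MulAction.orbitRel P Y).r y q.out := by
      apply Quotient.exact
      rw [Quotient.out_eq, hy']
    obtain ⟨x, hx⟩ := h2
    rw [← hx]
    exact hinv x _
  rw [Finset.prod_congr rfl h1, Finset.prod_const]
  have hcard : Finset.card (Finset.univ.filter (fun v => Quotient.mk (MulAction.orbitRel P Y) v = q)) =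
      Nat.card (MulAction.orbit P q.out) := by
    rw [Nat.card_eq_fintype_card, Fintype.card_of_subtype]
    intro y
    simp only [Finset.mem_filter, Finset.mem_univ, true_and]
    constructor
    · intro h
      have h2 : (MulAction.orbitRel P Y).r y q.out := by
        apply Quotient.exact
        rw [Quotient.out_eq, h]
      exact h2
    · intro h
      have h2 : Quotient.mk (MulAction.orbitRel P Y) y = Quotient.mk (MulAction.orbitRel P Y) q.out :=
        Quotient.sound (show (MulAction.orbitRel P Y).r y q.out from h)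
      rw [h2, Quotient.out_eq]
  rw [hcard]
  obtain ⟨k, hk⟩ : ∃ k, Nat.card (MulAction.orbit P q.out) = p ^ k := by
    obtain ⟨k, hk⟩ := hP.index (MulAction.stabilizer P q.out)
    exact ⟨k, by rw [Nat.card_congr (MulAction.orbitEquivQuotientStabilizer P q.out)]; exact hk⟩
  rw [hk]
  rcases k with _ | k
  · rw [pow_zero, pow_one]
    apply hfix
    intro x
    have h0 : Nat.card (MulAction.orbit P q.out) = 1 := by simpa using hk
    haveI : Subsingleton (MulAction.orbit P q.out) := (Nat.card_eq_one_iff_unique.1 h0).1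
    have h3 := Subsingleton.elim (⟨x • q.out, MulAction.mem_orbit _ x⟩ : MulAction.orbit P q.out)
      ⟨q.out, MulAction.mem_orbit_self _⟩
    exact congrArg Subtype.val h3
  · rw [pow_succ', pow_mul, hexp, one_pow]

end Cyc

section Wreath

variable {S : Type u} [Group S] {X : Type v} [MulAction (S × S) X]

/-- The right-equivariant permutations. -/
def reG (S : Type u) [Group S] (X : Type v) [MulAction (S × S) X] : Subgroup (Equiv.Perm X) where
  carrier := {g | ∀ (s : S) (ω : X), g (((1 : S), s) • ω) = ((1 : S), s) • g ω}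
  mul_mem' := by
    intro a b ha hb s ω
    simp only [Equiv.Perm.mul_apply]
    rw [hb, ha]
  one_mem' := fun _ _ => rfl
  inv_mem' := by
    intro a ha s ω
    rw [Equiv.Perm.inv_eq_iff_eq, ha]
    simp

theorem reG_comm (g : reG S X) (s : S) (ω : X) :
    (g : Equiv.Perm X) (((1 : S), s) • ω) = ((1 : S), s) • (g : Equiv.Perm X) ω := g.2 s ω

/-- The action on the orbit set. -/
def gq (g : reG S X) : Uq S X → Uq S X :=
  Quotient.map' (s₁ := rSetoid S X) (s₂ := rSetoid S X) (fun ω => (g : Equiv.Perm X) ω) (by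
    rintro a b ⟨s, rfl⟩
    exact ⟨s, (g.2 s a).symm⟩)

theorem gq_uq (g : reG S X) (ω : X) : gq g (uq ω : Uq S X) = uq ((g : Equiv.Perm X) ω) := rfl

instance instMulActionReG : MulAction (reG S X) (Uq S X) where
  smul := gq
  one_smul := by
    intro u
    obtain ⟨ω, rfl⟩ := uq_surj u
    rfl
  mul_smul := by
    intro a b u
    obtain ⟨ω, rfl⟩ := uq_surj u
    rfl

theorem smul_uq (g : reG S X) (ω : X) : g • (uq ω : Uq S X) = uq ((g : Equiv.Perm X) ω) := rfl

theorem exists_ee {r : Uq S X → X} (hr : IsSec r) (g : reG S X) (u : Uq S X) :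
    ∃ c : S, (g : Equiv.Perm X) (r u) = ((1 : S), c⁻¹) • r (g • u) := by
  have h1 : (uq (r (g • u)) : Uq S X) = uq ((g : Equiv.Perm X) (r u)) := by
    rw [hr, ← smul_uq, hr]
  obtain ⟨s, hs⟩ := uq_eq.1 h1
  exact ⟨s⁻¹, by rw [inv_inv]; exact hs.symm⟩

/-- The cocycle of an element with respect to a section. -/
noncomputable def ee {r : Uq S X → X} (hr : IsSec r) (g : reG S X) (u : Uq S X) : S :=
  Classical.choose (exists_ee hr g u)

theorem ee_spec {r : Uq S X → X} (hr : IsSec r) (g : reG S X) (u : Uq S X) :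
    (g : Equiv.Perm X) (r u) = ((1 : S), (ee hr g u)⁻¹) • r (g • u) :=
  Classical.choose_spec (exists_ee hr g u)

theorem ee_eq (hf : RFree S X) {r : Uq S X → X} (hr : IsSec r) {g : reG S X} {u : Uq S X} {c : S}
    (hc : (g : Equiv.Perm X) (r u) = ((1 : S), c⁻¹) • r (g • u)) : ee hr g u = c := by
  have h1 := (ee_spec hr g u).symm.trans hc
  exact inv_injective (RFree.eq (h := hf) h1)

theorem ee_mul (hf : RFree S X) {r : Uq S X → X} (hr : IsSec r) (g h : reG S X) (u : Uq S X) :
    ee hr (g * h) u = ee hr g (h • u) * ee hr h u := by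
  apply ee_eq hf
  show (g : Equiv.Perm X) ((h : Equiv.Perm X) (r u)) = _
  rw [ee_spec hr h u, reG_comm, ee_spec hr g, smul_smul, mul_smul g h u]
  congr 1
  ext <;> simp

theorem ee_one (hf : RFree S X) {r : Uq S X → X} (hr : IsSec r) (u : Uq S X) : ee hr (1 : reG S X) u = 1 := by
  apply ee_eq hf
  rw [one_smul, inv_one]
  have : (((1 : S), (1 : S)) : S × S) = 1 := rfl
  rw [this, one_smul]
  rfl

variable {A : Type w} [CommGroup A] [Finite X]

/-- The homomorphism with respect to a section. -/
noncomputable def labS {r : Uq S X → X} (hr : IsSec r) (lam : S →* A) (g : reG S X) : A :=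
  ∏ u : Uq S X, lam (ee hr g u)

theorem labS_mul (hf : RFree S X) {r : Uq S X → X} (hr : IsSec r) (lam : S →* A) (g h : reG S X) :
    labS hr lam (g * h) = labS hr lam g * labS hr lam h := by
  unfold labS
  simp only [ee_mul hf hr, map_mul]
  rw [Finset.prod_mul_distrib]
  congr 1
  exact Equiv.prod_comp (MulAction.toPerm h) (fun u => lam (ee hr g u))

theorem labS_indep (hf : RFree S X) {r r' : Uq S X → X} (hr : IsSec r) (hr' : IsSec r') (lam : S →* A) (g : reG S X) :
    labS hr' lam g = labS hr lam g := by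
  have h1 : ∀ u, ∃ s : S, r' u = ((1 : S), s) • r u := by
    intro u
    have : (uq (r u) : Uq S X) = uq (r' u) := by rw [hr, hr']
    obtain ⟨s, hs⟩ := uq_eq.1 this
    exact ⟨s, hs.symm⟩
  choose s hs using h1
  have h2 : ∀ u, ee hr' g u = s (g • u) * ee hr g u * (s u)⁻¹ := by
    intro u
    apply ee_eq hf
    rw [hs u, reG_comm, ee_spec hr g u, hs (g • u), smul_smul, smul_smul]
    congr 1
    ext <;> simp [mul_assoc]
  unfold labS
  simp only [h2, map_mul, map_inv]
  rw [Finset.prod_mul_distrib, Finset.prod_mul_distrib, Finset.prod_inv_distrib]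
  have h3 : ∏ u, lam (s (g • u)) = ∏ u, lam (s u) := Equiv.prod_comp (MulAction.toPerm g) (fun u => lam (s u))
  rw [h3, mul_comm (∏ u, lam (s u)), mul_assoc, mul_inv_cancel, mul_one]

/-- The label homomorphism. -/
noncomputable def lab (hf : RFree S X) (lam : S →* A) : reG S X →* A :=
  MonoidHom.mk' (labS (exists_sec (S := S) (X := X)).choose_spec lam) (labS_mul hf _ lam)

theorem lab_eq (hf : RFree S X) (lam : S →* A) {r : Uq S X → X} (hr : IsSec r) (g : reG S X) :
    lab hf lam g = labS hr lam g :=
  labS_indep hf hr _ lam g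

omit [Finite X] in
/-- The left translation. -/
def lft : S →* reG S X where
  toFun x := ⟨MulAction.toPerm ((x, (1 : S)) : S × S), fun s ω => by
    show (x, (1 : S)) • (((1 : S), s) • ω) = ((1 : S), s) • (x, (1 : S)) • ω
    exact comm_smul x s ω⟩
  map_one' := by
    apply Subtype.ext
    ext ω
    show (((1 : S), (1 : S)) : S × S) • ω = ω
    exact one_smul (S × S) ω
  map_mul' := by
    intro x y
    apply Subtype.ext
    ext ω
    show (((x * y, (1 : S))) : S × S) • ω = (x, (1 : S)) • (y, (1 : S)) • ω
    rw [smul_smul]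
    congr 1
    ext <;> simp

omit [Finite X] in
theorem lft_apply (x : S) (ω : X) : ((lft x : reG S X) : Equiv.Perm X) ω = (x, (1 : S)) • ω := rfl

omit [Finite X] in
theorem lft_smul (x : S) (u : Uq S X) : (lft x : reG S X) • u = lq x u := by
  obtain ⟨ω, rfl⟩ := uq_surj u
  rfl

omit [Finite X] in
theorem ee_lft (hf : RFree S X) {r : Uq S X → X} (hr : IsSec r) (x : S) (u : Uq S X) :
    ee hr (lft x : reG S X) u = cc hr x u := by
  apply ee_eq hf
  rw [lft_apply, lft_smul]
  exact cc_spec hr x u

theorem lab_lft (hf : RFree S X) (lam : S →* A) (x : S) :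
    lab hf lam (lft x : reG S X) = bisetTr hf lam x := by
  obtain ⟨r, hr⟩ := exists_sec (S := S) (X := X)
  rw [lab_eq hf lam hr, bisetTr_eq hf lam hr]
  unfold labS trS
  simp only [ee_lft hf hr, lft_smul]

/-- The cocycle on the stabilizer of a point of the orbit set. -/
noncomputable def muH (hf : RFree S X) {r : Uq S X → X} (hr : IsSec r) (lam : S →* A) (u : Uq S X) :
    MulAction.stabilizer (reG S X) u →* A :=
  MonoidHom.mk' (fun g => lam (ee hr (g : reG S X) u)) (fun a b => by
    show lam (ee hr ((a : reG S X) * (b : reG S X)) u) = _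
    rw [ee_mul hf hr, map_mul, MulAction.mem_stabilizer_iff.1 b.2])

omit [Finite X] in
theorem ee_pow_prod (hf : RFree S X) {r : Uq S X → X} (hr : IsSec r) (lam : S →* A) (β : reG S X) (u : Uq S X) (k : ℕ) :
    lam (ee hr (β ^ k) u) = ∏ i ∈ Finset.range k, lam (ee hr β (β ^ i • u)) := by
  induction k with
  | zero => simp [ee_one hf hr]
  | succ k ih =>
    rw [pow_succ', ee_mul hf hr, map_mul, ih, Finset.prod_range_succ, mul_comm]

end Wreath

end Cfsg.Agent.H24
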