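import Mathlib
import Cfsg.Agent.Lib.H24.LabG
import Cfsg.Agent.Lib.H24.BisetI

/-!
Characteristic sets for a fusion system (abstract interface), invariance of the label on elements of the
group and the key vanishing lemma for the label of elements commuting with a subgroup.
-/

set_option autoImplicit false
set_option linter.style.haveILetI false

namespace Cfsg.Agent.H24

open Cfsg Cfsg.FusionSystem
open Cfsg.Agent.H25

universe u w

section Act

variable {G U H : Type*} [Group G] [MulAction G U] [Group H] (φ : H →* G) (β : G)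

/-- The action on cycles of a group commuting with an element. -/
abbrev cycAct (hβ : ∀ x, Commute β (φ x)) : MulAction H (Quotient (cycS (U := U) β)) where
  smul x := Quotient.map' (s₁ := cycS β) (s₂ := cycS β) (fun v => φ x • v) (by
    rintro a b ⟨i, rfl⟩
    refine ⟨i, ?_⟩
    rw [smul_smul, smul_smul]
    congr 1
    exact ((hβ x).zpow_left i).eq)
  one_smul := by
    rintro ⟨v⟩
    show Quotient.mk _ (φ 1 • v) = _
    rw [map_one, one_smul]
    rfl
  mul_smul := by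
    rintro a b ⟨v⟩
    show Quotient.mk _ (φ (a * b) • v) = Quotient.mk _ (φ a • φ b • v)
    rw [map_mul, mul_smul]

end Act

variable {Ω : Type u} [Group Ω] {S : Subgroup Ω} {F : FusionSystem S} {p : ℕ}
variable {X : Type u} [MulAction (↥S × ↥S) X] {A : Type w} [CommGroup A]

/-- An abstract characteristic set of a fusion system. -/
structure CharB (F : FusionSystem S) (p : ℕ) (X : Type u) [MulAction (↥S × ↥S) X] : Prop where
  gr : ∀ ω : X, ∃ (R : Subgroup Ω) (f : Ω → Ω), Mp F R f ∧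
    ∀ a b : ↥S, ((a, b) : ↥S × ↥S) • ω = ω ↔ (a : Ω) ∈ R ∧ (b : Ω) = f a
  free : RFree ↥S X
  coprime : ¬ p ∣ Nat.card (Uq ↥S X)
  valid : ∀ {P : Subgroup Ω} {f : Ω → Ω}, Mp F P f → ∃ ι : reG ↥S X,
    ∀ x y : ↥S, (x : Ω) ∈ P → (y : Ω) = f x → ι * (lft x : reG ↥S X) = (lft y : reG ↥S X) * ι

/-- Characteristic sets exist. -/
theorem exists_charB [Finite S] [Fact p.Prime] (hS : IsPGroup p S) (hF : F.IsSaturated p) :
    ∃ (X : Type u) (_ : MulAction (↥S × ↥S) X) (_ : Finite X), CharB F p X := by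
  obtain ⟨X, i1, i2, hX, hmark, hfree, hm⟩ := exists_char hS hF
  refine ⟨X, i1, i2, ⟨fun ω => ?_, hfree, hm, ?_⟩⟩
  · obtain ⟨P, f, hf, hgr⟩ := hX ω
    exact ⟨P, f, hf, fun a b => by rw [← hgr a b, MulAction.mem_stabilizer_iff]⟩
  · intro P f hf
    haveI : Finite P := finite_of_le hf.le
    haveI : Finite (ActOn (hom₁ hf.le) X) := ‹Finite X›
    haveI : Finite (ActOn (hom₂ hf) X) := ‹Finite X›
    obtain ⟨ι, hι⟩ := exists_equiv_of_marks (Γ := ↥P × ↥S) (X := ActOn (hom₁ hf.le) X)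
      (Y := ActOn (hom₂ hf) X) (fun K => by
        rw [mrk_actOn, mrk_actOn]
        exact marks_twist hX hmark hf K)
    let ι' : X ≃ X := ι
    have hι2 : ∀ (s : ↥S) (ω : X), ι' (((1 : ↥S), s) • ω) = ((1 : ↥S), s) • ι' ω := by
      intro s ω
      have h2 : hom₂ hf ((1 : ↥P), s) = ((1 : ↥S), s) := by
        apply Prod.ext
        · exact Subtype.ext hf.map_one
        · rfl
      have h3 : ι' (((1 : ↥S), s) • ω) = hom₂ hf ((1 : ↥P), s) • ι' ω := hι (1, s) ω
      rw [h2] at h3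
      exact h3
    refine ⟨⟨ι', hι2⟩, fun x y hx hy => ?_⟩
    apply Subtype.ext
    ext ω
    have hy' : y = ⟨f x, hf.mem hx⟩ := Subtype.ext hy
    subst hy'
    have := hι (⟨x, hx⟩, 1) ω
    exact this

/-- The homomorphism is invariant under the maps of the system. -/
def LamInv (F : FusionSystem S) (lam : ↥S →* A) : Prop :=
  ∀ {R : Subgroup Ω} {f : Ω → Ω}, Mp F R f → ∀ a b : ↥S, (a : Ω) ∈ R → (b : Ω) = f a → lam a = lam b

/-- All conjugates of the subgroup have their centralizers in the kernel. -/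
def HH (F : FusionSystem S) (lam : ↥S →* A) (P : Subgroup Ω) : Prop :=
  ∀ (R : Subgroup Ω) (f : Ω → Ω), Mp F R f → P ≤ R → ∀ c : ↥S,
    (∀ x ∈ P, (c : Ω) * f x = f x * c) → lam c = 1

section Cocycle

variable [Finite X] (hc : CharB F p X) (lam : ↥S →* A) (hinv : LamInv F lam)
include hc hinv

theorem lam_ee_lft {r : Uq ↥S X → X} (hr : IsSec r) {s : ↥S} {u : Uq ↥S X}
    (hu : (lft s : reG ↥S X) • u = u) : lam (ee hr (lft s : reG ↥S X) u) = lam s := by
  have h1 := ee_spec hr (lft s : reG ↥S X) u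
  rw [hu, lft_apply] at h1
  set c := ee hr (lft s : reG ↥S X) u with hc'
  have h2 : ((s, c) : ↥S × ↥S) • r u = r u := by
    have e : ((s, c) : ↥S × ↥S) = ((1 : ↥S), c) * (s, (1 : ↥S)) := by ext <;> simp
    rw [e, mul_smul, h1, smul_smul]
    have e2 : ((1 : ↥S), c) * ((1 : ↥S), c⁻¹) = 1 := by ext <;> simp
    rw [e2, one_smul]
  obtain ⟨R, f, hf, hgr⟩ := hc.gr (r u)
  obtain ⟨h3, h4⟩ := (hgr s c).1 h2
  exact (hinv hf s c h3 h4).symm

/-- The label of a left translation. -/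
theorem lab_lft_eq (s : ↥S) : lab hc.free lam (lft s : reG ↥S X) = lam s ^ Nat.card (Uq ↥S X) := by
  obtain ⟨r, hr⟩ := exists_sec (S := ↥S) (X := X)
  rw [lab_eq hc.free lam hr]
  unfold labS
  have h0 : lam s ^ Nat.card (Uq ↥S X) = ∏ _u : Uq ↥S X, lam s := by
    rw [Finset.prod_const, Finset.card_univ, Nat.card_eq_fintype_card]
  rw [h0]
  let β : reG ↥S X := lft s
  rw [cyc_prod β (fun u => lam (ee hr (lft s : reG ↥S X) u)), cyc_prod β (fun _ => lam s)]
  refine Finset.prod_congr rfl (fun q _ => ?_)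
  have h1 := ee_pow_prod hc.free hr lam β q.out (Function.minimalPeriod (β • ·) q.out)
  rw [← h1, Finset.prod_const, Finset.card_range]
  have h2 : β ^ Function.minimalPeriod (β • ·) q.out = (lft (s ^ Function.minimalPeriod (β • ·) q.out) : reG ↥S X) := by
    rw [map_pow]
  have h3 : (lft (s ^ Function.minimalPeriod (β • ·) q.out) : reG ↥S X) • q.out = q.out := by
    rw [← h2]
    exact MulAction.pow_smul_eq_iff_minimalPeriod_dvd.2 dvd_rfl
  rw [h2, lam_ee_lft hc lam hinv hr h3, map_pow]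

end Cocycle

section Key

variable [Finite X]

/-- The value of a power of an element on its cycle. -/
noncomputable def Fu (hf : RFree ↥S X) {r : Uq ↥S X → X} (hr : IsSec r) (lam : ↥S →* A) (β : reG ↥S X) (u : Uq ↥S X) : A :=
  lam (ee hr (β ^ Function.minimalPeriod (β • ·) u) u)

theorem per_smul (β y : reG ↥S X) (h : Commute β y) (u : Uq ↥S X) :
    Function.minimalPeriod (β • ·) (y • u) = Function.minimalPeriod (β • ·) u := by
  apply Nat.dvd_antisymm
  · rw [← MulAction.pow_smul_eq_iff_minimalPeriod_dvd, smul_smul]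
    have : β ^ Function.minimalPeriod (β • ·) u * y = y * β ^ Function.minimalPeriod (β • ·) u :=
      (h.pow_left _).eq
    rw [this, mul_smul, MulAction.pow_smul_eq_iff_minimalPeriod_dvd.2 dvd_rfl]
  · rw [← MulAction.pow_smul_eq_iff_minimalPeriod_dvd]
    have h1 : y • (β ^ Function.minimalPeriod (β • ·) (y • u) • u) = y • u := by
      rw [smul_smul]
      have : y * β ^ Function.minimalPeriod (β • ·) (y • u) = β ^ Function.minimalPeriod (β • ·) (y • u) * y :=
        ((h.pow_left _).eq).symm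
      rw [this, mul_smul, MulAction.pow_smul_eq_iff_minimalPeriod_dvd.2 dvd_rfl]
    exact smul_left_cancel _ h1

theorem Fu_smul (hf : RFree ↥S X) {r : Uq ↥S X → X} (hr : IsSec r) (lam : ↥S →* A) (β y : reG ↥S X) (h : Commute β y)
    (u : Uq ↥S X) : Fu hf hr lam β (y • u) = Fu hf hr lam β u := by
  unfold Fu
  rw [per_smul β y h u]
  set l := Function.minimalPeriod (β • ·) u
  have h1 : β ^ l * y = y * β ^ l := (h.pow_left l).eq
  have h2 : β ^ l • u = u := MulAction.pow_smul_eq_iff_minimalPeriod_dvd.2 dvd_rfl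
  have h3 := ee_mul hf hr (β ^ l) y u
  have h4 := ee_mul hf hr y (β ^ l) u
  rw [h2] at h4
  rw [h1, h4] at h3
  have h5 := congrArg lam h3
  simp only [map_mul] at h5
  rw [mul_comm] at h5
  exact (mul_right_cancel h5).symm

theorem lab_eq_prod_Fu (hf : RFree ↥S X) {r : Uq ↥S X → X} (hr : IsSec r) (lam : ↥S →* A) (β : reG ↥S X) :
    lab hf lam β = ∏ q : Quotient (cycS (U := Uq ↥S X) β), Fu hf hr lam β q.out := by
  rw [lab_eq hf lam hr]
  unfold labS
  rw [cyc_prod β (fun u => lam (ee hr β u))]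
  refine Finset.prod_congr rfl (fun q _ => ?_)
  unfold Fu
  rw [ee_pow_prod hf hr lam β]

variable (hc : CharB F p X) (lam : ↥S →* A) (hinv : LamInv F lam)
include hc hinv

/-- The cycle value vanishes when a subgroup moves the point. -/
theorem Fu_moved [Fact p.Prime] (hexp : ∀ a : A, a ^ p = 1) {x : ↥S} (hx : ∃ k, x ^ p ^ k = 1) {r : Uq ↥S X → X} (hr : IsSec r)
    (β : reG ↥S X) (hβ : Commute β (lft x)) (u : Uq ↥S X) (hm : (lft x : reG ↥S X) • u ≠ u)
    (hcyc : ∃ i : ℤ, β ^ i • u = (lft x : reG ↥S X) • u) : Fu hc.free hr lam β u = 1 := by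
  have hp : p.Prime := Fact.out
  classical
  set y : reG ↥S X := lft x with hy
  have hex : ∃ a : ℕ, y ^ p ^ a • u = u := by
    obtain ⟨k, hk⟩ := hx
    refine ⟨k, ?_⟩
    rw [hy, ← map_pow, hk, map_one, one_smul]
  set a := Nat.find hex with ha
  have ha1 : y ^ p ^ a • u = u := Nat.find_spec hex
  have ha0 : a ≠ 0 := by
    intro h0
    rw [h0, pow_zero, pow_one] at ha1
    exact hm ha1
  obtain ⟨b, hb⟩ := Nat.exists_eq_succ_of_ne_zero ha0
  have hb1 : y ^ p ^ b • u ≠ u := by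
    have : ¬ (y ^ p ^ b • u = u) := Nat.find_min hex (by omega)
    exact this
  obtain ⟨i, hi⟩ := hcyc
  have hcomm : ∀ j : ℤ, Commute (β ^ j) y := fun j => hβ.zpow_left j
  -- powers
  have hpow : ∀ n : ℕ, β ^ (i * n) • u = y ^ n • u := by
    intro n
    induction n with
    | zero => simp
    | succ n ih =>
      have e : β ^ (i * ((n + 1 : ℕ) : ℤ)) = β ^ (i * (n : ℤ)) * β ^ i := by
        rw [← zpow_add]
        congr 1
        push_cast
        ring
      rw [e, mul_smul, hi, pow_succ', mul_smul, ← mul_smul (β ^ (i * (n : ℤ))), (hcomm (i * (n : ℤ))).eq, mul_smul, ih]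
  have hper : ((Function.minimalPeriod (β • ·) u : ℕ) : ℤ) ∣ i * (p ^ a : ℕ) := by
    rw [← MulAction.zpow_smul_eq_iff_minimalPeriod_dvd, hpow, ha1]
  obtain ⟨w, hw⟩ := hper
  set l := Function.minimalPeriod (β • ·) u with hl
  have hlpos : 0 < l := Nat.pos_of_ne_zero (MulAction.minimalPeriod_pos β u).out
  have hwp : ¬ (p : ℤ) ∣ w := by
    rintro ⟨w', rfl⟩
    apply hb1
    rw [← hpow]
    have h1 : (l : ℤ) ∣ i * (p ^ b : ℕ) := by
      refine ⟨w', ?_⟩
      have hp0 : (p : ℤ) ≠ 0 := by exact_mod_cast hp.ne_zero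
      apply mul_left_cancel₀ hp0
      rw [hb, pow_succ] at hw
      push_cast at hw ⊢
      linear_combination hw
    exact MulAction.zpow_smul_eq_iff_minimalPeriod_dvd.2 h1
  -- the stabilizer
  let μ := muH hc.free hr lam u
  have hB : β ^ l ∈ MulAction.stabilizer (reG ↥S X) u :=
    MulAction.mem_stabilizer_iff.2 (MulAction.pow_smul_eq_iff_minimalPeriod_dvd.2 dvd_rfl)
  have hL : y ^ p ^ a ∈ MulAction.stabilizer (reG ↥S X) u := MulAction.mem_stabilizer_iff.2 ha1
  let G₁ : reG ↥S X := β ^ (-i) * y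
  have hG : G₁ ∈ MulAction.stabilizer (reG ↥S X) u := by
    apply MulAction.mem_stabilizer_iff.2
    show (β ^ (-i) * y) • u = u
    rw [mul_smul, ← hi, smul_smul]
    simp
  have hG1 : G₁ ^ p ^ a = (β ^ l) ^ (-w) * y ^ p ^ a := by
    have h1 : Commute (β ^ (-i)) y := hcomm (-i)
    show (β ^ (-i) * y) ^ p ^ a = _
    rw [h1.mul_pow]
    congr 1
    rw [← zpow_natCast (β ^ (-i)), ← zpow_mul, ← zpow_natCast β l, ← zpow_mul]
    congr 1
    push_cast at hw ⊢
    linear_combination -hw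
  have hmain : μ ⟨G₁, hG⟩ ^ p ^ a = μ ⟨β ^ l, hB⟩ ^ (-w) * μ ⟨y ^ p ^ a, hL⟩ := by
    rw [← map_pow, ← map_zpow, ← map_mul]
    congr 1
    apply Subtype.ext
    push_cast
    exact hG1
  have h1 : μ ⟨G₁, hG⟩ ^ p ^ a = 1 := by
    rw [hb, pow_succ, pow_mul, pow_right_comm, hexp, one_pow]
  have h2 : μ ⟨y ^ p ^ a, hL⟩ = 1 := by
    show lam (ee hr (y ^ p ^ a) u) = 1
    have e : y ^ p ^ a = (lft (x ^ p ^ a) : reG ↥S X) := by rw [hy, map_pow]
    have hL' : (lft (x ^ p ^ a) : reG ↥S X) • u = u := by rw [← e]; exact ha1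
    rw [e, lam_ee_lft hc lam hinv hr hL', map_pow, hb, pow_succ, pow_mul, pow_right_comm, hexp, one_pow]
  rw [h1, h2, mul_one] at hmain
  have h3 : lam (ee hr (β ^ l) u) ^ w = 1 := by
    have h4 : μ ⟨β ^ l, hB⟩ = lam (ee hr (β ^ l) u) := rfl
    rw [h4, zpow_neg] at hmain
    exact inv_eq_one.1 hmain.symm
  have h5 : lam (ee hr (β ^ l) u) ^ (p : ℤ) = 1 := by
    rw [zpow_natCast]
    exact hexp _
  have hcop : IsCoprime w (p : ℤ) := by
    have := (Int.prime_iff_natAbs_prime.2 (by simpa using hp) : Prime (p : ℤ))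
    exact ((Prime.coprime_iff_not_dvd this).2 hwp).symm
  obtain ⟨m, n, hmn⟩ := hcop
  show lam (ee hr (β ^ l) u) = 1
  calc lam (ee hr (β ^ l) u) = lam (ee hr (β ^ l) u) ^ (m * w + n * (p : ℤ)) := by rw [hmn, zpow_one]
    _ = 1 := by
        rw [zpow_add, mul_comm m, mul_comm n, zpow_mul, zpow_mul, h3, h5, one_zpow, one_zpow, one_mul]

/-- The cycle value vanishes at a point fixed by a subgroup with the property `HH`. -/
theorem Fu_fixed {P : Subgroup Ω} (hPS : P ≤ S) (hP : HH F lam P) {r : Uq ↥S X → X} (hr : IsSec r) (β : reG ↥S X)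
    (hβ : ∀ x : ↥S, (x : Ω) ∈ P → Commute β (lft x)) (u : Uq ↥S X)
    (hfix : ∀ x : ↥S, (x : Ω) ∈ P → (lft x : reG ↥S X) • u = u) : Fu hc.free hr lam β u = 1 := by
  obtain ⟨R, f, hf, hgr⟩ := hc.gr (r u)
  have hst : ∀ x : ↥S, (x : Ω) ∈ P → (x : Ω) ∈ R ∧ ((ee hr (lft x : reG ↥S X) u : ↥S) : Ω) = f x := by
    intro x hx
    have h1 := ee_spec hr (lft x : reG ↥S X) u
    rw [hfix x hx, lft_apply] at h1
    apply (hgr _ _).1
    have e : ((x, ee hr (lft x : reG ↥S X) u) : ↥S × ↥S) = ((1 : ↥S), ee hr (lft x : reG ↥S X) u) * (x, (1 : ↥S)) := by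
      ext <;> simp
    rw [e, mul_smul, h1, smul_smul]
    have e2 : ((1 : ↥S), ee hr (lft x : reG ↥S X) u) * ((1 : ↥S), (ee hr (lft x : reG ↥S X) u)⁻¹) = 1 := by
      ext <;> simp
    rw [e2, one_smul]
  have hPR : P ≤ R := fun x hx => (hst ⟨x, hPS hx⟩ hx).1
  apply hP R f hf hPR
  intro x hx
  set l := Function.minimalPeriod (β • ·) u
  have h2 : β ^ l • u = u := MulAction.pow_smul_eq_iff_minimalPeriod_dvd.2 dvd_rfl
  have h3 : (β ^ l) * (lft ⟨x, hPS hx⟩ : reG ↥S X) = (lft ⟨x, hPS hx⟩ : reG ↥S X) * (β ^ l) :=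
    ((hβ ⟨x, hPS hx⟩ hx).pow_left l).eq
  have h4 := ee_mul hc.free hr (β ^ l) (lft ⟨x, hPS hx⟩ : reG ↥S X) u
  have h5 := ee_mul hc.free hr (lft ⟨x, hPS hx⟩ : reG ↥S X) (β ^ l) u
  rw [h2] at h5
  rw [h3, h5, hfix ⟨x, hPS hx⟩ hx] at h4
  have h6 := congrArg (fun c : ↥S => (c : Ω)) h4
  simp only [Subgroup.coe_mul] at h6
  rw [(hst ⟨x, hPS hx⟩ hx).2] at h6
  exact h6.symm

/-- The key lemma: the label vanishes on the elements commuting with a subgroup having the property `HH`. -/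
theorem lab_eq_one_of_commute [Fact p.Prime] [Finite S] (hS : IsPGroup p S) (hexp : ∀ a : A, a ^ p = 1) {P : Subgroup Ω} (hPS : P ≤ S)
    (hP : HH F lam P) (β : reG ↥S X) (hβ : ∀ x : ↥S, (x : Ω) ∈ P → Commute β (lft x)) :
    lab hc.free lam β = 1 := by
  obtain ⟨r, hr⟩ := exists_sec (S := ↥S) (X := X)
  rw [lab_eq_prod_Fu hc.free hr]
  let φ : ↥P →* reG ↥S X := (lft : ↥S →* reG ↥S X).comp (Subgroup.inclusion hPS)
  have hφ : ∀ x, Commute β (φ x) := fun x => hβ _ x.2
  haveI : Finite P := finite_of_le hPS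
  have hpP : IsPGroup p ↥P := hS.of_injective (Subgroup.inclusion hPS) (Subgroup.inclusion_injective hPS)
  let act : MulAction ↥P (Quotient (cycS (U := Uq ↥S X) β)) := cycAct (U := Uq ↥S X) φ β hφ
  have hsm : ∀ (x : ↥P) (v : Uq ↥S X), act.toSMul.smul x (Quotient.mk (cycS β) v) = Quotient.mk (cycS β) (φ x • v) :=
    fun _ _ => rfl
  have hinv' : ∀ (x : ↥P) (q : Quotient (cycS (U := Uq ↥S X) β)),
      Fu hc.free hr lam β (act.toSMul.smul x q).out = Fu hc.free hr lam β q.out := by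
    intro x q
    have h1 : (cycS (U := Uq ↥S X) β).r (φ x • q.out) (act.toSMul.smul x q).out := by
      apply Quotient.exact
      rw [Quotient.out_eq, ← hsm, Quotient.out_eq]
    obtain ⟨i, hi⟩ := h1
    rw [← hi, Fu_smul hc.free hr lam β (β ^ i) ((Commute.refl β).zpow_right i), Fu_smul hc.free hr lam β (φ x) (hφ x)]
  have hfix' : ∀ q : Quotient (cycS (U := Uq ↥S X) β), (∀ x : ↥P, act.toSMul.smul x q = q) → Fu hc.free hr lam β q.out = 1 := by
    intro q hq
    by_cases h : ∀ x : ↥S, (x : Ω) ∈ P → (lft x : reG ↥S X) • q.out = q.out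
    · exact Fu_fixed hc lam hinv hPS hP hr β hβ q.out h
    · push Not at h
      obtain ⟨x, hx, hm⟩ := h
      have h2 : (cycS (U := Uq ↥S X) β).r q.out ((lft x : reG ↥S X) • q.out) := by
        apply Quotient.exact
        have h3 : act.toSMul.smul (⟨x, hx⟩ : ↥P) (Quotient.mk (cycS β) q.out) = Quotient.mk (cycS β) q.out := by
          rw [Quotient.out_eq]
          exact hq ⟨x, hx⟩
        rw [hsm] at h3
        exact h3.symm
      obtain ⟨k, hk⟩ := hS x
      exact Fu_moved hc lam hinv hexp ⟨k, hk⟩ hr β (hβ x hx) q.out hm h2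
  exact prod_invariant_pgroup (Y := Quotient (cycS (U := Uq ↥S X) β)) hpP (fun q => Fu hc.free hr lam β q.out) hinv' hexp hfix'

end Key

end Cfsg.Agent.H24
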