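import Mathlib
import Cfsg.Agent.Lib.H24.LabK

/-!
The subsystem of a fusion system attached to a homomorphism to an abelian group of exponent `p`, and
the basic properties of maps admitting a valid permutation of label one.
-/

set_option autoImplicit false
set_option linter.style.haveILetI false

namespace Cfsg.Agent.H24

open Cfsg Cfsg.FusionSystem
open Cfsg.Agent.H25

universe u w

variable {Ω : Type u} [Group Ω] {S : Subgroup Ω} {F : FusionSystem S} {p : ℕ}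
variable {X : Type u} [MulAction (↥S × ↥S) X] {A : Type w} [CommGroup A]
variable {P Q R : Subgroup Ω} {f g : Ω → Ω}

/-- `ι` intertwines `x` and `f x`. -/
def Valid (P : Subgroup Ω) (f : Ω → Ω) (ι : reG ↥S X) : Prop :=
  ∀ x y : ↥S, (x : Ω) ∈ P → (y : Ω) = f x → ι * (lft x : reG ↥S X) = (lft y : reG ↥S X) * ι

theorem Valid.congr {ι : reG ↥S X} (h : Valid P f ι) (hfg : ∀ x ∈ P, f x = g x) : Valid P g ι :=
  fun x y hx hy => h x y hx (by rw [hy, hfg x hx])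

theorem Valid.res {ι : reG ↥S X} (h : Valid P f ι) (hQP : Q ≤ P) : Valid Q f ι :=
  fun x y hx hy => h x y (hQP hx) hy

theorem Valid.comp {ι κ : reG ↥S X} (hf : Valid P f ι) (hg : Valid Q g κ) (hm : ∀ x ∈ P, f x ∈ Q) (hQS : Q ≤ S) :
    Valid P (g ∘ f) (κ * ι) := by
  intro x y hx hy
  have h1 := hf x ⟨f x, hQS (hm x hx)⟩ hx rfl
  have h2 := hg ⟨f x, hQS (hm x hx)⟩ y (hm x hx) hy
  rw [mul_assoc, h1, ← mul_assoc, h2, mul_assoc]

theorem valid_lft (s : ↥S) (P : Subgroup Ω) : Valid P (fun x => (s : Ω) * x * (s : Ω)⁻¹) (lft s : reG ↥S X) := by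
  intro x y _ hy
  have e : y = s * x * s⁻¹ := Subtype.ext (by rw [hy]; simp)
  rw [e, ← map_mul, ← map_mul]
  congr 1
  group

theorem valid_one (hP : P ≤ S) : Valid P _root_.id (1 : reG ↥S X) := by
  intro x y _ hy
  have e : y = x := Subtype.ext hy
  rw [e, one_mul, mul_one]

/-- Composition with a conjugation. -/
theorem Valid.conj_comp {ι : reG ↥S X} (hf : Valid P f ι) (hm : ∀ x ∈ P, f x ∈ S) (s : ↥S) :
    Valid P (fun x => (s : Ω) * f x * (s : Ω)⁻¹) ((lft s : reG ↥S X) * ι) := by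
  intro x y hx hy
  have h1 := hf x ⟨f x, hm x hx⟩ hx rfl
  rw [mul_assoc, h1, ← mul_assoc, ← map_mul]
  have e : s * ⟨f x, hm x hx⟩ = y * s := Subtype.ext (by simp [hy])
  rw [e, map_mul, mul_assoc]

theorem Valid.inv {ι : reG ↥S X} (h : Valid P f ι)
    (hinv : ∀ y : ↥S, (y : Ω) ∈ Q → ∃ x : ↥S, (x : Ω) ∈ P ∧ (y : Ω) = f x ∧ (x : Ω) = g y) :
    Valid Q g ι⁻¹ := by
  intro y x hy hx
  obtain ⟨x', hx', h1, h2⟩ := hinv y hy
  have e : x = x' := Subtype.ext (by rw [hx, h2])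
  subst e
  have h3 := h x y hx' h1
  have h4 : (lft y : reG ↥S X) = ι * lft x * ι⁻¹ := by rw [h3]; group
  rw [h4]
  group

/-- The kernel of a homomorphism, as a subgroup of the ambient group. -/
def labT (lam : ↥S →* A) : Subgroup Ω := (lam.ker).map S.subtype

theorem labT_le (lam : ↥S →* A) : labT lam ≤ S := by
  rintro _ ⟨a, -, rfl⟩
  exact a.2

theorem mem_labT {lam : ↥S →* A} {x : Ω} : x ∈ labT lam ↔ ∃ h : x ∈ S, lam ⟨x, h⟩ = 1 := by
  constructor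
  · rintro ⟨a, ha, rfl⟩
    exact ⟨a.2, ha⟩
  · rintro ⟨h, h1⟩
    exact ⟨⟨x, h⟩, h1, rfl⟩

theorem lam_of_mem {lam : ↥S →* A} (a : ↥S) (h : (a : Ω) ∈ labT lam) : lam a = 1 := by
  obtain ⟨h1, h2⟩ := mem_labT.1 h
  exact h2

theorem mem_of_lam {lam : ↥S →* A} (a : ↥S) (h : lam a = 1) : (a : Ω) ∈ labT lam :=
  mem_labT.2 ⟨a.2, h⟩

theorem LamInv.mem_labT {lam : ↥S →* A} (hinv : LamInv F lam) (hf : Mp F R f) {x : Ω} (hx : x ∈ R) (hxT : x ∈ labT lam) :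
    f x ∈ labT lam := by
  apply Cfsg.Agent.H24.mem_labT.2
  refine ⟨hf.mem hx, ?_⟩
  rw [← hinv hf ⟨x, hf.le hx⟩ ⟨f x, hf.mem hx⟩ hx rfl]
  exact lam_of_mem _ hxT

section System

variable [Finite X] (hc : CharB F p X) (lam : ↥S →* A) (hinv : LamInv F lam)

/-- The subsystem attached to a homomorphism. -/
noncomputable def labSys : FusionSystem (labT lam) where
  Hom P := {φ | φ ∈ F.Hom P ∧ P ≤ labT lam ∧ ∃ ι : reG ↥S X, Valid P (toFun φ) ι ∧ lab hc.free lam ι = 1}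
  le_of_mem := by
    rintro P φ ⟨h1, h2, -⟩
    refine ⟨h2, fun x => ?_⟩
    have := hinv.mem_labT (mp_of_mem h1) x.2 (h2 x.2)
    rwa [toFun_coe] at this
  injective_of_mem := fun h => F.injective_of_mem h.1
  conj_mem := by
    intro P g hP hg
    have hgS : g ∈ S := labT_le lam hg
    refine ⟨F.conj_mem (hP.trans (labT_le lam)) hgS, hP, (lft ⟨g, hgS⟩ : reG ↥S X), ?_, ?_⟩
    · refine (valid_lft ⟨g, hgS⟩ P).congr (fun x hx => ?_)
      have := toFun_coe (conjHom P g) ⟨x, hx⟩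
      rw [this]
      rfl
    · rw [lab_lft_eq hc lam hinv, lam_of_mem _ hg, one_pow]
  comp_mem := by
    rintro P Q φ ψ ⟨h1, h2, ι₁, hι₁, hl₁⟩ ⟨h3, h4, ι₂, hι₂, hl₂⟩ h
    refine ⟨F.comp_mem h1 h3 h, h2, ι₂ * ι₁, ?_, ?_⟩
    · refine (hι₁.comp hι₂ (fun x hx => ?_) (h4.trans (labT_le lam))).congr (fun x hx => ?_)
      · have := h ⟨x, hx⟩
        rwa [← toFun_coe φ ⟨x, hx⟩] at this
      · have e1 := toFun_coe φ ⟨x, hx⟩
        have e2 := toFun_coe (ψ.comp (φ.codRestrict Q h)) ⟨x, hx⟩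
        have e3 := toFun_coe ψ (φ.codRestrict Q h ⟨x, hx⟩)
        simp only [Function.comp_apply]
        rw [e2, MonoidHom.comp_apply, ← e3]
        exact congrArg (toFun ψ) e1
    · rw [map_mul, hl₁, hl₂, one_mul]
  inv_mem := by
    rintro P φ ⟨h1, h2, ι, hι, hl⟩
    obtain ⟨ψ, hψ, hψ2⟩ := F.inv_mem h1
    refine ⟨ψ, ⟨hψ, ?_, ι⁻¹, ?_, by rw [map_inv, hl, inv_one]⟩, hψ2⟩
    · rintro _ ⟨x, rfl⟩
      have := hinv.mem_labT (mp_of_mem h1) x.2 (h2 x.2)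
      rwa [toFun_coe] at this
    · refine hι.inv (fun y hy => ?_)
      obtain ⟨x, hx⟩ := hy
      have hxS : (x : Ω) ∈ S := (F.le_of_mem h1).1 x.2
      refine ⟨⟨x, hxS⟩, x.2, ?_, ?_⟩
      · rw [toFun_coe φ x]
        exact hx.symm
      · have e := toFun_coe ψ ⟨y, ⟨x, hx⟩⟩
        show (x : Ω) = _
        rw [e, ← hψ2 x]
        congr 2

theorem mp_labSys_iff : Mp (labSys hc lam hinv) P f ↔ Mp F P f ∧ P ≤ labT lam ∧
    ∃ ι : reG ↥S X, Valid P f ι ∧ lab hc.free lam ι = 1 := by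
  constructor
  · rintro ⟨φ, ⟨h1, h2, ι, hι, hl⟩, hf⟩
    refine ⟨⟨φ, h1, hf⟩, h2, ι, hι.congr (fun x hx => ?_), hl⟩
    rw [toFun_coe φ ⟨x, hx⟩, hf ⟨x, hx⟩]
  · rintro ⟨⟨φ, h1, hf⟩, h2, ι, hι, hl⟩
    refine ⟨φ, ⟨h1, h2, ι, hι.congr (fun x hx => ?_), hl⟩, hf⟩
    rw [toFun_coe φ ⟨x, hx⟩, hf ⟨x, hx⟩]

theorem labSys_le {φ : P →* Ω} (h : φ ∈ (labSys hc lam hinv).Hom P) : φ ∈ F.Hom P := h.1

theorem labSys_subsystem : (labSys hc lam hinv).IsSubsystemOf F := fun _ _ h => h.1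

end System

section Elementary

variable [Finite X] (hc : CharB F p X) (lam : ↥S →* A) (hinv : LamInv F lam)

include hc hinv

theorem HH.up {P P' : Subgroup Ω} (h : HH F lam P) (hle : P ≤ P') : HH F lam P' :=
  fun R f hf hPR c hc' => h R f hf (hle.trans hPR) c (fun x hx => hc' x (hle hx))

end Elementary

theorem HH.of_iso {lam : ↥S →* A} (h : HH F lam P) (hf : Iso F P Q f) : HH F lam Q := by
  intro R g hg hQR c hc'
  refine h P (g ∘ f) (hf.mp.comp (fun x hx => hQR (hf.maps x hx)) hg) le_rfl c (fun x hx => ?_)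
  exact hc' _ (hf.maps x hx)

theorem HH.iff_of_iso {lam : ↥S →* A} (hf : Iso F P Q f) : HH F lam P ↔ HH F lam Q := by
  refine ⟨fun h => h.of_iso hf, fun h => ?_⟩
  obtain ⟨f', hf', -, -⟩ := hf.inv
  exact h.of_iso hf'

section Labels

variable [Finite X] (hc : CharB F p X) (lam : ↥S →* A) (hinv : LamInv F lam)
include hc hinv

/-- Uniqueness of the label. -/
theorem valid_unique [Fact p.Prime] [Finite S] (hS : IsPGroup p S) (hexp : ∀ a : A, a ^ p = 1) (hP : HH F lam P) (hf : Mp F P f)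
    {ι κ : reG ↥S X} (h1 : Valid P f ι) (h2 : Valid P f κ) : lab hc.free lam ι = lab hc.free lam κ := by
  have hcomm : ∀ x : ↥S, (x : Ω) ∈ P → Commute (κ⁻¹ * ι) (lft x) := by
    intro x hx
    have e1 := h1 x ⟨f x, hf.mem hx⟩ hx rfl
    have e2 := h2 x ⟨f x, hf.mem hx⟩ hx rfl
    have e3 : κ⁻¹ * (lft (⟨f x, hf.mem hx⟩ : ↥S) : reG ↥S X) = lft x * κ⁻¹ := by
      rw [inv_mul_eq_iff_eq_mul, ← mul_assoc, e2, mul_assoc]
      simp
    show κ⁻¹ * ι * lft x = lft x * (κ⁻¹ * ι)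
    rw [mul_assoc, e1, ← mul_assoc, e3, mul_assoc]
  have h3 := lab_eq_one_of_commute hc lam hinv hS hexp hf.le hP (κ⁻¹ * ι) hcomm
  rw [map_mul, map_inv, inv_mul_eq_one] at h3
  exact h3.symm

variable [Finite A] (hA : Nat.card A = p) [Fact p.Prime]
include hA

omit hinv hc [Finite X] in
theorem exp_of_card (a : A) : a ^ p = 1 := by
  rw [← hA]
  exact pow_card_eq_one'

omit hinv [Finite X] in
/-- The power map on `A`. -/
theorem gen_of_ne [Finite X] {a : A} (ha : a ≠ 1) (b : A) : ∃ k : ℕ, (a ^ Nat.card (Uq ↥S X)) ^ k = b := by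
  have hp : p.Prime := Fact.out
  have hne : a ^ Nat.card (Uq ↥S X) ≠ 1 := by
    intro h
    have h1 := orderOf_dvd_of_pow_eq_one h
    have h2 := orderOf_dvd_of_pow_eq_one (exp_of_card hA a)
    have hcop : Nat.Coprime p (Nat.card (Uq ↥S X)) := (Nat.Prime.coprime_iff_not_dvd hp).2 hc.coprime
    exact ha (orderOf_eq_one_iff.1 (Nat.eq_one_of_dvd_coprimes hcop h2 h1))
  have h4 := mem_powers_of_prime_card hA (g := a ^ Nat.card (Uq ↥S X)) (g' := b) hne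
  obtain ⟨k, hk⟩ := h4
  exact ⟨k, hk⟩

/-- Composition with a conjugation by an element outside the kernel can adjust any label. -/
theorem exists_adjust_conj (hf : Mp F R f) {z : ↥S} (hz : lam z ≠ 1) :
    ∃ k : ℕ, ∃ ι : reG ↥S X, Valid R (fun x => ((z ^ k : ↥S) : Ω) * f x * ((z ^ k : ↥S) : Ω)⁻¹) ι ∧ lab hc.free lam ι = 1 := by
  obtain ⟨ι₀, hι₀⟩ := hc.valid hf
  obtain ⟨k, hk⟩ := gen_of_ne hc hA hz (lab hc.free lam ι₀)⁻¹
  refine ⟨k, (lft (z ^ k) : reG ↥S X) * ι₀, (show Valid R f ι₀ from fun x y hx hy => hι₀ x y hx hy).conj_comp (fun x hx => hf.mem hx) (z ^ k), ?_⟩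
  rw [map_mul, lab_lft_eq hc lam hinv, map_pow, ← pow_mul, mul_comm k, pow_mul, hk]
  simp

/-- Outside `HH`, every map has a valid permutation of label one. -/
theorem exists_valid_of_not_HH (hP : ¬ HH F lam P) (hg : Mp F P g) :
    ∃ ι : reG ↥S X, Valid P g ι ∧ lab hc.free lam ι = 1 := by
  unfold HH at hP
  push Not at hP
  obtain ⟨R', f', hf', hPR, c, hcc, hcl⟩ := hP
  obtain ⟨ι₀, hι₀⟩ := hc.valid hf'
  obtain ⟨ι₁, hι₁⟩ := hc.valid hg
  obtain ⟨k, hk⟩ := gen_of_ne hc hA hcl (lab hc.free lam ι₁)⁻¹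
  refine ⟨ι₁ * (ι₀⁻¹ * lft (c ^ k) * ι₀), ?_, ?_⟩
  · intro x y hx hy
    have h1 := hι₀ x ⟨f' x, hf'.mem (hPR hx)⟩ (hPR hx) rfl
    have h2 := hι₁ x y hx hy
    have h3 : Commute (lft (c ^ k) : reG ↥S X) (lft (⟨f' x, hf'.mem (hPR hx)⟩ : ↥S)) := by
      rw [map_pow]
      apply Commute.pow_left
      show _ * _ = _ * _
      rw [← map_mul, ← map_mul]
      congr 1
      exact Subtype.ext (hcc x hx)
    have h4 : ι₀⁻¹ * lft (⟨f' x, hf'.mem (hPR hx)⟩ : ↥S) = lft x * ι₀⁻¹ := by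
      rw [inv_mul_eq_iff_eq_mul, ← mul_assoc, h1, mul_assoc]
      simp
    calc ι₁ * (ι₀⁻¹ * lft (c ^ k) * ι₀) * lft x
        = ι₁ * (ι₀⁻¹ * lft (c ^ k) * (ι₀ * lft x)) := by group
      _ = ι₁ * (ι₀⁻¹ * (lft (c ^ k) * lft (⟨f' x, hf'.mem (hPR hx)⟩ : ↥S)) * ι₀) := by rw [h1]; group
      _ = ι₁ * ((ι₀⁻¹ * lft (⟨f' x, hf'.mem (hPR hx)⟩ : ↥S)) * lft (c ^ k) * ι₀) := by rw [h3.eq]; group
      _ = (ι₁ * lft x) * (ι₀⁻¹ * lft (c ^ k) * ι₀) := by rw [h4]; group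
      _ = lft y * (ι₁ * (ι₀⁻¹ * lft (c ^ k) * ι₀)) := by rw [h2]; group
  · rw [map_mul, map_mul, map_mul, map_inv, lab_lft_eq hc lam hinv, map_pow, ← pow_mul, mul_comm k, pow_mul, hk]
    simp

end Labels

end Cfsg.Agent.H24
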