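import Mathlib
import Cfsg.Agent.Lib.H24.LabF
import Cfsg.Agent.Lib.H24.FusInduct

/-!
Saturation of the subsystem of index `p` attached to an invariant homomorphism.
-/

set_option autoImplicit false
set_option linter.style.haveILetI false

namespace Cfsg.Agent.H24

open Cfsg Cfsg.FusionSystem
open Cfsg.Agent.H25

universe u w

/-- The relative index in a normal subgroup divides the index. -/
theorem relIndex_dvd_index_of_normal' {G : Type*} [Group G] [Finite G] (H K : Subgroup G) [K.Normal] :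
    H.relIndex K ∣ H.index := by
  set I := H ⊓ K with hI
  have h1 : Nat.card K = Nat.card I * H.relIndex K := by
    have := Subgroup.relIndex_mul_relIndex (⊥ : Subgroup G) I K bot_le inf_le_right
    rw [Subgroup.relIndex_bot_left, Subgroup.relIndex_bot_left, hI, Subgroup.inf_relIndex_right] at this
    exact this.symm
  have h2 : Nat.card H = Nat.card I * K.relIndex H := by
    have := Subgroup.relIndex_mul_relIndex (⊥ : Subgroup G) I H bot_le inf_le_left
    rw [Subgroup.relIndex_bot_left, Subgroup.relIndex_bot_left, hI, Subgroup.inf_relIndex_left] at this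
    exact this.symm
  have h3 : Nat.card (K ⊔ H : Subgroup G) = Nat.card K * K.relIndex H := by
    have := Subgroup.relIndex_mul_relIndex (⊥ : Subgroup G) K (K ⊔ H) bot_le le_sup_left
    rw [Subgroup.relIndex_bot_left, Subgroup.relIndex_bot_left, Subgroup.relIndex_sup_left] at this
    exact this.symm
  have h4 : Nat.card (K ⊔ H : Subgroup G) = Nat.card H * H.relIndex (K ⊔ H) := by
    have := Subgroup.relIndex_mul_relIndex (⊥ : Subgroup G) H (K ⊔ H) bot_le le_sup_right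
    rw [Subgroup.relIndex_bot_left, Subgroup.relIndex_bot_left] at this
    exact this.symm
  have h5 : H.relIndex K = H.relIndex (K ⊔ H) := by
    have hpos : 0 < Nat.card I * K.relIndex H := by
      rw [← h2]
      exact Nat.card_pos
    apply Nat.eq_of_mul_eq_mul_left hpos
    calc Nat.card I * K.relIndex H * H.relIndex K = (Nat.card I * H.relIndex K) * K.relIndex H := by ring
      _ = Nat.card (K ⊔ H : Subgroup G) := by rw [← h1, h3]
      _ = Nat.card I * K.relIndex H * H.relIndex (K ⊔ H) := by rw [h4, h2]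
  rw [h5]
  exact ⟨_, (Subgroup.relIndex_mul_index (le_sup_right : H ≤ K ⊔ H)).symm⟩

variable {Ω : Type u} [Group Ω] {S : Subgroup Ω} {F : FusionSystem S} {p : ℕ}
variable {A : Type w} [CommGroup A]
variable {P Q R : Subgroup Ω} {f g : Ω → Ω}

theorem Mp.conj_comp {F : FusionSystem S} (hf : Mp F P f) {s : Ω} (hs : s ∈ S) : Mp F P (fun x => s * f x * s⁻¹) :=
  hf.comp (fun _ hx => hf.mem hx) (Mp.conj le_rfl hs)

theorem autInducedBy_mono {T T' : Subgroup Ω} (h : T ≤ T') (Q : Subgroup Ω) : autInducedBy T Q ≤ autInducedBy T' Q :=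
  Subgroup.closure_mono (fun _ ⟨g, hg, hα⟩ => ⟨g, h hg, hα⟩)

theorem extender_mono {T T' : Subgroup Ω} (h : T ≤ T') (P : Subgroup Ω) (φ : P →* Ω) : extender T P φ ≤ extender T' P φ :=
  Subgroup.closure_mono (fun _ ⟨h1, h2, s, hs, h3⟩ => ⟨h h1, h2, s, h hs, h3⟩)

theorem extender_le (T P : Subgroup Ω) (φ : P →* Ω) : extender T P φ ≤ T :=
  (Subgroup.closure_le _).2 (fun _ ⟨h1, _⟩ => h1)

theorem le_extender_lab {T : Subgroup Ω} {φ : P →* Ω} (hP : P ≤ T) (hm : ∀ x : P, φ x ∈ T) : P ≤ extender T P φ := by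
  intro a ha
  refine Subgroup.subset_closure ⟨hP ha, ?_, φ ⟨a, ha⟩, hm _, fun x hx => ?_⟩
  · exact mem_normalizer_of_conj (fun y hy => P.mul_mem (P.mul_mem ha hy) (P.inv_mem ha))
      (fun y hy => P.mul_mem (P.mul_mem (P.inv_mem ha) hy) ha)
  · have e : (⟨a * x * a⁻¹, hx⟩ : P) = ⟨a, ha⟩ * x * (⟨a, ha⟩ : P)⁻¹ := rfl
    rw [e, map_mul, map_mul, map_inv]

/-- A criterion for being fully automized in a subsystem. -/
theorem fullyAutomized_of_hom [Finite S] [Fact p.Prime] {T : Subgroup Ω} {E : FusionSystem T}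
    (hQT : Q ≤ T) (hFA : F.IsFullyAutomized p Q) (hle : E.autGroup Q ≤ F.autGroup Q)
    (L : F.autGroup Q →* A) (hL : ∀ α : F.autGroup Q, (α : MulAut Q) ∈ E.autGroup Q ↔ L α = 1)
    (hTS : autInducedBy T Q ≤ autInducedBy S Q)
    (hT : ∀ α, α ∈ autInducedBy S Q → α ∈ E.autGroup Q → α ∈ autInducedBy T Q) :
    E.IsFullyAutomized p Q := by
  obtain ⟨hQS, D, hD⟩ := hFA
  haveI hfQ : Finite Q := finite_of_le hQS
  haveI hfM : Finite (MulAut Q) := finiteMulAut_H24 Q
  have h1 : ¬ p ∣ ((autInducedBy S Q).subgroupOf (F.autGroup Q)).index := by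
    rw [← hD]
    exact D.not_dvd_index
  have h2 : (autInducedBy S Q).relIndex (E.autGroup Q) ∣ ((autInducedBy S Q).subgroupOf (F.autGroup Q)).index := by
    have hEK : E.autGroup Q = (L.ker).map (F.autGroup Q).subtype := by
      ext α
      constructor
      · intro hα
        exact ⟨⟨α, hle hα⟩, (hL _).1 hα, rfl⟩
      · rintro ⟨β, hβ, rfl⟩
        exact (hL β).2 hβ
    rw [hEK, ← Subgroup.relIndex_comap]
    exact relIndex_dvd_index_of_normal' _ _
  have h3 : (autInducedBy T Q).subgroupOf (E.autGroup Q) = (autInducedBy S Q).subgroupOf (E.autGroup Q) := by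
    ext α
    rw [Subgroup.mem_subgroupOf, Subgroup.mem_subgroupOf]
    exact ⟨fun h => hTS h, fun h => hT _ h α.2⟩
  have h4 : ¬ p ∣ ((autInducedBy T Q).subgroupOf (E.autGroup Q)).index := by
    rw [h3]
    exact fun h => h1 (h.trans h2)
  have h5 : IsPGroup p ((autInducedBy T Q).subgroupOf (E.autGroup Q)) := by
    intro a
    have ha : ((a : E.autGroup Q) : MulAut Q) ∈ autInducedBy T Q := a.2
    have hb : (⟨(a : E.autGroup Q), hle (a : E.autGroup Q).2⟩ : F.autGroup Q) ∈ (D : Subgroup (F.autGroup Q)) := by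
      rw [hD, Subgroup.mem_subgroupOf]
      exact hTS ha
    obtain ⟨k, hk⟩ := D.isPGroup' ⟨_, hb⟩
    refine ⟨k, ?_⟩
    apply Subtype.ext
    apply Subtype.ext
    have := congrArg (fun q : D => (((q : F.autGroup Q)) : MulAut Q)) hk
    simpa using this
  exact ⟨hQT, h5.toSylow h4, h5.toSylow_coe h4⟩

section Sat

variable {X : Type u} [MulAction (↥S × ↥S) X] [Finite X] [Finite S] [Fact p.Prime] [Finite A]
variable (hS : IsPGroup p S) (hF : F.IsSaturated p) (hc : CharB F p X) (lam : ↥S →* A) (hinv : LamInv F lam)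
  (hA : Nat.card A = p)

include hinv in
/-- A far subgroup outside `HH` has a centralizing element outside the kernel. -/
theorem exists_central_of_not_HH (hQ : Far F p Q) (hnot : ¬ HH F lam Q) :
    ∃ z : ↥S, (∀ x ∈ Q, (z : Ω) * x = x * z) ∧ lam z ≠ 1 := by
  unfold HH at hnot
  push Not at hnot
  obtain ⟨R', f', hf', hQR, c, hcc, hcl⟩ := hnot
  have hres : Mp F Q f' := hf'.restrict hQR
  have I := Iso.of_mp hres
  obtain ⟨g', hg', h1, h2⟩ := I.inv
  obtain ⟨h, hh, hh2⟩ := recept_ext hQ.recep hg' (K := Subgroup.closure {w : Ω | w ∈ S ∧ w ∈ Subgroup.normalizer (hres.img : Set Ω) ∧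
      ∃ s ∈ S, ∀ x ∈ hres.img, g' (w * x * w⁻¹) = s * g' x * s⁻¹})
    (fun x hx => Subgroup.subset_closure (mem_good_of_mem hg' hx)) le_rfl
  have hcK : (c : Ω) ∈ Subgroup.closure {w : Ω | w ∈ S ∧ w ∈ Subgroup.normalizer (hres.img : Set Ω) ∧
      ∃ s ∈ S, ∀ x ∈ hres.img, g' (w * x * w⁻¹) = s * g' x * s⁻¹} := by
    apply Subgroup.subset_closure
    apply mem_good_of_centralizes hg' c.2
    intro x hx
    obtain ⟨y, hy, rfl⟩ := (Mp.mem_img hres).1 hx
    exact hcc y hy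
  refine ⟨⟨h c, hh.mem hcK⟩, fun x hx => ?_, ?_⟩
  · have hfx : f' x ∈ hres.img := (Mp.mem_img hres).2 ⟨x, hx, rfl⟩
    have hfxK := Subgroup.subset_closure (k := {w : Ω | w ∈ S ∧ w ∈ Subgroup.normalizer (hres.img : Set Ω) ∧
      ∃ s ∈ S, ∀ x ∈ hres.img, g' (w * x * w⁻¹) = s * g' x * s⁻¹}) (mem_good_of_mem hg' hfx)
    have e : x = h (f' x) := by rw [hh2 _ hfx, h1 x hx]
    show h c * x = x * h c
    rw [e, ← hh.map_mul hcK hfxK, ← hh.map_mul hfxK hcK, hcc x hx]
  · have := hinv hh c ⟨h c, hh.mem hcK⟩ hcK rfl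
    rw [← this]
    exact hcl

include hc hinv hA in
/-- The first case: a far subgroup centralized by an element outside the kernel. -/
theorem sat_case1 (hQ : Far F p Q) (hT : Q ≤ labT lam) {z : ↥S} (hz1 : ∀ x ∈ Q, (z : Ω) * x = x * z) (hz2 : lam z ≠ 1) :
    (labSys hc lam hinv).IsFullyAutomized p Q ∧ (labSys hc lam hinv).IsReceptive Q := by
  have hQS : Q ≤ S := hQ.le
  have hzk : ∀ (k : ℕ), ∀ x ∈ Q, ((z ^ k : ↥S) : Ω) * x * ((z ^ k : ↥S) : Ω)⁻¹ = x := by
    intro k x hx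
    have h1 : Commute (z : Ω) x := hz1 x hx
    have h2 : Commute ((z ^ k : ↥S) : Ω) x := by
      push_cast
      exact h1.pow_left k
    rw [h2.eq]
    group
  constructor
  · have hall : ∀ α ∈ F.autGroup Q, α ∈ (labSys hc lam hinv).autGroup Q := by
      intro α hα
      rw [H25.mem_autGroup_iff hT, mp_labSys_iff]
      have hm := Mp.of_mem_autGroup hQS hα
      obtain ⟨k, ι, hι, hl⟩ := exists_adjust_conj hc lam hinv hA hm hz2
      refine ⟨hm, hT, ι, hι.congr (fun x hx => ?_), hl⟩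
      rw [toFun_aut α ⟨x, hx⟩]
      exact hzk k _ (α ⟨x, hx⟩).2
    have hle : (labSys hc lam hinv).autGroup Q ≤ F.autGroup Q := by
      intro α hα
      rw [H25.mem_autGroup_iff hT, mp_labSys_iff] at hα
      exact (H25.mem_autGroup_iff hQS).2 hα.1
    refine fullyAutomized_of_hom hT hQ.auto hle (1 : F.autGroup Q →* A) (fun α => ?_) (autInducedBy_mono (labT_le lam) Q) ?_
    · simp only [MonoidHom.one_apply, iff_true]
      exact hall _ α.2
    · intro α hα _
      obtain ⟨s, hs, hsv⟩ := exists_of_mem_autInducedBy hα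
      have h1 := mem_powers_of_prime_card hA (g := lam z) (g' := lam ⟨s, hs⟩) hz2
      obtain ⟨k, hk⟩ := h1
      simp only at hk
      let t : ↥S := ⟨s, hs⟩ * (z ^ k)⁻¹
      have ht : (t : Ω) ∈ labT lam := by
        apply mem_of_lam
        show lam (⟨s, hs⟩ * (z ^ k)⁻¹) = 1
        rw [map_mul, map_inv, map_pow, hk]
        simp
      rw [mem_autInducedBy_iff]
      refine ⟨t, ht, fun x => ?_⟩
      rw [hsv x]
      have h2 := hzk k x x.2
      have e : (t : Ω) = s * ((z ^ k : ↥S) : Ω)⁻¹ := by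
        show ((⟨s, hs⟩ * (z ^ k)⁻¹ : ↥S) : Ω) = _
        simp
      rw [e]
      have e2 : s * ((z ^ k : ↥S) : Ω)⁻¹ * x * (s * ((z ^ k : ↥S) : Ω)⁻¹)⁻¹ =
          s * (((z ^ k : ↥S) : Ω)⁻¹ * x * ((z ^ k : ↥S) : Ω)) * s⁻¹ := by group
      rw [e2]
      congr 2
      nth_rw 2 [← h2]
      group
  · refine ⟨hT, fun P φ hφ hr => ?_⟩
    obtain ⟨ψ₀, hψ₀, hext⟩ := hQ.recep.2 P φ hφ.1 hr
    have hRS := extender_mono (labT_le lam) P φ
    have hgR : Mp F (extender (labT lam) P φ) (toFun ψ₀) := (mp_of_mem hψ₀).restrict hRS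
    obtain ⟨k, ι, hι, hl⟩ := exists_adjust_conj hc lam hinv hA hgR hz2
    have hE : Mp (labSys hc lam hinv) (extender (labT lam) P φ)
        (fun x => ((z ^ k : ↥S) : Ω) * toFun ψ₀ x * ((z ^ k : ↥S) : Ω)⁻¹) :=
      (mp_labSys_iff hc lam hinv).2 ⟨Mp.conj_comp hgR (z ^ k).2, extender_le _ _ _, ι, hι, hl⟩
    obtain ⟨ψ, hψ, hψv⟩ := hE
    refine ⟨ψ, hψ, fun x hP hN => ?_⟩
    rw [hψv ⟨x, hN⟩]
    show ((z ^ k : ↥S) : Ω) * toFun ψ₀ x * ((z ^ k : ↥S) : Ω)⁻¹ = _
    have e1 := toFun_coe ψ₀ ⟨x, hRS hN⟩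
    have e2 := hext x hP (hRS hN)
    have e3 : toFun ψ₀ x = φ ⟨x, hP⟩ := e1.trans e2
    rw [e3]
    apply hzk
    rw [← hr]
    exact ⟨_, rfl⟩

include hc hinv hA hS in
/-- The second case: a far subgroup all of whose conjugates have centralizer in the kernel. -/
theorem sat_case2 (hQ : Far F p Q) (hT : Q ≤ labT lam) (hH : HH F lam Q) :
    (labSys hc lam hinv).IsFullyAutomized p Q ∧ (labSys hc lam hinv).IsReceptive Q := by
  have hQS : Q ≤ S := hQ.le
  have hexp := exp_of_card (A := A) hA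
  constructor
  · have hle : (labSys hc lam hinv).autGroup Q ≤ F.autGroup Q := by
      intro α hα
      rw [H25.mem_autGroup_iff hT, mp_labSys_iff] at hα
      exact (H25.mem_autGroup_iff hQS).2 hα.1
    let amp : ∀ α : F.autGroup Q, Mp F Q (toFun (Q.subtype.comp (α : MulAut Q).toMonoidHom)) :=
      fun α => Mp.of_mem_autGroup hQS α.2
    have hval : ∀ α : F.autGroup Q, ∃ ι : reG ↥S X, Valid Q (toFun (Q.subtype.comp (α : MulAut Q).toMonoidHom)) ι :=
      fun α => hc.valid (amp α)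
    choose ι hι using hval
    let L : F.autGroup Q →* A := MonoidHom.mk' (fun α => lab hc.free lam (ι α)) (by
      intro a b
      rw [← map_mul]
      apply valid_unique hc lam hinv hS hexp hH (amp (a * b)) (hι (a * b))
      refine ((hι b).comp (hι a) (fun x hx => ?_) hQS).congr (fun x hx => ?_)
      · rw [toFun_aut _ ⟨x, hx⟩]
        exact ((b : MulAut Q) ⟨x, hx⟩).2
      · simp only [Function.comp_apply]
        rw [toFun_aut _ ⟨x, hx⟩, toFun_aut _ ⟨x, hx⟩, toFun_aut _ ((b : MulAut Q) ⟨x, hx⟩)]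
        rfl)
    refine fullyAutomized_of_hom hT hQ.auto hle L (fun α => ?_) (autInducedBy_mono (labT_le lam) Q) ?_
    · rw [H25.mem_autGroup_iff hT, mp_labSys_iff]
      constructor
      · rintro ⟨_, _, κ, hκ, hl⟩
        show lab hc.free lam (ι α) = 1
        rw [valid_unique hc lam hinv hS hexp hH (amp α) (hι α) hκ, hl]
      · intro h
        exact ⟨amp α, hT, ι α, hι α, h⟩
    · intro α hα hαE
      obtain ⟨s, hs, hsv⟩ := exists_of_mem_autInducedBy hα
      rw [H25.mem_autGroup_iff hT, mp_labSys_iff] at hαE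
      obtain ⟨hm, _, κ, hκ, hl⟩ := hαE
      have h1 : Valid Q (toFun (Q.subtype.comp α.toMonoidHom)) (lft (⟨s, hs⟩ : ↥S) : reG ↥S X) :=
        (valid_lft (⟨s, hs⟩ : ↥S) Q).congr (fun x hx => by
          rw [toFun_aut α ⟨x, hx⟩, hsv ⟨x, hx⟩])
      have h2 := valid_unique hc lam hinv hS hexp hH hm h1 hκ
      rw [hl, lab_lft_eq hc lam hinv] at h2
      have hp : p.Prime := Fact.out
      have h3 : lam ⟨s, hs⟩ = 1 := by
        have h4 := orderOf_dvd_of_pow_eq_one h2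
        have h5 := orderOf_dvd_of_pow_eq_one (hexp (lam ⟨s, hs⟩))
        have hcop : Nat.Coprime p (Nat.card (Uq ↥S X)) := (Nat.Prime.coprime_iff_not_dvd hp).2 hc.coprime
        exact orderOf_eq_one_iff.1 (Nat.eq_one_of_dvd_coprimes hcop h5 h4)
      rw [mem_autInducedBy_iff]
      exact ⟨s, mem_of_lam ⟨s, hs⟩ h3, hsv⟩
  · refine ⟨hT, fun P φ hφ hr => ?_⟩
    obtain ⟨ψ₀, hψ₀, hext⟩ := hQ.recep.2 P φ hφ.1 hr
    have hRS := extender_mono (labT_le lam) P φ
    have hgR : Mp F (extender (labT lam) P φ) (toFun ψ₀) := (mp_of_mem hψ₀).restrict hRS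
    obtain ⟨_, hPT, κ, hκ, hl⟩ := hφ
    have hφT : ∀ x : P, φ x ∈ labT lam := fun x => by
      have : φ x ∈ φ.range := ⟨x, rfl⟩
      rw [hr] at this
      exact hT this
    have hPR := le_extender_lab hPT hφT
    obtain ⟨ι, hι⟩ := hc.valid hgR
    have hIso : Iso F P Q (toFun φ) := by
      refine ⟨mp_of_mem ‹φ ∈ F.Hom P›, fun x hx => ?_, fun y hy => ?_⟩
      · rw [toFun_coe φ ⟨x, hx⟩, ← hr]
        exact ⟨_, rfl⟩
      · rw [← hr] at hy
        obtain ⟨x, rfl⟩ := hy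
        exact ⟨x, x.2, toFun_coe φ x⟩
    have hHP : HH F lam P := (HH.iff_of_iso hIso).2 hH
    have hagree : ∀ x ∈ P, toFun ψ₀ x = toFun φ x := by
      intro x hx
      have e1 := toFun_coe ψ₀ ⟨x, hRS (hPR hx)⟩
      have e2 := hext x hx (hRS (hPR hx))
      have e3 := toFun_coe φ ⟨x, hx⟩
      exact e1.trans (e2.trans e3.symm)
    have h1 : lab hc.free lam ι = 1 := by
      rw [← hl]
      exact valid_unique hc lam hinv hS hexp hHP (mp_of_mem ‹φ ∈ F.Hom P›)
        ((show Valid (extender (labT lam) P φ) (toFun ψ₀) ι from hι).res hPR |>.congr hagree) hκ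
    obtain ⟨ψ, hψ, hψv⟩ := (mp_labSys_iff hc lam hinv).2 ⟨hgR, extender_le _ _ _, ι, hι, h1⟩
    refine ⟨ψ, hψ, fun x hP hN => ?_⟩
    rw [hψv ⟨x, hN⟩]
    exact (toFun_coe ψ₀ ⟨x, hRS hN⟩).trans (hext x hP (hRS hN))

include hS hF in
/-- Being far is invariant under conjugation by `S`. -/
theorem far_conj (hQ : Far F p Q) {s : Ω} (hs : s ∈ S) {Q' : Subgroup Ω} (hQ' : ∀ y, y ∈ Q' ↔ s⁻¹ * y * s ∈ Q) :
    Far F p Q' := by
  have hiso : Iso F Q Q' (fun x => s * x * s⁻¹) := Iso.conj hQ.le hs hQ'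
  have hQ'S : Q' ≤ S := fun y hy => by
    have h1 := hQ.le ((hQ' y).1 hy)
    have : y = s * (s⁻¹ * y * s) * s⁻¹ := by group
    rw [this]
    exact S.mul_mem (S.mul_mem hs h1) (S.inv_mem hs)
  apply far_of_fullyNormalized hS hF
  refine ⟨hQ'S, fun R' hR' => ?_⟩
  have h1 : F.IsConj Q R' := isConj_trans (H25.isConj_iff.2 ⟨_, hiso⟩) hR'
  refine ((far_fullyNormalized hS hQ).2 R' h1).trans ?_
  haveI : Finite (normalizerIn S Q') := finite_of_le inf_le_left
  let i : normalizerIn S Q → normalizerIn S Q' := fun x => ⟨s * x * s⁻¹, by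
    refine ⟨S.mul_mem (S.mul_mem hs x.2.1) (S.inv_mem hs), ?_⟩
    have hx : (x : Ω) ∈ Subgroup.normalizer (Q : Set Ω) := x.2.2
    apply mem_normalizer_of_conj
    · intro y hy
      rw [hQ']
      have e : s⁻¹ * (s * x * s⁻¹ * y * (s * x * s⁻¹)⁻¹) * s = x * (s⁻¹ * y * s) * (x : Ω)⁻¹ := by group
      rw [e]
      exact conj_mem_of_normalizer hx ((hQ' y).1 hy)
    · intro y hy
      rw [hQ']
      have e : s⁻¹ * ((s * x * s⁻¹)⁻¹ * y * (s * x * s⁻¹)) * s = (x : Ω)⁻¹ * (s⁻¹ * y * s) * x := by group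
      rw [e]
      exact conj_inv_mem_of_normalizer hx ((hQ' y).1 hy)⟩
  apply Nat.card_le_card_of_injective i
  intro a b hab
  have h2 : s * (a : Ω) * s⁻¹ = s * (b : Ω) * s⁻¹ := congrArg Subtype.val hab
  exact Subtype.ext (mul_left_cancel (mul_right_cancel h2))

include hS hF hc hinv hA in
/-- The subsystem attached to a surjective invariant homomorphism onto a group of order `p` is saturated. -/
theorem labSys_saturated (hsurj : Function.Surjective lam) : (labSys hc lam hinv).IsSaturated p := by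
  have hp : p.Prime := Fact.out
  intro Q hQT
  have hQS := hQT.trans (labT_le lam)
  obtain ⟨Q₁, f₁, hQ₁, hf₁⟩ := exists_far hF hQS
  by_cases hH : HH F lam Q
  · obtain ⟨ι, hι⟩ := hc.valid hf₁.mp
    -- a suitable conjugating element
    have hcop : (Nat.card A).Coprime (Nat.card (Uq ↥S X)) := by
      rw [hA]
      exact (Nat.Prime.coprime_iff_not_dvd hp).2 hc.coprime
    obtain ⟨s, hs⟩ := hsurj ((powCoprime hcop).symm (lab hc.free lam ι)⁻¹)
    have hs' : lam s ^ Nat.card (Uq ↥S X) = (lab hc.free lam ι)⁻¹ := by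
      rw [hs]
      exact (powCoprime hcop).apply_symm_apply _
    let Q₂ : Subgroup Ω := Q₁.map (MulAut.conj (s : Ω)).toMonoidHom
    have hQ₂ : ∀ y, y ∈ Q₂ ↔ (s : Ω)⁻¹ * y * s ∈ Q₁ := by
      intro y
      constructor
      · rintro ⟨a, ha, rfl⟩
        simpa [mul_assoc] using ha
      · intro h
        refine ⟨_, h, ?_⟩
        simp [mul_assoc]
    have hfar := far_conj hS hF hQ₁ s.2 hQ₂
    have hiso₂ : Iso F Q₁ Q₂ (fun x => (s : Ω) * x * (s : Ω)⁻¹) := Iso.conj hQ₁.le s.2 hQ₂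
    have hiso := hf₁.comp hiso₂
    have hQ₂T : Q₂ ≤ labT lam := by
      intro y hy
      obtain ⟨x, hx, rfl⟩ := hiso.surj y hy
      exact hinv.mem_labT hiso.mp hx (hQT hx)
    have hHQ₂ : HH F lam Q₂ := hH.of_iso hiso
    obtain ⟨h1, h2⟩ := sat_case2 hS hc lam hinv hA hfar hQ₂T hHQ₂
    refine ⟨Q₂, H25.isConj_iff.2 ⟨_, ⟨?_, hiso.maps, hiso.surj⟩⟩, h1, h2⟩
    refine (mp_labSys_iff hc lam hinv).2 ⟨hiso.mp, hQT, (lft s : reG ↥S X) * ι, ?_, ?_⟩
    · exact (show Valid Q f₁ ι from fun x y hx hy => hι x y hx hy).conj_comp (fun x hx => hf₁.mp.mem hx) s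
    · rw [map_mul, lab_lft_eq hc lam hinv, hs']
      simp
  · have hnot : ¬ HH F lam Q₁ := fun h => hH ((HH.iff_of_iso hf₁).2 h)
    obtain ⟨z, hz1, hz2⟩ := exists_central_of_not_HH lam hinv hQ₁ hnot
    have hQ₁T : Q₁ ≤ labT lam := by
      intro y hy
      obtain ⟨x, hx, rfl⟩ := hf₁.surj y hy
      exact hinv.mem_labT hf₁.mp hx (hQT hx)
    obtain ⟨h1, h2⟩ := sat_case1 hc lam hinv hA hQ₁ hQ₁T hz1 hz2
    refine ⟨Q₁, H25.isConj_iff.2 ⟨f₁, ⟨?_, hf₁.maps, hf₁.surj⟩⟩, h1, h2⟩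
    obtain ⟨ι, hι, hl⟩ := exists_valid_of_not_HH hc lam hinv hA hH hf₁.mp
    exact (mp_labSys_iff hc lam hinv).2 ⟨hf₁.mp, hQT, ι, hι, hl⟩

end Sat

end Cfsg.Agent.H24
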