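import Mathlib
import Cfsg.Agent.Lib.H24.LabSat
import Cfsg.Agent.Lib.H25.FusAlp
import Cfsg.Agent.Lib.H24.BisetE
import Cfsg.Agent.Lib.H01.Basic

/-!
Subsystems of `p`-power index: uniqueness and existence.
-/

set_option autoImplicit false
set_option linter.style.haveILetI false

namespace Cfsg.Agent.H24

open scoped commutatorElement

open Cfsg Cfsg.FusionSystem
open Cfsg.Agent.H25

universe u w

variable {Ω : Type u} [Group Ω] {p : ℕ}

theorem pRes_mono {M : Type*} [Group M] {G G' : Subgroup M} (h : G ≤ G') :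
    (pResidual p G).map G.subtype ≤ (pResidual p G').map G'.subtype := by
  rw [Subgroup.map_le_iff_le_comap]
  refine (Subgroup.closure_le _).2 (fun g hg => ?_)
  refine ⟨⟨g, h g.2⟩, Subgroup.subset_closure ?_, rfl⟩
  show Nat.Coprime (orderOf (⟨g, h g.2⟩ : G')) p
  have e : orderOf (⟨g, h g.2⟩ : G') = orderOf (g : G) := by
    rw [← Subgroup.orderOf_coe (⟨g, h g.2⟩ : G'), ← Subgroup.orderOf_coe g]
  rw [e]
  exact hg

/-- If the residual of one subgroup lies in another, it lies in the residual of the other. -/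
theorem pRes_le_pRes {M : Type*} [Group M] {G G' : Subgroup M} (h : (pResidual p G).map G.subtype ≤ G') :
    (pResidual p G).map G.subtype ≤ (pResidual p G').map G'.subtype := by
  rw [Subgroup.map_le_iff_le_comap]
  refine (Subgroup.closure_le _).2 (fun g hg => ?_)
  have hg' : (g : M) ∈ G' := h ⟨g, Subgroup.subset_closure hg, rfl⟩
  refine ⟨⟨g, hg'⟩, Subgroup.subset_closure ?_, rfl⟩
  show Nat.Coprime (orderOf (⟨g, hg'⟩ : G')) p
  have e : orderOf (⟨g, hg'⟩ : G') = orderOf (g : G) := by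
    rw [← Subgroup.orderOf_coe (⟨g, hg'⟩ : G'), ← Subgroup.orderOf_coe g]
  rw [e]
  exact hg

section Fs

variable {S T : Subgroup Ω}

theorem fs_ext {E E' : FusionSystem T} (h : ∀ P, E.Hom P = E'.Hom P) : E = E' := by
  cases E
  cases E'
  congr
  exact funext h

theorem autGroup_le_of_subsystem {E : FusionSystem T} {F : FusionSystem S} (h : E.IsSubsystemOf F) (Q : Subgroup Ω) :
    E.autGroup Q ≤ F.autGroup Q :=
  Subgroup.closure_mono (fun _ hα => h Q hα)

variable [Finite T] [Fact p.Prime]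

/-- Automorphism groups of a fully automized subgroup are controlled by the residual and the group. -/
theorem autGroup_le_of_residual {E₁ E₂ : FusionSystem T} {Q : Subgroup Ω} (hFA : E₁.IsFullyAutomized p Q)
    (h : (pResidual p (E₁.autGroup Q)).map (E₁.autGroup Q).subtype ≤ E₂.autGroup Q) : E₁.autGroup Q ≤ E₂.autGroup Q := by
  intro β hβ
  obtain ⟨d, hd, κ, hκ, rfl⟩ := exists_decomp_pResidual hFA hβ
  exact Subgroup.mul_mem _ (autInducedBy_le hFA.1 hd) (h ⟨κ, hκ, rfl⟩)

/-- A saturated system is determined by its groups of automorphisms modulo residuals. -/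
theorem le_of_residual (hT : IsPGroup p T) {E₁ E₂ : FusionSystem T} (h₁ : E₁.IsSaturated p)
    (h : ∀ Q, Q ≤ T → (pResidual p (E₁.autGroup Q)).map (E₁.autGroup Q).subtype ≤ E₂.autGroup Q) : E₁ ≤ E₂ := by
  apply alperin_ind hT h₁
  · exact autGroup_le_of_residual (fullyAutomized_top h₁) (h T le_rfl)
  · intro Q hQ _
    have hQn := hQ.2.1
    exact autGroup_le_of_residual (fullyAutomized_of_fullyNormalized hT h₁ hQn) (h Q hQn.1)

omit [Finite T] [Fact p.Prime] in
theorem HasPPowerIndexIn.residual_le {E E' : FusionSystem T} {F : FusionSystem S} (hE : E.HasPPowerIndexIn F p)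
    (hE' : E'.HasPPowerIndexIn F p) (Q : Subgroup Ω) (hQ : Q ≤ T) :
    (pResidual p (E.autGroup Q)).map (E.autGroup Q).subtype ≤ E'.autGroup Q :=
  (pRes_mono (autGroup_le_of_subsystem hE.1 Q)).trans (hE'.2.2 Q hQ)

/-- Uniqueness of subsystems of `p`-power index. -/
theorem ppower_unique (hT : IsPGroup p T) {E E' : FusionSystem T} {F : FusionSystem S} (hs : E.IsSaturated p)
    (hs' : E'.IsSaturated p) (hE : E.HasPPowerIndexIn F p) (hE' : E'.HasPPowerIndexIn F p) : E' = E := by
  have h1 : E ≤ E' := le_of_residual hT hs (HasPPowerIndexIn.residual_le hE hE')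
  have h2 : E' ≤ E := le_of_residual hT hs' (HasPPowerIndexIn.residual_le hE' hE)
  exact fs_ext (fun P => Set.Subset.antisymm (h2 P) (h1 P))

end Fs

section Index

variable {S : Subgroup Ω} {F : FusionSystem S} {X : Type u} [MulAction (↥S × ↥S) X] [Finite X] {A : Type w} [CommGroup A]
variable [Finite S] [Fact p.Prime]

theorem lamInv_of_foc {lam : ↥S →* A} (h : F.focalSubgroup ≤ labT lam) : LamInv F lam := by
  intro R f hf a b ha hb
  obtain ⟨φ, hφ, hφf⟩ := hf
  have h1 : (a : Ω)⁻¹ * b ∈ F.focalSubgroup := by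
    refine Subgroup.subset_closure ⟨R, φ, ⟨a, ha⟩, hφ, ?_⟩
    rw [hφf ⟨a, ha⟩, hb]
  have h2 := lam_of_mem (a⁻¹ * b) (h (by simpa using h1))
  rw [map_mul, map_inv, inv_mul_eq_one] at h2
  exact h2

theorem foc_le_of_lamInv {lam : ↥S →* A} (h : LamInv F lam) : F.focalSubgroup ≤ labT lam := by
  refine (Subgroup.closure_le _).2 ?_
  rintro _ ⟨P, φ, x, hφ, rfl⟩
  have hm := mp_of_mem hφ
  have hx : (x : Ω) ∈ S := hm.le x.2
  have hy : φ x ∈ S := (F.le_of_mem hφ).2 x
  have h1 := h hm ⟨x, hx⟩ ⟨φ x, hy⟩ x.2 (toFun_coe φ x).symm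
  refine mem_labT.2 ⟨S.mul_mem (S.inv_mem hx) hy, ?_⟩
  have e : (⟨(x : Ω)⁻¹ * φ x, S.mul_mem (S.inv_mem hx) hy⟩ : ↥S) = (⟨x, hx⟩ : ↥S)⁻¹ * ⟨φ x, hy⟩ := rfl
  rw [e, map_mul, map_inv, ← h1]
  simp

/-- The residual of the automorphism groups lies in the subsystem. -/
theorem labSys_residual [Finite A] (hS : IsPGroup p S) (hc : CharB F p X) (lam : ↥S →* A) (hinv : LamInv F lam) (hA : Nat.card A = p)
    {P : Subgroup Ω} (hP : P ≤ labT lam) :
    (pResidual p (F.autGroup P)).map (F.autGroup P).subtype ≤ (labSys hc lam hinv).autGroup P := by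
  have hp : p.Prime := Fact.out
  have hPS : P ≤ S := hP.trans (labT_le lam)
  rw [Subgroup.map_le_iff_le_comap]
  refine (Subgroup.closure_le _).2 (fun α hα => ?_)
  have hα' : Nat.Coprime (orderOf α) p := hα
  show (α : MulAut P) ∈ (labSys hc lam hinv).autGroup P
  have hm : Mp F P (toFun (P.subtype.comp (α : MulAut P).toMonoidHom)) := Mp.of_mem_autGroup hPS α.2
  rw [H25.mem_autGroup_iff hP, mp_labSys_iff]
  refine ⟨hm, hP, ?_⟩
  by_cases hH : HH F lam P
  · obtain ⟨ι, hι⟩ := hc.valid hm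
    refine ⟨ι, hι, ?_⟩
    have hpow : ∀ (j : ℕ) (x : P), ι ^ j * (lft ⟨x, hPS x.2⟩ : reG ↥S X) =
        (lft ⟨(((α : MulAut P) ^ j) x : P), hPS (((α : MulAut P) ^ j) x).2⟩ : reG ↥S X) * ι ^ j := by
      intro j
      induction j with
      | zero =>
        intro x
        simp
      | succ j ih =>
        intro x
        rw [pow_succ, mul_assoc]
        have h1 := hι ⟨x, hPS x.2⟩ ⟨((α : MulAut P) x : P), hPS ((α : MulAut P) x).2⟩ x.2 (toFun_aut _ x).symm
        rw [h1, ← mul_assoc, ih, pow_succ, mul_assoc]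
        congr 1
    have hk : (α : MulAut P) ^ orderOf α = 1 := by
      have := pow_orderOf_eq_one α
      exact congrArg Subtype.val this
    have hcomm : ∀ x : ↥S, (x : Ω) ∈ P → Commute (ι ^ orderOf α) (lft x) := by
      intro x hx
      have h1 := hpow (orderOf α) ⟨x, hx⟩
      rw [hk] at h1
      exact h1
    have h1 := lab_eq_one_of_commute hc lam hinv hS (exp_of_card hA) hPS hH _ hcomm
    rw [map_pow] at h1
    have h2 := orderOf_dvd_of_pow_eq_one h1
    have h3 := orderOf_dvd_of_pow_eq_one (exp_of_card hA (lab hc.free lam ι))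
    exact orderOf_eq_one_iff.1 (Nat.eq_one_of_dvd_coprimes hα' h2 h3)
  · exact exists_valid_of_not_HH hc lam hinv hA hH hm

/-- `hyp` of a subsystem with the same or smaller automorphism groups is smaller. -/
theorem hyp_le_of_subsystem {T : Subgroup Ω} {E : FusionSystem T} (h : E.IsSubsystemOf F) :
    E.hyperfocalSubgroup p ≤ F.hyperfocalSubgroup p := by
  refine (Subgroup.closure_le _).2 ?_
  rintro _ ⟨P, a, x, hP, ha, rfl⟩
  have hPS : P ≤ S := by
    intro y hy
    have h1 : conjHom P (1 : Ω) ∈ E.Hom P := E.conj_mem hP T.one_mem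
    exact (F.le_of_mem (h P h1)).1 hy
  have h2 : (a : MulAut P) ∈ (pResidual p (F.autGroup P)).map (F.autGroup P).subtype :=
    pRes_mono (autGroup_le_of_subsystem h P) ⟨a, ha, rfl⟩
  obtain ⟨b, hb, hb2⟩ := h2
  have := mem_hyperfocal_of_gen (F := F) (p := p) hPS b hb x
  rw [show ((b : F.autGroup P) : MulAut P) = (a : MulAut P) from hb2] at this
  exact this

end Index

section Exist

variable [Fact p.Prime]

/-- Existence of subsystems of `p`-power index. -/
theorem exists_ppower (n : ℕ) : ∀ (S : Subgroup Ω) [Finite S] (F : FusionSystem S), IsPGroup p S → F.IsSaturated p →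
    ∀ T : Subgroup Ω, T ≤ S → F.hyperfocalSubgroup p ≤ T → Nat.card S = n →
    ∃ E : FusionSystem T, E.IsSaturated p ∧ E.HasPPowerIndexIn F p := by
  induction n using Nat.strong_induction_on with
  | _ n ih =>
    intro S _ F hS hF T hTS hT hn
    have hp : p.Prime := Fact.out
    by_cases hTeq : T = S
    · subst hTeq
      exact ⟨F, hF, fun _ _ h => h, hT, fun P _ => Subgroup.map_subtype_le _⟩
    have hT₀ : T.subgroupOf S ≠ ⊤ := by
      intro h
      apply hTeq
      apply le_antisymm hTS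
      intro x hx
      have : (⟨x, hx⟩ : ↥S) ∈ T.subgroupOf S := by rw [h]; trivial
      exact this
    obtain ⟨M, hM, hTM⟩ := (eq_top_or_exists_le_coatom (T.subgroupOf S)).resolve_left hT₀
    obtain ⟨hMn, hMi⟩ := Cfsg.Agent.H01.isCoatom_normal_index hS hM
    have hcA : Nat.card (Multiplicative (ZMod p)) = p :=
      (Nat.card_congr Multiplicative.toAdd).trans (Nat.card_zmod p)
    let e : (↥S ⧸ M) ≃* Multiplicative (ZMod p) := mulEquivOfPrimeCardEq hMi hcA
    let lam : ↥S →* Multiplicative (ZMod p) := e.toMonoidHom.comp (QuotientGroup.mk' M)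
    have hsurj : Function.Surjective lam := e.surjective.comp (QuotientGroup.mk'_surjective M)
    have hTlam : T ≤ labT lam := by
      intro x hx
      have hxS := hTS hx
      refine mem_labT.2 ⟨hxS, ?_⟩
      have h1 : (⟨x, hxS⟩ : ↥S) ∈ M := hTM hx
      show e (QuotientGroup.mk' M (⟨x, hxS⟩ : ↥S)) = 1
      have h2 : QuotientGroup.mk' M (⟨x, hxS⟩ : ↥S) = 1 := (QuotientGroup.eq_one_iff _).2 h1
      rw [h2, map_one]
    have hcomm : ⁅(S : Subgroup Ω), (S : Subgroup Ω)⁆ ≤ labT lam := by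
      rw [Subgroup.commutator_le]
      intro a ha b hb
      refine mem_labT.2 ⟨S.mul_mem (S.mul_mem (S.mul_mem ha hb) (S.inv_mem ha)) (S.inv_mem hb), ?_⟩
      have e1 : (⟨⁅a, b⁆, S.mul_mem (S.mul_mem (S.mul_mem ha hb) (S.inv_mem ha)) (S.inv_mem hb)⟩ : ↥S) =
          (⟨a, ha⟩ : ↥S) * ⟨b, hb⟩ * (⟨a, ha⟩ : ↥S)⁻¹ * (⟨b, hb⟩ : ↥S)⁻¹ := rfl
      rw [e1, map_mul, map_mul, map_mul, map_inv, map_inv]
      exact by
        rw [mul_comm (lam ⟨a, ha⟩)]
        simp
    have hfoc : F.focalSubgroup ≤ labT lam := by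
      rw [focal_eq hS hF]
      exact sup_le (hT.trans hTlam) hcomm
    have hinv : LamInv F lam := lamInv_of_foc hfoc
    obtain ⟨X, i1, i2, hc⟩ := exists_charB hS hF
    haveI : Finite (labT lam) := finite_of_le (labT_le lam)
    have hsat := labSys_saturated hS hF hc lam hinv hcA hsurj
    have hlt : Nat.card (labT lam) < n := by
      have hle : Nat.card (labT lam) ≤ Nat.card S := Subgroup.card_le_of_le (labT_le lam)
      have hne : Nat.card (labT lam) ≠ Nat.card S := by
        intro hc'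
        have heq : labT lam = S := Subgroup.eq_of_le_of_card_ge (labT_le lam) hc'.ge
        have htriv : ∀ a : Multiplicative (ZMod p), a = 1 := by
          intro a
          obtain ⟨s, rfl⟩ := hsurj a
          exact lam_of_mem s (by rw [heq]; exact s.2)
        have : Nat.card (Multiplicative (ZMod p)) = 1 := Nat.card_eq_one_iff_unique.2 ⟨⟨fun a b => by rw [htriv a, htriv b]⟩, ⟨1⟩⟩
        rw [hcA] at this
        exact hp.ne_one this
      omega
    have hSp : IsPGroup p (labT lam) :=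
      hS.of_injective (Subgroup.inclusion (labT_le lam)) (Subgroup.inclusion_injective _)
    obtain ⟨E, hEs, hE1, hE2, hE3⟩ := ih _ hlt (labT lam) (labSys hc lam hinv) hSp hsat T hTlam
      ((hyp_le_of_subsystem (labSys_subsystem hc lam hinv)).trans hT) rfl
    refine ⟨E, hEs, fun P _ h => labSys_subsystem hc lam hinv P (hE1 P h), hT, fun P hP => ?_⟩
    have h1 := labSys_residual hS hc lam hinv hcA (hP.trans hTlam)
    exact (pRes_le_pRes h1).trans (hE3 P hP)

end Exist

end Cfsg.Agent.H24
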