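import Mathlib
import Cfsg.Agent.Lib.H24.LabU
import Cfsg.Agent.Lib.H24.FusInv2
import Cfsg.Agent.Lib.H24.BisetE

/-!
Saturated subsystems of `p`-power index over a normal subgroup are normal subsystems.
-/

set_option autoImplicit false
set_option linter.style.haveILetI false

namespace Cfsg.Agent.H24

open Cfsg Cfsg.FusionSystem
open Cfsg.Agent.H25

universe u

variable {Ω : Type u} [Group Ω] {S T : Subgroup Ω} {F : FusionSystem S} {p : ℕ}

theorem conj_mem_of_normal (hTn : (T.subgroupOf S).Normal) {s x : Ω} (hs : s ∈ S) (hxS : x ∈ S) (hx : x ∈ T) : s * x * s⁻¹ ∈ T :=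
  hTn.conj_mem (⟨x, hxS⟩ : ↥S) hx ⟨s, hs⟩

theorem conj_inv_mem_of_normal (hTn : (T.subgroupOf S).Normal) {s x : Ω} (hs : s ∈ S) (hxS : x ∈ S) (hx : s * x * s⁻¹ ∈ T) : x ∈ T := by
  have h1 := conj_mem_of_normal hTn (S.inv_mem hs) (S.mul_mem (S.mul_mem hs hxS) (S.inv_mem hs)) hx
  have e : s⁻¹ * (s * x * s⁻¹) * s⁻¹⁻¹ = x := by group
  rwa [e] at h1

section Strong

variable [Finite S] [Fact p.Prime]

/-- A subgroup containing the hyperfocal subgroup and normal in `S` is strongly closed. -/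
theorem stronglyClosed_of_normal (hS : IsPGroup p S) (hF : F.IsSaturated p) (hTS : T ≤ S) (hTn : (T.subgroupOf S).Normal)
    (hT : F.hyperfocalSubgroup p ≤ T) : F.StronglyClosed T := by
  refine ⟨hTS, ?_⟩
  have key : ∀ P : Subgroup Ω, True → ∀ φ ∈ F.Hom P, ∀ x : P, (x : Ω) ∈ T ↔ φ x ∈ T := by
    refine fusion_induction hS hF (fun _ => True) (fun _ _ => trivial) (fun _ _ _ => trivial)
      (fun P φ => ∀ x : P, (x : Ω) ∈ T ↔ φ x ∈ T) ?_ ?_ ?_ ?_
    · intro P R φ ψ hφ hψ h χ hχ x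
      rw [hχ, hφ x]
      exact hψ ⟨φ x, h x⟩
    · intro P R φ ψ _ hX hR hψ y
      obtain ⟨x, hx⟩ : (y : Ω) ∈ φ.range := hR ▸ y.2
      have e : y = ⟨φ x, hx ▸ y.2⟩ := Subtype.ext hx.symm
      rw [e, hψ]
      exact (hX x).symm
    · intro P P' φ hX hP' χ hχ x
      rw [hχ]
      exact hX ⟨x, hP' x.2⟩
    · intro Q _ hQn _ β hβ x
      obtain ⟨hFA, -⟩ := fullyNormalized_props hS hF hQn
      have hQS : Q ≤ S := hQn.1
      obtain ⟨d, hd, κ, hκ, rfl⟩ := exists_decomp_pResidual hFA hβ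
      obtain ⟨s, hs, hsv⟩ := (mem_autInducedBy_iff S Q d).1 hd
      have h1 := hT (mem_hyperfocal_of_gen hQS κ hκ x)
      show (x : Ω) ∈ _ ↔ ((d ((κ : MulAut Q) x) : Q) : Ω) ∈ _
      rw [hsv]
      have hκS : (((κ : MulAut Q) x : Q) : Ω) ∈ S := hQS ((κ : MulAut Q) x).2
      constructor
      · intro hx
        have h2 : (((κ : MulAut Q) x : Q) : Ω) ∈ T := by
          have : (((κ : MulAut Q) x : Q) : Ω) = x * ((x : Ω)⁻¹ * (((κ : MulAut Q) x : Q) : Ω)) := by group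
          rw [this]
          exact Subgroup.mul_mem _ hx h1
        exact conj_mem_of_normal hTn hs hκS h2
      · intro hx
        have h2 := conj_inv_mem_of_normal hTn hs hκS hx
        have : (x : Ω) = (((κ : MulAut Q) x : Q) : Ω) * ((x : Ω)⁻¹ * (((κ : MulAut Q) x : Q) : Ω))⁻¹ := by group
        rw [this]
        exact Subgroup.mul_mem _ h2 (Subgroup.inv_mem _ h1)
  intro R hRT φ hφ x
  exact (key R trivial φ hφ x).1 (hRT x.2)

end Strong

section Invariant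

variable {E : FusionSystem T}

variable [Finite S] [Fact p.Prime]

/-- The image of a subgroup under an automorphism of `T`. -/
theorem mem_mapA {α : MulAut T} {P : Subgroup Ω} (hP : P ≤ T) {y : Ω} :
    y ∈ (P.subgroupOf T).map (T.subtype.comp α.toMonoidHom) ↔
      ∃ x ∈ P, toFun (T.subtype.comp α.toMonoidHom) x = y := by
  constructor
  · rintro ⟨⟨x, hxT⟩, hx, rfl⟩
    exact ⟨x, hx, toFun_aut α ⟨x, hxT⟩⟩
  · rintro ⟨x, hx, rfl⟩
    exact ⟨⟨x, hP hx⟩, hx, (toFun_aut α ⟨x, hP hx⟩).symm⟩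

/-- A subsystem of `p`-power index is invariant under `Aut_F(T)`. -/
theorem conjInvariant_of_ppower (hS : IsPGroup p S) (hTS : T ≤ S) (hEs : E.IsSaturated p) (hE : E.HasPPowerIndexIn F p) :
    ConjInvariant F E := by
  haveI hfT : Finite T := finite_of_le hTS
  have hTp : IsPGroup p T := hS.of_injective (Subgroup.inclusion hTS) (Subgroup.inclusion_injective _)
  intro P hPT φ hφ α hα
  set a : Ω → Ω := toFun (T.subtype.comp α.toMonoidHom) with ha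
  set a' : Ω → Ω := toFun (T.subtype.comp (α⁻¹ : MulAut T).toMonoidHom) with ha'
  have haF : Iso F T T a := Iso.of_mem_autGroup hTS hα
  have haT : ∀ x ∈ T, a x ∈ T := haF.maps
  have haa : ∀ x ∈ T, a' (a x) = x := by
    intro x hx
    rw [ha, toFun_aut α ⟨x, hx⟩, ha', toFun_aut α⁻¹ ⟨_, (α ⟨x, hx⟩).2⟩]
    simp
  have haa' : ∀ x ∈ T, a (a' x) = x := by
    intro x hx
    rw [ha', toFun_aut α⁻¹ ⟨x, hx⟩, ha, toFun_aut α ⟨_, (α⁻¹ ⟨x, hx⟩).2⟩]
    simp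
  have ha'T : ∀ x ∈ T, a' x ∈ T := by
    intro x hx
    rw [ha', toFun_aut α⁻¹ ⟨x, hx⟩]
    exact (α⁻¹ ⟨x, hx⟩).2
  have hmm : ∀ {R : Subgroup Ω}, R ≤ T → ∀ {y : Ω}, y ∈ (R.subgroupOf T).map (T.subtype.comp α.toMonoidHom) ↔
      ∃ x ∈ R, a x = y := fun hR => mem_mapA hR
  have key : ∀ R : Subgroup Ω, True → ∀ ψ ∈ E.Hom R,
      ψ ∈ E.Hom R ∧ Mp E ((R.subgroupOf T).map (T.subtype.comp α.toMonoidHom)) (a ∘ toFun ψ ∘ a') := by
    refine fusion_induction hTp hEs (fun _ => True) (fun _ _ => trivial) (fun _ _ _ => trivial)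
      (fun R ψ => ψ ∈ E.Hom R ∧ Mp E ((R.subgroupOf T).map (T.subtype.comp α.toMonoidHom)) (a ∘ toFun ψ ∘ a')) ?_ ?_ ?_ ?_
    · rintro P₁ R₁ φ₁ ψ₁ ⟨hφ₁, h1⟩ ⟨hψ₁, h2⟩ h χ hχ
      have hP₁T : P₁ ≤ T := hom_le hφ₁
      have hR₁T : R₁ ≤ T := hom_le hψ₁
      refine ⟨hom_of_comp hφ₁ hψ₁ h χ hχ, ?_⟩
      have hval : ∀ x : P₁, toFun φ₁ x ∈ T := fun x => by
        rw [toFun_coe]
        exact hR₁T (h x)
      have h3 := h1.comp (Q := (R₁.subgroupOf T).map (T.subtype.comp α.toMonoidHom)) (fun y hy => ?_) h2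
      · refine h3.congr (fun y hy => ?_)
        obtain ⟨x, hx, rfl⟩ := (hmm hP₁T).1 hy
        simp only [Function.comp_apply]
        rw [haa x (hP₁T hx), haa _ (hval ⟨x, hx⟩)]
        congr 1
        rw [toFun_coe φ₁ ⟨x, hx⟩, toFun_coe χ ⟨x, hx⟩, hχ ⟨x, hx⟩, ← toFun_coe ψ₁]
      · obtain ⟨x, hx, rfl⟩ := (hmm hP₁T).1 hy
        refine (hmm hR₁T).2 ⟨toFun φ₁ x, ?_, ?_⟩
        · rw [toFun_coe φ₁ ⟨x, hx⟩]
          exact h ⟨x, hx⟩
        · simp only [Function.comp_apply]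
          rw [haa x (hP₁T hx)]
    · rintro P₁ R₁ φ₁ ψ₁ hφ₁ ⟨_, h1⟩ hR hψ₁
      subst hR
      have hP₁T : P₁ ≤ T := hom_le hφ₁
      have hval : ∀ x : P₁, φ₁ x ∈ T := (E.le_of_mem hφ₁).2
      have hRT : φ₁.range ≤ T := by
        rintro _ ⟨x, rfl⟩
        exact hval x
      have hmem : ψ₁ ∈ E.Hom φ₁.range := by
        obtain ⟨ψ₀, hψ₀, hv⟩ := E.inv_mem hφ₁
        convert hψ₀ using 1
        ext y
        obtain ⟨x, hx⟩ := y.2
        have e : y = ⟨φ₁ x, ⟨x, rfl⟩⟩ := Subtype.ext hx.symm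
        rw [e, hv]
        exact hψ₁ x _
      refine ⟨hmem, ?_⟩
      obtain ⟨g', hg', hg1, hg2⟩ := h1.inv
      have himg : h1.img = (φ₁.range.subgroupOf T).map (T.subtype.comp α.toMonoidHom) := by
        ext y
        rw [Mp.mem_img, mem_mapA hRT]
        constructor
        · rintro ⟨w, hw, rfl⟩
          obtain ⟨x, hx, rfl⟩ := (hmm hP₁T).1 hw
          refine ⟨φ₁ ⟨x, hx⟩, ⟨⟨x, hx⟩, rfl⟩, ?_⟩
          simp only [Function.comp_apply]
          rw [haa x (hP₁T hx), toFun_coe φ₁ ⟨x, hx⟩]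
        · rintro ⟨w, ⟨x, rfl⟩, rfl⟩
          refine ⟨a x, (hmm hP₁T).2 ⟨x, x.2, rfl⟩, ?_⟩
          simp only [Function.comp_apply]
          rw [haa x (hP₁T x.2), toFun_coe φ₁ x]
      rw [himg] at hg'
      refine hg'.congr (fun y hy => ?_)
      obtain ⟨w, ⟨x, rfl⟩, rfl⟩ := (hmm hRT).1 hy
      have e1 : g' (a (φ₁ x)) = a x := by
        have h5 := hg1 (a x) ((hmm hP₁T).2 ⟨x, x.2, rfl⟩)
        simp only [Function.comp_apply] at h5
        rw [haa x (hP₁T x.2), toFun_coe φ₁ x] at h5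
        exact h5
      simp only [Function.comp_apply]
      rw [e1, haa _ (hval x)]
      congr 1
      rw [toFun_coe ψ₁ ⟨φ₁ x, ⟨x, rfl⟩⟩]
      exact (hψ₁ x _).symm
    · rintro P₁ P' φ₁ ⟨hφ₁, h1⟩ hP' χ hχ
      have hP₁T : P₁ ≤ T := hom_le hφ₁
      refine ⟨hom_of_agree hP' hφ₁ χ hχ, ?_⟩
      refine (h1.restrict (fun y hy => ?_)).congr (fun y hy => ?_)
      · obtain ⟨x, hx, rfl⟩ := (hmm (hP'.trans hP₁T)).1 hy
        exact (hmm hP₁T).2 ⟨x, hP' hx, rfl⟩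
      · obtain ⟨x, hx, rfl⟩ := (hmm (hP'.trans hP₁T)).1 hy
        simp only [Function.comp_apply]
        rw [haa x (hP₁T (hP' hx))]
        congr 1
        rw [toFun_coe φ₁ ⟨x, hP' hx⟩, toFun_coe χ ⟨x, hx⟩, hχ ⟨x, hx⟩]
    · intro Q _ hQn _ β hβ
      have hQT : Q ≤ T := hQn.1
      refine ⟨(H25.mem_hom_iff).2 (Mp.of_mem_autGroup hQT hβ), ?_⟩
      obtain ⟨hFA, -⟩ := fullyNormalized_props hTp hEs hQn
      obtain ⟨d, hd, κ, hκ, rfl⟩ := exists_decomp_pResidual hFA hβ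
      obtain ⟨t, ht, htv⟩ := (mem_autInducedBy_iff T Q d).1 hd
      -- the restriction of `a` to `Q`
      obtain ⟨θ, hθ, hθv⟩ := exists_restrict hQT ((_root_.Cfsg.Agent.H24.mem_autGroup_iff hTS α).1 hα)
      have hθR : θ.range = (Q.subgroupOf T).map (T.subtype.comp α.toMonoidHom) := by
        ext y
        constructor
        · rintro ⟨x, rfl⟩
          rw [hθv]
          exact ⟨⟨x, hQT x.2⟩, x.2, rfl⟩
        · rintro ⟨⟨x, hxT⟩, hx, rfl⟩
          exact ⟨⟨x, hx⟩, hθv _⟩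
      set Q₁ := (Q.subgroupOf T).map (T.subtype.comp α.toMonoidHom) with hQ₁
      have hQ₁T : Q₁ ≤ T := by
        rintro _ ⟨x, -, rfl⟩
        exact (α x).2
      have hfg := hom_inj hθ
      let e : Q ≃* Q₁ := equivOfHom hfg hθR
      let g : F.autGroup Q →* F.autGroup Q₁ :=
        ((MulAut.congr e).toMonoidHom.comp (F.autGroup Q).subtype).codRestrict _
          (fun α' => congr_mem_autGroup hθ hθR α'.2)
      have hκF : (κ : MulAut Q) ∈ (pResidual p (F.autGroup Q)).map (F.autGroup Q).subtype :=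
        pRes_mono (autGroup_le_of_subsystem hE.1 Q) ⟨κ, hκ, rfl⟩
      obtain ⟨κ', hκ', hκ'v⟩ := hκF
      have hgκ : g κ' ∈ pResidual p (F.autGroup Q₁) := pResidual_map_le g ⟨κ', hκ', rfl⟩
      have hgE : ((g κ' : F.autGroup Q₁) : MulAut Q₁) ∈ E.autGroup Q₁ := hE.2.2 Q₁ hQ₁T ⟨_, hgκ, rfl⟩
      have hm1 : Mp E Q₁ _ := Mp.of_mem_autGroup hQ₁T hgE
      have hm2 : Mp E Q₁ (fun x => a t * (toFun (Q₁.subtype.comp ((g κ' : F.autGroup Q₁) : MulAut Q₁).toMonoidHom) x) * (a t)⁻¹) :=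
        Mp.conj_comp hm1 (haT t ht)
      refine hm2.congr (fun y hy => ?_)
      obtain ⟨x, hx, rfl⟩ := (hmm hQT).1 hy
      have e0 : (e ⟨x, hx⟩ : Ω) = a x := by
        have h1 : ((e ⟨x, hx⟩ : Q₁) : Ω) = θ ⟨x, hx⟩ := rfl
        rw [h1, hθv]
        exact (toFun_aut α ⟨x, hQT hx⟩).symm
      have e1 : (⟨a x, hy⟩ : Q₁) = e ⟨x, hx⟩ := Subtype.ext e0.symm
      have e2 : ((g κ' : F.autGroup Q₁) : MulAut Q₁) (e ⟨x, hx⟩) = e ((κ : MulAut Q) ⟨x, hx⟩) := by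
        show e ((κ' : MulAut Q) (e.symm (e ⟨x, hx⟩))) = _
        rw [MulEquiv.symm_apply_apply]
        have : (κ' : MulAut Q) = (κ : MulAut Q) := hκ'v
        rw [this]
      have e3 : toFun (Q₁.subtype.comp ((g κ' : F.autGroup Q₁) : MulAut Q₁).toMonoidHom) (a x) =
          a (((κ : MulAut Q) ⟨x, hx⟩ : Q) : Ω) := by
        rw [toFun_aut _ ⟨a x, hy⟩, e1, e2]
        have h1 := hθv ((κ : MulAut Q) ⟨x, hx⟩)
        show θ ((κ : MulAut Q) ⟨x, hx⟩) = _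
        rw [h1]
        exact (toFun_aut α _).symm
      simp only [Function.comp_apply]
      rw [haa x (hQT hx), e3]
      have e4 : toFun (Q.subtype.comp (d * (κ : MulAut Q)).toMonoidHom) x =
          t * (((κ : MulAut Q) ⟨x, hx⟩ : Q) : Ω) * t⁻¹ := by
        rw [toFun_aut _ ⟨x, hx⟩]
        exact htv _
      rw [e4]
      have hκT : (((κ : MulAut Q) ⟨x, hx⟩ : Q) : Ω) ∈ T := hQT ((κ : MulAut Q) ⟨x, hx⟩).2
      have e5 : a (t * (((κ : MulAut Q) ⟨x, hx⟩ : Q) : Ω) * t⁻¹) =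
          a t * a (((κ : MulAut Q) ⟨x, hx⟩ : Q) : Ω) * (a t)⁻¹ := by
        rw [haF.mp.map_mul (T.mul_mem ht hκT) (T.inv_mem ht), haF.mp.map_mul ht hκT, haF.mp.map_inv ht]
      rw [e5]
  obtain ⟨-, χ, hχ, hv⟩ := key P trivial φ hφ
  refine ⟨χ, hχ, fun x hφx hαx => ?_⟩
  rw [hv ⟨_, hαx⟩]
  show a (toFun φ (a' _)) = _
  have e1 : ((α ⟨x, hPT x.2⟩ : T) : Ω) = a x := (toFun_aut α ⟨x, hPT x.2⟩).symm
  rw [e1, haa x (hPT x.2), toFun_coe φ x]
  exact toFun_aut α ⟨φ x, hφx⟩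

/-- The local condition for the Frattini property. -/
theorem frForm_of_ppower (hS : IsPGroup p S) (hF : F.IsSaturated p) (hTS : T ≤ S) (hTn : (T.subgroupOf S).Normal)
    (hEs : E.IsSaturated p) (hE : E.HasPPowerIndexIn F p) (P : Subgroup Ω) (hP : P ≤ T) (φ : P →* Ω) (hφ : φ ∈ F.Hom P) :
    FrForm F E P φ := by
  have hstrong := stronglyClosed_of_normal hS hF hTS hTn hE.2.1
  have hinv := conjInvariant_of_ppower hS hTS hEs hE
  refine frForm_of_local_rel hS hF hstrong hinv (fun _ => True) (fun _ _ => trivial) (fun _ _ _ => trivial) ?_ P hP trivial φ hφ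
  intro Q hQT _ hQn β hβ
  have hQS : Q ≤ S := hQn.1
  obtain ⟨hFA, -⟩ := fullyNormalized_props hS hF hQn
  obtain ⟨d, hd, κ, hκ, rfl⟩ := exists_decomp_pResidual hFA hβ
  have hdF : d ∈ F.autGroup Q := autInducedBy_le hQS hd
  obtain ⟨s, hs, hsv⟩ := (mem_autInducedBy_iff S Q d).1 hd
  haveI : (pResidual p (F.autGroup Q)).Normal := pResidual_normal'
  have h1 : (⟨d, hdF⟩ * κ * (⟨d, hdF⟩ : F.autGroup Q)⁻¹ : F.autGroup Q) ∈ pResidual p (F.autGroup Q) :=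
    Subgroup.Normal.conj_mem ‹_› κ hκ ⟨d, hdF⟩
  refine ⟨_, hE.2.2 Q hQT.le ⟨_, h1, rfl⟩, d, hdF, ?_, fun g hg => ?_⟩
  · show d * (κ : MulAut Q) = (d * (κ : MulAut Q) * d⁻¹) * d
    group
  · refine Subgroup.subset_closure ⟨hTS hg.1, hg.2, s * g * s⁻¹, S.mul_mem (S.mul_mem hs (hTS hg.1)) (S.inv_mem hs), fun x hx => ?_⟩
    show ((d ⟨g * x * g⁻¹, hx⟩ : Q) : Ω) = s * g * s⁻¹ * ((d x : Q) : Ω) * (s * g * s⁻¹)⁻¹
    rw [hsv, hsv]
    group

end Invariant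

section Extension

/-- The extension property of an automorphism of `T`. -/
def ExtProp (F : FusionSystem S) (α : MulAut T) : Prop :=
  ∃ β ∈ F.autGroup (T ⊔ centralizerIn S T),
    (∀ x : T, ((β (Subgroup.inclusion le_sup_left x) : ↥(T ⊔ centralizerIn S T)) : Ω) = ((α x : T) : Ω)) ∧
    ∀ c : ↥(T ⊔ centralizerIn S T), (c : Ω) ∈ centralizerIn S T →
      (c : Ω)⁻¹ * ((β c : ↥(T ⊔ centralizerIn S T)) : Ω) ∈ T ⊓ Subgroup.centralizer (T : Set Ω)

theorem ext_cent (hTS : T ≤ S) {α : MulAut T} {β : MulAut ↥(T ⊔ centralizerIn S T)}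
    (hv : ∀ x : T, ((β (Subgroup.inclusion le_sup_left x) : ↥(T ⊔ centralizerIn S T)) : Ω) = ((α x : T) : Ω))
    {c : ↥(T ⊔ centralizerIn S T)} (hc : (c : Ω) ∈ centralizerIn S T) :
    ((β c : ↥(T ⊔ centralizerIn S T)) : Ω) ∈ centralizerIn S T := by
  have hMS : T ⊔ centralizerIn S T ≤ S := sup_le hTS inf_le_left
  refine ⟨hMS (β c).2, Subgroup.mem_centralizer_iff.2 (fun y hy => ?_)⟩
  obtain ⟨x, hx⟩ : ∃ x : T, ((α x : T) : Ω) = y := ⟨α⁻¹ ⟨y, hy⟩, by simp⟩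
  rw [← hx, ← hv x]
  have hcomm : (Subgroup.inclusion le_sup_left x : ↥(T ⊔ centralizerIn S T)) * c = c * Subgroup.inclusion le_sup_left x := by
    apply Subtype.ext
    have h2 := (Subgroup.mem_centralizer_iff.1 hc.2) x x.2
    exact h2
  show ((β (Subgroup.inclusion le_sup_left x) : ↥(T ⊔ centralizerIn S T)) * (β c) : ↥(T ⊔ centralizerIn S T)).1 = ((β c) * (β (Subgroup.inclusion le_sup_left x)) : ↥(T ⊔ centralizerIn S T)).1
  rw [← map_mul, ← map_mul, hcomm]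

theorem ExtProp.mul (hTS : T ≤ S) {α₁ α₂ : MulAut T} (h₁ : ExtProp F α₁) (h₂ : ExtProp F α₂) : ExtProp F (α₁ * α₂) := by
  obtain ⟨β₁, hβ₁, h11, h12⟩ := h₁
  obtain ⟨β₂, hβ₂, h21, h22⟩ := h₂
  refine ⟨β₁ * β₂, Subgroup.mul_mem _ hβ₁ hβ₂, fun x => ?_, fun c hc => ?_⟩
  · have e : (β₂ (Subgroup.inclusion le_sup_left x) : ↥(T ⊔ centralizerIn S T)) = Subgroup.inclusion le_sup_left (α₂ x) :=
      Subtype.ext (h21 x)
    show ((β₁ (β₂ (Subgroup.inclusion le_sup_left x)) : ↥(T ⊔ centralizerIn S T)) : Ω) = ((α₁ (α₂ x) : T) : Ω)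
    rw [e, h11]
  · have h3 := ext_cent hTS h21 hc
    have e : (c : Ω)⁻¹ * (((β₁ * β₂) c : ↥(T ⊔ centralizerIn S T)) : Ω) =
        ((c : Ω)⁻¹ * ((β₂ c : ↥(T ⊔ centralizerIn S T)) : Ω)) *
          (((β₂ c : ↥(T ⊔ centralizerIn S T)) : Ω)⁻¹ * ((β₁ (β₂ c) : ↥(T ⊔ centralizerIn S T)) : Ω)) := by
      show _ = _ * (_ * ((β₁ (β₂ c) : ↥(T ⊔ centralizerIn S T)) : Ω))
      show (c : Ω)⁻¹ * ((β₁ (β₂ c) : ↥(T ⊔ centralizerIn S T)) : Ω) = _
      group
    rw [e]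
    exact Subgroup.mul_mem _ (h22 c hc) (h12 _ h3)

theorem ExtProp.inv (hTS : T ≤ S) {α : MulAut T} (h : ExtProp F α) : ExtProp F α⁻¹ := by
  obtain ⟨β, hβ, h1, h2⟩ := h
  have hv : ∀ x : T, ((β⁻¹ (Subgroup.inclusion le_sup_left x) : ↥(T ⊔ centralizerIn S T)) : Ω) = (((α⁻¹ : MulAut T) x : T) : Ω) := by
    intro x
    have e : (Subgroup.inclusion le_sup_left x : ↥(T ⊔ centralizerIn S T)) = β (Subgroup.inclusion le_sup_left (α⁻¹ x)) := by
      apply Subtype.ext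
      rw [h1]
      simp
    rw [e]
    simp
  refine ⟨β⁻¹, Subgroup.inv_mem _ hβ, hv, fun c hc => ?_⟩
  have h3 := ext_cent hTS hv hc
  have h4 := h2 (β⁻¹ c) h3
  have e : (c : Ω)⁻¹ * ((β⁻¹ c : ↥(T ⊔ centralizerIn S T)) : Ω) =
      (((β⁻¹ c : ↥(T ⊔ centralizerIn S T)) : Ω)⁻¹ * ((β (β⁻¹ c) : ↥(T ⊔ centralizerIn S T)) : Ω))⁻¹ := by
    simp
  rw [e]
  exact Subgroup.inv_mem _ h4

theorem ext_of_conj (hTS : T ≤ S) {d : MulAut T} {t : Ω} (ht : t ∈ T) (hd : ∀ x : T, ((d x : T) : Ω) = t * x * t⁻¹) :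
    ExtProp F d := by
  have hMS : T ⊔ centralizerIn S T ≤ S := sup_le hTS inf_le_left
  have htM : t ∈ T ⊔ centralizerIn S T := (le_sup_left : T ≤ T ⊔ centralizerIn S T) ht
  refine ⟨MulAut.conj (⟨t, htM⟩ : ↥(T ⊔ centralizerIn S T)), ?_, fun x => ?_, fun c hc => ?_⟩
  · exact conj_mem_autGroup hMS (hTS ht) (fun x => rfl)
  · rw [hd]
    rfl
  · have h1 := (Subgroup.mem_centralizer_iff.1 hc.2) t ht
    have e : (c : Ω)⁻¹ * ((MulAut.conj (⟨t, htM⟩ : ↥(T ⊔ centralizerIn S T)) c : ↥(T ⊔ centralizerIn S T)) : Ω) = 1 := by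
      show (c : Ω)⁻¹ * (t * c * t⁻¹) = 1
      rw [h1]
      group
    rw [e]
    exact Subgroup.one_mem _

theorem mp_maps_sup {A B D : Subgroup Ω} {h : Ω → Ω} (hh : Mp F (A ⊔ B) h) (hA : ∀ x ∈ A, h x ∈ D) (hB : ∀ x ∈ B, h x ∈ D) :
    ∀ x ∈ A ⊔ B, h x ∈ D := by
  let K : Subgroup Ω :=
    { carrier := {x | x ∈ A ⊔ B ∧ h x ∈ D}
      mul_mem' := fun {a b} ha hb => ⟨Subgroup.mul_mem _ ha.1 hb.1, by
        rw [hh.map_mul ha.1 hb.1]
        exact D.mul_mem ha.2 hb.2⟩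
      one_mem' := ⟨Subgroup.one_mem _, by rw [hh.map_one]; exact D.one_mem⟩
      inv_mem' := fun {a} ha => ⟨Subgroup.inv_mem _ ha.1, by
        rw [hh.map_inv ha.1]
        exact D.inv_mem ha.2⟩ }
  have h1 : A ⊔ B ≤ K := sup_le (fun x hx => ⟨(le_sup_left : A ≤ A ⊔ B) hx, hA x hx⟩) (fun x hx => ⟨(le_sup_right : B ≤ A ⊔ B) hx, hB x hx⟩)
  exact fun x hx => (h1 hx).2

variable [Finite S] [Fact p.Prime]

theorem ext_of_coprime (hS : IsPGroup p S) (hF : F.IsSaturated p) (hTS : T ≤ S) (hTn : (T.subgroupOf S).Normal)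
    (hT : F.hyperfocalSubgroup p ≤ T) {γ : MulAut T} (hγ : γ ∈ F.autGroup T) (hc : Nat.Coprime (orderOf γ) p) :
    ExtProp F γ := by
  have hp : p.Prime := Fact.out
  have hMS : T ⊔ centralizerIn S T ≤ S := sup_le hTS inf_le_left
  haveI hfT : Finite T := finite_of_le hTS
  haveI hfM : Finite ↥(T ⊔ centralizerIn S T) := finite_of_le hMS
  haveI hfMA : Finite (MulAut ↥(T ⊔ centralizerIn S T)) := finiteMulAut_H24 _
  have hfar : Far F p T := by
    apply far_of_fullyNormalized hS hF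
    refine ⟨hTS, fun R hR => ?_⟩
    have hNT : normalizerIn S T = S := by
      apply le_antisymm inf_le_left
      intro s hs
      refine ⟨hs, mem_normalizer_of_conj (fun y hy => conj_mem_of_normal hTn hs (hTS hy) hy) (fun y hy => ?_)⟩
      exact conj_mem_of_normal hTn (S.inv_mem hs) (hTS hy) hy |> fun h => by simpa using h
    rw [hNT]
    exact Subgroup.card_le_of_le inf_le_left
  have hI := Iso.of_mem_autGroup hTS hγ
  obtain ⟨h, hh, hhv⟩ := recept_ext hfar.recep hI (K := T ⊔ centralizerIn S T) le_sup_left (sup_le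
    (fun x hx => Subgroup.subset_closure (mem_good_of_mem hI hx))
    (fun c hc' => Subgroup.subset_closure (mem_good_of_centralizes hI hc'.1 (fun x hx =>
      (Subgroup.mem_centralizer_iff.1 hc'.2 x hx).symm))))
  have hmaps : ∀ x ∈ T ⊔ centralizerIn S T, h x ∈ T ⊔ centralizerIn S T := by
    apply mp_maps_sup hh
    · intro x hx
      rw [hhv x hx]
      exact (le_sup_left : T ≤ T ⊔ centralizerIn S T) (hI.maps x hx)
    · intro c hc'
      have hcM : c ∈ T ⊔ centralizerIn S T := (le_sup_right : centralizerIn S T ≤ T ⊔ centralizerIn S T) hc'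
      refine (le_sup_right : centralizerIn S T ≤ T ⊔ centralizerIn S T) ⟨hh.mem hcM, Subgroup.mem_centralizer_iff.2 (fun y hy => ?_)⟩
      obtain ⟨x, hx, rfl⟩ := hI.surj y hy
      have hxM : x ∈ T ⊔ centralizerIn S T := (le_sup_left : T ≤ T ⊔ centralizerIn S T) hx
      rw [← hhv x hx, ← hh.map_mul hxM hcM, ← hh.map_mul hcM hxM, (Subgroup.mem_centralizer_iff.1 hc'.2) x hx]
  have hIso : Iso F _ _ h := Iso.of_maps hh hmaps
  set β₀ : MulAut ↥(T ⊔ centralizerIn S T) := autOfIso hIso with hβ₀d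
  have hβ₀ : β₀ ∈ F.autGroup (T ⊔ centralizerIn S T) := autOfIso_mem hIso
  have hn0 : orderOf β₀ ≠ 0 := (orderOf_pos β₀).ne'
  obtain ⟨a, m, hpm, hn⟩ := Nat.exists_eq_pow_mul_and_not_dvd hn0 p hp.ne_one
  have hcop : Nat.Coprime (orderOf γ) (p ^ a) := Nat.Coprime.pow_right a hc
  obtain ⟨N, hN1, hN2⟩ := Nat.chineseRemainder hcop 1 0
  have hpow : ∀ (j : ℕ) (x : T), (((β₀ ^ j) (Subgroup.inclusion le_sup_left x) : ↥(T ⊔ centralizerIn S T)) : Ω) = (((γ ^ j) x : T) : Ω) := by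
    intro j
    induction j with
    | zero => intro x; rfl
    | succ j ih =>
      intro x
      rw [pow_succ, pow_succ]
      show ((((β₀ ^ j) (β₀ (Subgroup.inclusion le_sup_left x))) : ↥(T ⊔ centralizerIn S T)) : Ω) = (((γ ^ j) (γ x) : T) : Ω)
      have e : (β₀ (Subgroup.inclusion le_sup_left x) : ↥(T ⊔ centralizerIn S T)) = Subgroup.inclusion le_sup_left (γ x) := by
        apply Subtype.ext
        show h x = _
        rw [hhv x x.2, toFun_aut γ x]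
        rfl
      rw [e, ih]
  have hγN : γ ^ N = γ := by
    have : γ ^ N = γ ^ 1 := pow_eq_pow_iff_modEq.2 hN1
    rwa [pow_one] at this
  have hval : ∀ x : T, (((β₀ ^ N) (Subgroup.inclusion le_sup_left x) : ↥(T ⊔ centralizerIn S T)) : Ω) = ((γ x : T) : Ω) := by
    intro x
    rw [hpow, hγN]
  have hmem : β₀ ^ N ∈ F.autGroup (T ⊔ centralizerIn S T) := Subgroup.pow_mem _ hβ₀ N
  have hord : Nat.Coprime (orderOf (⟨β₀ ^ N, hmem⟩ : F.autGroup (T ⊔ centralizerIn S T))) p := by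
    rw [Subgroup.orderOf_mk]
    have h1 : (β₀ ^ N) ^ m = 1 := by
      obtain ⟨r, hr⟩ := (Nat.modEq_zero_iff_dvd).1 hN2
      rw [hr, ← pow_mul, show p ^ a * r * m = (p ^ a * m) * r by ring, ← hn, pow_mul, pow_orderOf_eq_one, one_pow]
    have h2 := orderOf_dvd_of_pow_eq_one h1
    have h3 : Nat.Coprime m p := ((Nat.Prime.coprime_iff_not_dvd hp).2 hpm).symm
    exact Nat.Coprime.coprime_dvd_left h2 h3
  refine ⟨β₀ ^ N, hmem, hval, fun c hc' => ?_⟩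
  have h1 := mem_hyperfocal_of_gen (F := F) (p := p) hMS ⟨β₀ ^ N, hmem⟩ (Subgroup.subset_closure hord) c
  refine ⟨hT h1, ?_⟩
  have h2 := ext_cent hTS hval hc'
  exact Subgroup.mul_mem _ (Subgroup.inv_mem _ hc'.2) h2.2

/-- A saturated subsystem of `p`-power index over a normal subgroup is normal. -/
theorem ppower_isNormal (hS : IsPGroup p S) (hF : F.IsSaturated p) (hTS : T ≤ S) (hTn : (T.subgroupOf S).Normal)
    (hT : F.hyperfocalSubgroup p ≤ T) (E : FusionSystem T) (hEs : E.IsSaturated p) (hE : E.HasPPowerIndexIn F p) :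
    E.IsNormalIn F p := by
  haveI hfT : Finite T := finite_of_le hTS
  have hstrong := stronglyClosed_of_normal hS hF hTS hTn hT
  have hinv := conjInvariant_of_ppower hS hTS hEs hE
  refine ⟨⟨hEs, hF, hE.1, hstrong, hinv, ?_⟩, ?_⟩
  · intro P hP φ hφ
    exact frForm_of_ppower hS hF hTS hTn hEs hE P hP φ hφ
  · intro α hα
    have hres : ∀ κ : E.autGroup T, κ ∈ pResidual p (E.autGroup T) → ExtProp F (κ : MulAut T) := by
      intro κ hκ
      refine Subgroup.closure_induction (p := fun κ _ => ExtProp F ((κ : E.autGroup T) : MulAut T)) ?_ ?_ ?_ ?_ hκ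
      · intro g hg
        refine ext_of_coprime hS hF hTS hTn hT (autGroup_le_of_subsystem hE.1 T g.2) ?_
        have hg' : Nat.Coprime (orderOf g) p := hg
        rwa [← Subgroup.orderOf_coe] at hg'
      · exact ext_of_conj hTS T.one_mem (fun x => by simp)
      · intro a b _ _ ha hb
        exact ExtProp.mul hTS ha hb
      · intro a _ ha
        exact ExtProp.inv hTS ha
    obtain ⟨d, hd, κ, hκ, rfl⟩ := exists_decomp_pResidual (fullyAutomized_top hEs) hα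
    obtain ⟨t, ht, htv⟩ := (mem_autInducedBy_iff T T d).1 hd
    exact ExtProp.mul hTS (ext_of_conj hTS ht htv) (hres κ hκ)

end Extension

end Cfsg.Agent.H24
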