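import Mathlib
import Cfsg.Agent.Lib.H24.LabN
import Cfsg.Agent.Lib.H01.Coprime
import Cfsg.Prelude.Def_FusionComponents
import Cfsg.Prelude.Def_FusionReduction

/-!
Subsystems of `p`-power index have the same hyperfocal subgroup; residual limits.
-/

set_option autoImplicit false
set_option linter.style.haveILetI false

namespace Cfsg.Agent.H24

open Cfsg Cfsg.FusionSystem
open Cfsg.Agent.H25

universe u

section Coprime

variable {p : ℕ} [Fact p.Prime]

theorem coprime_coset_fix_aux {G : Type*} [Group G] [Finite G] {R : Type*} [Group R] [Finite R] (hR : IsPGroup p R)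
    (inl : R →* G) (inr : MulAut R →* G) (hinl : Function.Injective inl) (hinr : Function.Injective inr)
    (hconj : ∀ (c : MulAut R) (y : R), inr c * inl y * (inr c)⁻¹ = inl (c y)) (b : MulAut R)
    (hb : (orderOf b).Coprime p) (N : Subgroup R) [hNn : N.Normal] (hN : ∀ x ∈ N, b x ∈ N)
    {x : R} (hx : x⁻¹ * b x ∈ N) : ∃ c, b c = c ∧ x⁻¹ * c ∈ N := by
  have hp : p.Prime := Fact.out
  -- `b` preserves `N` bijectively since it has finite order
  have hNinv : ∀ y ∈ N, b⁻¹ y ∈ N := by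
    intro y hy
    have hpow : ∀ n : ℕ, (b ^ n) y ∈ N := by
      intro n
      induction n with
      | zero => simpa using hy
      | succ n ih =>
        rw [pow_succ']
        exact hN _ ih
    have h1 : b⁻¹ = b ^ (orderOf b - 1) := by
      rw [eq_comm, ← mul_eq_one_iff_eq_inv, ← pow_succ, Nat.sub_add_cancel (orderOf_pos b), pow_orderOf_eq_one]
    rw [h1]
    exact hpow _
  let A : Subgroup G := Subgroup.zpowers (inr b)
  let K : Subgroup G := inl.range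
  let N' : Subgroup G := N.map inl
  have hKmap : ∀ (c : MulAut R), inr c ∈ Subgroup.normalizer (K : Set G) := by
    intro c
    refine Subgroup.mem_normalizer_iff.2 (fun g => ?_)
    constructor
    · rintro ⟨y, rfl⟩
      exact ⟨c y, (hconj c y).symm⟩
    · rintro ⟨y, hy⟩
      refine ⟨c⁻¹ y, ?_⟩
      have h1 := hconj c (c⁻¹ y)
      rw [MulAut.apply_inv_self, hy] at h1
      exact mul_left_cancel (mul_right_cancel h1)
  have hAK : A ≤ Subgroup.normalizer (K : Set G) := by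
    refine (Subgroup.zpowers_le).2 (hKmap b)
  have hNnorm : inr b ∈ Subgroup.normalizer (N' : Set G) := by
    refine Subgroup.mem_normalizer_iff.2 (fun g => ?_)
    constructor
    · rintro ⟨y, hy, rfl⟩
      exact ⟨b y, hN y hy, (hconj b y).symm⟩
    · rintro ⟨y, hy, hy2⟩
      refine ⟨b⁻¹ y, hNinv y hy, ?_⟩
      have h1 := hconj b (b⁻¹ y)
      rw [MulAut.apply_inv_self, hy2] at h1
      show inl ((b⁻¹ : MulAut R) y) = g
      have hh : inr b * inl ((b⁻¹ : MulAut R) y) * (inr b)⁻¹ = inr b * g * (inr b)⁻¹ := h1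
      exact mul_left_cancel (mul_right_cancel hh)
  have hAN : A ≤ Subgroup.normalizer (N' : Set G) := (Subgroup.zpowers_le).2 hNnorm
  have hNK : N' ≤ K := by
    rintro _ ⟨y, -, rfl⟩
    exact ⟨y, rfl⟩
  have hKN : K ≤ Subgroup.normalizer (N' : Set G) := by
    rintro _ ⟨k, rfl⟩
    refine Subgroup.mem_normalizer_iff.2 (fun g => ?_)
    constructor
    · rintro ⟨y, hy, rfl⟩
      exact ⟨k * y * k⁻¹, hNn.conj_mem y hy k, by rw [map_mul, map_mul, map_inv]⟩
    · rintro ⟨y, hy, hy2⟩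
      refine ⟨k⁻¹ * y * k⁻¹⁻¹, hNn.conj_mem y hy k⁻¹, ?_⟩
      have hh : inl k * g * (inl k)⁻¹ = inl y := hy2.symm
      have h3 : g = (inl k)⁻¹ * inl y * inl k := by
        rw [← hh]
        group
      rw [h3]
      simp
  have hcA : Nat.card A = orderOf b := by
    rw [Nat.card_zpowers, orderOf_injective inr hinr]
  have hcK : Nat.card K = Nat.card R :=
    Nat.card_congr (MonoidHom.ofInjective hinl).toEquiv.symm
  obtain ⟨k, hk⟩ := (IsPGroup.iff_card.1 hR)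
  have hcop : (Nat.card A).Coprime (Nat.card K) := by
    rw [hcA, hcK, hk]
    exact Nat.Coprime.pow_right k hb
  have hKsolv : Group.IsSolvable K := by
    have : IsPGroup p K := by
      have h1 : IsPGroup p (inl.range) := by
        exact IsPGroup.of_surjective hR inl.rangeRestrict inl.rangeRestrict_surjective
      exact h1
    haveI := this.isNilpotent
    infer_instance
  have hfixA : ∀ a ∈ A, a * inl x * a⁻¹ * (inl x)⁻¹ ∈ N' := by
    have h0 : inr b * inl x * (inr b)⁻¹ * (inl x)⁻¹ ∈ N' := by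
      rw [hconj]
      refine ⟨b x * x⁻¹, ?_, by simp⟩
      have h1 := hNn.conj_mem _ hx x
      have e : x * (x⁻¹ * b x) * x⁻¹ = b x * x⁻¹ := by group
      rwa [e] at h1
    let St : Subgroup G :=
      { carrier := {a | a ∈ Subgroup.normalizer (N' : Set G) ∧ a * inl x * a⁻¹ * (inl x)⁻¹ ∈ N'}
        mul_mem' := by
          rintro a₁ a₂ ⟨h11, h12⟩ ⟨h21, h22⟩
          refine ⟨Subgroup.mul_mem _ h11 h21, ?_⟩
          have e : a₁ * a₂ * inl x * (a₁ * a₂)⁻¹ * (inl x)⁻¹ =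
              a₁ * (a₂ * inl x * a₂⁻¹ * (inl x)⁻¹) * a₁⁻¹ * (a₁ * inl x * a₁⁻¹ * (inl x)⁻¹) := by group
          rw [e]
          exact N'.mul_mem ((Subgroup.mem_normalizer_iff.1 h11 _).1 h22) h12
        one_mem' := ⟨Subgroup.one_mem _, by simp⟩
        inv_mem' := by
          rintro a ⟨h1, h2⟩
          refine ⟨Subgroup.inv_mem _ h1, ?_⟩
          have e : a⁻¹ * inl x * a⁻¹⁻¹ * (inl x)⁻¹ = a⁻¹ * (a * inl x * a⁻¹ * (inl x)⁻¹)⁻¹ * a⁻¹⁻¹ := by group
          rw [e]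
          exact (Subgroup.mem_normalizer_iff.1 (Subgroup.inv_mem _ h1) _).1 (N'.inv_mem h2) }
    have hA : A ≤ St := (Subgroup.zpowers_le).2 ⟨hNnorm, h0⟩
    exact fun a ha => (hA ha).2
  obtain ⟨c', hc'1, hc'2⟩ := Cfsg.Agent.H01.coset_fixed hAK hcop (Or.inr hKsolv) hNK hKN hAN (k := inl x) ⟨x, rfl⟩ hfixA
  obtain ⟨c, rfl⟩ := hc'1.1
  refine ⟨c, ?_, ?_⟩
  · have h1 := (Subgroup.mem_centralizer_iff.1 hc'1.2) (inr b) (Subgroup.mem_zpowers _)
    have h2 : inr b * inl c * (inr b)⁻¹ = inl c := by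
      rw [h1]
      group
    rw [hconj] at h2
    exact hinl h2
  · obtain ⟨y, hy, hy2⟩ := hc'2
    have h1 : inl y = inl (x⁻¹ * c) := by
      rw [hy2, map_mul, map_inv]
    rw [← hinl h1]
    exact hy

/-- A coset of an invariant normal subgroup fixed by a coprime automorphism contains a fixed point. -/
theorem coprime_coset_fix {R : Type*} [Group R] [Finite R] (hR : IsPGroup p R) (b : MulAut R)
    (hb : (orderOf b).Coprime p) (N : Subgroup R) [hNn : N.Normal] (hN : ∀ x ∈ N, b x ∈ N)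
    {x : R} (hx : x⁻¹ * b x ∈ N) : ∃ c, b c = c ∧ x⁻¹ * c ∈ N := by
  haveI hfG : Finite (SemidirectProduct R (MulAut R) (MonoidHom.id _)) := Finite.of_equiv _ SemidirectProduct.equivProd.symm
  refine coprime_coset_fix_aux (G := SemidirectProduct R (MulAut R) (MonoidHom.id _)) hR SemidirectProduct.inl SemidirectProduct.inr
    SemidirectProduct.inl_injective SemidirectProduct.inr_injective ?_ b hb N hN hx
  intro c y
  rw [← map_inv]
  exact (SemidirectProduct.inl_aut (φ := MonoidHom.id _) c y).symm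

end Coprime

section Hyp

variable {Ω : Type u} [Group Ω] {S T : Subgroup Ω} {F : FusionSystem S} {p : ℕ} {E : FusionSystem T}
variable [Finite S] [Fact p.Prime]

/-- Generators of the hyperfocal subgroup of `F` lie in that of a subsystem of `p`-power index. -/
theorem hyp_gen_mem (hS : IsPGroup p S) (hTS : T ≤ S) (hTn : (T.subgroupOf S).Normal) (hstrong : F.StronglyClosed T)
    (hE : E.HasPPowerIndexIn F p) {Q : Subgroup Ω} (hQ : Q ≤ S) (a : F.autGroup Q) (ha : Nat.Coprime (orderOf a) p) (x : Q) :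
    (x : Ω)⁻¹ * (((a : MulAut Q) x : Q) : Ω) ∈ E.hyperfocalSubgroup p := by
  have hp : p.Prime := Fact.out
  haveI hfQ : Finite Q := finite_of_le hQ
  have hQp : IsPGroup p Q := hS.of_injective (Subgroup.inclusion hQ) (Subgroup.inclusion_injective _)
  set α : MulAut Q := (a : MulAut Q) with hα
  have hα1 : Nat.Coprime (orderOf α) p := by
    rw [hα, Subgroup.orderOf_coe]
    exact ha
  set Q₀ : Subgroup Ω := Q ⊓ T with hQ₀
  have hQ₀T : Q₀ ≤ T := inf_le_right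
  have hQ₀Q : Q₀ ≤ Q := inf_le_left
  haveI hfQ₀ : Finite Q₀ := finite_of_le (hQ₀Q.trans hQ)
  let N : Subgroup Q := T.subgroupOf Q
  haveI hNn : N.Normal := by
    constructor
    intro n hn g
    show (g : Ω) * n * (g : Ω)⁻¹ ∈ T
    exact conj_mem_of_normal hTn (hQ g.2) (hQ n.2) hn
  have hmQ : Mp F Q (toFun (Q.subtype.comp α.toMonoidHom)) := Mp.of_mem_autGroup hQ a.2
  have hm₀ : Mp F Q₀ (toFun (Q.subtype.comp α.toMonoidHom)) := hmQ.restrict hQ₀Q
  have hval : ∀ y : Q, toFun (Q.subtype.comp α.toMonoidHom) y = ((α y : Q) : Ω) := fun y => toFun_aut α y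
  have hNinv : ∀ y ∈ N, α y ∈ N := by
    intro y hy
    obtain ⟨φ, hφ, hφv⟩ := hm₀
    have h1 := hstrong.2 Q₀ hQ₀T φ hφ ⟨y, y.2, hy⟩
    rw [hφv, hval y] at h1
    exact h1
  have hmaps₀ : ∀ y ∈ Q₀, toFun (Q.subtype.comp α.toMonoidHom) y ∈ Q₀ := by
    rintro y ⟨hy1, hy2⟩
    rw [hval ⟨y, hy1⟩]
    exact ⟨(α ⟨y, hy1⟩).2, hNinv ⟨y, hy1⟩ hy2⟩
  have hIso₀ : Iso F Q₀ Q₀ (toFun (Q.subtype.comp α.toMonoidHom)) := Iso.of_maps hm₀ hmaps₀
  set β₀ : MulAut Q₀ := autOfIso hIso₀ with hβ₀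
  have hβ₀F : β₀ ∈ F.autGroup Q₀ := autOfIso_mem hIso₀
  have hβ₀v : ∀ r : Q₀, ((β₀ r : Q₀) : Ω) = ((α ⟨r, hQ₀Q r.2⟩ : Q) : Ω) := fun r => hval ⟨r, hQ₀Q r.2⟩
  have hβ₀pow : ∀ (n : ℕ) (r : Q₀), (((β₀ ^ n) r : Q₀) : Ω) = (((α ^ n) ⟨r, hQ₀Q r.2⟩ : Q) : Ω) := by
    intro n
    induction n with
    | zero => intro r; rfl
    | succ n ih =>
      intro r
      rw [pow_succ, pow_succ]
      show (((β₀ ^ n) (β₀ r) : Q₀) : Ω) = (((α ^ n) (α ⟨r, hQ₀Q r.2⟩) : Q) : Ω)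
      have e : (⟨((β₀ r : Q₀) : Ω), hQ₀Q (β₀ r).2⟩ : Q) = α ⟨r, hQ₀Q r.2⟩ := Subtype.ext (hβ₀v r)
      rw [ih, e]
  have hord : Nat.Coprime (orderOf β₀) p := by
    have h1 : β₀ ^ orderOf α = 1 := by
      ext r
      rw [hβ₀pow, pow_orderOf_eq_one]
      rfl
    exact Nat.Coprime.coprime_dvd_left (orderOf_dvd_of_pow_eq_one h1) hα1
  have hβ₀E : β₀ ∈ E.autGroup Q₀ := by
    refine hE.2.2 Q₀ hQ₀T ⟨⟨β₀, hβ₀F⟩, Subgroup.subset_closure ?_, rfl⟩
    show Nat.Coprime (orderOf (⟨β₀, hβ₀F⟩ : F.autGroup Q₀)) p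
    rw [Subgroup.orderOf_mk]
    exact hord
  have hgen : ∀ r : Q₀, (r : Ω)⁻¹ * ((β₀ r : Q₀) : Ω) ∈ E.hyperfocalSubgroup p := by
    intro r
    refine mem_hyperfocal_of_gen (hQ₀T) ⟨β₀, hβ₀E⟩ (Subgroup.subset_closure ?_) r
    show Nat.Coprime (orderOf (⟨β₀, hβ₀E⟩ : E.autGroup Q₀)) p
    rw [Subgroup.orderOf_mk]
    exact hord
  -- the coset
  have hxN : x⁻¹ * α x ∈ N := by
    show ((x : Ω)⁻¹ * ((α x : Q) : Ω)) ∈ T
    refine hE.2.1 ?_
    refine mem_hyperfocal_of_gen (F := F) (p := p) hQ a (Subgroup.subset_closure ?_) x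
    exact ha
  obtain ⟨c, hc1, hc2⟩ := coprime_coset_fix hQp α hα1 N hNinv hxN
  -- `x = c r`
  have hcx : c⁻¹ * x ∈ N := by
    have := N.inv_mem hc2
    simpa using this
  let r : Q₀ := ⟨((c⁻¹ * x : Q) : Ω), (c⁻¹ * x : Q).2, hcx⟩
  have h1 := hgen r
  rw [hβ₀v] at h1
  have e1 : (⟨(r : Ω), hQ₀Q r.2⟩ : Q) = c⁻¹ * x := rfl
  rw [e1, map_mul, map_inv, hc1] at h1
  have e2 : (r : Ω) = (c : Ω)⁻¹ * x := rfl
  rw [e2] at h1
  have e3 : (x : Ω)⁻¹ * ((α x : Q) : Ω) = ((c : Ω)⁻¹ * x)⁻¹ * (((c⁻¹ * α x : Q)) : Ω) := by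
    show _ = ((c : Ω)⁻¹ * x)⁻¹ * ((c : Ω)⁻¹ * ((α x : Q) : Ω))
    group
  rw [e3]
  exact h1

theorem hyp_eq_of_ppower (hS : IsPGroup p S) (hTS : T ≤ S) (hTn : (T.subgroupOf S).Normal) (hstrong : F.StronglyClosed T)
    (hE : E.HasPPowerIndexIn F p) : E.hyperfocalSubgroup p = F.hyperfocalSubgroup p := by
  apply le_antisymm (hyp_le_of_subsystem hE.1)
  refine (Subgroup.closure_le _).2 ?_
  rintro _ ⟨Q, a, x, hQ, ha, rfl⟩
  revert x
  refine Subgroup.closure_induction (p := fun a _ => ∀ x : Q, (x : Ω)⁻¹ * (((a : F.autGroup Q) : MulAut Q) x : Q).1 ∈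
    (E.hyperfocalSubgroup p : Set Ω)) ?_ ?_ ?_ ?_ ha
  · intro g hg x
    exact hyp_gen_mem hS hTS hTn hstrong hE hQ g hg x
  · intro x
    simp
  · intro a b _ _ h1 h2 x
    have e : (x : Ω)⁻¹ * (((a * b : F.autGroup Q) : MulAut Q) x : Q).1 =
        ((x : Ω)⁻¹ * (((b : F.autGroup Q) : MulAut Q) x : Q).1) *
          ((((b : F.autGroup Q) : MulAut Q) x : Q).1⁻¹ * (((a : F.autGroup Q) : MulAut Q) (((b : F.autGroup Q) : MulAut Q) x) : Q).1) := by
      show (x : Ω)⁻¹ * (((a : F.autGroup Q) : MulAut Q) (((b : F.autGroup Q) : MulAut Q) x) : Q).1 = _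
      group
    rw [e]
    exact Subgroup.mul_mem _ (h2 x) (h1 _)
  · intro a _ h1 x
    have h2 := h1 (((a⁻¹ : F.autGroup Q) : MulAut Q) x)
    have e : ((a : F.autGroup Q) : MulAut Q) (((a⁻¹ : F.autGroup Q) : MulAut Q) x) = x := by
      show ((a : MulAut Q) * (a : MulAut Q)⁻¹) x = x
      simp
    rw [e] at h2
    have h3 := Subgroup.inv_mem _ h2
    simpa using h3

end Hyp

end Cfsg.Agent.H24
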