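import Mathlib
import Cfsg.Agent.Lib.H24.BisetT

/-!
The balanced product of two `G × G`-sets and the transfer: composition and transport of structure.
-/

set_option autoImplicit false
set_option linter.style.haveILetI false

namespace Cfsg.Agent.H24

universe u w

section Tens

variable (G : Type u) [Group G] (X Y : Type u) [MulAction (G × G) X] [MulAction (G × G) Y]

/-- The balanced relation. -/
def tensS : Setoid (X × Y) where
  r q q' := ∃ s : G, ((1 : G), s) • q.1 = q'.1 ∧ (s, (1 : G)) • q.2 = q'.2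
  iseqv := by
    refine ⟨fun q => ⟨1, one_smul (G × G) _, one_smul (G × G) _⟩, ?_, ?_⟩
    · rintro ⟨a, b⟩ ⟨c, d⟩ ⟨s, rfl, rfl⟩
      refine ⟨s⁻¹, ?_, ?_⟩
      · show ((1 : G), s⁻¹) • ((1 : G), s) • a = a
        rw [smul_smul]
        have : ((1 : G), s⁻¹) * ((1 : G), s) = 1 := by ext <;> simp
        rw [this, one_smul]
      · show (s⁻¹, (1 : G)) • (s, (1 : G)) • b = b
        rw [smul_smul]
        have : (s⁻¹, (1 : G)) * (s, (1 : G)) = 1 := by ext <;> simp
        rw [this, one_smul]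
    · rintro ⟨a, b⟩ ⟨c, d⟩ ⟨e, f⟩ ⟨s, rfl, rfl⟩ ⟨t, rfl, rfl⟩
      refine ⟨t * s, ?_, ?_⟩
      · show ((1 : G), t * s) • a = ((1 : G), t) • ((1 : G), s) • a
        rw [smul_smul]
        congr 1
        ext <;> simp
      · show (t * s, (1 : G)) • b = (t, (1 : G)) • (s, (1 : G)) • b
        rw [smul_smul]
        congr 1
        ext <;> simp

/-- The balanced product. -/
def Tens : Type u := Quotient (tensS G X Y)

instance [Finite X] [Finite Y] : Finite (Tens G X Y) := Quotient.finite _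

variable {G X Y}

/-- The class of a pair. -/
def tens (x : X) (y : Y) : Tens G X Y := Quotient.mk (tensS G X Y) (x, y)

theorem tens_eq {x x' : X} {y y' : Y} :
    (tens x y : Tens G X Y) = tens x' y' ↔ ∃ s : G, ((1 : G), s) • x = x' ∧ (s, (1 : G)) • y = y' :=
  Quotient.eq (r := tensS G X Y)

theorem tens_surj (z : Tens G X Y) : ∃ (x : X) (y : Y), tens x y = z := by
  obtain ⟨⟨x, y⟩, rfl⟩ := Quotient.exists_rep z
  exact ⟨x, y, rfl⟩

instance tensAct : MulAction (G × G) (Tens G X Y) where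
  smul g := Quotient.map' (s₁ := tensS G X Y) (s₂ := tensS G X Y)
    (fun q => ((g.1, (1 : G)) • q.1, ((1 : G), g.2) • q.2)) (by
      rintro ⟨a, b⟩ ⟨c, d⟩ ⟨s, rfl, rfl⟩
      refine ⟨s, ?_, ?_⟩
      · show ((1 : G), s) • (g.1, (1 : G)) • a = (g.1, (1 : G)) • ((1 : G), s) • a
        rw [smul_smul, smul_smul]
        congr 1
        ext <;> simp
      · show (s, (1 : G)) • ((1 : G), g.2) • b = ((1 : G), g.2) • (s, (1 : G)) • b
        rw [smul_smul, smul_smul]
        congr 1
        ext <;> simp)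
  one_smul := by
    rintro ⟨⟨a, b⟩⟩
    show Quotient.mk (tensS G X Y) ((((1 : G × G).1, (1 : G)) • a, ((1 : G), (1 : G × G).2) • b)) = _
    have h1 : (((1 : G × G).1, (1 : G)) • a) = a := one_smul (G × G) a
    have h2 : (((1 : G), (1 : G × G).2) • b) = b := one_smul (G × G) b
    rw [h1, h2]
    rfl
  mul_smul := by
    rintro g g' ⟨⟨a, b⟩⟩
    show Quotient.mk (tensS G X Y) (((g * g').1, (1 : G)) • a, ((1 : G), (g * g').2) • b) =
      Quotient.mk (tensS G X Y) ((g.1, (1 : G)) • (g'.1, (1 : G)) • a, ((1 : G), g.2) • ((1 : G), g'.2) • b)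
    rw [smul_smul, smul_smul]
    congr 3
    · ext <;> simp
    · ext <;> simp

theorem smul_tens (a b : G) (x : X) (y : Y) :
    ((a, b) : G × G) • (tens x y : Tens G X Y) = tens ((a, (1 : G)) • x) (((1 : G), b) • y) := rfl

theorem tens_fix_iff {a b : G} {x : X} {y : Y} :
    ((a, b) : G × G) • (tens x y : Tens G X Y) = tens x y ↔
      ∃ s : G, ((a, s) : G × G) • x = x ∧ ((s, b) : G × G) • y = y := by
  rw [smul_tens, tens_eq]
  refine exists_congr (fun s => ?_)
  rw [smul_smul, smul_smul]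
  have e1 : ((1 : G), s) * (a, (1 : G)) = (a, s) := by ext <;> simp
  have e2 : (s, (1 : G)) * ((1 : G), b) = (s, b) := by ext <;> simp
  rw [e1, e2]

theorem tens_rfree (hX : RFree G X) (hY : RFree G Y) : RFree G (Tens G X Y) := by
  intro z b hz
  obtain ⟨x, y, rfl⟩ := tens_surj z
  obtain ⟨s, h1, h2⟩ := tens_fix_iff.1 hz
  have hs : s = 1 := hX x s h1
  subst hs
  exact hY y b h2

/-- Moving a factor across the balanced product. -/
theorem tens_balance (x : X) (y : Y) (s : G) :
    (tens (((1 : G), s⁻¹) • x) y : Tens G X Y) = tens x ((s, (1 : G)) • y) := by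
  refine tens_eq.2 ⟨s, ?_, rfl⟩
  rw [smul_smul]
  have : ((1 : G), s) * ((1 : G), s⁻¹) = 1 := by ext <;> simp
  rw [this, one_smul]

variable [Finite X] [Finite Y] {A : Type w} [CommGroup A]

section Comp

variable (hX : RFree G X) (hY : RFree G Y) {r : Uq G X → X} {r' : Uq G Y → Y} (hr : IsSec r) (hr' : IsSec r')

/-- The map from pairs of orbits to the orbits of the balanced product. -/
def tensE (r : Uq G X → X) (r' : Uq G Y → Y) (q : Uq G X × Uq G Y) : Uq G (Tens G X Y) :=
  uq (tens (r q.1) (r' q.2))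

include hX hr hr' in
theorem tensE_bij : Function.Bijective (tensE (G := G) r r') := by
  constructor
  · rintro ⟨u, v⟩ ⟨u₁, v₁⟩ h
    obtain ⟨b, hb⟩ := uq_eq.1 h
    have h2 : (tens (r u) (((1 : G), b) • r' v) : Tens G X Y) = tens (r u₁) (r' v₁) := by
      have e : ((1 : G), b) • (tens (r u) (r' v) : Tens G X Y) = tens (((1 : G), (1 : G)) • r u) (((1 : G), b) • r' v) := rfl
      rw [e] at hb
      have e1 : (((1 : G), (1 : G)) : G × G) • r u = r u := one_smul (G × G) _
      rw [e1] at hb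
      exact hb
    obtain ⟨s, h3, h4⟩ := tens_eq.1 h2
    have hu : u = u₁ := by
      have : (uq (r u) : Uq G X) = uq (r u₁) := uq_eq.2 ⟨s, h3⟩
      rwa [hr, hr] at this
    subst hu
    have hs : s = 1 := hX _ s h3
    subst hs
    have hv : v = v₁ := by
      have h5 : ((1 : G), (1 : G) * b) • r' v = r' v₁ := by
        have : (((1 : G), (1 : G)) : G × G) * ((1 : G), b) = ((1 : G), (1 : G) * b) := by ext <;> simp
        rw [← this, mul_smul]
        exact h4
      have : (uq (r' v) : Uq G Y) = uq (r' v₁) := uq_eq.2 ⟨_, h5⟩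
      rwa [hr', hr'] at this
    subst hv
    rfl
  · intro w
    obtain ⟨z, rfl⟩ := uq_surj w
    obtain ⟨x, y, rfl⟩ := tens_surj z
    have h1 : (uq x : Uq G X) = uq (r (uq x)) := by rw [hr]
    obtain ⟨s, hs⟩ := uq_eq.1 h1
    have h2 : (tens x y : Tens G X Y) = tens (r (uq x)) ((s, (1 : G)) • y) := tens_eq.2 ⟨s, hs, rfl⟩
    set y' := (s, (1 : G)) • y with hy'
    have h3 : (uq y' : Uq G Y) = uq (r' (uq y')) := by rw [hr']
    obtain ⟨b, hb⟩ := uq_eq.1 h3
    refine ⟨(uq x, uq y'), ?_⟩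
    symm
    rw [h2]
    refine uq_eq.2 ⟨b, ?_⟩
    show tens (((1 : G), (1 : G)) • r (uq x)) (((1 : G), b) • y') = tens (r (uq x)) (r' (uq y'))
    rw [hb]
    have e1 : (((1 : G), (1 : G)) : G × G) • r (uq x) = r (uq x) := one_smul (G × G) _
    rw [e1]

/-- The section of the balanced product built from two sections. -/
noncomputable def tensR (r : Uq G X → X) (r' : Uq G Y → Y) (hb : Function.Bijective (tensE (G := G) r r'))
    (w : Uq G (Tens G X Y)) : Tens G X Y :=
  tens (r ((Equiv.ofBijective _ hb).symm w).1) (r' ((Equiv.ofBijective _ hb).symm w).2)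

theorem tensR_sec (hb : Function.Bijective (tensE (G := G) r r')) : IsSec (tensR r r' hb) := by
  intro w
  have := (Equiv.ofBijective _ hb).apply_symm_apply w
  exact this

theorem tensR_e (hb : Function.Bijective (tensE (G := G) r r')) (q : Uq G X × Uq G Y) :
    tensR r r' hb (tensE r r' q) = tens (r q.1) (r' q.2) := by
  unfold tensR
  have : (Equiv.ofBijective _ hb).symm (tensE r r' q) = q := (Equiv.ofBijective _ hb).symm_apply_apply q
  rw [this]

include hY hr hr' in
theorem tens_cc (hZ : RFree G (Tens G X Y)) (hb : Function.Bijective (tensE (G := G) r r')) (x : G)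
    (u : Uq G X) (v : Uq G Y) :
    cc (tensR_sec hb) x (tensE r r' (u, v)) = cc hr' (cc hr x u) v := by
  set c := cc hr x u with hc
  set d := cc hr' c v with hd
  have hX1 : (x, (1 : G)) • r u = ((1 : G), c⁻¹) • r (lq x u) := cc_spec hr x u
  have hY1 : (c, (1 : G)) • r' v = ((1 : G), d⁻¹) • r' (lq c v) := cc_spec hr' c v
  have key : (x, (1 : G)) • (tens (r u) (r' v) : Tens G X Y) =
      ((1 : G), d⁻¹) • (tens (r (lq x u)) (r' (lq c v)) : Tens G X Y) := by
    rw [smul_tens, smul_tens]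
    have e1 : (((1 : G), (1 : G)) : G × G) • r' v = r' v := one_smul (G × G) _
    have e2 : (((1 : G), (1 : G)) : G × G) • r (lq x u) = r (lq x u) := one_smul (G × G) _
    rw [e1, e2, hX1, tens_balance, hY1]
  have hlq : lq x (tensE r r' (u, v)) = tensE (G := G) r r' (lq x u, lq c v) := by
    unfold tensE
    rw [lq_uq]
    simp only
    rw [key]
    symm
    refine uq_eq.2 ⟨d⁻¹, rfl⟩
  apply cc_eq (hf := hZ)
  rw [hlq, tensR_e, tensR_e]
  exact key

include hX hY in
/-- The transfer of a balanced product is the composite of the transfers. -/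
theorem bisetTr_tens (hZ : RFree G (Tens G X Y)) (ν : G →* A) (x : G) :
    bisetTr hZ ν x = bisetTr hX (bisetTr hY ν) x := by
  classical
  obtain ⟨r, hr⟩ := exists_sec (S := G) (X := X)
  obtain ⟨r', hr'⟩ := exists_sec (S := G) (X := Y)
  have hb := tensE_bij (G := G) hX hr hr'
  rw [bisetTr_eq hZ ν (tensR_sec hb), bisetTr_eq hX _ hr]
  unfold trS
  have h1 : ∀ c : G, bisetTr hY ν c = ∏ v, ν (cc hr' c v) := fun c => bisetTr_eq hY ν hr' c
  simp only [h1]
  rw [← Fintype.prod_prod_type' (f := fun u v => ν (cc hr' (cc hr x u) v))]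
  rw [← (Equiv.ofBijective _ hb).prod_comp]
  refine Finset.prod_congr rfl (fun q _ => ?_)
  obtain ⟨u, v⟩ := q
  show ν (cc (tensR_sec hb) x (tensE r r' (u, v))) = _
  rw [tens_cc hY hr hr' hZ hb]

end Comp

end Tens

section Transport

variable {G : Type u} [Group G] {X Y : Type u} [MulAction (G × G) X] [MulAction (G × G) Y]
  [Finite X] [Finite Y] {A : Type w} [CommGroup A]

/-- The bijection induced on orbits by a bijection compatible with an automorphism. -/
theorem exists_uq_equiv (e : X ≃ Y) (σ : G ≃* G)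
    (he : ∀ (a b : G) (ω : X), e (((a, b) : G × G) • ω) = ((σ a, σ b) : G × G) • e ω) :
    ∃ E : Uq G X ≃ Uq G Y, ∀ ω, E (uq ω) = uq (e ω) := by
  have hwd : ∀ ω ω' : X, (uq ω : Uq G X) = uq ω' → (uq (e ω) : Uq G Y) = uq (e ω') := by
    intro ω ω' h
    obtain ⟨s, rfl⟩ := uq_eq.1 h
    refine uq_eq.2 ⟨σ s, ?_⟩
    rw [he, map_one]
  have hwd' : ∀ ω ω' : Y, (uq ω : Uq G Y) = uq ω' → (uq (e.symm ω) : Uq G X) = uq (e.symm ω') := by
    intro ω ω' h
    obtain ⟨s, rfl⟩ := uq_eq.1 h
    refine uq_eq.2 ⟨σ.symm s, ?_⟩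
    apply e.injective
    rw [he]
    simp
  let i₀ : Uq G X → Uq G Y := Quotient.lift (fun ω => (uq (e ω) : Uq G Y)) (fun a b hab => hwd a b (uq_eq.2 hab))
  let i₁ : Uq G Y → Uq G X := Quotient.lift (fun ω => (uq (e.symm ω) : Uq G X)) (fun a b hab => hwd' a b (uq_eq.2 hab))
  refine ⟨⟨i₀, i₁, ?_, ?_⟩, fun _ => rfl⟩
  · intro u
    obtain ⟨ω, rfl⟩ := uq_surj u
    show (uq (e.symm (e ω)) : Uq G X) = uq ω
    rw [Equiv.symm_apply_apply]
  · intro u
    obtain ⟨ω, rfl⟩ := uq_surj u
    show (uq (e (e.symm ω)) : Uq G Y) = uq ω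
    rw [Equiv.apply_symm_apply]

/-- Transport of structure for the transfer. -/
theorem bisetTr_transport (hX : RFree G X) (hY : RFree G Y) (e : X ≃ Y) (σ : G ≃* G)
    (he : ∀ (a b : G) (ω : X), e (((a, b) : G × G) • ω) = ((σ a, σ b) : G × G) • e ω)
    (ν : G →* A) (x : G) :
    bisetTr hY ν (σ x) = bisetTr hX (ν.comp σ.toMonoidHom) x := by
  obtain ⟨E, hE⟩ := exists_uq_equiv e σ he
  obtain ⟨r, hr⟩ := exists_sec (S := G) (X := X)
  let r' : Uq G Y → Y := fun v => e (r (E.symm v))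
  have hr' : IsSec r' := by
    intro v
    show uq (e (r (E.symm v))) = v
    rw [← hE, hr, Equiv.apply_symm_apply]
  have hlq : ∀ u, lq (σ x) (E u) = E (lq x u) := by
    intro u
    obtain ⟨ω, rfl⟩ := uq_surj u
    rw [hE, lq_uq, lq_uq, hE, he, map_one]
  have hcc : ∀ u, cc hr' (σ x) (E u) = σ (cc hr x u) := by
    intro u
    apply cc_eq (hf := hY)
    show (σ x, (1 : G)) • e (r (E.symm (E u))) = ((1 : G), (σ (cc hr x u))⁻¹) • e (r (E.symm (lq (σ x) (E u))))
    rw [hlq, Equiv.symm_apply_apply, Equiv.symm_apply_apply]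
    have h1 := cc_spec hr x u
    have h2 := congrArg e h1
    rw [he, he, map_one, map_inv] at h2
    exact h2
  rw [bisetTr_eq hY ν hr', bisetTr_eq hX _ hr]
  unfold trS
  rw [← E.prod_comp]
  refine Finset.prod_congr rfl (fun u _ => ?_)
  rw [hcc]
  rfl

theorem card_uq_eq (e : X ≃ Y) (σ : G ≃* G)
    (he : ∀ (a b : G) (ω : X), e (((a, b) : G × G) • ω) = ((σ a, σ b) : G × G) • e ω) :
    Nat.card (Uq G X) = Nat.card (Uq G Y) := by
  obtain ⟨E, -⟩ := exists_uq_equiv e σ he
  exact Nat.card_congr E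

/-- Transfers of isomorphic sets agree. -/
theorem bisetTr_of_iso (hX : RFree G X) (hY : RFree G Y) (e : X ≃ Y)
    (he : ∀ (g : G × G) (ω : X), e (g • ω) = g • e ω) (ν : G →* A) (x : G) :
    bisetTr hY ν x = bisetTr hX ν x := by
  have := bisetTr_transport hX hY e (MulEquiv.refl G) (fun a b ω => he (a, b) ω) ν x
  exact this

end Transport

section Ops

variable {G : Type u} [Group G] {X : Type u} [MulAction (G × G) X] [Finite X]
  {A B : Type w} [CommGroup A] [CommGroup B]

theorem bisetTr_mul (hX : RFree G X) (ν ν' : G →* A) (x : G) :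
    bisetTr hX (ν * ν') x = bisetTr hX ν x * bisetTr hX ν' x := by
  obtain ⟨r, hr⟩ := exists_sec (S := G) (X := X)
  rw [bisetTr_eq hX _ hr, bisetTr_eq hX _ hr, bisetTr_eq hX _ hr]
  unfold trS
  rw [← Finset.prod_mul_distrib]
  rfl

theorem bisetTr_comp_hom (hX : RFree G X) (ν : G →* A) (g : A →* B) (x : G) :
    bisetTr hX (g.comp ν) x = g (bisetTr hX ν x) := by
  obtain ⟨r, hr⟩ := exists_sec (S := G) (X := X)
  rw [bisetTr_eq hX _ hr, bisetTr_eq hX _ hr]
  unfold trS
  rw [map_prod]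
  rfl

end Ops

end Cfsg.Agent.H24
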