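import Mathlib
import Cfsg.Agent.Lib.H24.Tens
import Cfsg.Agent.Lib.H24.LabK

/-!
Marks of balanced products of bistable sets: balanced products of bistable sets commute, which gives the uniqueness
of the transfer of a characteristic set and its equivariance under automorphisms of the system.
-/

set_option autoImplicit false
set_option linter.style.haveILetI false

namespace Cfsg.Agent.H24

open Cfsg Cfsg.FusionSystem Cfsg.Agent.H25

universe u w

section Pairs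

variable {G : Type u} [Group G] {X Y : Type u} [MulAction (G × G) X] [MulAction (G × G) Y]

/-- Pairs whose class is fixed by a subgroup. -/
def pairsS (X Y : Type u) [MulAction (G × G) X] [MulAction (G × G) Y] (K : Subgroup (G × G)) : Set (X × Y) :=
  {q | (tens q.1 q.2 : Tens G X Y) ∈ fixSet (Tens G X Y) K}

theorem card_pairs [Finite X] [Finite Y] (hX : RFree G X) (K : Subgroup (G × G)) :
    Nat.card (pairsS X Y K) = mrk (Tens G X Y) K * Nat.card G := by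
  have hrep : ∀ z : Tens G X Y, ∃ q : X × Y, tens q.1 q.2 = z := fun z => by
    obtain ⟨x, y, h⟩ := tens_surj z
    exact ⟨(x, y), h⟩
  choose q₀ hq₀ using hrep
  have hmem : ∀ (z : fixSet (Tens G X Y) K) (s : G),
      (((1 : G), s) • (q₀ z).1, (s, (1 : G)) • (q₀ z).2) ∈ pairsS X Y K := by
    intro z s
    show (tens (((1 : G), s) • (q₀ z).1) ((s, (1 : G)) • (q₀ z).2) : Tens G X Y) ∈ fixSet (Tens G X Y) K
    have e0 : (tens (q₀ z).1 (q₀ z).2 : Tens G X Y) = tens (((1 : G), s) • (q₀ z).1) ((s, (1 : G)) • (q₀ z).2) :=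
      tens_eq.2 ⟨s, rfl, rfl⟩
    have : (tens (((1 : G), s) • (q₀ z).1) ((s, (1 : G)) • (q₀ z).2) : Tens G X Y) = z.1 := e0.symm.trans (hq₀ z.1)
    rw [this]
    exact z.2
  let f : fixSet (Tens G X Y) K × G → pairsS X Y K := fun w => ⟨_, hmem w.1 w.2⟩
  have hf : Function.Bijective f := by
    constructor
    · rintro ⟨z, s⟩ ⟨z', s'⟩ h
      have h1 : ((1 : G), s) • (q₀ z).1 = ((1 : G), s') • (q₀ z').1 := congrArg (fun w => (w.1 : X × Y).1) h
      have h2 : (s, (1 : G)) • (q₀ z).2 = (s', (1 : G)) • (q₀ z').2 := congrArg (fun w => (w.1 : X × Y).2) h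
      have h3 : z.1 = z'.1 := by
        rw [← hq₀ z.1, ← hq₀ z'.1]
        have e1 : (tens (q₀ z.1).1 (q₀ z.1).2 : Tens G X Y) =
            tens (((1 : G), s) • (q₀ z).1) ((s, (1 : G)) • (q₀ z).2) := tens_eq.2 ⟨s, rfl, rfl⟩
        have e2 : (tens (q₀ z'.1).1 (q₀ z'.1).2 : Tens G X Y) =
            tens (((1 : G), s') • (q₀ z').1) ((s', (1 : G)) • (q₀ z').2) := tens_eq.2 ⟨s', rfl, rfl⟩
        rw [e1, e2, h1, h2]
      have h4 : z = z' := Subtype.ext h3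
      subst h4
      have h5 : s = s' := RFree.eq (h := hX) h1
      rw [h5]
    · rintro ⟨⟨x, y⟩, hq⟩
      have hz : (tens x y : Tens G X Y) ∈ fixSet (Tens G X Y) K := hq
      have h1 : (tens (q₀ (tens x y)).1 (q₀ (tens x y)).2 : Tens G X Y) = tens x y := hq₀ _
      obtain ⟨s, h2, h3⟩ := tens_eq.1 h1
      refine ⟨(⟨_, hz⟩, s), ?_⟩
      apply Subtype.ext
      exact Prod.ext h2 h3
  rw [← Nat.card_congr (Equiv.ofBijective f hf), Nat.card_prod]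
  rfl

end Pairs

variable {Ω : Type u} [Group Ω] {S : Subgroup Ω} {F : FusionSystem S} {p : ℕ}

/-- A bistable set with a mark function constant on conjugacy classes. -/
structure BiC (F : FusionSystem S) (X : Type u) [MulAction (↥S × ↥S) X] (Φ : Subgroup Ω → ℕ) : Prop where
  stab : ∀ ω : X, IsFG F (MulAction.stabilizer (↥S × ↥S) ω)
  mark : ∀ K, IsFG F K → mrk X K = Φ (fstS K)
  cls : ∀ {Q Q' : Subgroup Ω}, F.IsConj Q Q' → Φ Q = Φ Q'

/-- The graph of a map of the system. -/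
def graphSub {P : Subgroup Ω} {f : Ω → Ω} (hf : Mp F P f) : Subgroup (↥S × ↥S) where
  carrier := {q | (q.1 : Ω) ∈ P ∧ (q.2 : Ω) = f q.1}
  mul_mem' := by
    rintro a b ⟨h1, h2⟩ ⟨h3, h4⟩
    refine ⟨P.mul_mem h1 h3, ?_⟩
    show (a.2 : Ω) * b.2 = f (a.1 * b.1)
    rw [hf.map_mul h1 h3, h2, h4]
  one_mem' := ⟨P.one_mem, hf.map_one.symm⟩
  inv_mem' := by
    rintro a ⟨h1, h2⟩
    refine ⟨P.inv_mem h1, ?_⟩
    show (a.2 : Ω)⁻¹ = f (a.1 : Ω)⁻¹
    rw [hf.map_inv h1, h2]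

theorem mem_graphSub {P : Subgroup Ω} {f : Ω → Ω} (hf : Mp F P f) (a b : ↥S) :
    ((a, b) : ↥S × ↥S) ∈ graphSub hf ↔ (a : Ω) ∈ P ∧ (b : Ω) = f a := Iff.rfl

theorem isFG_graphSub {P : Subgroup Ω} {f : Ω → Ω} (hf : Mp F P f) : IsFG F (graphSub hf) :=
  ⟨P, f, hf, fun a b => Iff.rfl⟩

/-- A graph is the graph of a function. -/
theorem isFG_unique {K : Subgroup (↥S × ↥S)} (hK : IsFG F K) {a : ↥S} {b c : ↥S} (h1 : (a, b) ∈ K) (h2 : (a, c) ∈ K) :
    b = c := by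
  obtain ⟨P, f, -, hg⟩ := hK
  exact Subtype.ext (((hg a b).1 h1).2.trans ((hg a c).1 h2).2.symm)

theorem isFG_of_mem_fstS {K : Subgroup (↥S × ↥S)} {x : ↥S} (h : (x : Ω) ∈ fstS K) : ∃ b : ↥S, (x, b) ∈ K := by
  obtain ⟨a, b, hq, he⟩ := mem_fstS.1 h
  have : a = x := Subtype.ext he
  subst this
  exact ⟨b, hq⟩

theorem isFG_le_eq {M L L' : Subgroup (↥S × ↥S)} (hM : IsFG F M) (h1 : L ≤ M) (h2 : L' ≤ M) (h : fstS L = fstS L') :
    L = L' := by
  have key : ∀ {L L' : Subgroup (↥S × ↥S)}, L ≤ M → L' ≤ M → fstS L = fstS L' → L ≤ L' := by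
    rintro L L' h1 h2 h ⟨a, b⟩ hab
    have ha : (a : Ω) ∈ fstS L' := h ▸ mem_fstS.2 ⟨a, b, hab, rfl⟩
    obtain ⟨c, hc⟩ := isFG_of_mem_fstS ha
    have : b = c := isFG_unique hM (h1 hab) (h2 hc)
    rwa [this]
  exact le_antisymm (key h1 h2 h) (key h2 h1 h.symm)

section Comp

variable {X Y : Type u} [MulAction (↥S × ↥S) X] [MulAction (↥S × ↥S) Y]

/-- The stabilizers of a balanced product are graphs. -/
theorem tens_isFG (hX : ∀ ω : X, IsFG F (MulAction.stabilizer (↥S × ↥S) ω))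
    (hY : ∀ ω : Y, IsFG F (MulAction.stabilizer (↥S × ↥S) ω)) (z : Tens ↥S X Y) :
    IsFG F (MulAction.stabilizer (↥S × ↥S) z) := by
  obtain ⟨x, y, rfl⟩ := tens_surj z
  obtain ⟨P₁, f₁, h₁, hg₁⟩ := hX x
  obtain ⟨P₂, f₂, h₂, hg₂⟩ := hY y
  let P : Subgroup Ω :=
    { carrier := {a | a ∈ P₁ ∧ f₁ a ∈ P₂}
      mul_mem' := by
        rintro a b ⟨h1, h2⟩ ⟨h3, h4⟩
        refine ⟨P₁.mul_mem h1 h3, ?_⟩
        rw [h₁.map_mul h1 h3]
        exact P₂.mul_mem h2 h4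
      one_mem' := ⟨P₁.one_mem, by rw [h₁.map_one]; exact P₂.one_mem⟩
      inv_mem' := by
        rintro a ⟨h1, h2⟩
        refine ⟨P₁.inv_mem h1, ?_⟩
        rw [h₁.map_inv h1]
        exact P₂.inv_mem h2 }
  refine ⟨P, f₂ ∘ f₁, (h₁.restrict (R := P) (fun a ha => ha.1)).comp (fun a ha => ha.2) h₂, ?_⟩
  intro a b
  rw [MulAction.mem_stabilizer_iff, tens_fix_iff]
  constructor
  · rintro ⟨s, h1, h2⟩
    obtain ⟨h3, h4⟩ := (hg₁ a s).1 (MulAction.mem_stabilizer_iff.2 h1)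
    obtain ⟨h5, h6⟩ := (hg₂ s b).1 (MulAction.mem_stabilizer_iff.2 h2)
    refine ⟨⟨h3, h4 ▸ h5⟩, ?_⟩
    rw [h6, h4]
    rfl
  · rintro ⟨⟨h3, h5⟩, h6⟩
    refine ⟨⟨f₁ a, h₁.mem h3⟩, MulAction.mem_stabilizer_iff.1 ((hg₁ _ _).2 ⟨h3, rfl⟩),
      MulAction.mem_stabilizer_iff.1 ((hg₂ _ _).2 ⟨h5, h6⟩)⟩

/-- Composition of relations. -/
def relS (L K : Subgroup (↥S × ↥S)) : Subgroup (↥S × ↥S) where
  carrier := {q | ∃ a : ↥S, (a, q.1) ∈ L ∧ (a, q.2) ∈ K}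
  mul_mem' := by
    rintro ⟨t, b⟩ ⟨t', b'⟩ ⟨a, h1, h2⟩ ⟨a', h3, h4⟩
    exact ⟨a * a', L.mul_mem h1 h3, K.mul_mem h2 h4⟩
  one_mem' := ⟨1, L.one_mem, K.one_mem⟩
  inv_mem' := by
    rintro ⟨t, b⟩ ⟨a, h1, h2⟩
    exact ⟨a⁻¹, L.inv_mem h1, K.inv_mem h2⟩

theorem relS_props {L K : Subgroup (↥S × ↥S)} (hL : IsFG F L) (hK : IsFG F K) (h : fstS L = fstS K) :
    IsFG F (relS L K) ∧ F.IsConj (fstS K) (fstS (relS L K)) := by
  obtain ⟨P, ρ, hρ, hgL⟩ := hL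
  obtain ⟨Q, ψ, hψ, hgK⟩ := hK
  have h1 : fstS L = P := fstS_of_graph hρ hgL
  have h2 : fstS K = Q := fstS_of_graph hψ hgK
  have hPQ : P = Q := by rw [← h1, ← h2, h]
  subst hPQ
  obtain ⟨g, hg, hg1, hg2⟩ := hρ.inv
  have hgP : ∀ y ∈ hρ.img, g y ∈ P := by
    intro y hy
    obtain ⟨x, hx, rfl⟩ := hρ.mem_img.1 hy
    rw [hg1 x hx]
    exact hx
  have hmp : Mp F hρ.img (ψ ∘ g) := hg.comp hgP hψ
  have hgr : ∀ a b : ↥S, (a, b) ∈ relS L K ↔ (a : Ω) ∈ hρ.img ∧ (b : Ω) = (ψ ∘ g) a := by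
    intro t b
    constructor
    · rintro ⟨a, h3, h4⟩
      obtain ⟨h5, h6⟩ := (hgL _ _).1 h3
      obtain ⟨h7, h8⟩ := (hgK _ _).1 h4
      refine ⟨hρ.mem_img.2 ⟨a, h5, h6.symm⟩, ?_⟩
      show (b : Ω) = ψ (g t)
      rw [h6, hg1 a h5, h8]
    · rintro ⟨h3, h4⟩
      have h5 : g t ∈ P := hgP _ h3
      refine ⟨⟨g t, hρ.le h5⟩, (hgL _ _).2 ⟨h5, (hg2 _ h3).symm⟩, (hgK _ _).2 ⟨h5, h4⟩⟩
  refine ⟨⟨_, _, hmp, hgr⟩, ?_⟩
  rw [fstS_of_graph hmp hgr, h2]
  exact isConj_iff.2 ⟨ρ, Iso.of_mp hρ⟩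

variable [Finite S] [Finite X] [Finite Y] {Φ Φ' : Subgroup Ω → ℕ}

/-- Counting pairs fixed by a graph. -/
theorem card_pairs_fus (hX : BiC F X Φ) (hY : BiC F Y Φ') {K : Subgroup (↥S × ↥S)} (hK : IsFG F K) :
    Nat.card (pairsS X Y K) =
      Nat.card {L : Subgroup (↥S × ↥S) // IsFG F L ∧ fstS L = fstS K} * (Φ (fstS K) * Φ' (fstS K)) := by
  classical
  let R := {L : Subgroup (↥S × ↥S) // IsFG F L ∧ fstS L = fstS K}
  haveI : Finite R := inferInstance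
  haveI : Fintype R := Fintype.ofFinite R
  let g : (Σ L : R, fixSet X L.1 × fixSet Y (relS L.1 K)) → pairsS X Y K := fun w =>
    ⟨(w.2.1.1, w.2.2.1), by
      rintro ⟨a, b⟩ hab
      show ((a, b) : ↥S × ↥S) • (tens w.2.1.1 w.2.2.1 : Tens ↥S X Y) = _
      rw [tens_fix_iff]
      have ha : (a : Ω) ∈ fstS w.1.1 := by
        rw [w.1.2.2]
        exact mem_fstS.2 ⟨a, b, hab, rfl⟩
      obtain ⟨t, ht⟩ := isFG_of_mem_fstS ha
      exact ⟨t, w.2.1.2 _ ht, w.2.2.2 _ ⟨a, ht, hab⟩⟩⟩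
  have hg : Function.Bijective g := by
    constructor
    · rintro ⟨⟨L, hL⟩, ⟨x, hx⟩, ⟨y, hy⟩⟩ ⟨⟨L', hL'⟩, ⟨x', hx'⟩, ⟨y', hy'⟩⟩ h
      have h1 : x = x' := congrArg (fun w => (w.1 : X × Y).1) h
      have h2 : y = y' := congrArg (fun w => (w.1 : X × Y).2) h
      subst h1
      subst h2
      have h3 : L = L' := isFG_le_eq (hX.stab x) (fun q hq => MulAction.mem_stabilizer_iff.2 (hx q hq))
        (fun q hq => MulAction.mem_stabilizer_iff.2 (hx' q hq)) (hL.2.trans hL'.2.symm)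
      subst h3
      rfl
    · rintro ⟨⟨x, y⟩, hq⟩
      have hq' : ∀ a b : ↥S, (a, b) ∈ K → ∃ s : ↥S, ((a, s) : ↥S × ↥S) • x = x ∧ ((s, b) : ↥S × ↥S) • y = y := by
        intro a b hab
        exact tens_fix_iff.1 (hq _ hab)
      let L : Subgroup (↥S × ↥S) := MulAction.stabilizer (↥S × ↥S) x ⊓
        ((fstS K).comap (S.subtype.comp (MonoidHom.fst ↥S ↥S)))
      have hLFG : IsFG F L := isFG_le (hX.stab x) inf_le_left
      have hLfst : fstS L = fstS K := by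
        ext z
        rw [mem_fstS]
        constructor
        · rintro ⟨a, b, hab, rfl⟩
          exact hab.2
        · intro hz
          obtain ⟨a, b, hab, rfl⟩ := mem_fstS.1 hz
          obtain ⟨s, hs, -⟩ := hq' a b hab
          exact ⟨a, s, ⟨MulAction.mem_stabilizer_iff.2 hs, hz⟩, rfl⟩
      refine ⟨⟨⟨L, hLFG, hLfst⟩, ⟨x, fun q hq => MulAction.mem_stabilizer_iff.1 (inf_le_left (a := MulAction.stabilizer (↥S × ↥S) x) hq)⟩,
        ⟨y, ?_⟩⟩, rfl⟩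
      rintro ⟨t, b⟩ ⟨a, h1, h2⟩
      obtain ⟨s, hs, hs'⟩ := hq' a b h2
      have : t = s := isFG_unique (hX.stab x) h1.1 (MulAction.mem_stabilizer_iff.2 hs)
      rw [this]
      exact hs'
  rw [← Nat.card_congr (Equiv.ofBijective g hg)]
  haveI : ∀ L : R, Finite (fixSet X L.1 × fixSet Y (relS L.1 K)) := fun L => inferInstance
  rw [Nat.card_sigma]
  have hterm : ∀ L : R, Nat.card (fixSet X L.1 × fixSet Y (relS L.1 K)) = Φ (fstS K) * Φ' (fstS K) := by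
    intro L
    rw [Nat.card_prod]
    have h1 : Nat.card (fixSet X L.1) = mrk X L.1 := rfl
    have h2 : Nat.card (fixSet Y (relS L.1 K)) = mrk Y (relS L.1 K) := rfl
    obtain ⟨h3, h4⟩ := relS_props L.2.1 hK L.2.2
    rw [h1, h2, hX.mark _ L.2.1, hY.mark _ h3, L.2.2, ← hY.cls h4]
  simp only [hterm]
  rw [Finset.sum_const, Finset.card_univ, smul_eq_mul, Nat.card_eq_fintype_card]

/-- Balanced products of bistable sets have equal marks in both orders. -/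
theorem tens_marks (hX : BiC F X Φ) (hY : BiC F Y Φ') (K : Subgroup (↥S × ↥S)) :
    mrk (Tens ↥S X Y) K = mrk (Tens ↥S Y X) K := by
  by_cases hK : IsFG F K
  · have hfX : RFree ↥S X := by
      intro ω s hs
      obtain ⟨P, f, hf, hg⟩ := hX.stab ω
      have := ((hg 1 s).1 (MulAction.mem_stabilizer_iff.2 hs)).2
      apply Subtype.ext
      rw [this]
      exact hf.map_one
    have hfY : RFree ↥S Y := by
      intro ω s hs
      obtain ⟨P, f, hf, hg⟩ := hY.stab ω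
      have := ((hg 1 s).1 (MulAction.mem_stabilizer_iff.2 hs)).2
      apply Subtype.ext
      rw [this]
      exact hf.map_one
    have h1 := card_pairs (G := ↥S) (X := X) (Y := Y) hfX K
    have h2 := card_pairs (G := ↥S) (X := Y) (Y := X) hfY K
    rw [card_pairs_fus hX hY hK] at h1
    rw [card_pairs_fus hY hX hK] at h2
    have hpos : 0 < Nat.card ↥S := Nat.card_pos
    apply Nat.eq_of_mul_eq_mul_right hpos
    rw [← h1, ← h2, mul_comm (Φ _)]
  · have key : ∀ {X Y : Type u} [MulAction (↥S × ↥S) X] [MulAction (↥S × ↥S) Y] [Finite X] [Finite Y],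
        (∀ ω : X, IsFG F (MulAction.stabilizer (↥S × ↥S) ω)) → (∀ ω : Y, IsFG F (MulAction.stabilizer (↥S × ↥S) ω)) →
        mrk (Tens ↥S X Y) K = 0 := by
      intro X Y _ _ _ _ h1 h2
      unfold mrk
      haveI : IsEmpty (fixSet (Tens ↥S X Y) K) := ⟨fun z => hK (isFG_le (tens_isFG h1 h2 z.1) (fun q hq =>
        MulAction.mem_stabilizer_iff.2 (z.2 q hq)))⟩
      exact Nat.card_of_isEmpty
    rw [key hX.stab hY.stab, key hY.stab hX.stab]

variable {A : Type w} [CommGroup A]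

/-- The transfers of bistable sets commute. -/
theorem bisetTr_swap (hX : BiC F X Φ) (hY : BiC F Y Φ') (hfX : RFree ↥S X) (hfY : RFree ↥S Y) (ν : ↥S →* A) (x : ↥S) :
    bisetTr hfX (bisetTr hfY ν) x = bisetTr hfY (bisetTr hfX ν) x := by
  obtain ⟨ι, hι⟩ := exists_equiv_of_marks (Γ := ↥S × ↥S) (X := Tens ↥S X Y) (Y := Tens ↥S Y X) (tens_marks hX hY)
  have h1 := tens_rfree hfX hfY
  have h2 := tens_rfree hfY hfX
  rw [← bisetTr_tens hfX hfY h1, ← bisetTr_tens hfY hfX h2]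
  exact (bisetTr_of_iso h1 h2 ι hι ν x).symm

end Comp

section Sat

variable [Finite S] [Fact p.Prime] {hS : IsPGroup p S} {hF : F.IsSaturated p}
variable {X : Type u} [MulAction (↥S × ↥S) X] [Finite X] {Φ : Subgroup Ω → ℕ}

theorem BiC.rfree (hX : BiC F X Φ) : RFree ↥S X := by
  intro ω s hs
  obtain ⟨P, f, hf, hg⟩ := hX.stab ω
  have := ((hg 1 s).1 (MulAction.mem_stabilizer_iff.2 hs)).2
  apply Subtype.ext
  rw [this]
  exact hf.map_one

theorem biC_of_char (hS : IsPGroup p S) (hF : F.IsSaturated p) (hX : StabIn (fgSys hS hF) X)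
    (hmark : ∀ H, IsFG F H → mrk X H = mrk X (repF F p H)) :
    BiC F X (fun Q => mrk X (diagS (S := S) (pick F p Q))) where
  stab := hX
  mark K hK := hmark K hK
  cls h := by
    show mrk X (diagS (S := S) (pick F p _)) = mrk X (diagS (S := S) (pick F p _))
    rw [pick_congr h]

theorem BiC.stabIn (hX : BiC F X Φ) (hS : IsPGroup p S) (hF : F.IsSaturated p) : StabIn (fgSys hS hF) X := hX.stab

theorem BiC.hmark (hX : BiC F X Φ) (hF : F.IsSaturated p) (H : Subgroup (↥S × ↥S)) (hH : IsFG F H) :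
    mrk X H = mrk X (repF F p H) := by
  obtain ⟨h1, h2⟩ := pick_spec hF (fstS_le H)
  rw [hX.mark H hH]
  unfold repF
  rw [hX.mark _ (isFG_diag h2.le), fstS_diag F h2.le]
  exact hX.cls h1

/-- A bistable set with orbit number prime to `p` is a characteristic set. -/
theorem BiC.charB (hX : BiC F X Φ) (hS : IsPGroup p S) (hF : F.IsSaturated p) (hm : ¬ p ∣ Nat.card (Uq ↥S X)) :
    CharB F p X := by
  have hstab := hX.stabIn hS hF
  have hmark := hX.hmark hF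
  refine ⟨fun ω => ?_, hX.rfree, hm, ?_⟩
  · obtain ⟨P, f, hf, hgr⟩ := hstab ω
    exact ⟨P, f, hf, fun a b => by rw [← hgr a b, MulAction.mem_stabilizer_iff]⟩
  · intro P f hf
    haveI : Finite P := finite_of_le hf.le
    haveI : Finite (ActOn (hom₁ hf.le) X) := ‹Finite X›
    haveI : Finite (ActOn (hom₂ hf) X) := ‹Finite X›
    obtain ⟨ι, hι⟩ := exists_equiv_of_marks (Γ := ↥P × ↥S) (X := ActOn (hom₁ hf.le) X)
      (Y := ActOn (hom₂ hf) X) (fun K => by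
        rw [mrk_actOn, mrk_actOn]
        exact marks_twist hstab hmark hf K)
    let ι' : X ≃ X := ι
    have hι2 : ∀ (s : ↥S) (ω : X), ι' (((1 : ↥S), s) • ω) = ((1 : ↥S), s) • ι' ω := by
      intro s ω
      have h2 : hom₂ hf ((1 : ↥P), s) = ((1 : ↥S), s) := by
        apply Prod.ext
        · exact Subtype.ext hf.map_one
        · rfl
      have h3 : ι' (((1 : ↥S), s) • ω) = hom₂ hf ((1 : ↥P), s) • ι' ω := hι (1, s) ω
      rw [h2] at h3
      exact h3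
    refine ⟨⟨ι', hι2⟩, fun x y hx hy => ?_⟩
    apply Subtype.ext
    ext ω
    have hy' : y = ⟨f x, hf.mem hx⟩ := Subtype.ext hy
    subst hy'
    have := hι (⟨x, hx⟩, 1) ω
    exact this

variable {A : Type w} [CommGroup A]

/-- The transfer is invariant. -/
theorem BiC.lamInv (hX : BiC F X Φ) (hS : IsPGroup p S) (hF : F.IsSaturated p) (hf : RFree ↥S X) (lam : ↥S →* A) :
    LamInv F (bisetTr hf lam) := by
  intro R f hm a b ha hb
  have h1 := bisetTr_fus (hS := hS) (hF := hF) (hX.stabIn hS hF) (hX.hmark hF) hf lam hm ha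
  have e : (⟨f a, hm.mem ha⟩ : ↥S) = b := Subtype.ext hb.symm
  rw [e] at h1
  exact h1

/-- The transfer of an invariant homomorphism is a power. -/
theorem BiC.bisetTr_inv (hX : BiC F X Φ) (hS : IsPGroup p S) (hF : F.IsSaturated p) (hm : ¬ p ∣ Nat.card (Uq ↥S X))
    (hf : RFree ↥S X) (lam : ↥S →* A) (hinv : LamInv F lam) (x : ↥S) :
    bisetTr hf lam x = lam x ^ Nat.card (Uq ↥S X) := by
  have hc := hX.charB hS hF hm
  rw [← lab_lft hf lam x]
  exact lab_lft_eq hc lam hinv x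

/-- Powers prime to `p` are injective on a `p`-group. -/
theorem pow_inj_of_pgroup {A : Type*} [CommGroup A] (hA : IsPGroup p A) {m : ℕ} (hm : ¬ p ∣ m) {a b : A}
    (h : a ^ m = b ^ m) : a = b := by
  have hp : p.Prime := Fact.out
  have h1 : (a / b) ^ m = 1 := by rw [div_pow, h, div_self']
  obtain ⟨k, hk⟩ := hA (a / b)
  have hcop : Nat.Coprime (p ^ k) m := Nat.Coprime.pow_left _ ((Nat.Prime.coprime_iff_not_dvd hp).2 hm)
  have h2 : orderOf (a / b) = 1 :=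
    Nat.eq_one_of_dvd_coprimes hcop (orderOf_dvd_of_pow_eq_one hk) (orderOf_dvd_of_pow_eq_one h1)
  exact div_eq_one.1 (orderOf_eq_one_iff.1 h2)

end Sat

section Twist

variable [Finite S]
variable {X : Type u} [MulAction (↥S × ↥S) X] {Φ : Subgroup Ω → ℕ}

/-- An automorphism acting on both factors. -/
def tauH (σ : ↥S ≃* ↥S) : ↥S × ↥S →* ↥S × ↥S := σ.toMonoidHom.prodMap σ.toMonoidHom

/-- The image of a subgroup under an automorphism. -/
def mapT (σ : ↥S ≃* ↥S) (Q : Subgroup Ω) : Subgroup Ω := (Q.subgroupOf S).map (S.subtype.comp σ.toMonoidHom)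

theorem mem_mapT {σ : ↥S ≃* ↥S} {Q : Subgroup Ω} {y : Ω} :
    y ∈ mapT σ Q ↔ ∃ a : ↥S, (a : Ω) ∈ Q ∧ ((σ a : ↥S) : Ω) = y := by
  constructor
  · rintro ⟨a, ha, rfl⟩
    exact ⟨a, ha, rfl⟩
  · rintro ⟨a, ha, rfl⟩
    exact ⟨a, ha, rfl⟩

theorem fstS_map (σ : ↥S ≃* ↥S) (K : Subgroup (↥S × ↥S)) : fstS (K.map (tauH σ)) = mapT σ (fstS K) := by
  ext y
  rw [mem_fstS, mem_mapT]
  constructor
  · rintro ⟨a, b, ⟨⟨a₀, b₀⟩, h1, h2⟩, rfl⟩
    have e : σ a₀ = a := congrArg Prod.fst h2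
    exact ⟨a₀, mem_fstS.2 ⟨a₀, b₀, h1, rfl⟩, by rw [e]⟩
  · rintro ⟨a, ha, rfl⟩
    obtain ⟨b, hb⟩ := isFG_of_mem_fstS ha
    exact ⟨σ a, σ b, ⟨(a, b), hb, rfl⟩, rfl⟩

theorem BiC.twist (hX : BiC F X Φ) (σ : ↥S ≃* ↥S) (hτ : ∀ K, IsFG F K → IsFG F (K.map (tauH σ)))
    (hτ' : ∀ K, IsFG F K → IsFG F (K.map (tauH σ.symm))) :
    BiC F (ActOn (tauH σ) X) (fun Q => Φ (mapT σ Q)) where
  stab ω := by
    have e : MulAction.stabilizer (↥S × ↥S) (ω : ActOn (tauH σ) X) =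
        (MulAction.stabilizer (↥S × ↥S) (show X from ω)).map (tauH σ.symm) := by
      ext ⟨a, b⟩
      rw [MulAction.mem_stabilizer_iff]
      constructor
      · intro h
        refine ⟨(σ a, σ b), MulAction.mem_stabilizer_iff.2 h, ?_⟩
        simp [tauH]
      · rintro ⟨⟨c, d⟩, h1, h2⟩
        have e1 : σ.symm c = a := congrArg Prod.fst h2
        have e2 : σ.symm d = b := congrArg Prod.snd h2
        subst e1 e2
        have h3 : ((c, d) : ↥S × ↥S) • (show X from ω) = ω := MulAction.mem_stabilizer_iff.1 h1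
        show tauH σ (σ.symm c, σ.symm d) • (show X from ω) = ω
        have e3 : tauH σ (σ.symm c, σ.symm d) = (c, d) := by simp [tauH]
        rw [e3]
        exact h3
    rw [e]
    exact hτ' _ (hX.stab ω)
  mark K hK := by
    rw [mrk_actOn, hX.mark _ (hτ K hK), fstS_map]
  cls {Q Q'} h := by
    obtain ⟨f, hf⟩ := isConj_iff.1 h
    obtain ⟨P₁, f₁, hf₁, hg₁⟩ := hτ _ (isFG_graphSub hf.mp)
    have h1 : P₁ = mapT σ Q := by
      rw [← fstS_of_graph hf₁ hg₁, fstS_map, fstS_of_graph (F := F) hf.mp (mem_graphSub hf.mp)]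
    subst h1
    apply hX.cls
    refine isConj_iff.2 ⟨f₁, hf₁, ?_, ?_⟩
    · intro x hx
      obtain ⟨a, ha, rfl⟩ := mem_mapT.1 hx
      have h2 : ((a, ⟨f a, hf.mp.mem ha⟩) : ↥S × ↥S) ∈ graphSub hf.mp := ⟨ha, rfl⟩
      have h3 := (hg₁ (σ a) (σ ⟨f a, hf.mp.mem ha⟩)).1 ⟨_, h2, rfl⟩
      rw [← h3.2]
      exact mem_mapT.2 ⟨⟨f a, hf.mp.mem ha⟩, hf.maps a ha, rfl⟩
    · intro y hy
      obtain ⟨c, hc, rfl⟩ := mem_mapT.1 hy
      obtain ⟨a, ha, hac⟩ := hf.surj _ hc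
      have e : (⟨f a, hf.mp.mem ha⟩ : ↥S) = c := Subtype.ext hac
      have h2 : ((⟨a, hf.mp.le ha⟩, ⟨f a, hf.mp.mem ha⟩) : ↥S × ↥S) ∈ graphSub hf.mp := ⟨ha, rfl⟩
      have h3 := (hg₁ (σ ⟨a, hf.mp.le ha⟩) (σ ⟨f a, hf.mp.mem ha⟩)).1 ⟨_, h2, rfl⟩
      refine ⟨_, h3.1, ?_⟩
      rw [← h3.2, e]

variable {p : ℕ} [Fact p.Prime] [Finite X] {A : Type w} [CommGroup A]

/-- The transfer of a characteristic set is equivariant under automorphisms of the system. -/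
theorem bisetTr_aut (hS : IsPGroup p S) (hF : F.IsSaturated p) (hX : BiC F X Φ) (hm : ¬ p ∣ Nat.card (Uq ↥S X))
    (hA : IsPGroup p A) (hf : RFree ↥S X) (σ : ↥S ≃* ↥S) (hτ : ∀ K, IsFG F K → IsFG F (K.map (tauH σ)))
    (hτ' : ∀ K, IsFG F K → IsFG F (K.map (tauH σ.symm))) (ν : ↥S →* A) (x : ↥S) :
    bisetTr hf ν (σ x) = bisetTr hf (ν.comp σ.toMonoidHom) x := by
  have hY := hX.twist σ hτ hτ'
  haveI : Finite (ActOn (tauH σ) X) := ‹Finite X›
  have hfY : RFree ↥S (ActOn (tauH σ) X) := hY.rfree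
  let e : ActOn (tauH σ) X ≃ X := Equiv.refl X
  have he : ∀ (a b : ↥S) (ω : ActOn (tauH σ) X), e (((a, b) : ↥S × ↥S) • ω) = ((σ a, σ b) : ↥S × ↥S) • e ω :=
    fun a b ω => rfl
  rw [bisetTr_transport hfY hf e σ he ν x]
  have hcard : Nat.card (Uq ↥S (ActOn (tauH σ) X)) = Nat.card (Uq ↥S X) := card_uq_eq e σ he
  have hmY : ¬ p ∣ Nat.card (Uq ↥S (ActOn (tauH σ) X)) := by rwa [hcard]
  set ν' := ν.comp σ.toMonoidHom with hν'
  have h1 := bisetTr_swap hX hY hf hfY ν' x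
  rw [hX.bisetTr_inv hS hF hm hf _ (hY.lamInv hS hF hfY ν') x,
    hY.bisetTr_inv hS hF hmY hfY _ (hX.lamInv hS hF hf ν') x, hcard] at h1
  exact pow_inj_of_pgroup hA hm h1

end Twist

end Cfsg.Agent.H24
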