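import Mathlib
import Cfsg.Agent.Lib.H24.TensM
import Cfsg.Agent.Lib.H24.LabH
import Cfsg.Agent.Lib.H24.BisetFoc
import Cfsg.Agent.Lib.H24.BisetTh2

/-!
Tate's theorem for fusion systems.
-/

set_option autoImplicit false
set_option linter.style.haveILetI false

namespace Cfsg.Agent.H24

open Cfsg Cfsg.FusionSystem Cfsg.Agent.H25
open scoped commutatorElement

universe u w

section Group

/-- The quotient of a group by a subgroup containing the commutator subgroup, as a commutative group. -/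
theorem exists_quot_ab {G : Type u} [Group G] (N : Subgroup G) (h : commutator G ≤ N) :
    ∃ (A : Type u) (_ : CommGroup A) (lam : G →* A), Function.Surjective lam ∧ lam.ker = N := by
  refine ⟨Abelianization G ⧸ N.map Abelianization.of, inferInstance,
    (QuotientGroup.mk' _).comp Abelianization.of, ?_, ?_⟩
  · intro y
    obtain ⟨a, rfl⟩ := QuotientGroup.mk_surjective y
    obtain ⟨x, rfl⟩ := QuotientGroup.mk_surjective a
    exact ⟨x, rfl⟩
  · ext x
    rw [MonoidHom.mem_ker]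
    show ((Abelianization.of x : Abelianization G) : Abelianization G ⧸ N.map Abelianization.of) = 1 ↔ _
    rw [QuotientGroup.eq_one_iff]
    constructor
    · rintro ⟨n, hn, he⟩
      have h1 : n⁻¹ * x ∈ (Abelianization.of : G →* Abelianization G).ker := by
        rw [MonoidHom.mem_ker, map_mul, map_inv, he]
        simp
      rw [Abelianization.ker_of] at h1
      have h2 := N.mul_mem hn (h h1)
      simpa using h2
    · intro hx
      exact ⟨x, hx, rfl⟩

/-- With a cyclic quotient the commutator subgroup lies in `[T, G]`. -/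
theorem commutator_le_of_cyclic {G : Type u} [Group G] (T : Subgroup G) [hT : T.Normal] (hc : IsCyclic (G ⧸ T)) :
    commutator G ≤ ⁅T, (⊤ : Subgroup G)⁆ := by
  haveI : (⁅T, (⊤ : Subgroup G)⁆).Normal := Subgroup.commutator_normal T ⊤
  have hle : ⁅T, (⊤ : Subgroup G)⁆ ≤ T := Subgroup.commutator_le_left T ⊤
  let f : G ⧸ ⁅T, (⊤ : Subgroup G)⁆ →* G ⧸ T := QuotientGroup.map _ _ (MonoidHom.id G) hle
  have hf : f.ker ≤ Subgroup.center (G ⧸ ⁅T, (⊤ : Subgroup G)⁆) := by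
    intro x hx
    obtain ⟨g, rfl⟩ := QuotientGroup.mk_surjective x
    have hg : g ∈ T := by
      have : f (g : G ⧸ ⁅T, (⊤ : Subgroup G)⁆) = 1 := hx
      exact (QuotientGroup.eq_one_iff g).1 this
    rw [Subgroup.mem_center_iff]
    intro y
    obtain ⟨h, rfl⟩ := QuotientGroup.mk_surjective y
    have h1 : ⁅g, h⁆ ∈ ⁅T, (⊤ : Subgroup G)⁆ := Subgroup.commutator_mem_commutator hg (Subgroup.mem_top h)
    have h2 : ((⁅g, h⁆ : G) : G ⧸ ⁅T, (⊤ : Subgroup G)⁆) = 1 := (QuotientGroup.eq_one_iff _).2 h1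
    rw [commutatorElement_def] at h2
    have h3 : (g : G ⧸ ⁅T, (⊤ : Subgroup G)⁆) * h * (g : G ⧸ ⁅T, (⊤ : Subgroup G)⁆)⁻¹ * (h : G ⧸ ⁅T, (⊤ : Subgroup G)⁆)⁻¹ = 1 := h2
    have h4 : (g : G ⧸ ⁅T, (⊤ : Subgroup G)⁆) * h = h * g := by
      rw [mul_inv_eq_one, mul_inv_eq_iff_eq_mul] at h3
      exact h3
    exact h4.symm
  rw [commutator_def, Subgroup.commutator_le]
  intro a _ b _
  haveI := f.isMulCommutative_of_isCyclic_of_ker_le_center hf
  have h1 : (a : G ⧸ ⁅T, (⊤ : Subgroup G)⁆) * b = b * a := mul_comm' _ _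
  rw [← QuotientGroup.eq_one_iff, commutatorElement_def]
  show (a : G ⧸ ⁅T, (⊤ : Subgroup G)⁆) * b * (a : G ⧸ ⁅T, (⊤ : Subgroup G)⁆)⁻¹ * (b : G ⧸ ⁅T, (⊤ : Subgroup G)⁆)⁻¹ = 1
  rw [h1]
  group

end Group

variable {Ω : Type u} [Group Ω] {S T : Subgroup Ω} {p : ℕ}

section Nil

variable [Fact p.Prime]

/-- Nilpotency: a normal section equal to its commutator with the group vanishes. -/
theorem le_of_le_sup_commutator [Finite S] (hS : IsPGroup p S) {M N : Subgroup Ω} (hMS : M ≤ S) (hNS : N ≤ S)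
    (hN : (N.subgroupOf S).Normal) (h : M ≤ N ⊔ ⁅M, S⁆) : M ≤ N := by
  haveI := hN
  let N' := N.subgroupOf S
  let M' := M.subgroupOf S
  let q : ↥S →* ↥S ⧸ N' := QuotientGroup.mk' N'
  have hq : Function.Surjective q := QuotientGroup.mk'_surjective N'
  haveI hnil : Group.IsNilpotent (↥S ⧸ N') := (hS.to_quotient N').isNilpotent
  let Q : Subgroup (↥S ⧸ N') := M'.map q
  have hMmap : M'.map S.subtype = M := by
    rw [Subgroup.subgroupOf_map_subtype]
    exact inf_eq_left.2 hMS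
  have hNmap : N'.map S.subtype = N := by
    rw [Subgroup.subgroupOf_map_subtype]
    exact inf_eq_left.2 hNS
  have hSmap : (⊤ : Subgroup ↥S).map S.subtype = S := by
    rw [← MonoidHom.range_eq_map, Subgroup.range_subtype]
  have hle : M' ≤ N' ⊔ ⁅M', (⊤ : Subgroup ↥S)⁆ := by
    intro x hx
    have h1 : (x : Ω) ∈ (N' ⊔ ⁅M', (⊤ : Subgroup ↥S)⁆).map S.subtype := by
      rw [Subgroup.map_sup, Subgroup.map_commutator, hMmap, hNmap, hSmap]
      exact h hx
    obtain ⟨y, hy, hyx⟩ := h1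
    have : y = x := Subtype.ext hyx
    rwa [← this]
  have hQ : Q ≤ ⁅Q, (⊤ : Subgroup (↥S ⧸ N'))⁆ := by
    have h1 := Subgroup.map_mono (f := q) hle
    rw [Subgroup.map_sup, Subgroup.map_commutator, Subgroup.map_top_of_surjective q hq] at h1
    have h2 : N'.map q = ⊥ := by
      rw [Subgroup.map_eq_bot_iff, QuotientGroup.ker_mk']
    rw [h2, bot_sup_eq] at h1
    exact h1
  obtain ⟨n, hn⟩ := (Subgroup.nilpotent_iff_lowerCentralSeries (G := ↥S ⧸ N')).mp hnil
  have hlow : ∀ m, Q ≤ (⊤ : Subgroup (↥S ⧸ N')).lowerCentralSeries m := by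
    intro m
    induction m with
    | zero => exact le_top
    | succ m ih =>
      rw [Subgroup.lowerCentralSeries_succ]
      exact hQ.trans (Subgroup.commutator_mono ih le_rfl)
  have hQb : Q = ⊥ := by
    rw [eq_bot_iff, ← hn]
    exact hlow n
  intro x hx
  have h1 : q ⟨x, hMS hx⟩ ∈ Q := ⟨⟨x, hMS hx⟩, hx, rfl⟩
  rw [hQb, Subgroup.mem_bot] at h1
  have h2 : (⟨x, hMS hx⟩ : ↥S) ∈ N' := (QuotientGroup.eq_one_iff _).1 h1
  exact h2

end Nil

section Fus

variable [Fact p.Prime] {F : FusionSystem S} {E : FusionSystem T} {A : Type w} [CommGroup A]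

/-- Conjugation by an element of `S` on a normal subgroup. -/
def conjOn (hTS : T ≤ S) (hTn : (T.subgroupOf S).Normal) {s : Ω} (hs : s ∈ S) : ↥T ≃* ↥T where
  toFun x := ⟨s * x * s⁻¹, conj_mem_of_normal hTn hs (hTS x.2) x.2⟩
  invFun x := ⟨s⁻¹ * x * s, by
    have := conj_mem_of_normal hTn (S.inv_mem hs) (hTS x.2) x.2
    simpa using this⟩
  left_inv x := by
    apply Subtype.ext
    show s⁻¹ * (s * x * s⁻¹) * s = x
    group
  right_inv x := by
    apply Subtype.ext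
    show s * (s⁻¹ * x * s) * s⁻¹ = x
    group
  map_mul' x y := by
    apply Subtype.ext
    show s * (x * y) * s⁻¹ = s * x * s⁻¹ * (s * y * s⁻¹)
    group

theorem conjOn_coe (hTS : T ≤ S) (hTn : (T.subgroupOf S).Normal) {s : Ω} (hs : s ∈ S) (x : ↥T) :
    ((conjOn hTS hTn hs x : ↥T) : Ω) = s * x * s⁻¹ := rfl

theorem conjOn_symm_coe (hTS : T ≤ S) (hTn : (T.subgroupOf S).Normal) {s : Ω} (hs : s ∈ S) (x : ↥T) :
    (((conjOn hTS hTn hs).symm x : ↥T) : Ω) = s⁻¹ * x * s := rfl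

theorem conjOn_mem (hTS : T ≤ S) (hTn : (T.subgroupOf S).Normal) {s : Ω} (hs : s ∈ S) :
    (conjOn hTS hTn hs : MulAut ↥T) ∈ F.autGroup T :=
  conj_mem_autGroup hTS hs (fun x => rfl)

theorem conjOn_symm_mem (hTS : T ≤ S) (hTn : (T.subgroupOf S).Normal) {s : Ω} (hs : s ∈ S) :
    ((conjOn hTS hTn hs).symm : MulAut ↥T) ∈ F.autGroup T :=
  conj_mem_autGroup hTS (S.inv_mem hs) (fun x => by
    rw [conjOn_symm_coe]
    simp)

/-- Automorphisms in `Aut_F(T)` preserve the graphs of an invariant subsystem. -/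
theorem isFG_map_of_conjInv (hinv : ConjInvariant F E) {α : MulAut ↥T} (hα : α ∈ F.autGroup T)
    {K : Subgroup (↥T × ↥T)} (hK : IsFG E K) : IsFG E (K.map (tauH (α : ↥T ≃* ↥T))) := by
  obtain ⟨P, f, hf, hg⟩ := hK
  obtain ⟨φ, hφ, hφf⟩ := hf
  have hPT : P ≤ T := (E.le_of_mem hφ).1
  have hvT : ∀ x : P, φ x ∈ T := (E.le_of_mem hφ).2
  obtain ⟨χ, hχ, hχv⟩ := hinv P hPT φ hφ α hα
  refine ⟨_, toFun χ, mp_of_mem hχ, ?_⟩
  rintro c d
  constructor
  · rintro ⟨⟨a, b⟩, hab, he⟩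
    have e1 : α a = c := congrArg Prod.fst he
    have e2 : α b = d := congrArg Prod.snd he
    obtain ⟨h1, h2⟩ := (hg a b).1 hab
    have hc : (c : Ω) ∈ (P.subgroupOf T).map (T.subtype.comp α.toMonoidHom) := ⟨a, h1, by rw [← e1]; rfl⟩
    refine ⟨hc, ?_⟩
    rw [toFun_coe χ ⟨c, hc⟩]
    have e3 : (⟨(c : Ω), hc⟩ : ↥((P.subgroupOf T).map (T.subtype.comp α.toMonoidHom))) =
        ⟨((α ⟨((⟨a, h1⟩ : P) : Ω), hPT h1⟩ : ↥T) : Ω), by
          show ((α a : ↥T) : Ω) ∈ _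
          rw [e1]; exact hc⟩ := Subtype.ext (by
          show (c : Ω) = ((α a : ↥T) : Ω)
          rw [e1])
    rw [e3, hχv ⟨a, h1⟩ (hvT _)]
    have e4 : (⟨φ ⟨a, h1⟩, hvT _⟩ : ↥T) = b := Subtype.ext ((hφf ⟨a, h1⟩).trans h2.symm)
    rw [e4, e2]
  · rintro ⟨⟨a, ha, hac⟩, h2⟩
    have e0 : α a = c := Subtype.ext hac
    have h1 : (a : Ω) ∈ P := ha
    refine ⟨(a, ⟨φ ⟨a, h1⟩, hvT _⟩), (hg _ _).2 ⟨h1, hφf ⟨a, h1⟩⟩, ?_⟩
    have hc : (c : Ω) ∈ (P.subgroupOf T).map (T.subtype.comp α.toMonoidHom) := ⟨a, ha, hac⟩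
    rw [toFun_coe χ ⟨c, hc⟩] at h2
    have e3 : (⟨(c : Ω), hc⟩ : ↥((P.subgroupOf T).map (T.subtype.comp α.toMonoidHom))) =
        ⟨((α ⟨((⟨a, h1⟩ : P) : Ω), hPT h1⟩ : ↥T) : Ω), by
          show ((α a : ↥T) : Ω) ∈ _
          rw [e0]; exact hc⟩ := Subtype.ext (by
          show (c : Ω) = ((α a : ↥T) : Ω)
          rw [e0])
    rw [e3, hχv ⟨a, h1⟩ (hvT _)] at h2
    apply Prod.ext
    · exact e0
    · exact Subtype.ext h2.symm

/-- The focal subgroup of a subsystem. -/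
theorem foc_le_of_subsystem {F : FusionSystem S} {E : FusionSystem T} (h : E.IsSubsystemOf F) :
    E.focalSubgroup ≤ F.focalSubgroup := by
  refine Subgroup.closure_mono ?_
  rintro y ⟨P, φ, x, hφ, rfl⟩
  exact ⟨P, φ, x, h P hφ, rfl⟩

/-- The main step: the focal subgroup of the subsystem of `p`-power index over a normal subgroup with cyclic quotient. -/
theorem foc_step [Finite S] (hS : IsPGroup p S) (hF : F.IsSaturated p) (hTS : T ≤ S) (hTn : (T.subgroupOf S).Normal)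
    (hcyc : IsCyclic (↥S ⧸ T.subgroupOf S)) (hEs : E.IsSaturated p) (hE : E.HasPPowerIndexIn F p)
    {N : Subgroup Ω} (hNTT : ⁅T, T⁆ ≤ N) (hNM : N ≤ E.focalSubgroup) (hNn : (N.subgroupOf S).Normal)
    (hfoc : F.focalSubgroup ≤ N ⊔ ⁅S, S⁆) : E.focalSubgroup ≤ N := by
  have hp : p.Prime := Fact.out
  haveI hfT : Finite T := finite_of_le hTS
  have hTp : IsPGroup p T := hS.of_injective (Subgroup.inclusion hTS) (Subgroup.inclusion_injective _)
  set M := E.focalSubgroup with hM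
  have hMT : M ≤ T := by
    rw [hM, focal_eq hTp hEs]
    refine sup_le hyperfocal_le ?_
    rw [Subgroup.commutator_le]
    intro a ha b hb
    rw [commutatorElement_def]
    exact T.mul_mem (T.mul_mem (T.mul_mem ha hb) (T.inv_mem ha)) (T.inv_mem hb)
  have hNT : N ≤ T := hNM.trans hMT
  set R : Subgroup Ω := N ⊔ ⁅M, S⁆ with hR
  have hNR : N ≤ R := le_sup_left
  have hcomm : commutator ↥T ≤ R.subgroupOf T := by
    rw [commutator_def, Subgroup.commutator_le]
    rintro a - b -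
    show ((⁅a, b⁆ : ↥T) : Ω) ∈ R
    exact hNR (hNTT (Subgroup.commutator_mem_commutator a.2 b.2))
  obtain ⟨A, iA, lam, hsurj, hker⟩ := exists_quot_ab (R.subgroupOf T) hcomm
  have hA : IsPGroup p A := hTp.of_surjective lam hsurj
  obtain ⟨X, i1, i2, hXs, hmark, hfree, hm⟩ := exists_char hTp hEs
  have hX := biC_of_char hTp hEs hXs hmark
  set m := Nat.card (Uq ↥T X) with hmdef
  set ν : ↥T →* A := bisetTr hfree lam with hν
  have hνM : ∀ y : ↥T, (y : Ω) ∈ M → ν y = 1 := by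
    intro y hy
    obtain ⟨h, h1⟩ := foc_le_ker (hS := hTp) (hF := hEs) hXs hmark hfree lam hy
    exact h1
  have hlamR : ∀ y : ↥T, (y : Ω) ∈ R → lam y = 1 := by
    intro y hy
    have : y ∈ lam.ker := by
      rw [hker]
      exact hy
    exact this
  have hRlam : ∀ y : ↥T, lam y = 1 → (y : Ω) ∈ R := by
    intro y hy
    have : y ∈ lam.ker := hy
    rw [hker] at this
    exact this
  let κ : ↥T →* A := ν * (lam ^ m)⁻¹
  have hκ : ∀ x, κ x = ν x * (lam x ^ m)⁻¹ := fun x => rfl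
  have hinvE := conjInvariant_of_ppower hS hTS hEs hE
  -- equivariance
  have hequi : ∀ (s : Ω) (hs : s ∈ S) (x : ↥T), κ (conjOn hTS hTn hs x) = κ x := by
    intro s hs x
    set σ := conjOn hTS hTn hs with hσ
    have hτ : ∀ K, IsFG E K → IsFG E (K.map (tauH σ)) := fun K hK =>
      isFG_map_of_conjInv hinvE (conjOn_mem hTS hTn hs) hK
    have hτ' : ∀ K, IsFG E K → IsFG E (K.map (tauH σ.symm)) := fun K hK =>
      isFG_map_of_conjInv hinvE (conjOn_symm_mem hTS hTn hs) hK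
    have h1 := bisetTr_aut hTp hEs hX hm hA hfree σ hτ hτ' lam x
    let ε : ↥T →* A := lam.comp σ.toMonoidHom * lam⁻¹
    have hε : ∀ y, ε y = lam (σ y) * (lam y)⁻¹ := fun y => rfl
    have hlamσ : lam.comp σ.toMonoidHom = ε * lam := by
      ext y
      show lam (σ y) = lam (σ y) * (lam y)⁻¹ * lam y
      group
    have hεinv : LamInv E ε := by
      apply lamInv_of_foc
      intro y hy
      refine mem_labT.2 ⟨hMT hy, ?_⟩
      rw [hε, ← map_inv, ← map_mul]
      apply hlamR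
      show s * y * s⁻¹ * y⁻¹ ∈ R
      have h2 : ⁅y, s⁆ ∈ ⁅M, S⁆ := Subgroup.commutator_mem_commutator hy hs
      have h3 : s * y * s⁻¹ * y⁻¹ = ⁅y, s⁆⁻¹ := by
        rw [commutatorElement_def]
        group
      rw [h3]
      exact R.inv_mem (le_sup_right (a := N) h2)
    have h2 : bisetTr hfree ε x = ε x ^ m := hX.bisetTr_inv hTp hEs hm hfree ε hεinv x
    rw [hlamσ, bisetTr_mul, h2] at h1
    rw [hκ, hκ]
    show bisetTr hfree lam (σ x) * (lam (σ x) ^ m)⁻¹ = bisetTr hfree lam x * (lam x ^ m)⁻¹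
    rw [h1, hε, mul_pow, inv_pow]
    generalize lam (σ x) ^ m = a
    generalize lam x ^ m = b
    generalize bisetTr hfree lam x = t
    rw [mul_comm (a * b⁻¹) t, mul_assoc t, mul_comm (a * b⁻¹) a⁻¹, ← mul_assoc a⁻¹, inv_mul_cancel, one_mul]
  set B : Subgroup Ω := κ.ker.map T.subtype with hB
  have hmemB : ∀ y : ↥T, κ y = 1 → (y : Ω) ∈ B := fun y hy => ⟨y, hy, rfl⟩
  have hBκ : ∀ y : ↥T, (y : Ω) ∈ B → κ y = 1 := by
    rintro y ⟨z, hz, he⟩
    have : z = y := Subtype.ext he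
    rw [← this]
    exact hz
  have hNB : N ≤ B := by
    intro y hy
    have hyT := hNT hy
    refine hmemB ⟨y, hyT⟩ ?_
    rw [hκ, hνM ⟨y, hyT⟩ (hNM hy), hlamR ⟨y, hyT⟩ (hNR hy)]
    simp
  have hTSB : ⁅T, S⁆ ≤ B := by
    rw [Subgroup.commutator_le]
    intro t ht s hs
    have h1 : s * t * s⁻¹ * t⁻¹ ∈ B := by
      have hx := conj_mem_of_normal hTn hs (hTS ht) ht
      refine hmemB ⟨s * t * s⁻¹ * t⁻¹, T.mul_mem hx (T.inv_mem ht)⟩ ?_
      have e : (⟨s * t * s⁻¹ * t⁻¹, T.mul_mem hx (T.inv_mem ht)⟩ : ↥T) =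
          conjOn hTS hTn hs ⟨t, ht⟩ * (⟨t, ht⟩ : ↥T)⁻¹ := rfl
      rw [e, map_mul, map_inv, hequi s hs ⟨t, ht⟩, mul_inv_cancel]
    have h2 : ⁅t, s⁆ = (s * t * s⁻¹ * t⁻¹)⁻¹ := by
      rw [commutatorElement_def]
      group
    rw [h2]
    exact B.inv_mem h1
  have hSSB : ⁅S, S⁆ ≤ B := by
    haveI := hTn
    have h1 := commutator_le_of_cyclic (T.subgroupOf S) hcyc
    have h2 := Subgroup.map_mono (f := S.subtype) h1
    have hSmap : (⊤ : Subgroup ↥S).map S.subtype = S := by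
      rw [← MonoidHom.range_eq_map, Subgroup.range_subtype]
    have hTmap : (T.subgroupOf S).map S.subtype = T := by
      rw [Subgroup.subgroupOf_map_subtype]
      exact inf_eq_left.2 hTS
    rw [commutator_def, Subgroup.map_commutator, Subgroup.map_commutator, hSmap, hTmap] at h2
    exact h2.trans hTSB
  have hMB : M ≤ B := by
    rw [hM, focal_eq hTp hEs]
    refine sup_le ?_ (hNTT.trans hNB)
    exact (hyp_le_of_subsystem hE.1).trans ((hyp_le_foc F p).trans (hfoc.trans (sup_le hNB hSSB)))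
  have hMR : M ≤ R := by
    intro y hy
    have hyT := hMT hy
    apply hRlam ⟨y, hyT⟩
    have h1 := hBκ ⟨y, hyT⟩ (hMB hy)
    rw [hκ, hνM ⟨y, hyT⟩ hy, one_mul, inv_eq_one] at h1
    have h2 : lam ⟨y, hyT⟩ ^ m = (1 : A) ^ m := by rw [h1, one_pow]
    exact pow_inj_of_pgroup hA hm h2
  exact le_of_le_sup_commutator hS (hMT.trans hTS) (hNT.trans hTS) hNn hMR

end Fus

end Cfsg.Agent.H24
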