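import Mathlib
import Cfsg.Agent.Lib.H24.TateMain

/-!
Tate's theorem for fusion systems: the two equivalences.
-/

set_option autoImplicit false
set_option linter.style.haveILetI false

namespace Cfsg.Agent.H24

open Cfsg Cfsg.FusionSystem Cfsg.Agent.H25
open scoped commutatorElement

universe u

variable {Ω : Type u} [Group Ω] {S : Subgroup Ω} {p : ℕ} [Fact p.Prime]

/-- `⁅S, S⁆` as the image of the commutator subgroup of `↥S`. -/
theorem map_commutator_coe (S : Subgroup Ω) : (commutator ↥S).map S.subtype = ⁅S, S⁆ := by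
  have hSmap : (⊤ : Subgroup ↥S).map S.subtype = S := by
    rw [← MonoidHom.range_eq_map, Subgroup.range_subtype]
  rw [commutator_def, Subgroup.map_commutator, hSmap]

/-- Sections of a subgroup that are generated by `p`-th powers vanish. -/
theorem le_of_le_sup_pow [Finite S] (hS : IsPGroup p S) {M N : Subgroup Ω} (hMS : M ≤ S) (hNS : N ≤ S)
    (hSS : ⁅S, S⁆ ≤ N) (h : M ≤ N ⊔ Subgroup.closure {z | ∃ y ∈ M, z = y ^ p}) : M ≤ N := by
  have hp : p.Prime := Fact.out
  have hc : commutator ↥S ≤ N.subgroupOf S := by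
    intro x hx
    have h1 : (x : Ω) ∈ ⁅S, S⁆ := by
      rw [← map_commutator_coe]
      exact ⟨x, hx, rfl⟩
    exact hSS h1
  obtain ⟨A, iA, lam, hsurj, hker⟩ := exists_quot_ab (N.subgroupOf S) hc
  have hA : IsPGroup p A := hS.of_surjective lam hsurj
  haveI : Finite A := Finite.of_surjective lam hsurj
  obtain ⟨k, hk⟩ := (IsPGroup.iff_card).1 hA
  have hstep : ∀ y : ↥S, (y : Ω) ∈ M → ∃ y' : ↥S, (y' : Ω) ∈ M ∧ lam y = lam y' ^ p := by
    intro y hy
    let U : Subgroup Ω := (Subgroup.comap lam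
      (((M.subgroupOf S).map lam).map (powMonoidHom p : A →* A))).map S.subtype
    have hU : M ≤ U := by
      refine h.trans (sup_le ?_ ?_)
      · intro n hn
        have h1 : (⟨n, hNS hn⟩ : ↥S) ∈ lam.ker := by
          rw [hker]
          exact hn
        have h1' : lam ⟨n, hNS hn⟩ = 1 := h1
        refine ⟨⟨n, hNS hn⟩, Subgroup.mem_comap.2 ?_, rfl⟩
        rw [h1']
        exact Subgroup.one_mem _
      · refine (Subgroup.closure_le _).2 ?_
        rintro _ ⟨z, hz, rfl⟩
        refine ⟨⟨z, hMS hz⟩ ^ p, Subgroup.mem_comap.2 ?_, rfl⟩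
        rw [map_pow]
        exact ⟨lam ⟨z, hMS hz⟩, ⟨⟨z, hMS hz⟩, hz, rfl⟩, rfl⟩
    obtain ⟨u, hu, he⟩ := hU hy
    have e : u = y := Subtype.ext he
    subst e
    obtain ⟨_, ⟨y', hy', rfl⟩, he⟩ := hu
    exact ⟨y', hy', he.symm⟩
  have hiter : ∀ (j : ℕ) (y : ↥S), (y : Ω) ∈ M → ∃ y' : ↥S, (y' : Ω) ∈ M ∧ lam y = lam y' ^ (p ^ j) := by
    intro j
    induction j with
    | zero =>
      intro y hy
      exact ⟨y, hy, by simp⟩
    | succ j ih =>
      intro y hy
      obtain ⟨y₁, hy₁, he₁⟩ := ih y hy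
      obtain ⟨y₂, hy₂, he₂⟩ := hstep y₁ hy₁
      refine ⟨y₂, hy₂, ?_⟩
      rw [he₁, he₂, ← pow_mul, pow_succ, mul_comm]
  intro y hy
  obtain ⟨y', -, he⟩ := hiter k ⟨y, hMS hy⟩ hy
  have h1 : lam ⟨y, hMS hy⟩ = 1 := by
    rw [he, ← hk]
    exact pow_card_eq_one'
  have h2 : (⟨y, hMS hy⟩ : ↥S) ∈ lam.ker := h1
  rw [hker] at h2
  exact h2

/-- The first equivalence of Tate's theorem. -/
theorem tate_foc [Finite S] (hS : IsPGroup p S) {F H : FusionSystem S} (hF : F.IsSaturated p) (hH : H.IsSaturated p)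
    (hHF : H.IsSubsystemOf F)
    (h : (frattini ↥S).map S.subtype ⊔ F.focalSubgroup = (frattini ↥S).map S.subtype ⊔ H.focalSubgroup) :
    F.focalSubgroup = H.focalSubgroup := by
  have hp : p.Prime := Fact.out
  refine le_antisymm ?_ (foc_le_of_subsystem hHF)
  set M := F.focalSubgroup with hM
  set N := H.focalSubgroup with hN
  have hNM : N ≤ M := foc_le_of_subsystem hHF
  have hMS : M ≤ S := by
    rw [hM, focal_eq hS hF]
    refine sup_le hyperfocal_le ?_
    rw [Subgroup.commutator_le]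
    intro a ha b hb
    rw [commutatorElement_def]
    exact S.mul_mem (S.mul_mem (S.mul_mem ha hb) (S.inv_mem ha)) (S.inv_mem hb)
  have hNS : N ≤ S := hNM.trans hMS
  have hSS : ⁅S, S⁆ ≤ N := by
    rw [hN, focal_eq hS hH]
    exact le_sup_right
  set Pw : Subgroup Ω := Subgroup.closure {z | ∃ y ∈ M, z = y ^ p} with hPw
  set R : Subgroup Ω := N ⊔ Pw with hR
  have hNR : N ≤ R := le_sup_left
  have hc : commutator ↥S ≤ R.subgroupOf S := by
    intro x hx
    have h1 : (x : Ω) ∈ ⁅S, S⁆ := by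
      rw [← map_commutator_coe]
      exact ⟨x, hx, rfl⟩
    exact hNR (hSS h1)
  obtain ⟨A, iA, lam, hsurj, hker⟩ := exists_quot_ab (R.subgroupOf S) hc
  have hA : IsPGroup p A := hS.of_surjective lam hsurj
  obtain ⟨X, i1, i2, hXs, hmark, hfree, hm⟩ := exists_char hS hF
  have hX := biC_of_char hS hF hXs hmark
  set m := Nat.card (Uq ↥S X) with hmdef
  set ν : ↥S →* A := bisetTr hfree lam with hν
  have hνM : ∀ y : ↥S, (y : Ω) ∈ M → ν y = 1 := by
    intro y hy
    obtain ⟨h, h1⟩ := foc_le_ker (hS := hS) (hF := hF) hXs hmark hfree lam hy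
    exact h1
  have hlamR : ∀ y : ↥S, (y : Ω) ∈ R → lam y = 1 := by
    intro y hy
    have : y ∈ lam.ker := by
      rw [hker]
      exact hy
    exact this
  have hRlam : ∀ y : ↥S, lam y = 1 → (y : Ω) ∈ R := by
    intro y hy
    have : y ∈ lam.ker := hy
    rw [hker] at this
    exact this
  let κ : ↥S →* A := ν * (lam ^ m)⁻¹
  have hκ : ∀ x, κ x = ν x * (lam x ^ m)⁻¹ := fun x => rfl
  let K : Subgroup A := (M.subgroupOf S).map lam
  let π : A →* A ⧸ K := QuotientGroup.mk' K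
  have hπinv : LamInv F (π.comp lam) := by
    apply lamInv_of_foc
    intro y hy
    refine mem_labT.2 ⟨hMS hy, ?_⟩
    exact (QuotientGroup.eq_one_iff _).2 ⟨⟨y, hMS hy⟩, hy, rfl⟩
  have hκK : ∀ x, κ x ∈ K := by
    intro x
    have h1 := bisetTr_comp_hom hfree lam π x
    have h2 := hX.bisetTr_inv hS hF hm hfree (π.comp lam) hπinv x
    rw [h1] at h2
    have h3 : π (κ x) = 1 := by
      rw [hκ, map_mul, map_inv, map_pow]
      show π (bisetTr hfree lam x) * _ = 1
      rw [h2]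
      exact mul_inv_cancel _
    exact (QuotientGroup.eq_one_iff _).1 h3
  have hκp : ∀ x, κ x ^ p = 1 := by
    intro x
    obtain ⟨y, hy, he⟩ := hκK x
    rw [← he, ← map_pow]
    apply hlamR
    have hy' : (y : Ω) ∈ M := hy
    have : ((y ^ p : ↥S) : Ω) = (y : Ω) ^ p := by simp
    rw [this]
    exact (le_sup_right : Pw ≤ R) (Subgroup.subset_closure ⟨_, hy', rfl⟩)
  have hfr : frattini ↥S ≤ κ.ker := by
    haveI : κ.ker.Normal := MonoidHom.normal_ker κ
    refine Cfsg.Agent.H01.frattini_le_of_comm_pow (p := p) κ.ker ?_ (fun x => ?_)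
    · rw [commutator_def, Subgroup.commutator_le]
      intro a _ b _
      rw [MonoidHom.mem_ker, map_commutatorElement, commutatorElement_eq_one_iff_mul_comm]
      exact mul_comm _ _
    · rw [MonoidHom.mem_ker, map_pow]
      exact hκp x
  set B : Subgroup Ω := κ.ker.map S.subtype with hB
  have hmemB : ∀ y : ↥S, κ y = 1 → (y : Ω) ∈ B := fun y hy => ⟨y, hy, rfl⟩
  have hBκ : ∀ y : ↥S, (y : Ω) ∈ B → κ y = 1 := by
    rintro y ⟨z, hz, he⟩
    have : z = y := Subtype.ext he
    rw [← this]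
    exact hz
  have hNB : N ≤ B := by
    intro y hy
    have hyT := hNS hy
    refine hmemB ⟨y, hyT⟩ ?_
    rw [hκ, hνM ⟨y, hyT⟩ (hNM hy), hlamR ⟨y, hyT⟩ (hNR hy)]
    simp
  have hMB : M ≤ B :=
    le_sup_right.trans (h.le.trans (sup_le (Subgroup.map_mono hfr) hNB))
  have hMR : M ≤ R := by
    intro y hy
    have hyT := hMS hy
    apply hRlam ⟨y, hyT⟩
    have h1 := hBκ ⟨y, hyT⟩ (hMB hy)
    rw [hκ, hνM ⟨y, hyT⟩ hy, one_mul, inv_eq_one] at h1
    have h2 : lam ⟨y, hyT⟩ ^ m = (1 : A) ^ m := by rw [h1, one_pow]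
    exact pow_inj_of_pgroup hA hm h2
  exact le_of_le_sup_pow hS hMS hNS hSS hMR

/-- The second equivalence of Tate's theorem (the difficult direction). -/
theorem tate_hyp (n : ℕ) : ∀ (S : Subgroup Ω) [Finite S] (F H : FusionSystem S), IsPGroup p S → F.IsSaturated p →
    H.IsSaturated p → H.IsSubsystemOf F → F.focalSubgroup = H.focalSubgroup → Nat.card S = n →
    F.hyperfocalSubgroup p = H.hyperfocalSubgroup p := by
  induction n using Nat.strong_induction_on with
  | _ n ih =>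
  intro S _ F H hS hF hH hHF hfoc hn
  have hp : p.Prime := Fact.out
  have hDF : H.hyperfocalSubgroup p ≤ F.hyperfocalSubgroup p := hyp_le_of_subsystem hHF
  have hDS : H.hyperfocalSubgroup p ≤ S := hyperfocal_le
  by_cases hD : H.hyperfocalSubgroup p = S
  · refine le_antisymm ?_ hDF
    rw [hD]
    exact hyperfocal_le
  have hne : (H.hyperfocalSubgroup p).subgroupOf S ≠ ⊤ := by
    intro h
    apply hD
    rw [Subgroup.subgroupOf_eq_top] at h
    exact le_antisymm hDS h
  obtain ⟨M, hM, hDM⟩ := (eq_top_or_exists_le_coatom _).resolve_left hne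
  obtain ⟨hMn, hMi⟩ := Cfsg.Agent.H01.isCoatom_normal_index hS hM
  let T : Subgroup Ω := M.map S.subtype
  have hTS : T ≤ S := by
    rintro _ ⟨a, -, rfl⟩
    exact a.2
  have hTo : T.subgroupOf S = M := by
    ext x
    constructor
    · rintro ⟨a, ha, he⟩
      have : a = x := Subtype.ext he
      rwa [← this]
    · intro hx
      exact ⟨x, hx, rfl⟩
  have hTn : (T.subgroupOf S).Normal := by
    rw [hTo]
    exact hMn
  haveI hfT : Finite T := finite_of_le hTS
  have hTp : IsPGroup p T := hS.of_injective (Subgroup.inclusion hTS) (Subgroup.inclusion_injective _)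
  have hDT : H.hyperfocalSubgroup p ≤ T := by
    intro x hx
    exact ⟨⟨x, hDS hx⟩, hDM hx, rfl⟩
  have hSS : ⁅S, S⁆ ≤ T := by
    rw [← map_commutator_coe]
    exact Subgroup.map_mono ((Cfsg.Agent.H01.commutator_le_frattini_of_isPGroup hS).trans (frattini_le_coatom hM))
  have hcyc : IsCyclic (↥S ⧸ T.subgroupOf S) := by
    have hcard : Nat.card (↥S ⧸ T.subgroupOf S) = p := by
      show (T.subgroupOf S).index = p
      rw [hTo]
      exact hMi
    exact isCyclic_of_prime_card hcard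
  have hfocH : H.focalSubgroup = H.hyperfocalSubgroup p ⊔ ⁅S, S⁆ := focal_eq hS hH
  have hFT : F.hyperfocalSubgroup p ≤ T := by
    refine (hyp_le_foc F p).trans ?_
    rw [hfoc, hfocH]
    exact sup_le hDT hSS
  obtain ⟨E₁, hE₁s, hE₁⟩ := exists_ppower _ S F hS hF T hTS hFT rfl
  obtain ⟨E₂, hE₂s, hE₂⟩ := exists_ppower _ S H hS hH T hTS hDT rfl
  have hE₂F : E₂.IsSubsystemOf F := fun P => (hE₂.1 P).trans (hHF P)
  have hle : E₂ ≤ E₁ := le_of_residual hTp hE₂s (fun Q hQ =>
    (pRes_mono (autGroup_le_of_subsystem hE₂F Q)).trans (hE₁.2.2 Q hQ))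
  have hE₂₁ : E₂.IsSubsystemOf E₁ := fun P => hle P
  have hhyp₁ : E₁.hyperfocalSubgroup p = F.hyperfocalSubgroup p :=
    hyp_eq_of_ppower hS hTS hTn (stronglyClosed_of_normal hS hF hTS hTn hFT) hE₁
  have hhyp₂ : E₂.hyperfocalSubgroup p = H.hyperfocalSubgroup p :=
    hyp_eq_of_ppower hS hTS hTn (stronglyClosed_of_normal hS hH hTS hTn hDT) hE₂
  have hfocE₂ : E₂.focalSubgroup = H.hyperfocalSubgroup p ⊔ ⁅T, T⁆ := by
    rw [focal_eq hTp hE₂s, hhyp₂]
  have hNn : (E₂.focalSubgroup.subgroupOf S).Normal := by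
    constructor
    intro x hx s
    show (s : Ω) * x * (s : Ω)⁻¹ ∈ E₂.focalSubgroup
    have hle : E₂.focalSubgroup ≤ E₂.focalSubgroup.comap (MulAut.conj (s : Ω)).toMonoidHom := by
      conv_lhs => rw [hfocE₂]
      refine sup_le ?_ ?_
      · intro y hy
        show (s : Ω) * y * (s : Ω)⁻¹ ∈ E₂.focalSubgroup
        rw [hfocE₂]
        exact Subgroup.mem_sup_left (hyperfocal_conj s.2 hy)
      · rw [Subgroup.commutator_le]
        intro a ha b hb
        show (s : Ω) * ⁅a, b⁆ * (s : Ω)⁻¹ ∈ E₂.focalSubgroup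
        rw [hfocE₂]
        refine Subgroup.mem_sup_right ?_
        have e : (s : Ω) * ⁅a, b⁆ * (s : Ω)⁻¹ = ⁅(s : Ω) * a * (s : Ω)⁻¹, (s : Ω) * b * (s : Ω)⁻¹⁆ := by
          simp only [commutatorElement_def]
          group
        rw [e]
        exact Subgroup.commutator_mem_commutator (conj_mem_of_normal hTn s.2 (hTS ha) ha)
          (conj_mem_of_normal hTn s.2 (hTS hb) hb)
    exact hle hx
  have hstep : E₁.focalSubgroup ≤ E₂.focalSubgroup := by
    refine foc_step hS hF hTS hTn hcyc hE₁s hE₁ ?_ (foc_le_of_subsystem hE₂₁) hNn ?_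
    · rw [hfocE₂]
      exact le_sup_right
    · rw [hfoc, hfocH]
      refine sup_le_sup_right ?_ _
      rw [hfocE₂]
      exact le_sup_left
  have hfocT : E₁.focalSubgroup = E₂.focalSubgroup := le_antisymm hstep (foc_le_of_subsystem hE₂₁)
  have hcard : Nat.card T < n := by
    have h1 : Nat.card T = Nat.card M :=
      Nat.card_congr (Subgroup.equivMapOfInjective M S.subtype S.subtype_injective).symm.toEquiv
    have h2 := Subgroup.card_mul_index M
    rw [hMi] at h2
    rw [h1, ← hn, ← h2]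
    have h3 : 0 < Nat.card M := Nat.card_pos
    have h4 := hp.two_le
    nlinarith
  have hIH := ih _ hcard T E₁ E₂ hTp hE₁s hE₂s hE₂₁ hfocT rfl
  rw [← hhyp₁, ← hhyp₂, hIH]

/-- **Tate's theorem** for fusion systems. -/
theorem tate_main [Finite S] (hS : IsPGroup p S) (F : FusionSystem S) (hF : F.IsSaturated p) (H : FusionSystem S)
    (hH : H.IsSaturated p) (hHF : H.IsSubsystemOf F) :
    (((frattini ↥S).map S.subtype ⊔ F.focalSubgroup) = ((frattini ↥S).map S.subtype ⊔ H.focalSubgroup) ↔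
      F.focalSubgroup = H.focalSubgroup) ∧
    (F.focalSubgroup = H.focalSubgroup ↔ F.hyperfocalSubgroup p = H.hyperfocalSubgroup p) := by
  refine ⟨⟨tate_foc hS hF hH hHF, fun h => by rw [h]⟩, ⟨fun h => tate_hyp _ S F H hS hF hH hHF h rfl, fun h => ?_⟩⟩
  rw [focal_eq hS hF, focal_eq hS hH, h]

end Cfsg.Agent.H24
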