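import Mathlib
import Cfsg.Agent.Lib.H01.Basic

/-!
A homomorphism on a maximal subgroup with nontrivial norm produces a quotient isomorphic to a Sylow `p`-subgroup of
the symmetric group of degree `p²`.
-/

set_option autoImplicit false
set_option linter.style.haveILetI false

namespace Cfsg.Agent.H24

open Polynomial

section Circ

variable {p : ℕ} [Fact p.Prime]

/-- The cyclic shift. -/
def shL : (ZMod p → ZMod p) →ₗ[ZMod p] (ZMod p → ZMod p) where
  toFun u i := u (i - 1)
  map_add' _ _ := rfl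
  map_smul' _ _ := rfl

theorem shL_apply (u : ZMod p → ZMod p) (i : ZMod p) : (shL u) i = u (i - 1) := rfl

theorem shL_pow_apply (k : ℕ) (u : ZMod p → ZMod p) (i : ZMod p) : ((shL (p := p)) ^ k) u i = u (i - k) := by
  induction k generalizing u with
  | zero => simp
  | succ k ih =>
    rw [pow_succ, Module.End.mul_apply, ih, shL_apply]
    congr 1
    push_cast
    ring

theorem shL_pow_p : (shL (p := p)) ^ p = 1 := by
  apply LinearMap.ext
  intro u
  funext i
  rw [shL_pow_apply, Module.End.one_apply]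
  simp

/-- A shift invariant subgroup containing a vector with nonzero coordinate sum is everything. -/
theorem circ_top (W : AddSubgroup (ZMod p → ZMod p)) (hW : ∀ u ∈ W, shL u ∈ W) {v : ZMod p → ZMod p}
    (hv : v ∈ W) (hc : ∑ i, v i ≠ 0) : W = ⊤ := by
  classical
  have hp : p.Prime := Fact.out
  let P : (ZMod p)[X] := ∑ i : ZMod p, C (v i) * X ^ i.val
  let O : Module.End (ZMod p) (ZMod p → ZMod p) := aeval (shL (p := p)) P
  have hO : ∀ w, O w = ∑ i : ZMod p, v i • (((shL (p := p)) ^ i.val) w) := by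
    intro w
    show (aeval (shL (p := p)) P) w = _
    simp only [P, map_sum, map_mul, aeval_C, map_pow, aeval_X, LinearMap.sum_apply]
    refine Finset.sum_congr rfl (fun i _ => ?_)
    rw [Module.End.mul_apply, Module.algebraMap_end_apply]
  have hsm : ∀ (a : ZMod p) (u), u ∈ W → a • u ∈ W := by
    intro a u hu
    have e : a • u = a.val • u := by
      rw [← Nat.cast_smul_eq_nsmul (ZMod p), ZMod.natCast_zmod_val]
    rw [e]
    exact W.nsmul_mem hu _
  have hshk : ∀ (k : ℕ) (u), u ∈ W → ((shL (p := p)) ^ k) u ∈ W := by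
    intro k
    induction k with
    | zero => intro u hu; simpa using hu
    | succ k ih =>
      intro u hu
      rw [pow_succ, Module.End.mul_apply]
      exact ih _ (hW u hu)
  have hOW : ∀ w ∈ W, O w ∈ W := by
    intro w hw
    rw [hO]
    exact W.sum_mem (fun i _ => hsm _ _ (hshk _ _ hw))
  have hOk : ∀ (k : ℕ) (w), w ∈ W → (O ^ k) w ∈ W := by
    intro k
    induction k with
    | zero => intro u hu; simpa using hu
    | succ k ih =>
      intro u hu
      rw [pow_succ, Module.End.mul_apply]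
      exact ih _ (hOW u hu)
  let δ : ZMod p → ZMod p := Pi.single 0 1
  have hshδ : ∀ i : ZMod p, ((shL (p := p)) ^ i.val) δ = Pi.single i 1 := by
    intro i
    ext j
    rw [shL_pow_apply, ZMod.natCast_zmod_val]
    by_cases h : j = i
    · subst h
      simp [δ]
    · have h' : j - i ≠ 0 := sub_ne_zero.2 h
      simp [δ, h, h']
  have hOδ : O δ = v := by
    rw [hO]
    ext j
    simp only [hshδ, Finset.sum_apply, Pi.smul_apply, smul_eq_mul]
    rw [Finset.sum_eq_single j]
    · simp
    · intro i _ hij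
      simp [Ne.symm hij]
    · simp
  have hpow : O ^ p = algebraMap (ZMod p) _ (∑ i, v i) := by
    have h1 : O ^ p = aeval (shL (p := p)) (P ^ p) := by
      rw [map_pow]
    rw [h1, ← ZMod.expand_card, expand_aeval, shL_pow_p]
    simp only [P, map_sum, map_mul, aeval_C, map_pow, aeval_X, one_pow, mul_one]
  have h2 : (∑ i, v i) • δ ∈ W := by
    have h3 : (O ^ p) δ = (∑ i, v i) • δ := by
      rw [hpow, Module.algebraMap_end_apply]
    rw [← h3]
    have e : O ^ p = O ^ (p - 1) * O := by
      rw [← pow_succ, Nat.sub_add_cancel hp.one_le]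
    rw [e, Module.End.mul_apply, hOδ]
    exact hOk _ _ hv
  have hδ : δ ∈ W := by
    have := hsm (∑ i, v i)⁻¹ _ h2
    rwa [smul_smul, inv_mul_cancel₀ hc, one_smul] at this
  rw [eq_top_iff]
  intro u _
  have e : u = ∑ i : ZMod p, u i • (Pi.single i 1 : ZMod p → ZMod p) := by
    ext j
    simp only [Finset.sum_apply, Pi.smul_apply, smul_eq_mul]
    rw [Finset.sum_eq_single j]
    · simp
    · intro i _ hij
      simp [Ne.symm hij]
    · simp
  rw [e]
  refine W.sum_mem (fun i _ => hsm _ _ ?_)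
  rw [← hshδ]
  exact hshk _ _ hδ

end Circ

section Wreath

variable {G : Type*} [Group G] [Finite G] {p : ℕ} [Fact p.Prime]

theorem factorization_factorial_sq (hp : p.Prime) : ((p ^ 2).factorial).factorization p = p + 1 := by
  have h1 : (p * p).factorial.factorization p = p.factorial.factorization p + p := Nat.factorization_factorial_mul hp
  have h2 : (p * 1).factorial.factorization p = (1 : ℕ).factorial.factorization p + 1 := Nat.factorization_factorial_mul hp
  rw [mul_one] at h2
  simp only [Nat.factorial_one, Nat.factorization_one, Finsupp.coe_zero, Pi.zero_apply, zero_add] at h2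
  rw [pow_two, h1, h2]
  ring

/-- Conjugation on a normal subgroup. -/
def cjM {M : Subgroup G} (hM : M.Normal) (g : G) : M →* M where
  toFun z := ⟨g⁻¹ * z * g, by
    have := hM.conj_mem z z.2 g⁻¹
    simpa using this⟩
  map_one' := by
    apply Subtype.ext
    simp
  map_mul' a b := by
    apply Subtype.ext
    show g⁻¹ * (a * b) * g = g⁻¹ * a * g * (g⁻¹ * b * g)
    group

theorem cjM_coe {M : Subgroup G} (hM : M.Normal) (g : G) (z : M) : ((cjM hM g z : M) : G) = g⁻¹ * z * g := rfl

/-- The value of a homomorphism to an abelian group after conjugation depends only on the coset. -/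
theorem rho_cjM {M : Subgroup G} (hM : M.Normal) {C : Type*} [CommGroup C] (ρ : M →* C) {g h : G} (hgh : g⁻¹ * h ∈ M)
    (z : M) : ρ (cjM hM h z) = ρ (cjM hM g z) := by
  let m : M := ⟨g⁻¹ * h, hgh⟩
  have e : cjM hM h z = m⁻¹ * cjM hM g z * m := by
    apply Subtype.ext
    show h⁻¹ * z * h = (g⁻¹ * h)⁻¹ * (g⁻¹ * z * g) * (g⁻¹ * h)
    group
  rw [e, map_mul, map_mul, map_inv]
  rw [mul_comm (ρ m)⁻¹, mul_assoc, inv_mul_cancel, mul_one]

/-- The main construction. -/
theorem wreath_of_norm (hG : IsPGroup p G) {M : Subgroup G} (hMn : M.Normal) (hMi : M.index = p)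
    (ρ : M →* Multiplicative (ZMod p)) (y : M) {x : G} (hx : x ∉ M)
    (hne : ∏ i : ZMod p, ρ (cjM hMn (x ^ i.val) y) ≠ 1) :
    ∃ (W : Sylow p (Equiv.Perm (Fin (p ^ 2)))) (f : G →* ↥(W : Subgroup (Equiv.Perm (Fin (p ^ 2))))),
      Function.Surjective f := by
  classical
  have hp : p.Prime := Fact.out
  haveI := hMn
  have hxp : ∀ g : G, g ^ p ∈ M := by
    intro g
    have hcard : Nat.card (G ⧸ M) = p := hMi
    rw [← QuotientGroup.eq_one_iff, QuotientGroup.mk_pow, ← hcard, pow_card_eq_one']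
  -- the coordinates
  let Θ : M → (ZMod p → ZMod p) := fun z i => Multiplicative.toAdd (ρ (cjM hMn (x ^ i.val) z))
  have hΘmul : ∀ a b, Θ (a * b) = Θ a + Θ b := by
    intro a b
    ext i
    simp only [Θ, map_mul, toAdd_mul, Pi.add_apply]
  have hΘone : Θ 1 = 0 := by
    ext i
    simp [Θ]
  have hΘinv : ∀ a, Θ a⁻¹ = - Θ a := by
    intro a
    ext i
    simp [Θ]
  let W' : AddSubgroup (ZMod p → ZMod p) :=
    { carrier := Set.range Θ
      add_mem' := by
        rintro _ _ ⟨a, rfl⟩ ⟨b, rfl⟩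
        exact ⟨a * b, hΘmul a b⟩
      zero_mem' := ⟨1, hΘone⟩
      neg_mem' := by
        rintro _ ⟨a, rfl⟩
        exact ⟨a⁻¹, hΘinv a⟩ }
  have hsh : ∀ u ∈ W', shL u ∈ W' := by
    rintro _ ⟨z, rfl⟩
    refine ⟨cjM hMn x⁻¹ z, ?_⟩
    ext i
    rw [shL_apply]
    show Multiplicative.toAdd (ρ (cjM hMn (x ^ i.val) (cjM hMn x⁻¹ z))) =
      Multiplicative.toAdd (ρ (cjM hMn (x ^ (i - 1).val) z))
    congr 1
    have e : cjM hMn (x ^ i.val) (cjM hMn x⁻¹ z) = cjM hMn (x⁻¹ * x ^ i.val) z := by
      apply Subtype.ext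
      show (x ^ i.val)⁻¹ * (x⁻¹⁻¹ * z * x⁻¹) * x ^ i.val = (x⁻¹ * x ^ i.val)⁻¹ * z * (x⁻¹ * x ^ i.val)
      group
    rw [e]
    apply rho_cjM
    -- exponents differ by a multiple of `p`
    have hdvd : (p : ℤ) ∣ ((i.val : ℤ) - 1) - ((i - 1).val : ℤ) := by
      rw [← ZMod.intCast_zmod_eq_zero_iff_dvd]
      push_cast
      simp
    obtain ⟨k, hk⟩ := hdvd
    have e2 : (x ^ (i - 1).val)⁻¹ * (x⁻¹ * x ^ i.val) = (x ^ p) ^ k := by
      rw [← zpow_natCast x p, ← zpow_mul, ← hk]
      rw [← zpow_natCast x (i - 1).val, ← zpow_natCast x i.val, ← zpow_neg, ← zpow_neg_one, ← zpow_add, ← zpow_add]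
      congr 1
      ring
    rw [e2]
    exact M.zpow_mem (hxp x) k
  have hsum : ∑ i, Θ y i ≠ 0 := by
    intro h
    apply hne
    have : Multiplicative.toAdd (∏ i : ZMod p, ρ (cjM hMn (x ^ i.val) y)) = 0 := by
      rw [toAdd_prod]
      exact h
    exact Multiplicative.toAdd.injective this
  have htop : W' = ⊤ := circ_top W' hsh ⟨y, rfl⟩ hsum
  have hΘsurj : Function.Surjective Θ := by
    intro u
    have : u ∈ W' := by rw [htop]; trivial
    exact this
  let Ψ : M →* Multiplicative (ZMod p → ZMod p) :=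
    { toFun := fun z => Multiplicative.ofAdd (Θ z)
      map_one' := by rw [hΘone]; rfl
      map_mul' := fun a b => by rw [hΘmul]; rfl }
  have hΨsurj : Function.Surjective Ψ := fun u => by
    obtain ⟨z, hz⟩ := hΘsurj (Multiplicative.toAdd u)
    exact ⟨z, by show Multiplicative.ofAdd (Θ z) = u; rw [hz]; rfl⟩
  have hcardV : Nat.card (Multiplicative (ZMod p → ZMod p)) = p ^ p := by
    show Nat.card (ZMod p → ZMod p) = p ^ p
    rw [Nat.card_fun, Nat.card_zmod]
  have hcardM : Nat.card M = Nat.card Ψ.ker * p ^ p := by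
    rw [← hcardV, ← Subgroup.card_mul_index Ψ.ker, Subgroup.index_ker, MonoidHom.range_eq_top.2 hΨsurj, Subgroup.card_top]
  have hcardG : Nat.card G = Nat.card M * p := by
    rw [← hMi, Subgroup.card_mul_index]
  -- the kernel of the homomorphism
  let L : Subgroup G := ρ.ker.map M.subtype
  have hLM : L ≤ M := by
    rintro _ ⟨a, -, rfl⟩
    exact a.2
  have hρne : ρ ≠ 1 := by
    rintro rfl
    apply hne
    simp
  have hρrange : Nat.card ρ.range = p := by
    have h1 : Nat.card ρ.range ∣ Nat.card (Multiplicative (ZMod p)) := Subgroup.card_subgroup_dvd_card _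
    have h2 : Nat.card (Multiplicative (ZMod p)) = p := by
      show Nat.card (ZMod p) = p
      exact Nat.card_zmod p
    rw [h2] at h1
    rcases (Nat.dvd_prime hp).1 h1 with h3 | h3
    · exfalso
      apply hρne
      have h4 : ρ.range = ⊥ := Subgroup.card_eq_one.1 h3
      exact MonoidHom.range_eq_bot_iff.1 h4
    · exact h3
  have hLindex : L.index = p ^ 2 := by
    have h1 : L.subgroupOf M = ρ.ker := by
      ext z
      constructor
      · rintro ⟨a, ha, he⟩
        have : a = z := Subtype.ext he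
        rwa [← this]
      · intro hz
        exact ⟨z, hz, rfl⟩
    have h2 : (L.subgroupOf M).index = p := by
      rw [h1, Subgroup.index_ker, hρrange]
    have h3 := Subgroup.relIndex_mul_index hLM
    rw [Subgroup.relIndex, h2, hMi] at h3
    rw [← h3, pow_two]
  have hcardQ : Nat.card (G ⧸ L) = p ^ 2 := hLindex
  haveI : Finite (G ⧸ L) := inferInstance
  let e : (G ⧸ L) ≃ Fin (p ^ 2) := Finite.equivFinOfCardEq hcardQ
  let f₀ : G →* Equiv.Perm (G ⧸ L) := MulAction.toPermHom G (G ⧸ L)
  let f₁ : G →* Equiv.Perm (Fin (p ^ 2)) := (e.permCongrHom).toMonoidHom.comp f₀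
  have hkerf : ∀ z ∈ f₁.ker, ∀ g : G, g⁻¹ * z * g ∈ L := by
    intro z hz g
    have h1 : f₀ z = 1 := by
      have h2 : e.permCongrHom (f₀ z) = 1 := hz
      exact (map_eq_one_iff _ e.permCongrHom.injective).1 h2
    have h2 : z • ((g : G) : G ⧸ L) = ((g : G) : G ⧸ L) := by
      have := congrArg (fun τ : Equiv.Perm (G ⧸ L) => τ ((g : G) : G ⧸ L)) h1
      exact this
    have h3 : ((z * g : G) : G ⧸ L) = ((g : G) : G ⧸ L) := h2
    have h4 := QuotientGroup.eq.1 h3
    have h5 := L.inv_mem h4
    have e5 : ((z * g)⁻¹ * g)⁻¹ = g⁻¹ * z * g := by group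
    rwa [e5] at h5
  -- counting
  have hKle : Nat.card f₁.ker ≤ Nat.card Ψ.ker := by
    have hzM : ∀ z : f₁.ker, (z : G) ∈ M := by
      intro z
      have := hkerf z z.2 1
      simp only [inv_one, one_mul, mul_one] at this
      exact hLM this
    refine Nat.card_le_card_of_injective (fun z => (⟨⟨z, hzM z⟩, ?_⟩ : Ψ.ker)) ?_
    · show Multiplicative.ofAdd (Θ _) = 1
      have : Θ ⟨z, hzM z⟩ = 0 := by
        ext i
        show Multiplicative.toAdd (ρ (cjM hMn (x ^ i.val) ⟨z, hzM z⟩)) = 0
        obtain ⟨a, ha, he⟩ := hkerf z z.2 (x ^ i.val)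
        have e' : cjM hMn (x ^ i.val) ⟨z, hzM z⟩ = a := Subtype.ext he.symm
        rw [e', show ρ a = 1 from ha]
        rfl
      rw [this]
      rfl
    · intro a b h
      apply Subtype.ext
      have := congrArg (fun w : Ψ.ker => (((w : M) : G))) h
      exact this
  have hI : p ^ (p + 1) ≤ Nat.card f₁.range := by
    have h1 := Subgroup.card_mul_index f₁.ker
    rw [Subgroup.index_ker] at h1
    have hpos : 0 < Nat.card f₁.ker := Nat.card_pos
    have h2 : Nat.card f₁.ker * p ^ (p + 1) ≤ Nat.card f₁.ker * Nat.card f₁.range := by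
      have e : p ^ (p + 1) = p ^ p * p := pow_succ p p
      rw [h1, hcardG, hcardM, e, ← mul_assoc]
      exact Nat.mul_le_mul_right _ (Nat.mul_le_mul_right _ hKle)
    exact Nat.le_of_mul_le_mul_left h2 hpos
  have hIp : IsPGroup p f₁.range := hG.of_surjective f₁.rangeRestrict f₁.rangeRestrict_surjective
  obtain ⟨W, hW⟩ := hIp.exists_le_sylow
  have hWcard : Nat.card (W : Subgroup (Equiv.Perm (Fin (p ^ 2)))) = p ^ (p + 1) := by
    rw [Sylow.card_eq_multiplicity, Nat.card_eq_fintype_card, Fintype.card_perm, Fintype.card_fin,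
      factorization_factorial_sq hp]
  have hrange : f₁.range = W := Subgroup.eq_of_le_of_card_ge hW (by rw [hWcard]; exact hI)
  refine ⟨W, f₁.codRestrict _ (fun g => hW ⟨g, rfl⟩), ?_⟩
  rintro ⟨w, hw⟩
  have hw' : w ∈ f₁.range := by rw [hrange]; exact hw
  obtain ⟨g, hg⟩ := hw'
  exact ⟨g, Subtype.ext hg⟩

/-- The form used in applications: without such a quotient, norms from maximal subgroups vanish. -/
theorem norm_eq_one_of_no_wreath (hG : IsPGroup p G)
    (hW : ¬ ∃ (W : Sylow p (Equiv.Perm (Fin (p ^ 2)))) (f : G →* ↥(W : Subgroup (Equiv.Perm (Fin (p ^ 2))))),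
      Function.Surjective f) {M : Subgroup G} (hM : IsCoatom M) (hMn : M.Normal) [Fintype (G ⧸ M)]
    (ρ : M →* Multiplicative (ZMod p)) (y : M) :
    ∏ c : G ⧸ M, ρ (cjM hMn (Quotient.out c) y) = 1 := by
  classical
  have hp : p.Prime := Fact.out
  haveI := hMn
  obtain ⟨-, hMi⟩ := Cfsg.Agent.H01.isCoatom_normal_index hG hM
  obtain ⟨x, hx⟩ : ∃ x, x ∉ M := by
    by_contra h
    push Not at h
    exact hM.1 (eq_top_iff.mpr fun x _ => h x)
  by_contra hne
  apply hW
  refine wreath_of_norm hG hMn hMi ρ y hx ?_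
  intro h1
  apply hne
  have hcard : Nat.card (G ⧸ M) = p := hMi
  -- the bijection
  let b : ZMod p → G ⧸ M := fun i => ((x ^ i.val : G) : G ⧸ M)
  have hxne : ((x : G) : G ⧸ M) ≠ 1 := fun h => hx ((QuotientGroup.eq_one_iff x).1 h)
  have hord : orderOf ((x : G) : G ⧸ M) = p := by
    have h2 : orderOf ((x : G) : G ⧸ M) ∣ p := by
      have := orderOf_dvd_natCard ((x : G) : G ⧸ M)
      rwa [hcard] at this
    rcases (Nat.dvd_prime hp).1 h2 with h3 | h3
    · exact absurd (orderOf_eq_one_iff.1 h3) hxne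
    · exact h3
  have hbinj : Function.Injective b := by
    intro i j hij
    have h2 : ((x : G) : G ⧸ M) ^ i.val = ((x : G) : G ⧸ M) ^ j.val := by
      simpa [b] using hij
    have h3 := pow_inj_mod.1 h2
    rw [hord, Nat.mod_eq_of_lt (ZMod.val_lt i), Nat.mod_eq_of_lt (ZMod.val_lt j)] at h3
    exact ZMod.val_injective p h3
  have hbij : Function.Bijective b := by
    rw [Fintype.bijective_iff_injective_and_card]
    refine ⟨hbinj, ?_⟩
    rw [ZMod.card, ← Nat.card_eq_fintype_card, hcard]
  rw [← hbij.prod_comp]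
  convert h1 using 2 with i
  apply rho_cjM
  have h3 : ((Quotient.out (b i) : G) : G ⧸ M) = ((x ^ i.val : G) : G ⧸ M) := by
    have : ((Quotient.out (b i) : G) : G ⧸ M) = b i := Quotient.out_eq _
    exact this
  have h4 := QuotientGroup.eq.1 h3
  have h5 := M.inv_mem h4
  simpa using h5

end Wreath

end Cfsg.Agent.H24
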