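import Mathlib
import Cfsg.Agent.Lib.H24.WreathQ
import Cfsg.Agent.Lib.H24.TensM

/-!
The transfer of a characteristic set on homomorphisms to a group of order `p`, for `p`-groups without quotient
`C_p ≀ C_p`: only the fixed points of the group contribute at elements of minimal order outside the kernel.
-/

set_option autoImplicit false
set_option linter.style.haveILetI false

namespace Cfsg.Agent.H24

open Cfsg Cfsg.FusionSystem Cfsg.Agent.H25

universe u w

section Gen

variable {G : Type u} [Group G] {X : Type u} [MulAction (G × G) X]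

/-- The action of the first factor on the orbits of the second factor. -/
instance lqAct : MulAction G (Uq G X) where
  smul := lq
  one_smul := lq_one
  mul_smul := lq_mul

theorem smul_eq_lq (g : G) (u : Uq G X) : g • u = lq g u := rfl

variable {r : Uq G X → X} (hf : RFree G X) (hr : IsSec r)

include hf in
theorem ccY_one (u : Uq G X) : cc hr (1 : G) u = 1 := by
  apply cc_eq (hf := hf)
  rw [lq_one, inv_one]

include hf in
theorem cc_mul' (x y : G) (u : Uq G X) : cc hr (x * y) u = cc hr x (y • u) * cc hr y u := cc_mul (hf := hf) hr x y u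

variable {A : Type w} [CommGroup A] (lam : G →* A)

include hf in
theorem lam_cc_inv (g : G) (u : Uq G X) : lam (cc hr g⁻¹ (g • u)) * lam (cc hr g u) = 1 := by
  rw [← map_mul, ← cc_mul' hf hr, inv_mul_cancel, ccY_one hf hr, map_one]

include hf in
theorem lam_cc_pow (y : G) (u : Uq G X) (k : ℕ) :
    lam (cc hr (y ^ k) u) = ∏ i ∈ Finset.range k, lam (cc hr y (y ^ i • u)) := by
  induction k with
  | zero => simp [ccY_one hf hr]
  | succ k ih =>
    rw [pow_succ', cc_mul' hf hr, map_mul, ih, Finset.prod_range_succ, mul_comm]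

variable [Finite X]

/-- Products over stable subsets give homomorphisms. -/
noncomputable def trOn {M : Subgroup G} (T : Finset (Uq G X)) (hT : ∀ m ∈ M, ∀ u, u ∈ T ↔ m • u ∈ T) : M →* A :=
  MonoidHom.mk' (fun z => ∏ u ∈ T, lam (cc hr (z : G) u)) (by
    intro a b
    show ∏ u ∈ T, lam (cc hr ((a : G) * b) u) = _
    simp only [cc_mul' hf hr, map_mul]
    rw [Finset.prod_mul_distrib]
    congr 1
    exact Finset.prod_equiv (MulAction.toPerm (b : G)) (fun u => hT b b.2 u) (fun u _ => rfl))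

theorem trOn_apply {M : Subgroup G} (T : Finset (Uq G X)) (hT : ∀ m ∈ M, ∀ u, u ∈ T ↔ m • u ∈ T) (z : M) :
    trOn hf hr lam T hT z = ∏ u ∈ T, lam (cc hr (z : G) u) := rfl

/-- The value of the norm on a coset. -/
theorem trOn_cj [Finite G] {M : Subgroup G} (hMn : M.Normal) (T : Finset (Uq G X)) (hT : ∀ m ∈ M, ∀ u, u ∈ T ↔ m • u ∈ T)
    (g : G) (y : M) :
    trOn hf hr lam T hT (cjM hMn g y) = ∏ u ∈ T, lam (cc hr (y : G) (g • u)) := by
  rw [trOn_apply, cjM_coe]
  have h1 : ∀ u, lam (cc hr (g⁻¹ * y * g) u) =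
      lam (cc hr g⁻¹ ((y : G) • g • u)) * lam (cc hr (y : G) (g • u)) * lam (cc hr g u) := by
    intro u
    rw [cc_mul' hf hr, cc_mul' hf hr, map_mul, map_mul]
  simp only [h1]
  rw [Finset.prod_mul_distrib, Finset.prod_mul_distrib]
  have h2 : ∏ u ∈ T, lam (cc hr g⁻¹ ((y : G) • g • u)) = ∏ u ∈ T, lam (cc hr g⁻¹ (g • u)) := by
    have hτ := (cjM hMn g y).2
    rw [cjM_coe] at hτ
    refine Finset.prod_equiv (MulAction.toPerm (g⁻¹ * y * g)) (fun u => hT _ hτ u) (fun u _ => ?_)
    show lam (cc hr g⁻¹ ((y : G) • g • u)) = lam (cc hr g⁻¹ (g • ((g⁻¹ * y * g) • u)))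
    congr 2
    rw [smul_smul, smul_smul]
    congr 1
    group
  rw [h2, mul_comm (∏ u ∈ T, lam (cc hr g⁻¹ (g • u))), mul_assoc, ← Finset.prod_mul_distrib]
  have h3 : ∏ u ∈ T, lam (cc hr g⁻¹ (g • u)) * lam (cc hr g u) = 1 :=
    Finset.prod_eq_one (fun u _ => lam_cc_inv hf hr lam g u)
  rw [h3, mul_one]

/-- Equivariant maps to the cosets. -/
theorem exists_pi {M : Subgroup G} (Y : Finset (Uq G X)) (hY : ∀ (g : G) u, u ∈ Y ↔ g • u ∈ Y)
    (hst : ∀ u ∈ Y, MulAction.stabilizer G u ≤ M) :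
    ∃ π : Uq G X → G ⧸ M, ∀ u ∈ Y, ∀ g : G, π (g • u) = g • π u := by
  have hrep : ∀ u : Uq G X, ∃ g : G, g • Quotient.out (Quotient.mk (MulAction.orbitRel G (Uq G X)) u) = u := by
    intro u
    have h1 : (MulAction.orbitRel G (Uq G X)).r u (Quotient.out (Quotient.mk (MulAction.orbitRel G (Uq G X)) u)) :=
      (MulAction.orbitRel G (Uq G X)).symm (Quotient.exact (Quotient.out_eq _))
    exact h1
  choose gg hgg using hrep
  refine ⟨fun u => ((gg u : G) : G ⧸ M), fun u hu h => ?_⟩
  have hsame : Quotient.mk (MulAction.orbitRel G (Uq G X)) (h • u) = Quotient.mk (MulAction.orbitRel G (Uq G X)) u :=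
    Quotient.sound (show (MulAction.orbitRel G (Uq G X)).r (h • u) u from ⟨h, rfl⟩)
  have h1 := hgg (h • u)
  rw [hsame] at h1
  set w := Quotient.out (Quotient.mk (MulAction.orbitRel G (Uq G X)) u) with hw
  have h2 : gg u • w = u := hgg u
  have hwY : w ∈ Y := by
    rw [hY (gg u) w, h2]
    exact hu
  have h3 : (gg (h • u))⁻¹ * (h * gg u) ∈ MulAction.stabilizer G w := by
    rw [MulAction.mem_stabilizer_iff, mul_smul, mul_smul, h2]
    rw [inv_smul_eq_iff]
    exact h1.symm
  have h4 := hst w hwY h3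
  show ((gg (h • u) : G) : G ⧸ M) = h • ((gg u : G) : G ⧸ M)
  exact QuotientGroup.eq.2 h4

include hf in
/-- The product over a stable subset with stabilizers in a normal subgroup is a norm. -/
theorem exists_norm [Finite G] {M : Subgroup G} (hMn : M.Normal) [Fintype (G ⧸ M)] (Y : Finset (Uq G X))
    (hY : ∀ (g : G) u, u ∈ Y ↔ g • u ∈ Y) (hst : ∀ u ∈ Y, MulAction.stabilizer G u ≤ M) :
    ∃ ρ : M →* A, ∀ y : M, ∏ u ∈ Y, lam (cc hr (y : G) u) = ∏ c : G ⧸ M, ρ (cjM hMn (Quotient.out c) y) := by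
  classical
  haveI := hMn
  obtain ⟨π, hπ⟩ := exists_pi Y hY hst
  let T : Finset (Uq G X) := Y.filter (fun u => π u = 1)
  have hT : ∀ m ∈ M, ∀ u, u ∈ T ↔ m • u ∈ T := by
    intro m hm u
    simp only [T, Finset.mem_filter]
    rw [← hY m u]
    constructor
    · rintro ⟨h1, h2⟩
      refine ⟨h1, ?_⟩
      rw [hπ u h1, h2]
      show ((m * 1 : G) : G ⧸ M) = 1
      rw [mul_one]
      exact (QuotientGroup.eq_one_iff m).2 hm
    · rintro ⟨h1, h2⟩
      refine ⟨h1, ?_⟩
      rw [hπ u h1] at h2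
      have := congrArg (fun c => m⁻¹ • c) h2
      simp only [inv_smul_smul] at this
      rw [this]
      show ((m⁻¹ * 1 : G) : G ⧸ M) = 1
      rw [mul_one]
      exact (QuotientGroup.eq_one_iff m⁻¹).2 (M.inv_mem hm)
  refine ⟨trOn hf hr lam T hT, fun y => ?_⟩
  rw [← Finset.prod_fiberwise Y π]
  refine Finset.prod_congr rfl (fun c _ => ?_)
  rw [trOn_cj]
  symm
  refine Finset.prod_equiv (MulAction.toPerm (Quotient.out c)) (fun u => ?_) (fun u _ => rfl)
  simp only [T, Finset.mem_filter, MulAction.toPerm_apply]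
  rw [← hY (Quotient.out c) u]
  constructor
  · rintro ⟨h1, h2⟩
    refine ⟨h1, ?_⟩
    rw [hπ u h1, h2]
    have h3 : ((Quotient.out c : G) : G ⧸ M) = c := Quotient.out_eq _
    have h4 : Quotient.out c • (1 : G ⧸ M) = ((Quotient.out c * 1 : G) : G ⧸ M) := rfl
    rw [h4, mul_one, h3]
  · rintro ⟨h1, h2⟩
    refine ⟨h1, ?_⟩
    rw [hπ u h1] at h2
    have h3 : ((Quotient.out c : G) : G ⧸ M) = c := Quotient.out_eq _
    have h5 : Quotient.out c • (1 : G ⧸ M) = ((Quotient.out c * 1 : G) : G ⧸ M) := rfl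
    have h4 : Quotient.out c • π u = Quotient.out c • (1 : G ⧸ M) := by
      rw [h2, h5, mul_one, h3]
    exact smul_left_cancel _ h4

include hf in
/-- Subsets without fixed points of an element do not contribute, under a condition on powers. -/
theorem prod_no_fixed [Finite G] (y : G) (T : Finset (Uq G X)) (hst : ∀ u ∈ T, y • u ∈ T) (hno : ∀ u ∈ T, y • u ≠ u)
    (hval : ∀ (n : ℕ) (u : Uq G X), 1 < n → n ∣ orderOf y → y ^ n • u = u → u ∈ T → lam (cc hr (y ^ n) u) = 1) :
    ∏ u ∈ T, lam (cc hr y u) = 1 := by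
  classical
  haveI : Fintype (Uq G X) := Fintype.ofFinite _
  let e : Uq G X → A := fun u => if u ∈ T then lam (cc hr y u) else 1
  have h1 : ∏ u ∈ T, lam (cc hr y u) = ∏ u, e u := by
    simp only [e]
    rw [Finset.prod_ite_mem, Finset.univ_inter]
  rw [h1, cyc_prod y e]
  refine Finset.prod_eq_one (fun q _ => ?_)
  set u := q.out with hu
  set n := Function.minimalPeriod (y • ·) u with hn
  have hTi : ∀ i : ℕ, u ∈ T → y ^ i • u ∈ T := by
    intro i hu'
    induction i with
    | zero => simpa using hu'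
    | succ i ih =>
      rw [pow_succ', mul_smul]
      exact hst _ ih
  have hom : orderOf y ≠ 0 := (orderOf_pos y).ne'
  have hper : ∀ w : Uq G X, Function.minimalPeriod (y • ·) w ∣ orderOf y := by
    intro w
    apply Function.IsPeriodicPt.minimalPeriod_dvd
    show (y • ·)^[orderOf y] w = w
    rw [smul_iterate, pow_orderOf_eq_one]
    exact one_smul _ _
  by_cases hT : u ∈ T
  · have hn1 : 1 < n := by
      have h0 : n ≠ 0 := fun h => hom (by
        have := hper u
        rw [← hn, h] at this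
        exact Nat.eq_zero_of_zero_dvd this)
      have h2 : n ≠ 1 := by
        intro h
        have h3 : y ^ n • u = u := by
          rw [hn]
          exact MulAction.pow_smul_eq_iff_minimalPeriod_dvd.2 dvd_rfl
        rw [h, pow_one] at h3
        exact hno u hT h3
      omega
    have h2 : ∀ i ∈ Finset.range n, e (y ^ i • u) = lam (cc hr y (y ^ i • u)) := by
      intro i _
      simp only [e]
      rw [if_pos (hTi i hT)]
    rw [Finset.prod_congr rfl h2, ← lam_cc_pow hf hr lam]
    refine hval n u hn1 (hper u) ?_ hT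
    rw [hn]
    exact MulAction.pow_smul_eq_iff_minimalPeriod_dvd.2 dvd_rfl
  · refine Finset.prod_eq_one (fun i _ => ?_)
    simp only [e]
    rw [if_neg]
    intro h2
    apply hT
    -- go back along the orbit
    have h3 : ∀ k : ℕ, y ^ k • (y ^ i • u) ∈ T := by
      intro k
      induction k with
      | zero => simpa using h2
      | succ k ih =>
        rw [pow_succ', mul_smul]
        exact hst _ ih
    have h4 := h3 (orderOf y * (i + 1) - i)
    rw [smul_smul, ← pow_add] at h4
    have h5 : orderOf y * (i + 1) - i + i = orderOf y * (i + 1) := by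
      have : i ≤ orderOf y * (i + 1) := by
        have : 1 ≤ orderOf y := Nat.pos_of_ne_zero hom
        nlinarith
      omega
    rw [h5, pow_mul, pow_orderOf_eq_one, one_pow, one_smul] at h4
    exact h4

end Gen

variable {Ω : Type u} [Group Ω] {S : Subgroup Ω} {F : FusionSystem S} {p : ℕ} [Finite S] [Fact p.Prime]
variable {X : Type u} [MulAction (↥S × ↥S) X] [Finite X]

section Core

variable {r : Uq ↥S X → X} (hf : RFree ↥S X) (hr : IsSec r)

theorem cc_stab (z : ↥S) (u : Uq ↥S X) (h : z • u = u) : ((z, cc hr z u) : ↥S × ↥S) • r u = r u := by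
  have h1 := cc_spec hr z u
  have h2 : lq z u = u := h
  rw [h2] at h1
  have e : ((z, cc hr z u) : ↥S × ↥S) = ((1 : ↥S), cc hr z u) * (z, (1 : ↥S)) := by ext <;> simp
  rw [e, mul_smul, h1, smul_smul]
  have e2 : ((1 : ↥S), cc hr z u) * ((1 : ↥S), (cc hr z u)⁻¹) = 1 := by ext <;> simp
  rw [e2, one_smul]

omit [Finite S] [Finite X] [Fact p.Prime] in
theorem orderOf_of_graph {K : Subgroup (↥S × ↥S)} (hK : IsFG F K) {z t : ↥S} (h : (z, t) ∈ K) :
    orderOf t = orderOf z := by
  obtain ⟨P, f, hfm, hg⟩ := hK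
  apply orderOf_eq_orderOf_iff.2
  intro n
  have hmem : ((z ^ n, t ^ n) : ↥S × ↥S) ∈ K := by
    have := K.pow_mem h n
    simpa using this
  obtain ⟨h1, h2⟩ := (hg _ _).1 hmem
  constructor
  · intro ht
    apply Subtype.ext
    have h3 : f ((z ^ n : ↥S) : Ω) = f 1 := by
      rw [← h2, ht, hfm.map_one]
      rfl
    exact hfm.inj h1 P.one_mem h3
  · intro hz
    apply Subtype.ext
    rw [h2, hz]
    exact hfm.map_one

/-- The core of Yoshida's theorem. -/
theorem yosh_core (hS : IsPGroup p S) (hX : ∀ ω : X, IsFG F (MulAction.stabilizer (↥S × ↥S) ω))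
    (hm : ¬ p ∣ Nat.card (Uq ↥S X))
    (hW : ¬ ∃ (W : Sylow p (Equiv.Perm (Fin (p ^ 2)))) (f : ↥S →* ↥(W : Subgroup (Equiv.Perm (Fin (p ^ 2))))),
      Function.Surjective f)
    (lam : ↥S →* Multiplicative (ZMod p)) (hinvS : ∀ f : Ω → Ω, Mp F S f → ∀ a b : ↥S, (b : Ω) = f a → lam a = lam b)
    (hT : bisetTr hf lam = 1) : lam = 1 := by
  classical
  have hp : p.Prime := Fact.out
  by_contra hne
  -- a non-kernel element of minimal order
  have hex : ∃ n : ℕ, ∃ g : ↥S, lam g ≠ 1 ∧ orderOf g = n := by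
    obtain ⟨g, hg⟩ : ∃ g, lam g ≠ 1 := by
      by_contra h
      push Not at h
      exact hne (MonoidHom.ext h)
    exact ⟨_, g, hg, rfl⟩
  obtain ⟨y, hy, hyo⟩ := Nat.find_spec hex
  have hmin : ∀ g : ↥S, orderOf g < orderOf y → lam g = 1 := by
    intro g hg
    by_contra h
    rw [hyo] at hg
    exact Nat.find_min hex hg ⟨g, h, rfl⟩
  have hCp : IsPGroup p (Multiplicative (ZMod p)) := by
    apply IsPGroup.of_card (n := 1)
    rw [pow_one]
    show Nat.card (ZMod p) = p
    exact Nat.card_zmod p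
  obtain ⟨r, hr⟩ := exists_sec (S := ↥S) (X := X)
  have hval : ∀ (n : ℕ) (u : Uq ↥S X), 1 < n → n ∣ orderOf y → y ^ n • u = u → lam (cc hr (y ^ n) u) = 1 := by
    intro n u h1 h2 h3
    apply hmin
    have h4 := cc_stab hr (y ^ n) u h3
    rw [orderOf_of_graph (hX (r u)) (MulAction.mem_stabilizer_iff.2 h4), orderOf_pow_of_dvd (by omega) h2]
    exact Nat.div_lt_self (orderOf_pos y) h1
  have h1 : bisetTr hf lam y = ∏ u, lam (cc hr y u) := bisetTr_eq hf lam hr y
  rw [hT] at h1
  -- the fixed points of the group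
  let Fx : Finset (Uq ↥S X) := Finset.univ.filter (fun u => ∀ g : ↥S, g • u = u)
  have h2 := Finset.prod_filter_mul_prod_filter_not Finset.univ (fun u : Uq ↥S X => ∀ g : ↥S, g • u = u)
    (fun u => lam (cc hr y u))
  rw [← h1] at h2
  have hfix : ∏ u ∈ Fx, lam (cc hr y u) = lam y ^ Fx.card := by
    rw [← Finset.prod_const]
    refine Finset.prod_congr rfl (fun u hu => ?_)
    have hu' : ∀ g : ↥S, g • u = u := (Finset.mem_filter.1 hu).2
    obtain ⟨P, f, hfm, hg⟩ := hX (r u)
    have hPS : P = S := by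
      refine le_antisymm hfm.le (fun z hz => ?_)
      have := ((hg ⟨z, hz⟩ _).1 (MulAction.mem_stabilizer_iff.2 (cc_stab hr ⟨z, hz⟩ u (hu' _)))).1
      exact this
    subst hPS
    exact (hinvS f hfm y _ ((hg _ _).1 (MulAction.mem_stabilizer_iff.2 (cc_stab hr y u (hu' y)))).2).symm
  -- the choice of a maximal subgroup
  let cm : Uq ↥S X → Subgroup ↥S := fun u =>
    Classical.epsilon (fun M : Subgroup ↥S => IsCoatom M ∧ MulAction.stabilizer ↥S u ≤ M)
  have hcm : ∀ u, (¬ ∀ g : ↥S, g • u = u) → IsCoatom (cm u) ∧ MulAction.stabilizer ↥S u ≤ cm u := by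
    intro u hu
    apply Classical.epsilon_spec (p := fun M : Subgroup ↥S => IsCoatom M ∧ MulAction.stabilizer ↥S u ≤ M)
    have hne' : MulAction.stabilizer ↥S u ≠ ⊤ := by
      intro h
      apply hu
      intro g
      have : g ∈ MulAction.stabilizer ↥S u := by rw [h]; trivial
      exact this
    obtain ⟨M, hM, hle⟩ := (eq_top_or_exists_le_coatom _).resolve_left hne'
    exact ⟨M, hM, hle⟩
  have hcm_smul : ∀ (g : ↥S) u, cm (g • u) = cm u := by
    intro g u
    show Classical.epsilon _ = Classical.epsilon _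
    congr 1
    funext M
    apply propext
    constructor
    · rintro ⟨h3, h4⟩
      refine ⟨h3, fun z hz => ?_⟩
      have hMn := (Cfsg.Agent.H01.isCoatom_normal_index hS h3).1
      have h5 : g * z * g⁻¹ ∈ MulAction.stabilizer ↥S (g • u) := by
        rw [MulAction.mem_stabilizer_iff, mul_smul, mul_smul, inv_smul_smul, MulAction.mem_stabilizer_iff.1 hz]
      have h6 := hMn.conj_mem _ (h4 h5) g⁻¹
      have e : g⁻¹ * (g * z * g⁻¹) * g⁻¹⁻¹ = z := by group
      rwa [e] at h6
    · rintro ⟨h3, h4⟩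
      refine ⟨h3, fun z hz => ?_⟩
      have hMn := (Cfsg.Agent.H01.isCoatom_normal_index hS h3).1
      have h5 : g⁻¹ * z * g ∈ MulAction.stabilizer ↥S u := by
        rw [MulAction.mem_stabilizer_iff, mul_smul, mul_smul, MulAction.mem_stabilizer_iff.1 hz, inv_smul_smul]
      have h6 := hMn.conj_mem _ (h4 h5) g
      have e : g * (g⁻¹ * z * g) * g⁻¹ = z := by group
      rwa [e] at h6
  have hfixed_smul : ∀ (g : ↥S) (u : Uq ↥S X), (∀ h : ↥S, h • (g • u) = g • u) ↔ ∀ h : ↥S, h • u = u := by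
    intro g u
    constructor
    · intro h3 h
      have h4 := h3 (g * h * g⁻¹)
      rw [mul_smul, mul_smul, inv_smul_smul] at h4
      exact smul_left_cancel _ h4
    · intro h3 h
      rw [h3 g]
      exact h3 h
  have hrest : ∏ u ∈ Finset.univ.filter (fun u : Uq ↥S X => ¬ ∀ g : ↥S, g • u = u), lam (cc hr y u) = 1 := by
    haveI : Fintype (Subgroup ↥S) := Fintype.ofFinite _
    rw [← Finset.prod_fiberwise _ cm]
    refine Finset.prod_eq_one (fun M _ => ?_)
    set Y := (Finset.univ.filter (fun u : Uq ↥S X => ¬ ∀ g : ↥S, g • u = u)).filter (fun u => cm u = M) with hYdef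
    have hmemY : ∀ u, u ∈ Y ↔ (¬ ∀ g : ↥S, g • u = u) ∧ cm u = M := by
      intro u
      simp [hYdef]
    by_cases hYe : Y = ∅
    · rw [hYe, Finset.prod_empty]
    obtain ⟨u₀, hu₀⟩ := Finset.nonempty_iff_ne_empty.2 hYe
    obtain ⟨hu₁, hu₂⟩ := (hmemY u₀).1 hu₀
    have hM : IsCoatom M := hu₂ ▸ (hcm u₀ hu₁).1
    obtain ⟨hMn, hMi⟩ := Cfsg.Agent.H01.isCoatom_normal_index hS hM
    have hYst : ∀ (g : ↥S) u, u ∈ Y ↔ g • u ∈ Y := by
      intro g u
      rw [hmemY, hmemY, hfixed_smul, hcm_smul]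
    have hstab : ∀ u ∈ Y, MulAction.stabilizer ↥S u ≤ M := by
      intro u hu
      obtain ⟨h3, h4⟩ := (hmemY u).1 hu
      rw [← h4]
      exact (hcm u h3).2
    by_cases hyM : y ∈ M
    · haveI : Fintype (↥S ⧸ M) := Fintype.ofFinite _
      obtain ⟨ρ, hρ⟩ := exists_norm hf hr lam hMn Y hYst hstab
      have h7 := hρ ⟨y, hyM⟩
      rw [norm_eq_one_of_no_wreath (G := ↥S) (p := p) hS hW hM hMn ρ ⟨y, hyM⟩] at h7
      exact h7
    · refine prod_no_fixed hf hr lam y Y (fun u hu => (hYst y u).1 hu) (fun u hu h3 => hyM (hstab u hu h3)) ?_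
      intro n u h3 h4 h5 _
      exact hval n u h3 h4 h5
  have hFx : Finset.univ.filter (fun u : Uq ↥S X => ∀ g : ↥S, g • u = u) = Fx := rfl
  rw [hFx, hfix, hrest, mul_one] at h2
  -- the number of fixed points is prime to `p`
  have hcard : ¬ p ∣ Fx.card := by
    intro hd
    apply hm
    have h3 := hS.card_modEq_card_fixedPoints (Uq ↥S X)
    have h4 : Nat.card (MulAction.fixedPoints ↥S (Uq ↥S X)) = Fx.card := by
      rw [Nat.card_eq_fintype_card]
      apply Fintype.card_of_subtype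
      intro u
      simp [Fx, MulAction.mem_fixedPoints]
    rw [h4] at h3
    exact (Nat.modEq_zero_iff_dvd.1 (h3.trans (Nat.modEq_zero_iff_dvd.2 hd)))
  have h5 : lam y ^ Fx.card = (1 : Multiplicative (ZMod p)) ^ Fx.card := by
    rw [one_pow]
    have := h2
    simpa using this
  exact hy (pow_inj_of_pgroup hCp hcard h5)

end Core

end Cfsg.Agent.H24
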