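import Mathlib
import Cfsg.Agent.Lib.H24.Yosh1
import Cfsg.Agent.Lib.H24.TateFinal

/-!
Yoshida's transfer theorem for fusion systems.
-/

set_option autoImplicit false
set_option linter.style.haveILetI false

namespace Cfsg.Agent.H24

open Cfsg Cfsg.FusionSystem Cfsg.Agent.H25
open scoped commutatorElement

universe u

variable {Ω : Type u} [Group Ω] {S : Subgroup Ω} {p : ℕ} [Fact p.Prime]

/-- The generic form of the first equivalence of Tate's theorem. -/
theorem foc_le_of_le_frattini_sup [Finite S] (hS : IsPGroup p S) {F : FusionSystem S} (hF : F.IsSaturated p)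
    {N : Subgroup Ω} (hNM : N ≤ F.focalSubgroup) (hSS : ⁅S, S⁆ ≤ N)
    (h : F.focalSubgroup ≤ (frattini ↥S).map S.subtype ⊔ N) : F.focalSubgroup ≤ N := by
  have hp : p.Prime := Fact.out
  set M := F.focalSubgroup with hM
  have hMS : M ≤ S := by
    rw [hM, focal_eq hS hF]
    refine sup_le hyperfocal_le ?_
    rw [Subgroup.commutator_le]
    intro a ha b hb
    rw [commutatorElement_def]
    exact S.mul_mem (S.mul_mem (S.mul_mem ha hb) (S.inv_mem ha)) (S.inv_mem hb)
  have hNS : N ≤ S := hNM.trans hMS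
  set Pw : Subgroup Ω := Subgroup.closure {z | ∃ y ∈ M, z = y ^ p} with hPw
  set R : Subgroup Ω := N ⊔ Pw with hR
  have hNR : N ≤ R := le_sup_left
  have hc : commutator ↥S ≤ R.subgroupOf S := by
    intro x hx
    have h1 : (x : Ω) ∈ ⁅S, S⁆ := by
      rw [← map_commutator_coe]
      exact ⟨x, hx, rfl⟩
    exact hNR (hSS h1)
  obtain ⟨A, iA, lam, hsurj, hker⟩ := exists_quot_ab (R.subgroupOf S) hc
  have hA : IsPGroup p A := hS.of_surjective lam hsurj
  obtain ⟨X, i1, i2, hXs, hmark, hfree, hm⟩ := exists_char hS hF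
  have hX := biC_of_char hS hF hXs hmark
  set m := Nat.card (Uq ↥S X) with hmdef
  set ν : ↥S →* A := bisetTr hfree lam with hν
  have hνM : ∀ y : ↥S, (y : Ω) ∈ M → ν y = 1 := by
    intro y hy
    obtain ⟨h, h1⟩ := foc_le_ker (hS := hS) (hF := hF) hXs hmark hfree lam hy
    exact h1
  have hlamR : ∀ y : ↥S, (y : Ω) ∈ R → lam y = 1 := by
    intro y hy
    have : y ∈ lam.ker := by
      rw [hker]
      exact hy
    exact this
  have hRlam : ∀ y : ↥S, lam y = 1 → (y : Ω) ∈ R := by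
    intro y hy
    have : y ∈ lam.ker := hy
    rw [hker] at this
    exact this
  let κ : ↥S →* A := ν * (lam ^ m)⁻¹
  have hκ : ∀ x, κ x = ν x * (lam x ^ m)⁻¹ := fun x => rfl
  let K : Subgroup A := (M.subgroupOf S).map lam
  let π : A →* A ⧸ K := QuotientGroup.mk' K
  have hπinv : LamInv F (π.comp lam) := by
    apply lamInv_of_foc
    intro y hy
    refine mem_labT.2 ⟨hMS hy, ?_⟩
    exact (QuotientGroup.eq_one_iff _).2 ⟨⟨y, hMS hy⟩, hy, rfl⟩
  have hκK : ∀ x, κ x ∈ K := by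
    intro x
    have h1 := bisetTr_comp_hom hfree lam π x
    have h2 := hX.bisetTr_inv hS hF hm hfree (π.comp lam) hπinv x
    rw [h1] at h2
    have h3 : π (κ x) = 1 := by
      rw [hκ, map_mul, map_inv, map_pow]
      show π (bisetTr hfree lam x) * _ = 1
      rw [h2]
      exact mul_inv_cancel _
    exact (QuotientGroup.eq_one_iff _).1 h3
  have hκp : ∀ x, κ x ^ p = 1 := by
    intro x
    obtain ⟨y, hy, he⟩ := hκK x
    rw [← he, ← map_pow]
    apply hlamR
    have hy' : (y : Ω) ∈ M := hy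
    have : ((y ^ p : ↥S) : Ω) = (y : Ω) ^ p := by simp
    rw [this]
    exact (le_sup_right : Pw ≤ R) (Subgroup.subset_closure ⟨_, hy', rfl⟩)
  have hfr : frattini ↥S ≤ κ.ker := by
    haveI : κ.ker.Normal := MonoidHom.normal_ker κ
    refine Cfsg.Agent.H01.frattini_le_of_comm_pow (p := p) κ.ker ?_ (fun x => ?_)
    · rw [commutator_def, Subgroup.commutator_le]
      intro a _ b _
      rw [MonoidHom.mem_ker, map_commutatorElement, commutatorElement_eq_one_iff_mul_comm]
      exact mul_comm _ _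
    · rw [MonoidHom.mem_ker, map_pow]
      exact hκp x
  set B : Subgroup Ω := κ.ker.map S.subtype with hB
  have hmemB : ∀ y : ↥S, κ y = 1 → (y : Ω) ∈ B := fun y hy => ⟨y, hy, rfl⟩
  have hBκ : ∀ y : ↥S, (y : Ω) ∈ B → κ y = 1 := by
    rintro y ⟨z, hz, he⟩
    have : z = y := Subtype.ext he
    rw [← this]
    exact hz
  have hNB : N ≤ B := by
    intro y hy
    have hyT := hNS hy
    refine hmemB ⟨y, hyT⟩ ?_
    rw [hκ, hνM ⟨y, hyT⟩ (hNM hy), hlamR ⟨y, hyT⟩ (hNR hy)]
    simp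
  have hMB : M ≤ B := h.trans (sup_le (Subgroup.map_mono hfr) hNB)
  have hMR : M ≤ R := by
    intro y hy
    have hyT := hMS hy
    apply hRlam ⟨y, hyT⟩
    have h1 := hBκ ⟨y, hyT⟩ (hMB hy)
    rw [hκ, hνM ⟨y, hyT⟩ hy, one_mul, inv_eq_one] at h1
    have h2 : lam ⟨y, hyT⟩ ^ m = (1 : A) ^ m := by rw [h1, one_pow]
    exact pow_inj_of_pgroup hA hm h2
  exact le_of_le_sup_pow hS hMS hNS hSS hMR

/-- Homomorphisms onto `C_p` separate points outside subgroups containing the Frattini subgroup. -/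
theorem exists_sep_hom {G : Type u} [Group G] [Finite G] (hG : IsPGroup p G) {R : Subgroup G}
    (hΦ : frattini G ≤ R) {y : G} (hy : y ∉ R) :
    ∃ lam : G →* Multiplicative (ZMod p), R ≤ lam.ker ∧ lam y ≠ 1 := by
  have hc : commutator G ≤ R := (Cfsg.Agent.H01.commutator_le_frattini_of_isPGroup hG).trans hΦ
  obtain ⟨A, iA, q, hq, hker⟩ := exists_quot_ab R hc
  have hexp : ∀ a : Additive A, p • a = 0 := by
    intro a
    obtain ⟨x, hx⟩ := hq (Additive.toMul a)
    have h1 : x ^ p ∈ q.ker := by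
      rw [hker]
      exact hΦ (Cfsg.Agent.H01.pow_mem_frattini_of_isPGroup hG x)
    have h2 : q x ^ p = 1 := by
      rw [← map_pow]
      exact h1
    show Additive.ofMul ((Additive.toMul a) ^ p) = 0
    rw [← hx, h2]
    rfl
  haveI : Module (ZMod p) (Additive A) := AddCommGroup.zmodModule hexp
  have hv : Additive.ofMul (q y) ≠ 0 := by
    intro h
    have h1 : q y = 1 := h
    have h2 : y ∈ q.ker := h1
    rw [hker] at h2
    exact hy h2
  obtain ⟨φ, hφ⟩ : ∃ φ : Additive A →ₗ[ZMod p] ZMod p, φ (Additive.ofMul (q y)) ≠ 0 := by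
    by_contra h
    push Not at h
    exact hv ((Module.forall_dual_apply_eq_zero_iff (ZMod p) _).1 h)
  refine ⟨MonoidHom.mk' (fun x => Multiplicative.ofAdd (φ (Additive.ofMul (q x)))) ?_, ?_, ?_⟩
  · intro a b
    rw [map_mul, ofMul_mul, map_add, ofAdd_add]
  · intro x hx
    have h1 : x ∈ q.ker := by
      rw [hker]
      exact hx
    have h2 : q x = 1 := h1
    rw [MonoidHom.mem_ker]
    show Multiplicative.ofAdd (φ (Additive.ofMul (q x))) = 1
    rw [h2, ofMul_one, map_zero, ofAdd_zero]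
  · intro h
    apply hφ
    exact h

/-- The focal subgroup of a system over a `p`-group without quotient `C_p ≀ C_p` is determined by the automorphism
group of `S`. -/
theorem yosh_focal [Finite S] (hS : IsPGroup p S) {F : FusionSystem S} (hF : F.IsSaturated p) {N : Subgroup Ω}
    (hNF : N ≤ F.focalSubgroup) (hSS : ⁅S, S⁆ ≤ N) (hAut : ∀ f, Mp F S f → ∀ a : ↥S, (a : Ω)⁻¹ * f a ∈ N)
    (hW : ¬ ∃ (W : Sylow p (Equiv.Perm (Fin (p ^ 2)))) (f : ↥S →* ↥(W : Subgroup (Equiv.Perm (Fin (p ^ 2))))),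
      Function.Surjective f) : F.focalSubgroup ≤ N := by
  classical
  obtain ⟨X, i1, i2, hXs, hmark, hfree, hm⟩ := exists_char hS hF
  have hX := biC_of_char hS hF hXs hmark
  haveI : Finite (↥S →* Multiplicative (ZMod p)) :=
    Finite.of_injective (fun f => (f : ↥S → Multiplicative (ZMod p))) DFunLike.coe_injective
  have hXst : ∀ ω : X, IsFG F (MulAction.stabilizer (↥S × ↥S) ω) := hX.stab
  have hTB : ∀ lam : ↥S →* Multiplicative (ZMod p), N ≤ labT (bisetTr hfree lam) := fun lam =>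
    hNF.trans (foc_le_of_lamInv (hX.lamInv hS hF hfree lam))
  let T : {lam : ↥S →* Multiplicative (ZMod p) // N ≤ labT lam} →
      {lam : ↥S →* Multiplicative (ZMod p) // N ≤ labT lam} := fun l => ⟨bisetTr hfree l.1, hTB l.1⟩
  have hker : ∀ d : ↥S →* Multiplicative (ZMod p), N ≤ labT d → bisetTr hfree d = 1 → d = 1 := by
    intro d hd hT
    refine yosh_core hfree hS hXst hm hW d ?_ hT
    intro f hf a b hb
    have h1 := hAut f hf a
    rw [← hb] at h1
    obtain ⟨h2, h3⟩ := mem_labT.1 (hd h1)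
    have h4 : (⟨(a : Ω)⁻¹ * b, h2⟩ : ↥S) = a⁻¹ * b := rfl
    rw [h4, map_mul, map_inv, inv_mul_eq_one] at h3
    exact h3
  have hTinj : Function.Injective T := by
    intro l l' h
    have h0 : bisetTr hfree l.1 = bisetTr hfree l'.1 := congrArg Subtype.val h
    have hd : N ≤ labT (l.1 * l'.1⁻¹) := by
      intro y hy
      obtain ⟨h2, h3⟩ := mem_labT.1 (l.2 hy)
      obtain ⟨h4, h5⟩ := mem_labT.1 (l'.2 hy)
      refine mem_labT.2 ⟨h2, ?_⟩
      show l.1 ⟨y, h2⟩ * (l'.1 ⟨y, h2⟩)⁻¹ = 1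
      rw [h3, h5]
      simp
    have hT : bisetTr hfree (l.1 * l'.1⁻¹) = 1 := by
      ext x
      have h1 := bisetTr_mul hfree (l.1 * l'.1⁻¹) l'.1 x
      rw [inv_mul_cancel_right, h0] at h1
      have h2 : bisetTr hfree (l.1 * l'.1⁻¹) x = 1 := by
        simpa using h1.symm
      rw [h2]
      rfl
    have h1 := hker _ hd hT
    exact Subtype.ext (mul_inv_eq_one.1 h1)
  have hTsurj : Function.Surjective T := Finite.injective_iff_surjective.1 hTinj
  have hstar : ∀ lam : ↥S →* Multiplicative (ZMod p), N ≤ labT lam → F.focalSubgroup ≤ labT lam := by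
    intro lam hlam
    obtain ⟨l, hl⟩ := hTsurj ⟨lam, hlam⟩
    have h1 : bisetTr hfree l.1 = lam := congrArg Subtype.val hl
    rw [← h1]
    exact foc_le_of_lamInv (hX.lamInv hS hF hfree l.1)
  have hMS : F.focalSubgroup ≤ S := by
    rw [focal_eq hS hF]
    refine sup_le hyperfocal_le ?_
    rw [Subgroup.commutator_le]
    intro a ha b hb
    rw [commutatorElement_def]
    exact S.mul_mem (S.mul_mem (S.mul_mem ha hb) (S.inv_mem ha)) (S.inv_mem hb)
  refine foc_le_of_le_frattini_sup hS hF hNF hSS ?_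
  intro y hy
  by_contra hyR
  have hΦ : frattini ↥S ≤ ((frattini ↥S).map S.subtype ⊔ N).subgroupOf S := by
    intro x hx
    exact Subgroup.mem_sup_left ⟨x, hx, rfl⟩
  obtain ⟨lam, hlam1, hlam2⟩ := exists_sep_hom hS hΦ (y := ⟨y, hMS hy⟩) hyR
  have h1 : N ≤ labT lam := by
    intro z hz
    have hzS : z ∈ S := (hNF.trans hMS) hz
    refine mem_labT.2 ⟨hzS, ?_⟩
    exact hlam1 (show (⟨z, hzS⟩ : ↥S) ∈ _ from Subgroup.mem_sup_right hz)
  obtain ⟨h2, h3⟩ := mem_labT.1 (hstar lam h1 hy)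
  exact hlam2 h3

/-- Extensions of automorphisms of `S` for the normalizer system. -/
theorem exists_ext_self [Finite S] {F : FusionSystem S} {φ : S →* Ω} (hφ : φ ∈ F.Hom S) :
    ∀ (P' : Subgroup Ω) (hP' : S ≤ P'), P' = S →
      ∃ ψ ∈ F.Hom P', (∀ x : S, ψ (Subgroup.inclusion hP' x) = φ x) ∧ (S.subgroupOf P').map ψ = S := by
  rintro P' hP' rfl
  refine ⟨φ, hφ, fun x => rfl, ?_⟩
  have hm := mp_of_mem hφ
  have hiso : Iso F P' P' (toFun φ) := Iso.of_maps hm (fun x hx => by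
    rw [toFun_coe φ ⟨x, hx⟩]
    exact (F.le_of_mem hφ).2 ⟨x, hx⟩)
  ext y
  constructor
  · rintro ⟨x, -, rfl⟩
    exact (F.le_of_mem hφ).2 x
  · intro hy
    obtain ⟨x, hx, he⟩ := hiso.surj y hy
    refine ⟨⟨x, hx⟩, ?_, ?_⟩
    · show x ∈ P'
      exact hx
    · rw [← he, toFun_coe φ ⟨x, hx⟩]

/-- **Yoshida's theorem** for fusion systems. -/
theorem yoshida_main [Finite S] (hS : IsPGroup p S) (F : FusionSystem S) (hF : F.IsSaturated p)
    (N : FusionSystem (normalizerIn S S)) (hN : F.IsNormalizerSystem S N) (hne : N.focalSubgroup ≠ F.focalSubgroup) :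
    ∃ (W : Sylow p (Equiv.Perm (Fin (p ^ 2)))) (f : ↥S →* ↥(W : Subgroup (Equiv.Perm (Fin (p ^ 2))))),
      Function.Surjective f := by
  by_contra hW
  apply hne
  have hle : S ≤ normalizerIn S S := le_inf le_rfl Subgroup.le_normalizer
  have hNF : N.focalSubgroup ≤ F.focalSubgroup := by
    refine (Subgroup.closure_le _).2 ?_
    rintro _ ⟨P, φ, x, hφ, rfl⟩
    rw [hN P] at hφ
    exact Subgroup.subset_closure ⟨P, φ, x, hφ.1, rfl⟩
  have hSS : ⁅S, S⁆ ≤ N.focalSubgroup := by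
    rw [Subgroup.commutator_le]
    intro a ha b hb
    refine Subgroup.subset_closure ⟨S, conjHom S b, ⟨a⁻¹, S.inv_mem ha⟩, N.conj_mem hle (hle hb), ?_⟩
    show ⁅a, b⁆ = (a⁻¹)⁻¹ * (b * a⁻¹ * b⁻¹)
    rw [commutatorElement_def]
    group
  have hAut : ∀ f, Mp F S f → ∀ a : ↥S, (a : Ω)⁻¹ * f a ∈ N.focalSubgroup := by
    rintro f ⟨φ, hφ, hf⟩ a
    have hφN : φ ∈ N.Hom S := by
      rw [hN S]
      refine ⟨hφ, hle, fun x => hle ((F.le_of_mem hφ).2 x), ?_⟩
      exact exists_ext_self hφ (S ⊔ S) le_sup_left (sup_idem S)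
    refine Subgroup.subset_closure ⟨S, φ, a, hφN, ?_⟩
    rw [hf]
  exact le_antisymm hNF (yosh_focal hS hF hNF hSS hAut hW)

end Cfsg.Agent.H24
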