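import Mathlib
import Cfsg.Agent.Lib.H24.YoshMain
import Cfsg.Agent.Lib.H24.Ess186
import Cfsg.Agent.Lib.H15.Cyc2
import Cfsg.Agent.Lib.H18.Special

/-!
Generalized extraspecial groups: commutators and `p`-th powers in a central subgroup of order `p`, and the direct
decomposition of such a group with a subgroup of index `p` of a special form.
-/

set_option autoImplicit false
set_option linter.style.haveILetI false

namespace Cfsg.Agent.H24

open Cfsg
open scoped commutatorElement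

universe u

section GE

variable {G : Type u} [Group G] {p : ℕ} {z : G}

/-- Commutators and `p`-th powers lie in the central subgroup generated by `z`, of order `p`. -/
structure GEData (p : ℕ) (z : G) : Prop where
  ord : orderOf z = p
  comm : ∀ x y : G, ⁅x, y⁆ ∈ Subgroup.zpowers z
  pow : ∀ x : G, x ^ p ∈ Subgroup.zpowers z
  cent : ∀ x : G, x * z = z * x

namespace GEData

variable (H : GEData p z)
include H

theorem central {u : G} (hu : u ∈ Subgroup.zpowers z) (x : G) : x * u = u * x := by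
  obtain ⟨k, rfl⟩ := hu
  exact ((show Commute x z from H.cent x).zpow_right k).eq

theorem comm_central (a b x : G) : x * ⁅a, b⁆ = ⁅a, b⁆ * x := H.central (H.comm a b) x

theorem comm_mul_left (a b c : G) : ⁅a * b, c⁆ = ⁅a, c⁆ * ⁅b, c⁆ := by
  have h1 : ⁅a * b, c⁆ = a * ⁅b, c⁆ * a⁻¹ * ⁅a, c⁆ := by
    simp only [commutatorElement_def]
    group
  rw [h1, H.comm_central b c a, mul_inv_cancel_right]
  exact H.comm_central a c _

theorem comm_mul_right (a b c : G) : ⁅a, b * c⁆ = ⁅a, b⁆ * ⁅a, c⁆ := by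
  rw [← commutatorElement_inv, H.comm_mul_left, mul_inv_rev, commutatorElement_inv, commutatorElement_inv]
  exact H.comm_central a b _

theorem comm_pow_left (a c : G) (k : ℕ) : ⁅a ^ k, c⁆ = ⁅a, c⁆ ^ k := by
  induction k with
  | zero => simp
  | succ k ih => rw [pow_succ, H.comm_mul_left, ih, pow_succ]

theorem comm_pow_right (a c : G) (k : ℕ) : ⁅a, c ^ k⁆ = ⁅a, c⁆ ^ k := by
  induction k with
  | zero => simp
  | succ k ih => rw [pow_succ, H.comm_mul_right, ih, pow_succ]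

theorem comm_inv_left (a c : G) : ⁅a⁻¹, c⁆ = ⁅a, c⁆⁻¹ := by
  have h := H.comm_mul_left a⁻¹ a c
  rw [inv_mul_cancel, commutatorElement_one_left] at h
  exact (eq_inv_of_mul_eq_one_left h.symm)

theorem zp_pow {u : G} (hu : u ∈ Subgroup.zpowers z) : u ^ p = 1 := by
  obtain ⟨k, rfl⟩ := hu
  show (z ^ k) ^ p = 1
  rw [← zpow_natCast, ← zpow_mul, mul_comm, zpow_mul, zpow_natCast, ← H.ord, pow_orderOf_eq_one, one_zpow]

/-- Any non-trivial element of `⟨z⟩` generates it. -/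
theorem exists_gen_pow [Finite G] (hp : p.Prime) {u v : G} (hu : u ∈ Subgroup.zpowers z) (hne : u ≠ 1)
    (hv : v ∈ Subgroup.zpowers z) : ∃ k : ℕ, v = u ^ k := by
  have hle : Subgroup.zpowers u ≤ Subgroup.zpowers z := Subgroup.zpowers_le.2 hu
  have hcard : Nat.card (Subgroup.zpowers z) = p := by rw [Nat.card_zpowers, H.ord]
  have hd := Subgroup.card_dvd_of_le hle
  rw [hcard] at hd
  have heq : Subgroup.zpowers u = Subgroup.zpowers z := by
    rcases (Nat.dvd_prime hp).1 hd with h | h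
    · exfalso
      apply hne
      have h2 := Subgroup.card_eq_one.1 h
      exact Subgroup.zpowers_eq_bot.1 h2
    · apply Subgroup.eq_of_le_of_card_ge hle
      rw [h, hcard]
  rw [← heq] at hv
  have hfin : IsOfFinOrder u := isOfFinOrder_iff_pow_eq_one.2 ⟨p, hp.pos, H.zp_pow hu⟩
  obtain ⟨k, hk⟩ := hfin.mem_powers_iff_mem_zpowers.2 hv
  exact ⟨k, hk.symm⟩

theorem eq_one_of_pow (hp : p.Prime) {u : G} (hu : u ∈ Subgroup.zpowers z) {k : ℕ} (hk : ¬ p ∣ k)
    (h : u ^ k = 1) : u = 1 := by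
  have h1 := pow_gcd_eq_one.2 ⟨H.zp_pow hu, h⟩
  rw [Nat.Coprime.gcd_eq_one ((Nat.Prime.coprime_iff_not_dvd hp).2 hk), pow_one] at h1
  exact h1

theorem pow_inj_zp (hp : p.Prime) {u v : G} (hu : u ∈ Subgroup.zpowers z) (hv : v ∈ Subgroup.zpowers z) {k : ℕ}
    (hk : ¬ p ∣ k) (h : u ^ k = v ^ k) : u = v := by
  have h1 : (u * v⁻¹) ^ k = 1 := by
    rw [(show Commute u v⁻¹ from H.central ((Subgroup.zpowers z).inv_mem hv) u).mul_pow, h, inv_pow, mul_inv_cancel]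
  have h2 := H.eq_one_of_pow hp ((Subgroup.zpowers z).mul_mem hu ((Subgroup.zpowers z).inv_mem hv)) hk h1
  exact mul_inv_eq_one.1 h2

/-- For odd `p`, taking `p`-th powers is a homomorphism. -/
theorem pow_mul_odd (hp : p.Prime) (hodd : p ≠ 2) (a b : G) : (a * b) ^ p = a ^ p * b ^ p := by
  have h1 := class2_pow a b ⁅b, a⁆ (by rw [commutatorElement_def]; group) (fun w => (H.comm_central b a w).symm) p
  have h2 : 2 < p := by
    have := hp.two_le
    omega
  obtain ⟨m, hm⟩ := hp.dvd_choose_self (k := 2) (by norm_num) h2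
  rw [h1, hm, pow_mul, H.zp_pow (H.comm b a), one_pow, mul_one]

theorem commute_iff (a b : G) : Commute a b ↔ ⁅a, b⁆ = 1 := commutatorElement_eq_one_iff_commute.symm

/-- Writing an element as a product of a centralizing element and a power. -/
theorem exists_split [Finite G] (hp : p.Prime) {x₀ z₁ : G} (h : ¬ Commute x₀ z₁) (g : G) :
    ∃ (k : ℕ) (c : G), Commute c z₁ ∧ g = c * x₀ ^ k := by
  have hne : ⁅x₀, z₁⁆ ≠ 1 := fun h1 => h ((H.commute_iff _ _).2 h1)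
  obtain ⟨k, hk⟩ := H.exists_gen_pow hp (H.comm x₀ z₁) hne (H.comm g z₁)
  refine ⟨k, g * (x₀ ^ k)⁻¹, ?_, by group⟩
  rw [H.commute_iff, H.comm_mul_left, H.comm_inv_left, H.comm_pow_left, hk, mul_inv_cancel]

theorem center_form [Finite G] (hp : p.Prime) {x₀ z₁ : G} (h : ¬ Commute x₀ z₁)
    (hab : ∀ a b : G, Commute a z₁ → Commute b z₁ → Commute a b) (g : G) :
    ∃ (i j : ℕ) (c : G), c ∈ Subgroup.center G ∧ g = c * z₁ ^ j * x₀ ^ i := by
  obtain ⟨i, c₁, hc₁, rfl⟩ := H.exists_split hp h g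
  have h' : ¬ Commute z₁ x₀ := fun h1 => h h1.symm
  obtain ⟨j, c, hc, rfl⟩ := H.exists_split hp h' c₁
  refine ⟨i, j, c, ?_, rfl⟩
  have hcz : Commute c z₁ := by
    have h2 : Commute (c * z₁ ^ j * (z₁ ^ j)⁻¹) z₁ := hc₁.mul_left ((Commute.refl z₁).pow_left j).inv_left
    simpa using h2
  rw [Subgroup.mem_center_iff]
  intro g'
  obtain ⟨k, c', hc', rfl⟩ := H.exists_split hp h g'
  have h3 : Commute c c' := hab c c' hcz hc'
  have h4 : Commute c (x₀ ^ k) := hc.pow_right k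
  exact (h3.mul_right h4).eq.symm

end GEData

section Decomp

variable [Finite G] [Fact p.Prime]

/-- The group generated by two non-commuting elements and `z`. -/
theorem exists_M (H : GEData p z) (x₀ z₁ : G) :
    ∃ M : Subgroup G, ∀ m, m ∈ M ↔ ∃ i j k : ℤ, m = x₀ ^ i * z₁ ^ j * z ^ k := by
  have hc : ∀ (k : ℤ) (g : G), g * z ^ k = z ^ k * g := fun k g => H.central ⟨k, rfl⟩ g
  have hsw : ∀ a b : G, ∃ t : ℤ, a * b = b * a * z ^ t := by
    intro a b
    obtain ⟨t, ht⟩ := H.comm a b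
    refine ⟨t, ?_⟩
    have ht' : z ^ t = ⁅a, b⁆ := ht
    rw [ht', H.comm_central, commutatorElement_def]
    group
  refine ⟨{ carrier := {m | ∃ i j k : ℤ, m = x₀ ^ i * z₁ ^ j * z ^ k}
            mul_mem' := ?_
            one_mem' := ⟨0, 0, 0, by simp⟩
            inv_mem' := ?_ }, fun m => Iff.rfl⟩
  · rintro _ _ ⟨i, j, k, rfl⟩ ⟨i', j', k', rfl⟩
    obtain ⟨t, ht⟩ := hsw (z₁ ^ j) (x₀ ^ i')
    refine ⟨i + i', j + j', t + k + k', ?_⟩
    have e3 : z ^ t * z₁ ^ j' = z₁ ^ j' * z ^ t := (hc t _).symm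
    calc x₀ ^ i * z₁ ^ j * z ^ k * (x₀ ^ i' * z₁ ^ j' * z ^ k')
        = x₀ ^ i * z₁ ^ j * (z ^ k * (x₀ ^ i' * z₁ ^ j' * z ^ k')) := by group
      _ = x₀ ^ i * z₁ ^ j * ((x₀ ^ i' * z₁ ^ j' * z ^ k') * z ^ k) := by rw [hc k]
      _ = x₀ ^ i * (z₁ ^ j * x₀ ^ i') * z₁ ^ j' * (z ^ k' * z ^ k) := by group
      _ = x₀ ^ i * (x₀ ^ i' * z₁ ^ j * z ^ t) * z₁ ^ j' * (z ^ k' * z ^ k) := by rw [ht]
      _ = x₀ ^ i * x₀ ^ i' * z₁ ^ j * (z ^ t * z₁ ^ j') * (z ^ k' * z ^ k) := by group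
      _ = x₀ ^ i * x₀ ^ i' * z₁ ^ j * (z₁ ^ j' * z ^ t) * (z ^ k' * z ^ k) := by rw [e3]
      _ = x₀ ^ (i + i') * z₁ ^ (j + j') * z ^ (t + k + k') := by group
  · rintro _ ⟨i, j, k, rfl⟩
    obtain ⟨t, ht⟩ := hsw (z₁ ^ (-j)) (x₀ ^ (-i))
    refine ⟨-i, -j, t - k, ?_⟩
    have e1 : (x₀ ^ i * z₁ ^ j * z ^ k)⁻¹ = z ^ (-k) * (z₁ ^ (-j) * x₀ ^ (-i)) := by
      group
    rw [e1, ht, sub_eq_add_neg, zpow_add z, ← hc (-k)]
    rw [mul_assoc, mul_assoc (x₀ ^ (-i))]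

/-- The direct decomposition. -/
theorem ge_decomp (hG : IsPGroup p G) (H : GEData p z) {x₀ z₁ : G} (hx : ¬ Commute x₀ z₁) (hz₁ : z₁ ^ p = 1)
    (hab : ∀ a b : G, Commute a z₁ → Commute b z₁ → Commute a b) (hpw : ∀ a : G, Commute a z₁ → a ^ p = 1) :
    ∃ (M A : Subgroup G), (∀ m, m ∈ M ↔ ∃ i j k : ℤ, m = x₀ ^ i * z₁ ^ j * z ^ k) ∧
      (∀ a ∈ A, a ∈ Subgroup.center G ∧ a ^ p = 1) ∧ (∀ a ∈ M, a ∈ A → a = 1) ∧ (∀ g : G, ∃ m ∈ M, ∃ a ∈ A, g = m * a) := by
  classical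
  have hp : p.Prime := Fact.out
  obtain ⟨M, hM⟩ := exists_M H x₀ z₁
  -- the complement in the centre
  have hZp : ∀ c ∈ Subgroup.center G, c ^ p = 1 := fun c hc => hpw c (Subgroup.mem_center_iff.1 hc z₁).symm
  have hzcen : z ∈ Subgroup.center G := Subgroup.mem_center_iff.2 H.cent
  have hzne : z ≠ 1 := by
    intro h
    have h2 := H.ord
    rw [h, orderOf_one] at h2
    exact hp.one_lt.ne h2
  have hZG : IsPGroup p (Subgroup.center G) := hG.to_subgroup _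
  have hfr : frattini (Subgroup.center G) ≤ ⊥ := by
    refine Cfsg.Agent.H01.frattini_le_of_comm_pow (p := p) ⊥ ?_ ?_
    · rw [commutator_def, Subgroup.commutator_le]
      intro a _ b _
      rw [Subgroup.mem_bot, commutatorElement_eq_one_iff_mul_comm]
      exact Subtype.ext (Subgroup.mem_center_iff.1 b.2 a.1)
    · intro x
      rw [Subgroup.mem_bot]
      apply Subtype.ext
      simpa using hZp x x.2
  have hzbot : (⟨z, hzcen⟩ : Subgroup.center G) ∉ (⊥ : Subgroup (Subgroup.center G)) := by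
    intro h
    rw [Subgroup.mem_bot] at h
    exact hzne (congrArg Subtype.val h)
  obtain ⟨lam, -, hlam⟩ := exists_sep_hom hZG hfr hzbot
  let A : Subgroup G := lam.ker.map (Subgroup.center G).subtype
  have hAmem : ∀ a ∈ A, ∃ h : a ∈ Subgroup.center G, lam ⟨a, h⟩ = 1 := by
    rintro _ ⟨c, hc, rfl⟩
    exact ⟨c.2, hc⟩
  have hgen : ∀ c : Subgroup.center G, ∃ k : ℕ, lam c = lam ⟨z, hzcen⟩ ^ k := by
    intro c
    have hc : lam c ∈ Subgroup.zpowers (lam ⟨z, hzcen⟩) := by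
      have hord : orderOf (lam ⟨z, hzcen⟩) = p := by
        have h1 : orderOf (lam ⟨z, hzcen⟩) ∣ p := orderOf_dvd_of_pow_eq_one (by
          show _ ^ p = (1 : Multiplicative (ZMod p))
          rw [← map_pow]
          have : (⟨z, hzcen⟩ : Subgroup.center G) ^ p = 1 := Subtype.ext (hZp z hzcen)
          rw [this, map_one])
        rcases (Nat.dvd_prime hp).1 h1 with h2 | h2
        · exact absurd (orderOf_eq_one_iff.1 h2) hlam
        · exact h2
      have hcard : Nat.card (Subgroup.zpowers (lam ⟨z, hzcen⟩)) = Nat.card (Multiplicative (ZMod p)) := by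
        rw [Nat.card_zpowers, hord]
        show p = Nat.card (ZMod p)
        rw [Nat.card_zmod]
      have hfull : Subgroup.zpowers (lam ⟨z, hzcen⟩) = ⊤ := by
        haveI : Fintype (ZMod p) := ZMod.fintype p
        exact Subgroup.eq_top_of_card_eq _ hcard
      rw [hfull]
      trivial
    have hfin : IsOfFinOrder (lam ⟨z, hzcen⟩) := isOfFinOrder_iff_pow_eq_one.2 ⟨p, hp.pos, by
      rw [← map_pow]
      have : (⟨z, hzcen⟩ : Subgroup.center G) ^ p = 1 := Subtype.ext (hZp z hzcen)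
      rw [this, map_one]⟩
    obtain ⟨k, hk⟩ := hfin.mem_powers_iff_mem_zpowers.2 hc
    exact ⟨k, hk.symm⟩
  refine ⟨M, A, hM, ?_, ?_, ?_⟩
  · intro a ha
    obtain ⟨h1, -⟩ := hAmem a ha
    exact ⟨h1, hZp a h1⟩
  · intro a haM haA
    obtain ⟨i, j, k, rfl⟩ := (hM a).1 haM
    obtain ⟨h1, h2⟩ := hAmem _ haA
    -- commutators
    have hc1 := Subgroup.mem_center_iff.1 h1 z₁
    have hc2 := Subgroup.mem_center_iff.1 h1 x₀
    have hzpc : ∀ (k : ℤ) (g : G), g * z ^ k = z ^ k * g := fun k g => H.central ⟨k, rfl⟩ g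
    -- exponents are divisible by `p`
    have hdiv : ∀ (w y : G), ¬ Commute w y → ∀ i : ℤ, Commute (w ^ i) y → (p : ℤ) ∣ i := by
      intro w y hwy i hi
      by_contra hnd
      have hcop : IsCoprime i (p : ℤ) := by
        rw [isCoprime_comm]
        exact (Nat.prime_iff_prime_int.1 hp).coprime_iff_not_dvd.2 hnd
      obtain ⟨u, v, huv⟩ := hcop
      have h4 : w = (w ^ i) ^ u * (w ^ p) ^ v := by
        rw [← zpow_mul, ← zpow_natCast, ← zpow_mul, ← zpow_add]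
        have : i * u + (p : ℤ) * v = 1 := by linarith
        rw [this, zpow_one]
      have h5 : Commute (w ^ p) y := (H.central (H.pow w) y).symm
      apply hwy
      rw [h4]
      exact (hi.zpow_left u).mul_left (h5.zpow_left v)
    have hzc : ∀ (k : ℤ) (g : G), Commute (z ^ k) g := fun k g => (hzpc k g).symm
    have hxi : Commute (x₀ ^ i) z₁ := by
      have e : x₀ ^ i = x₀ ^ i * z₁ ^ j * z ^ k * (z ^ k)⁻¹ * (z₁ ^ j)⁻¹ := by group
      rw [e]
      refine Commute.mul_left (Commute.mul_left ?_ (hzc k z₁).inv_left) ?_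
      · exact hc1.symm
      · exact ((Commute.refl z₁).zpow_left j).inv_left
    obtain ⟨q, hq⟩ := hdiv x₀ z₁ hx i hxi
    have hxq : x₀ ^ i ∈ Subgroup.zpowers z := by
      rw [hq, zpow_mul, zpow_natCast]
      exact Subgroup.zpow_mem _ (H.pow x₀) q
    have hzx : ¬ Commute z₁ x₀ := fun h => hx h.symm
    have hzj : Commute (z₁ ^ j) x₀ := by
      have e : z₁ ^ j = (x₀ ^ i)⁻¹ * (x₀ ^ i * z₁ ^ j * z ^ k) * (z ^ k)⁻¹ := by group
      rw [e]
      refine Commute.mul_left (Commute.mul_left ?_ hc2.symm) (hzc k x₀).inv_left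
      exact ((Commute.refl x₀).zpow_left i).inv_left
    obtain ⟨q', hq'⟩ := hdiv z₁ x₀ hzx j hzj
    have hz1j : z₁ ^ j = 1 := by
      rw [hq', zpow_mul, zpow_natCast, hz₁, one_zpow]
    rw [hz1j, mul_one]
    set a := x₀ ^ i * z ^ k with ha
    have haz : a ∈ Subgroup.zpowers z := (Subgroup.zpowers z).mul_mem hxq ⟨k, rfl⟩
    by_contra hane
    obtain ⟨n, hn⟩ := H.exists_gen_pow hp haz hane (Subgroup.mem_zpowers z)
    apply hlam
    have e : (⟨z, hzcen⟩ : Subgroup.center G) = ⟨a, by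
        have h7 := h1
        rwa [hz1j, mul_one] at h7⟩ ^ n := Subtype.ext (by simpa using hn)
    rw [e, map_pow]
    have e2 : lam ⟨a, by
        have h7 := h1
        rwa [hz1j, mul_one] at h7⟩ = 1 := by
      have h8 := h2
      simp only [hz1j, mul_one] at h8
      exact h8
    rw [e2, one_pow]
  · intro g
    obtain ⟨i, j, c, hc, rfl⟩ := H.center_form hp hx hab g
    obtain ⟨k, hk⟩ := hgen ⟨c, hc⟩
    have hkk : lam (⟨c, hc⟩ * (⟨z, hzcen⟩ : Subgroup.center G)⁻¹ ^ k) = 1 := by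
      rw [map_mul, map_pow, map_inv, hk, inv_pow, mul_inv_cancel]
    have hcent : ∀ (n : ℤ) (g : G), g * z ^ n = z ^ n * g := fun n g => H.central ⟨n, rfl⟩ g
    obtain ⟨t, ht⟩ := H.comm (z₁ ^ j) (x₀ ^ i)
    have ht' : z ^ t = ⁅z₁ ^ j, x₀ ^ i⁆ := ht
    refine ⟨x₀ ^ i * z₁ ^ j * z ^ (t + k), (hM _).2 ⟨i, j, t + k, by
        simp only [zpow_natCast]⟩, c * (z ^ k)⁻¹, ?_, ?_⟩
    · refine ⟨⟨c, hc⟩ * (⟨z, hzcen⟩ : Subgroup.center G)⁻¹ ^ k, hkk, ?_⟩
      simp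
    · have h3 : z₁ ^ j * x₀ ^ i = x₀ ^ i * z₁ ^ j * z ^ t := by
        rw [ht', H.comm_central, commutatorElement_def]
        group
      have h4 : c * z₁ ^ j = z₁ ^ j * c := (Subgroup.mem_center_iff.1 hc _).symm
      have h5 : c * x₀ ^ i = x₀ ^ i * c := (Subgroup.mem_center_iff.1 hc _).symm
      calc c * z₁ ^ j * x₀ ^ i = (z₁ ^ j * x₀ ^ i) * c := by
            rw [h4, mul_assoc, h5]
            group
        _ = x₀ ^ i * z₁ ^ j * z ^ t * c := by rw [h3]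
        _ = x₀ ^ i * z₁ ^ j * z ^ (t + k) * (c * (z ^ k)⁻¹) := by
            rw [zpow_add]
            have h6 : z ^ k * (c * (z ^ k)⁻¹) = c := by
              have := (Subgroup.mem_center_iff.1 hc (z ^ k))
              rw [← mul_assoc, this]
              group
            rw [zpow_natCast]
            have h7 : x₀ ^ i * z₁ ^ j * (z ^ t * z ^ k) * (c * (z ^ k)⁻¹) =
                x₀ ^ i * z₁ ^ j * z ^ t * (z ^ k * (c * (z ^ k)⁻¹)) := by group
            rw [h7, h6]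

/-- Reduction of powers. -/
theorem exists_fin_zpow {w : G} (hp : p.Prime) (hw : w ^ p = 1) (j : ℤ) : ∃ b : Fin p, w ^ j = w ^ (b : ℕ) := by
  have hp0 : (0 : ℤ) < p := by exact_mod_cast hp.pos
  have h1 : w ^ j = w ^ (j % (p : ℤ)) := zpow_eq_zpow_emod j (by rw [zpow_natCast]; exact hw)
  have h2 := Int.emod_nonneg j hp0.ne'
  have h3 := Int.emod_lt_of_pos j hp0
  refine ⟨⟨(j % (p : ℤ)).toNat, by omega⟩, ?_⟩
  rw [h1]
  show w ^ (j % (p : ℤ)) = w ^ ((j % (p : ℤ)).toNat)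
  conv_lhs => rw [← Int.toNat_of_nonneg h2]
  rw [zpow_natCast]

theorem exists_fin_zpow' (H : GEData p z) {w : G} (hp : p.Prime) (j : ℤ) :
    ∃ (b : Fin p) (t : ℤ), w ^ j = w ^ (b : ℕ) * z ^ t := by
  have hp0 : (0 : ℤ) < p := by exact_mod_cast hp.pos
  have h2 := Int.emod_nonneg j hp0.ne'
  have h3 := Int.emod_lt_of_pos j hp0
  obtain ⟨s, hs⟩ := H.pow w
  have hs' : z ^ s = w ^ p := hs
  refine ⟨⟨(j % (p : ℤ)).toNat, by omega⟩, s * (j / (p : ℤ)), ?_⟩
  show w ^ j = w ^ ((j % (p : ℤ)).toNat) * _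
  rw [zpow_mul, hs', ← zpow_natCast w (j % (p : ℤ)).toNat, Int.toNat_of_nonneg h2, ← zpow_natCast w p, ← zpow_mul,
    ← zpow_add, Int.emod_add_mul_ediv]

/-- The order of the subgroup generated by two non-commuting elements. -/
theorem card_M (H : GEData p z) {x₀ z₁ : G} (hx : ¬ Commute x₀ z₁) (hz₁ : z₁ ^ p = 1) {M : Subgroup G}
    (hM : ∀ m, m ∈ M ↔ ∃ i j k : ℤ, m = x₀ ^ i * z₁ ^ j * z ^ k) : Nat.card M = p ^ 3 := by
  classical
  have hp : p.Prime := Fact.out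
  let Ψ : Fin p × Fin p × Fin p → M := fun q =>
    ⟨x₀ ^ (q.1 : ℕ) * z₁ ^ (q.2.1 : ℕ) * z ^ (q.2.2 : ℕ), (hM _).2 ⟨(q.1 : ℕ), (q.2.1 : ℕ), (q.2.2 : ℕ), by
      simp only [zpow_natCast]⟩⟩
  have hcent : ∀ (n : ℕ) (g : G), g * z ^ n = z ^ n * g := fun n g => H.central (Subgroup.npow_mem_zpowers z n) g
  have hc₀ : orderOf ⁅x₀, z₁⁆ = p := by
    have hne : ⁅x₀, z₁⁆ ≠ 1 := fun h1 => hx ((H.commute_iff _ _).2 h1)
    rcases (Nat.dvd_prime hp).1 (orderOf_dvd_of_pow_eq_one (H.zp_pow (H.comm x₀ z₁))) with h | h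
    · exact absurd (orderOf_eq_one_iff.1 h) hne
    · exact h
  have hc₁ : orderOf ⁅z₁, x₀⁆ = p := by
    have hne : ⁅z₁, x₀⁆ ≠ 1 := fun h1 => hx ((H.commute_iff _ _).2 h1).symm
    rcases (Nat.dvd_prime hp).1 (orderOf_dvd_of_pow_eq_one (H.zp_pow (H.comm z₁ x₀))) with h | h
    · exact absurd (orderOf_eq_one_iff.1 h) hne
    · exact h
  have hinj : Function.Injective Ψ := by
    rintro ⟨a, b, c⟩ ⟨a', b', c'⟩ h
    have h0 : x₀ ^ (a : ℕ) * z₁ ^ (b : ℕ) * z ^ (c : ℕ) = x₀ ^ (a' : ℕ) * z₁ ^ (b' : ℕ) * z ^ (c' : ℕ) :=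
      congrArg Subtype.val h
    have hcz : ∀ (n : ℕ) (g : G), ⁅z ^ n, g⁆ = 1 := by
      intro n g
      rw [← H.commute_iff]
      exact (hcent n g).symm
    have hcz1 : ∀ n : ℕ, ⁅z₁ ^ n, z₁⁆ = 1 := by
      intro n
      rw [← H.commute_iff]
      exact (Commute.refl z₁).pow_left n
    have hcx : ∀ n : ℕ, ⁅x₀ ^ n, x₀⁆ = 1 := by
      intro n
      rw [← H.commute_iff]
      exact (Commute.refl x₀).pow_left n
    have h1 := congrArg (fun w => ⁅w, z₁⁆) h0
    simp only [H.comm_mul_left, hcz, hcz1, H.comm_pow_left x₀ z₁, mul_one] at h1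
    have ha : (a : ℕ) = a' := by
      have h2 := pow_inj_mod.1 h1
      rw [hc₀, Nat.mod_eq_of_lt a.2, Nat.mod_eq_of_lt a'.2] at h2
      exact h2
    have ha' : a = a' := Fin.ext ha
    subst ha'
    have h0' := mul_left_cancel (a := x₀ ^ (a : ℕ)) (by rw [← mul_assoc, ← mul_assoc]; exact h0 :
      x₀ ^ (a : ℕ) * (z₁ ^ (b : ℕ) * z ^ (c : ℕ)) = x₀ ^ (a : ℕ) * (z₁ ^ (b' : ℕ) * z ^ (c' : ℕ)))
    have h3 := congrArg (fun w => ⁅w, x₀⁆) h0'
    simp only [H.comm_mul_left, hcz, H.comm_pow_left z₁ x₀, mul_one] at h3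
    have hb : (b : ℕ) = b' := by
      have h2 := pow_inj_mod.1 h3
      rw [hc₁, Nat.mod_eq_of_lt b.2, Nat.mod_eq_of_lt b'.2] at h2
      exact h2
    have hb' : b = b' := Fin.ext hb
    subst hb'
    have h4 := mul_left_cancel h0'
    have hc : (c : ℕ) = c' := by
      have h2 := pow_inj_mod.1 h4
      rw [H.ord, Nat.mod_eq_of_lt c.2, Nat.mod_eq_of_lt c'.2] at h2
      exact h2
    have hc' : c = c' := Fin.ext hc
    subst hc'
    rfl
  have hsurj : Function.Surjective Ψ := by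
    rintro ⟨m, hm⟩
    obtain ⟨i, j, k, rfl⟩ := (hM _).1 hm
    obtain ⟨r, t, hr⟩ := exists_fin_zpow' H (w := x₀) hp i
    obtain ⟨b, hb⟩ := exists_fin_zpow (w := z₁) hp hz₁ j
    have hzp : z ^ p = 1 := by
      rw [← H.ord]
      exact pow_orderOf_eq_one z
    obtain ⟨c, hc⟩ := exists_fin_zpow (w := z) hp hzp (t + k)
    refine ⟨(r, b, c), Subtype.ext ?_⟩
    show x₀ ^ (r : ℕ) * z₁ ^ (b : ℕ) * z ^ (c : ℕ) = x₀ ^ i * z₁ ^ j * z ^ k
    rw [hr, hb, ← hc, zpow_add]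
    have h5 : z ^ t * z₁ ^ (b : ℕ) = z₁ ^ (b : ℕ) * z ^ t := (H.central ⟨t, rfl⟩ _).symm
    rw [mul_assoc (x₀ ^ (r : ℕ)) (z ^ t), h5]
    group
  rw [← Nat.card_congr (Equiv.ofBijective Ψ ⟨hinj, hsurj⟩), Nat.card_prod, Nat.card_prod, Nat.card_eq_fintype_card,
    Fintype.card_fin]
  ring

/-- The internal direct product. -/
theorem exists_prod_equiv {M A : Subgroup G} (hA : ∀ a ∈ A, a ∈ Subgroup.center G) (hd : ∀ a ∈ M, a ∈ A → a = 1)
    (hg : ∀ g : G, ∃ m ∈ M, ∃ a ∈ A, g = m * a) : Nonempty (G ≃* M × A) := by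
  have hcomm : ∀ (m : G) (a : A), m * a = a * m := fun m a => Subgroup.mem_center_iff.1 (hA a a.2) m
  let φ : M × A →* G := MonoidHom.mk' (fun q => (q.1 : G) * q.2) (by
    rintro ⟨m, a⟩ ⟨m', a'⟩
    show ((m * m' : M) : G) * ((a * a' : A) : G) = (m : G) * a * ((m' : G) * a')
    simp only [Subgroup.coe_mul]
    calc (m : G) * m' * (a * a') = m * (m' * a) * a' := by group
      _ = m * (a * m') * a' := by rw [hcomm m' a]
      _ = m * a * (m' * a') := by group)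
  have hinj : Function.Injective φ := by
    rw [injective_iff_map_eq_one]
    rintro ⟨m, a⟩ h
    have h1 : (m : G) * a = 1 := h
    have h2 : (m : G) = (a : G)⁻¹ := eq_inv_of_mul_eq_one_left h1
    have h3 : (m : G) = 1 := hd m m.2 (by rw [h2]; exact A.inv_mem a.2)
    have h4 : (a : G) = 1 := by
      rw [h3, one_mul] at h1
      exact h1
    exact Prod.ext (Subtype.ext h3) (Subtype.ext h4)
  have hsurj : Function.Surjective φ := by
    intro g
    obtain ⟨m, hm, a, ha, rfl⟩ := hg g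
    exact ⟨(⟨m, hm⟩, ⟨a, ha⟩), rfl⟩
  exact ⟨(MulEquiv.ofBijective φ ⟨hinj, hsurj⟩).symm⟩

/-- Small models of finite groups. -/
theorem exists_small_group (X : Type*) [Group X] [Finite X] : ∃ (Y : Type) (_ : Group Y), Nonempty (X ≃* Y) := by
  exact ⟨Shrink.{0} X, inferInstance, ⟨(Shrink.mulEquiv).symm⟩⟩

theorem exists_small_comm_group (X : Type*) [Group X] [Finite X] (h : ∀ a b : X, a * b = b * a) :
    ∃ (Y : Type) (_ : CommGroup Y), Nonempty (X ≃* Y) := by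
  letI : CommGroup X := { (inferInstance : Group X) with mul_comm := h }
  exact ⟨Shrink.{0} X, inferInstance, ⟨(Shrink.mulEquiv).symm⟩⟩

end Decomp

end GE

end Cfsg.Agent.H24
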