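import Mathlib
import Cfsg.Agent.Lib.H24.GES1

/-!
Recognition of the factors in the direct decomposition of a generalized extraspecial group.
-/

set_option autoImplicit false
set_option linter.style.haveILetI false

namespace Cfsg.Agent.H24

open Cfsg
open scoped commutatorElement

universe u

variable {G : Type u} [Group G] {p : ℕ} {z : G}

/-- The dihedral case. -/
theorem ge_dihedral [Finite G] [Fact (Nat.Prime 2)] (hG : IsPGroup 2 G) (H : GEData 2 z) {x₀ z₁ : G}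
    (hx : ¬ Commute x₀ z₁) (hz₁ : z₁ ^ 2 = 1) (hab : ∀ a b : G, Commute a z₁ → Commute b z₁ → Commute a b)
    (hpw : ∀ a : G, Commute a z₁ → a ^ 2 = 1) :
    ∃ (A : Type) (_ : CommGroup A), (∀ a : A, a ^ 2 = 1) ∧ Nonempty (G ≃* DihedralGroup 4 × A) := by
  classical
  have hp : Nat.Prime 2 := Fact.out
  obtain ⟨M, A₀, hM, hA, hd, hg⟩ := ge_decomp hG H hx hz₁ hab hpw
  have hcard := card_M H hx hz₁ hM
  obtain ⟨e₁⟩ := exists_prod_equiv (fun a ha => (hA a ha).1) hd hg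
  have hcA : ∀ a b : A₀, a * b = b * a := fun a b => Subtype.ext (Subgroup.mem_center_iff.1 (hA b b.2).1 a)
  obtain ⟨Y, iY, ⟨e₂⟩⟩ := exists_small_comm_group A₀ hcA
  have hYexp : ∀ a : Y, a ^ 2 = 1 := by
    intro a
    have h1 : (e₂.symm a) ^ 2 = 1 := Subtype.ext (hA _ (e₂.symm a).2).2
    have h2 := congrArg e₂ h1
    simpa using h2
  have hzM : z ∈ M := (hM z).2 ⟨0, 0, 1, by simp⟩
  have hz1M : z₁ ∈ M := (hM z₁).2 ⟨0, 1, 0, by simp⟩
  have hx0M : x₀ ∈ M := (hM x₀).2 ⟨1, 0, 0, by simp⟩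
  -- an element of order four
  obtain ⟨ρ, hρM, hρ2, hρz⟩ : ∃ ρ ∈ M, ρ ^ 2 ≠ 1 ∧ ¬ Commute ρ z₁ := by
    by_cases h1 : x₀ ^ 2 = 1
    · refine ⟨x₀ * z₁, M.mul_mem hx0M hz1M, ?_, ?_⟩
      · have h2 := class2_pow x₀ z₁ ⁅z₁, x₀⁆ (by rw [commutatorElement_def]; group)
          (fun w => (H.comm_central z₁ x₀ w).symm) 2
        rw [h2, h1, hz₁, one_mul, one_mul]
        simp only [Nat.choose_self, pow_one]
        intro h3
        exact hx ((H.commute_iff _ _).2 h3).symm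
      · intro h3
        apply hx
        have h4 : Commute (x₀ * z₁ * z₁⁻¹) z₁ := h3.mul_left (Commute.refl z₁).inv_left
        simpa using h4
    · exact ⟨x₀, hx0M, h1, hx⟩
  have hρ4 : ρ ^ 4 = 1 := by
    have e : ρ ^ 4 = (ρ ^ 2) ^ 2 := by rw [← pow_mul]
    rw [e]
    exact H.zp_pow (H.pow ρ)
  have hord : orderOf ρ = 4 := by
    have h1 := orderOf_eq_prime_pow (p := 2) (n := 1) (x := ρ) (by simpa using hρ2) (by simpa using hρ4)
    simpa using h1
  have hcomm : ⁅z₁, ρ⁆ = ρ ^ 2 := by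
    have hne : ⁅z₁, ρ⁆ ≠ 1 := fun h1 => hρz ((H.commute_iff _ _).2 h1).symm
    obtain ⟨k, hk⟩ := H.exists_gen_pow hp (H.pow ρ) hρ2 (H.comm z₁ ρ)
    rcases Nat.even_or_odd' k with ⟨m, rfl | rfl⟩
    · exfalso
      apply hne
      rw [hk, pow_mul, H.zp_pow (H.pow ρ), one_pow]
    · rw [hk, pow_succ, pow_mul, H.zp_pow (H.pow ρ), one_pow, one_mul]
  have hrel : z₁ * ρ * z₁⁻¹ = ρ⁻¹ := by
    have h1 : z₁ * ρ * z₁⁻¹ = ⁅z₁, ρ⁆ * ρ := by
      rw [commutatorElement_def]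
      group
    rw [h1, hcomm, eq_inv_iff_mul_eq_one]
    calc ρ ^ 2 * ρ * ρ = ρ ^ 4 := by group
      _ = 1 := hρ4
  have hD : Nonempty (M ≃* DihedralGroup 4) := by
    apply Cfsg.Agent.H15.dihedral_of (⟨ρ, hρM⟩ : M) (⟨z₁, hz1M⟩ : M) 4 (by norm_num)
    · rw [Subgroup.orderOf_mk]
      exact hord
    · apply Subtype.ext
      show z₁ * z₁ = 1
      rw [← pow_two]
      exact hz₁
    · apply Subtype.ext
      exact hrel
    · rw [hcard]
      norm_num
    · intro h1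
      obtain ⟨k, hk⟩ := Subgroup.mem_zpowers_iff.1 h1
      have h2 : ρ ^ k = z₁ := congrArg Subtype.val hk
      apply hρz
      rw [← h2]
      exact (Commute.refl ρ).zpow_right k
  obtain ⟨eD⟩ := hD
  exact ⟨Y, iY, hYexp, ⟨e₁.trans (MulEquiv.prodCongr eD e₂)⟩⟩

/-- The central elements of the subgroup generated by two non-commuting elements. -/
theorem zp_of_commute [Finite G] [Fact p.Prime] (H : GEData p z) {x₀ z₁ : G} (hx : ¬ Commute x₀ z₁) (hz₁ : z₁ ^ p = 1)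
    {i j k : ℤ} (h1 : Commute (x₀ ^ i * z₁ ^ j * z ^ k) z₁) (h2 : Commute (x₀ ^ i * z₁ ^ j * z ^ k) x₀) :
    x₀ ^ i * z₁ ^ j * z ^ k ∈ Subgroup.zpowers z := by
  have hp : p.Prime := Fact.out
  have hzpc : ∀ (k : ℤ) (g : G), g * z ^ k = z ^ k * g := fun k g => H.central ⟨k, rfl⟩ g
  have hdiv : ∀ (w y : G), ¬ Commute w y → ∀ i : ℤ, Commute (w ^ i) y → (p : ℤ) ∣ i := by
    intro w y hwy i hi
    by_contra hnd
    have hcop : IsCoprime i (p : ℤ) := by
      rw [isCoprime_comm]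
      exact (Nat.prime_iff_prime_int.1 hp).coprime_iff_not_dvd.2 hnd
    obtain ⟨u, v, huv⟩ := hcop
    have h4 : w = (w ^ i) ^ u * (w ^ p) ^ v := by
      rw [← zpow_mul, ← zpow_natCast, ← zpow_mul, ← zpow_add]
      have : i * u + (p : ℤ) * v = 1 := by linarith
      rw [this, zpow_one]
    have h5 : Commute (w ^ p) y := (H.central (H.pow w) y).symm
    apply hwy
    rw [h4]
    exact (hi.zpow_left u).mul_left (h5.zpow_left v)
  have hzc : ∀ (k : ℤ) (g : G), Commute (z ^ k) g := fun k g => (hzpc k g).symm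
  have hxi : Commute (x₀ ^ i) z₁ := by
    have e : x₀ ^ i = x₀ ^ i * z₁ ^ j * z ^ k * (z ^ k)⁻¹ * (z₁ ^ j)⁻¹ := by group
    rw [e]
    refine Commute.mul_left (Commute.mul_left h1 (hzc k z₁).inv_left) ?_
    exact ((Commute.refl z₁).zpow_left j).inv_left
  obtain ⟨q, hq⟩ := hdiv x₀ z₁ hx i hxi
  have hxq : x₀ ^ i ∈ Subgroup.zpowers z := by
    rw [hq, zpow_mul, zpow_natCast]
    exact Subgroup.zpow_mem _ (H.pow x₀) q
  have hzx : ¬ Commute z₁ x₀ := fun h => hx h.symm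
  have hzj : Commute (z₁ ^ j) x₀ := by
    have e : z₁ ^ j = (x₀ ^ i)⁻¹ * (x₀ ^ i * z₁ ^ j * z ^ k) * (z ^ k)⁻¹ := by group
    rw [e]
    refine Commute.mul_left (Commute.mul_left ?_ h2) (hzc k x₀).inv_left
    exact ((Commute.refl x₀).zpow_left i).inv_left
  obtain ⟨q', hq'⟩ := hdiv z₁ x₀ hzx j hzj
  have hz1j : z₁ ^ j = 1 := by
    rw [hq', zpow_mul, zpow_natCast, hz₁, one_zpow]
  rw [hz1j, mul_one]
  exact (Subgroup.zpowers z).mul_mem hxq ⟨k, rfl⟩

/-- The extraspecial case. -/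
theorem ge_extra [Finite G] [Fact p.Prime] (hG : IsPGroup p G) (H : GEData p z) {x₀ z₁ : G}
    (hx : ¬ Commute x₀ z₁) (hz₁ : z₁ ^ p = 1) (hab : ∀ a b : G, Commute a z₁ → Commute b z₁ → Commute a b)
    (hpw : ∀ a : G, Commute a z₁ → a ^ p = 1) (hexp : ∀ w : G, w ^ p = 1) :
    ∃ (E : Type) (_ : Group E) (A : Type) (_ : CommGroup A), IsExtraspecial p E ∧ Nat.card E = p ^ 3 ∧
      Monoid.exponent E = p ∧ (∀ a : A, a ^ p = 1) ∧ Nonempty (G ≃* E × A) := by
  classical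
  have hp : p.Prime := Fact.out
  obtain ⟨M, A₀, hM, hA, hd, hg⟩ := ge_decomp hG H hx hz₁ hab hpw
  have hcard := card_M H hx hz₁ hM
  obtain ⟨e₁⟩ := exists_prod_equiv (fun a ha => (hA a ha).1) hd hg
  have hcA : ∀ a b : A₀, a * b = b * a := fun a b => Subtype.ext (Subgroup.mem_center_iff.1 (hA b b.2).1 a)
  obtain ⟨Y, iY, ⟨e₂⟩⟩ := exists_small_comm_group A₀ hcA
  have hYexp : ∀ a : Y, a ^ p = 1 := by
    intro a
    have h1 : (e₂.symm a) ^ p = 1 := Subtype.ext (hA _ (e₂.symm a).2).2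
    have h2 := congrArg e₂ h1
    simpa using h2
  obtain ⟨E, iE, ⟨e₃⟩⟩ := exists_small_group M
  have hzM : z ∈ M := (hM z).2 ⟨0, 0, 1, by simp⟩
  have hz1M : z₁ ∈ M := (hM z₁).2 ⟨0, 1, 0, by simp⟩
  have hx0M : x₀ ∈ M := (hM x₀).2 ⟨1, 0, 0, by simp⟩
  have hMp : IsPGroup p M := hG.to_subgroup M
  have hzcen : ∀ (u : G), u ∈ Subgroup.zpowers z → ∀ (h : u ∈ M), (⟨u, h⟩ : M) ∈ Subgroup.center M := by
    intro u hu h
    rw [Subgroup.mem_center_iff]
    intro g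
    exact Subtype.ext (H.central hu g)
  have hcenter : Subgroup.center M = Subgroup.zpowers (⟨z, hzM⟩ : M) := by
    ext m
    constructor
    · intro hm
      obtain ⟨i, j, k, hm'⟩ := (hM m).1 m.2
      have h1 : Commute (m : G) z₁ := by
        have := Subgroup.mem_center_iff.1 hm ⟨z₁, hz1M⟩
        exact (congrArg Subtype.val this).symm
      have h2 : Commute (m : G) x₀ := by
        have := Subgroup.mem_center_iff.1 hm ⟨x₀, hx0M⟩
        exact (congrArg Subtype.val this).symm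
      rw [hm'] at h1 h2
      have h3 := zp_of_commute H hx hz₁ h1 h2
      rw [← hm'] at h3
      obtain ⟨t, ht⟩ := h3
      refine Subgroup.mem_zpowers_iff.2 ⟨t, Subtype.ext ?_⟩
      exact ht
    · intro hm
      obtain ⟨t, rfl⟩ := Subgroup.mem_zpowers_iff.1 hm
      exact Subgroup.zpow_mem _ (hzcen z (Subgroup.mem_zpowers z) hzM) t
  have hcc : Nat.card (Subgroup.center M) = p := by
    rw [hcenter, Nat.card_zpowers, Subgroup.orderOf_mk, H.ord]
  haveI : Finite E := Finite.of_equiv M e₃.toEquiv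
  have hext : IsExtraspecial p E := by
    apply Cfsg.Agent.H18.isExtraspecial_of_equiv e₃ hMp hcc
    · intro m
      exact hzcen _ (H.pow m) _
    · intro a b
      have h1 : ((a * b * a⁻¹ * b⁻¹ : M) : G) = ⁅(a : G), (b : G)⁆ := by
        rw [commutatorElement_def]
        rfl
      have h2 := hzcen _ (H.comm (a : G) (b : G)) (by rw [← h1]; exact (a * b * a⁻¹ * b⁻¹).2)
      have h3 : (a * b * a⁻¹ * b⁻¹ : M) = ⟨⁅(a : G), (b : G)⁆, by rw [← h1]; exact (a * b * a⁻¹ * b⁻¹).2⟩ :=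
        Subtype.ext h1
      rw [h3]
      exact h2
    · refine ⟨⟨x₀, hx0M⟩, ⟨z₁, hz1M⟩, ?_⟩
      intro h1
      apply hx
      have h2 : ⁅x₀, z₁⁆ = 1 := by
        rw [commutatorElement_def]
        exact congrArg Subtype.val h1
      exact (H.commute_iff _ _).2 h2
  have hcardE : Nat.card E = p ^ 3 := by
    rw [← Nat.card_congr e₃.toEquiv, hcard]
  have hEexp : ∀ g : E, g ^ p = 1 := by
    intro g
    have h1 : (e₃.symm g) ^ p = 1 := Subtype.ext (hexp _)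
    have h2 := congrArg e₃ h1
    simpa using h2
  have hexpo : Monoid.exponent E = p := by
    have h1 : Monoid.exponent E ∣ p := Monoid.exponent_dvd_of_forall_pow_eq_one hEexp
    rcases (Nat.dvd_prime hp).1 h1 with h2 | h2
    · exfalso
      rw [Monoid.exp_eq_one_iff] at h2
      have h3 : Nat.card E = 1 := Nat.card_unique
      rw [hcardE] at h3
      have h4 := hp.two_le
      have h5 : 1 < p ^ 3 := Nat.one_lt_pow (by norm_num) hp.one_lt
      omega
    · exact h2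
  exact ⟨E, iE, Y, iY, hext, hcardE, hexpo, hYexp, ⟨e₁.trans (MulEquiv.prodCongr e₃ e₂)⟩⟩

end Cfsg.Agent.H24
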