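import Mathlib
import Cfsg.Agent.Lib.H24.GES2
import Cfsg.Agent.Lib.H24.FusAG3
import Cfsg.Agent.Lib.H25.FusSub
import Cfsg.Agent.Lib.H25.FusEss2

/-!
Strongly closed generalized extraspecial subgroups: the local analysis.
-/

set_option autoImplicit false
set_option linter.style.haveILetI false

namespace Cfsg.Agent.H24

open Cfsg Cfsg.FusionSystem Cfsg.Agent.H25
open scoped commutatorElement Pointwise

universe u

section Group

variable {G : Type*} [Group G] {p : ℕ} [Fact p.Prime]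

/-- Elements of `p`-power order fix the elements of order `p` in a subgroup they normalize. -/
theorem conj_fix_of_prime {z s : G} {k : ℕ} (hz : orderOf z = p) (hs : s ^ (p ^ k) = 1)
    (h : s * z * s⁻¹ ∈ Subgroup.zpowers z) : s * z * s⁻¹ = z := by
  have hp : p.Prime := Fact.out
  have hpos : 0 < orderOf z := by rw [hz]; exact hp.pos
  obtain ⟨a, ha⟩ : ∃ a : ℕ, s * z * s⁻¹ = z ^ a := by
    have hfin : IsOfFinOrder z := orderOf_pos_iff.1 hpos
    obtain ⟨a, ha⟩ := hfin.mem_powers_iff_mem_zpowers.2 h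
    exact ⟨a, ha.symm⟩
  have hit : ∀ n : ℕ, s ^ n * z * (s ^ n)⁻¹ = z ^ (a ^ n) := by
    intro n
    induction n with
    | zero => simp
    | succ n ih =>
      have e1 : s ^ (n + 1) = s * s ^ n := pow_succ' s n
      have h1 : s * s ^ n * z * (s * s ^ n)⁻¹ = s * (s ^ n * z * (s ^ n)⁻¹) * s⁻¹ := by group
      rw [e1, h1, ih]
      have h2 : s * z ^ (a ^ n) * s⁻¹ = (s * z * s⁻¹) ^ (a ^ n) := conj_pow.symm
      rw [h2, ha, ← pow_mul, pow_succ']
  have h1 := hit (p ^ k)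
  rw [hs] at h1
  simp only [one_mul, inv_one, mul_one] at h1
  rw [ha]
  have h2 : z ^ a = z ^ (a ^ (p ^ k)) := by
    rw [pow_eq_pow_iff_modEq, hz]
    have h3 : ((a : ZMod p)) ^ (p ^ k) = a := ZMod.pow_card_pow (a : ZMod p)
    have h4 : ((a ^ (p ^ k) : ℕ) : ZMod p) = (a : ZMod p) := by
      push_cast
      exact h3
    exact ((ZMod.natCast_eq_natCast_iff _ _ _).1 h4).symm
  rw [h2]
  exact h1.symm

/-- Elements of a subgroup of prime order generated by any non-trivial element. -/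
theorem exists_pow_of_prime_order [Finite G] {y u v : G} (hy : orderOf y = p) (hu : u ∈ Subgroup.zpowers y) (hne : u ≠ 1)
    (hv : v ∈ Subgroup.zpowers y) : ∃ k : ℕ, v = u ^ k := by
  have hp : p.Prime := Fact.out
  have hle : Subgroup.zpowers u ≤ Subgroup.zpowers y := Subgroup.zpowers_le.2 hu
  have hcard : Nat.card (Subgroup.zpowers y) = p := by rw [Nat.card_zpowers, hy]
  have hd := Subgroup.card_dvd_of_le hle
  rw [hcard] at hd
  have heq : Subgroup.zpowers u = Subgroup.zpowers y := by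
    rcases (Nat.dvd_prime hp).1 hd with h | h
    · exfalso
      apply hne
      have h2 := Subgroup.card_eq_one.1 h
      exact Subgroup.zpowers_eq_bot.1 h2
    · apply Subgroup.eq_of_le_of_card_ge hle
      rw [h, hcard]
  rw [← heq] at hv
  have hfin : IsOfFinOrder u := isOfFinOrder_of_finite u
  obtain ⟨k, hk⟩ := hfin.mem_powers_iff_mem_zpowers.2 hv
  exact ⟨k, hk.symm⟩

/-- The Frattini argument, element by element. -/
theorem frattini_elt [Finite G] (R : Sylow p G) {K H : Subgroup G} (hRK : (R : Subgroup G) ≤ K) (hKH : K ≤ H)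
    (hn : ∀ h ∈ H, ∀ k ∈ K, h * k * h⁻¹ ∈ K) {τ : G} (hτ : τ ∈ H) :
    ∃ k ∈ K, ∃ n ∈ H, (∀ t ∈ (R : Subgroup G), n * t * n⁻¹ ∈ (R : Subgroup G)) ∧ τ = k * n := by
  have hle : ((τ • R : Sylow p G) : Subgroup G) ≤ K := by
    intro x hx
    have h1 : x ∈ (MulAut.conj τ • (R : Subgroup G) : Subgroup G) := by
      rw [← Sylow.coe_subgroup_smul]
      exact hx
    obtain ⟨t, ht, rfl⟩ := h1
    exact hn τ hτ t (hRK ht)
  obtain ⟨k, hk⟩ := MulAction.exists_smul_eq K (R.subtype hRK) ((τ • R).subtype hle)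
  have hk' : (k : G) • R = τ • R := by
    rw [Sylow.smul_subtype] at hk
    exact Sylow.subtype_injective hk
  have hn' : (k : G)⁻¹ * τ ∈ Subgroup.normalizer ((R : Subgroup G) : Set G) :=
    Sylow.smul_eq_iff_mem_normalizer.1 (by rw [mul_smul, ← hk', inv_smul_smul])
  refine ⟨k, k.2, (k : G)⁻¹ * τ, H.mul_mem (H.inv_mem (hKH k.2)) hτ, ?_, by group⟩
  intro t ht
  exact (Subgroup.mem_normalizer_iff.1 hn' t).1 ht

end Group

section Core

variable {G : Type*} [Group G] [Finite G] {p : ℕ} [Fact p.Prime] {z : G}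

theorem GEData.commute_of_pow (H : GEData p z) (hp2 : p ≠ 2) {w y a : G} (hw : w ^ p ≠ 1)
    (hpw : ∀ c : G, Commute c y → c ^ p = 1) (ha : a ^ p = 1) : Commute a y := by
  have hp : p.Prime := Fact.out
  by_contra hnc
  obtain ⟨k, c, hc, rfl⟩ := H.exists_split hp hnc w
  apply hw
  rw [H.pow_mul_odd hp hp2, hpw c hc, one_mul, ← pow_mul, mul_comm, pow_mul, ha, one_pow]

/-- The computation at the heart of the final case. -/
theorem GEData.L_core (H : GEData p z) (hp2 : p ≠ 2) (hBab : ∀ a b : G, a ^ p = 1 → b ^ p = 1 → Commute a b)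
    {g x fg fx : G} {a : ℕ} (ha : ¬ p ∣ a) (hfx : fx ^ p = 1) (e1 : fg ^ p = (g ^ p) ^ a)
    (e2 : ⁅fx, fg⁆ = ⁅x, g⁆ ^ a) : g * (x⁻¹ * fx) = (x⁻¹ * fx) * g := by
  have hp : p.Prime := Fact.out
  set u := (g ^ a)⁻¹ * fg with hu
  have hup : u ^ p = 1 := by
    rw [hu, H.pow_mul_odd hp hp2, e1, inv_pow, ← pow_mul, ← pow_mul, mul_comm a p, inv_mul_cancel]
  have hfg : fg = g ^ a * u := by
    rw [hu]
    group
  have h1 : ⁅fx, fg⁆ = ⁅fx, g⁆ ^ a := by
    rw [hfg, H.comm_mul_right, H.comm_pow_right]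
    have h2 : ⁅fx, u⁆ = 1 := (H.commute_iff _ _).1 (hBab _ _ hfx hup)
    rw [h2, mul_one]
  rw [e2] at h1
  have h3 : ⁅x, g⁆ = ⁅fx, g⁆ := H.pow_inj_zp hp (H.comm _ _) (H.comm _ _) ha h1
  have h4 : ⁅x⁻¹ * fx, g⁆ = 1 := by
    rw [H.comm_mul_left, H.comm_inv_left, ← h3, inv_mul_cancel]
  exact ((H.commute_iff _ _).2 h4).symm

end Core

variable {Ω : Type u} [Group Ω] {S : Subgroup Ω} {F : FusionSystem S} {p : ℕ} [Fact p.Prime] {P : Subgroup Ω}

omit [Fact p.Prime] in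
/-- Elements centralizing a subgroup normalize it. -/
theorem mem_normalizer_of_fix {s : Ω} {Q : Subgroup Ω} (h : ∀ u ∈ Q, s * u * s⁻¹ = u) :
    s ∈ Subgroup.normalizer (Q : Set Ω) := by
  rw [Subgroup.mem_normalizer_iff]
  intro x
  constructor
  · intro hx
    rw [h x hx]
    exact hx
  · intro hx
    have h1 := h _ hx
    have h2 : x = s * x * s⁻¹ := by
      calc x = s⁻¹ * (s * x * s⁻¹) * s := by group
        _ = s⁻¹ * (s * (s * x * s⁻¹) * s⁻¹) * s := by rw [h1]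
        _ = s * x * s⁻¹ := by group
    rw [h2]
    exact hx

/-- The data attached to a strongly closed generalized extraspecial subgroup. -/
theorem exists_gedata [Finite S] (hS : IsPGroup p S) (hP : F.StronglyClosed P)
    (hge : frattini ↥P = commutator ↥P ∧ Nat.card ↥(commutator ↥P) = p) :
    ∃ z : ↥P, GEData p z ∧ ∀ s ∈ S, s * (z : Ω) * s⁻¹ = z := by
  have hp : p.Prime := Fact.out
  haveI : Finite ↥P := finite_of_le hP.1
  have hPp : IsPGroup p ↥P := hS.of_injective (Subgroup.inclusion hP.1) (Subgroup.inclusion_injective _)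
  haveI : Fact (Nat.card ↥(commutator ↥P)).Prime := ⟨by rw [hge.2]; exact hp⟩
  haveI : IsCyclic ↥(commutator ↥P) := isCyclic_of_prime_card rfl
  obtain ⟨z₀, hz₀⟩ := IsCyclic.exists_generator (α := ↥(commutator ↥P))
  have hord : orderOf (z₀ : ↥P) = p := by
    rw [Subgroup.orderOf_coe, orderOf_eq_card_of_forall_mem_zpowers hz₀, hge.2]
  have hmem : ∀ u ∈ commutator ↥P, u ∈ Subgroup.zpowers (z₀ : ↥P) := by
    intro u hu
    obtain ⟨k, hk⟩ := Subgroup.mem_zpowers_iff.1 (hz₀ ⟨u, hu⟩)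
    refine Subgroup.mem_zpowers_iff.2 ⟨k, ?_⟩
    have := congrArg Subtype.val hk
    simpa using this
  have hPn : ∀ s ∈ S, ∀ x ∈ P, s * x * s⁻¹ ∈ P := fun s hs x hx =>
    conj_mem_of_normalizer (normalizer_of_stronglyClosed hP hs) hx
  have hPn' : ∀ s ∈ S, ∀ x ∈ P, s⁻¹ * x * s ∈ P := fun s hs x hx => by
    have := hPn s⁻¹ (S.inv_mem hs) x hx
    simpa using this
  have hcen : ∀ s ∈ S, s * ((z₀ : ↥P) : Ω) * s⁻¹ = ((z₀ : ↥P) : Ω) := by
    intro s hs
    obtain ⟨k, hk⟩ := (IsPGroup.iff_orderOf.1 hS) ⟨s, hs⟩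
    have hk' : s ^ (p ^ k) = 1 := by
      have h1 := pow_orderOf_eq_one (⟨s, hs⟩ : S)
      rw [hk] at h1
      simpa using congrArg Subtype.val h1
    refine conj_fix_of_prime (p := p) ?_ hk' ?_
    · rw [Subgroup.orderOf_coe, hord]
    · let θ : ↥P ≃* ↥P :=
        { toFun := fun x => ⟨s * x * s⁻¹, hPn s hs x x.2⟩
          invFun := fun x => ⟨s⁻¹ * x * s, hPn' s hs x x.2⟩
          left_inv := fun x => Subtype.ext (by simp [mul_assoc])
          right_inv := fun x => Subtype.ext (by simp [mul_assoc])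
          map_mul' := fun x y => Subtype.ext (by simp [mul_assoc]) }
      have h1 : θ (z₀ : ↥P) ∈ commutator ↥P := by
        have h2 : (commutator ↥P).Characteristic := inferInstance
        have h3 := h2.fixed θ.symm
        have h4 : (z₀ : ↥P) ∈ (commutator ↥P) := z₀.2
        have h5 : θ (z₀ : ↥P) ∈ (commutator ↥P).comap θ.symm.toMonoidHom := by
          show θ.symm (θ (z₀ : ↥P)) ∈ commutator ↥P
          simpa using h4
        rwa [h3] at h5
      obtain ⟨t, ht⟩ := hmem _ h1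
      refine Subgroup.mem_zpowers_iff.2 ⟨t, ?_⟩
      have h6 := congrArg Subtype.val ht
      exact (by simpa using h6 : (((z₀ : ↥P) : Ω)) ^ t = ((θ (z₀ : ↥P) : ↥P) : Ω))
  refine ⟨(z₀ : ↥P), ⟨hord, ?_, ?_, ?_⟩, hcen⟩
  · intro x y
    apply hmem
    rw [commutator_def]
    exact Subgroup.commutator_mem_commutator (Subgroup.mem_top _) (Subgroup.mem_top _)
  · intro x
    apply hmem
    rw [← hge.1]
    exact Cfsg.Agent.H01.pow_mem_frattini_of_isPGroup hPp x
  · intro x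
    apply Subtype.ext
    have h1 := hcen x (hP.1 x.2)
    show (x : Ω) * ((z₀ : ↥P) : Ω) = ((z₀ : ↥P) : Ω) * x
    calc (x : Ω) * ((z₀ : ↥P) : Ω) = (x : Ω) * ((z₀ : ↥P) : Ω) * (x : Ω)⁻¹ * x := by group
      _ = ((z₀ : ↥P) : Ω) * x := by rw [h1]

theorem coe_mem_zp {z u : ↥P} (h : u ∈ Subgroup.zpowers z) : (u : Ω) ∈ Subgroup.zpowers (z : Ω) := by
  obtain ⟨k, rfl⟩ := h
  exact ⟨k, by simp⟩

theorem mem_zp_of_coe {z u : ↥P} (h : (u : Ω) ∈ Subgroup.zpowers (z : Ω)) : u ∈ Subgroup.zpowers z := by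
  obtain ⟨k, hk⟩ := h
  refine ⟨k, Subtype.ext ?_⟩
  simpa using hk

/-- Strongly closed subgroups are preserved by maps. -/
theorem Mp.mem_of_sc (hP : F.StronglyClosed P) {R : Subgroup Ω} {f : Ω → Ω} (hm : Mp F R f) {x : Ω} (hxR : x ∈ R)
    (hxP : x ∈ P) : f x ∈ P := by
  obtain ⟨φ, hφ, hf⟩ := hm.restrict (R := R ⊓ P) inf_le_left
  have h1 := hP.2 (R ⊓ P) inf_le_right φ hφ ⟨x, hxR, hxP⟩
  rwa [hf] at h1

/-- The facts about centralizers of conjugates of `z`. -/
theorem ge_facts [Finite S] (hS : IsPGroup p S) (hF : F.IsSaturated p) (hP : F.StronglyClosed P) {z : ↥P}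
    (H : GEData p z) (hzS : ∀ s ∈ S, s * (z : Ω) * s⁻¹ = z) {y : ↥P} (hy : y ∉ Subgroup.zpowers z)
    (hc : F.IsConj (Subgroup.zpowers (y : Ω)) (Subgroup.zpowers (z : Ω))) :
    (∀ a b : ↥P, Commute a y → Commute b y → Commute a b) ∧ (∀ a : ↥P, Commute a y → a ^ p = 1) := by
  have hp : p.Prime := Fact.out
  haveI : Finite ↥P := finite_of_le hP.1
  set Q : Subgroup Ω := Subgroup.zpowers (z : Ω) with hQ
  have hzSm : (z : Ω) ∈ S := hP.1 z.2
  have hQS : Q ≤ S := Subgroup.zpowers_le.2 hzSm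
  have hzp : ∀ s ∈ S, ∀ k : ℤ, s * (z : Ω) ^ k * s⁻¹ = (z : Ω) ^ k := by
    intro s hs k
    rw [← conj_zpow, hzS s hs]
  have hSN : S ≤ Subgroup.normalizer (Q : Set Ω) := by
    intro s hs
    apply mem_normalizer_of_fix
    rintro _ ⟨k, rfl⟩
    exact hzp s hs k
  have hFar := far_of_fullyNormalized hS hF (fullyNormalized_of_normal (F := F) hQS hSN)
  obtain ⟨h, hm, hI⟩ := exists_ext_normalizer hS hFar hc
  set N := normalizerIn S (Subgroup.zpowers (y : Ω)) with hN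
  have hmemN : ∀ a : ↥P, Commute a y → (a : Ω) ∈ N := by
    intro a ha
    have hay : (a : Ω) * y = y * a := congrArg Subtype.val ha.eq
    refine ⟨hP.1 a.2, ?_⟩
    apply mem_normalizer_of_fix
    rintro _ ⟨k, rfl⟩
    show (a : Ω) * (y : Ω) ^ k * (a : Ω)⁻¹ = (y : Ω) ^ k
    rw [← conj_zpow]
    congr 1
    rw [hay]
    group
  have hordy : orderOf y = p := by
    have h1 := hI.card_eq
    rw [Nat.card_zpowers, Nat.card_zpowers, Subgroup.orderOf_coe, Subgroup.orderOf_coe, H.ord] at h1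
    exact h1
  have hKey : ∀ u : ↥P, u ∈ Subgroup.zpowers z → (u : Ω) ∈ N → h u ∈ Q → u = 1 := by
    intro u hu huN hhu
    by_contra hne
    obtain ⟨x, hx, hxu⟩ := hI.surj _ hhu
    have hxN : x ∈ N := le_normalizerIn (Subgroup.zpowers_le.2 (hP.1 y.2)) hx
    have hxeq : x = u := hm.inj hxN huN hxu
    rw [hxeq] at hx
    have huy : u ∈ Subgroup.zpowers y := mem_zp_of_coe hx
    have hzne : z ≠ 1 := by
      intro h0
      have h2 := H.ord
      rw [h0, orderOf_one] at h2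
      exact hp.one_lt.ne h2
    have hzu := H.exists_gen_pow hp hu hne (Subgroup.mem_zpowers z)
    obtain ⟨k, hk⟩ := hzu
    have hzy : z ∈ Subgroup.zpowers y := by
      rw [hk]
      exact Subgroup.pow_mem _ huy k
    obtain ⟨k', hk'⟩ := exists_pow_of_prime_order hordy hzy hzne (Subgroup.mem_zpowers y)
    apply hy
    rw [hk']
    exact Subgroup.pow_mem _ (Subgroup.mem_zpowers z) k'
  have hmapP : ∀ a : ↥P, (a : Ω) ∈ N → h a ∈ P := fun a ha => Mp.mem_of_sc hP hm ha a.2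
  constructor
  · intro a b ha hb
    rw [H.commute_iff]
    have haN := hmemN a ha
    have hbN := hmemN b hb
    apply hKey _ (H.comm a b)
    · show (⁅(a : Ω), (b : Ω)⁆) ∈ N
      rw [commutatorElement_def]
      exact N.mul_mem (N.mul_mem (N.mul_mem haN hbN) (N.inv_mem haN)) (N.inv_mem hbN)
    · have e : ((⁅a, b⁆ : ↥P) : Ω) = (a : Ω) * b * (a : Ω)⁻¹ * (b : Ω)⁻¹ := rfl
      rw [e, hm.map_mul (N.mul_mem (N.mul_mem haN hbN) (N.inv_mem haN)) (N.inv_mem hbN),
        hm.map_mul (N.mul_mem haN hbN) (N.inv_mem haN), hm.map_mul haN hbN, hm.map_inv haN, hm.map_inv hbN]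
      have h2 := coe_mem_zp (H.comm (⟨h a, hmapP a haN⟩ : ↥P) ⟨h b, hmapP b hbN⟩)
      exact h2
  · intro a ha
    have haN := hmemN a ha
    apply hKey _ (H.pow a)
    · show (a : Ω) ^ p ∈ N
      exact N.pow_mem haN p
    · have e : ((a ^ p : ↥P) : Ω) = (a : Ω) ^ p := rfl
      rw [e, hm.map_pow haN]
      have h2 := coe_mem_zp (H.pow (⟨h a, hmapP a haN⟩ : ↥P))
      exact h2

end Cfsg.Agent.H24
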