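import Mathlib
import Cfsg.Agent.Lib.H24.GES3

/-!
Strongly closed generalized extraspecial subgroups: the final case.
-/

set_option autoImplicit false
set_option linter.style.haveILetI false

namespace Cfsg.Agent.H24

open Cfsg Cfsg.FusionSystem Cfsg.Agent.H25
open scoped commutatorElement

universe u

section Abs

variable {E : Type*} [Group E]

theorem pow_act (c : MulAut E) {a v : E} (h1 : c a = v * a) (h2 : c v = v) (n : ℕ) : (c ^ n) a = v ^ n * a := by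
  induction n with
  | zero => simp
  | succ n ih =>
    rw [pow_succ', MulAut.mul_apply, ih, map_mul, map_pow, h2, h1, pow_succ, mul_assoc]

theorem pow_fix (c : MulAut E) {a : E} (h : c a = a) (n : ℕ) : (c ^ n) a = a := by
  induction n with
  | zero => simp
  | succ n ih => rw [pow_succ', MulAut.mul_apply, ih, h]

/-- The product of two transvections inverts the plane they act on. -/
theorem tau_act (c c₁ : MulAut E) {ze ye x₀ : E} (hzy : ze * ye = ye * ze) (h1 : c ze = ze) (h2 : c ye = ze * ye)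
    (h3 : c₁ ye = ye) (h4 : c₁ ze = ye⁻¹ * ze) (hx1 : c x₀ = x₀) (hx2 : c₁ x₀ = x₀) :
    ((c * c₁ * c) * (c * c₁ * c)) ze = ze⁻¹ ∧ ((c * c₁ * c) * (c * c₁ * c)) ye = ye⁻¹ ∧
      ((c * c₁ * c) * (c * c₁ * c)) x₀ = x₀ := by
  have hw1 : (c * c₁ * c) ze = ye⁻¹ := by
    simp only [MulAut.mul_apply, h1, h4, map_mul, map_inv, h2]
    have : ye * ze = ze * ye := hzy.symm
    rw [mul_inv_rev, mul_assoc, inv_mul_cancel, mul_one]
  have hw2 : (c * c₁ * c) ye = ze := by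
    simp only [MulAut.mul_apply, h2, h1, h3, h4, map_mul]
    rw [map_inv, h2]
    have h5 : ye⁻¹ * ze * ye = ze := by
      rw [mul_assoc, hzy, inv_mul_cancel_left]
    calc (ze * ye)⁻¹ * ze * (ze * ye) = ye⁻¹ * ze * ye := by group
      _ = ze := h5
  have hw3 : (c * c₁ * c) x₀ = x₀ := by
    simp only [MulAut.mul_apply, hx1, hx2]
  refine ⟨?_, ?_, ?_⟩
  · rw [MulAut.mul_apply, hw1, map_inv, hw2]
  · rw [MulAut.mul_apply, hw2, hw1]
  · rw [MulAut.mul_apply, hw3, hw3]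

theorem fix_split (c c₁ : MulAut E) {ze x₁ vy : E} {m : ℕ} (hzv : vy * ze = ze * vy) (h1 : c ze = ze) (hx1 : c x₁ = x₁)
    (h2 : c₁ ze = vy * ze) (h3 : c₁ x₁ = vy ^ m * x₁) :
    c ((ze ^ m)⁻¹ * x₁) = (ze ^ m)⁻¹ * x₁ ∧ c₁ ((ze ^ m)⁻¹ * x₁) = (ze ^ m)⁻¹ * x₁ := by
  constructor
  · rw [map_mul, map_inv, map_pow, h1, hx1]
  · rw [map_mul, map_inv, map_pow, h2, h3, (show Commute vy ze from hzv).mul_pow, mul_inv_rev, mul_assoc, inv_mul_cancel_left]

end Abs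

variable {Ω : Type u} [Group Ω] {S : Subgroup Ω} {F : FusionSystem S} {p : ℕ} [Fact p.Prime] {P : Subgroup Ω}

/-- The computation with a map of the system at an element of the final case. -/
theorem ge_L [Finite S] (hP : F.StronglyClosed P) {z : ↥P} (H : GEData p z) (hp2 : p ≠ 2)
    (hBab : ∀ a b : ↥P, a ^ p = 1 → b ^ p = 1 → Commute a b) {R : Subgroup Ω} {f : Ω → Ω} (hm : Mp F R f) {g x : ↥P}
    (hgR : (g : Ω) ∈ R) (hxR : (x : Ω) ∈ R) (hg : g ^ p ≠ 1) (hx : x ^ p = 1) :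
    (g : Ω) * ((x : Ω)⁻¹ * f x) = ((x : Ω)⁻¹ * f x) * g := by
  have hp : p.Prime := Fact.out
  haveI : Finite ↥P := finite_of_le hP.1
  have hmapP : ∀ a : ↥P, (a : Ω) ∈ R → f a ∈ P := fun a ha => Mp.mem_of_sc hP hm ha a.2
  obtain ⟨k, hk⟩ := H.exists_gen_pow hp (H.pow g) hg (Subgroup.mem_zpowers z)
  have hzcoe : (z : Ω) = ((g : Ω) ^ p) ^ k := congrArg Subtype.val hk
  have hzR : (z : Ω) ∈ R := by
    rw [hzcoe]
    exact R.pow_mem (R.pow_mem hgR p) k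
  have hzne : z ≠ 1 := by
    intro h0
    have h2 := H.ord
    rw [h0, orderOf_one] at h2
    exact hp.one_lt.ne h2
  let fg : ↥P := ⟨f g, hmapP g hgR⟩
  have hfz : f z = (((fg ^ p) ^ k : ↥P) : Ω) := by
    rw [hzcoe, hm.map_pow (R.pow_mem hgR p), hm.map_pow hgR]
    rfl
  obtain ⟨a, ha⟩ := H.exists_gen_pow hp (Subgroup.mem_zpowers z) hzne
    (Subgroup.pow_mem _ (H.pow fg) k)
  have hfz' : f z = (z : Ω) ^ a := by
    rw [hfz, ha]
    rfl
  have hzpp : (z : Ω) ^ p = 1 := by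
    have h1 := H.zp_pow (Subgroup.mem_zpowers z)
    exact congrArg Subtype.val h1
  have hadvd : ¬ p ∣ a := by
    rintro ⟨b, rfl⟩
    apply hzne
    apply Subtype.ext
    have h1 : f z = 1 := by rw [hfz', pow_mul, hzpp, one_pow]
    exact hm.inj hzR R.one_mem (h1.trans hm.map_one.symm)
  have hfu : ∀ u : ↥P, u ∈ Subgroup.zpowers z → f u = ((u ^ a : ↥P) : Ω) := by
    intro u hu
    obtain ⟨t, rfl⟩ := H.exists_gen_pow hp (Subgroup.mem_zpowers z) hzne hu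
    have e : ((z ^ t : ↥P) : Ω) = (z : Ω) ^ t := rfl
    rw [e, hm.map_pow hzR, hfz']
    show ((z : Ω) ^ a) ^ t = ((z : Ω) ^ t) ^ a
    rw [← pow_mul, ← pow_mul, mul_comm]
  let fx : ↥P := ⟨f x, hmapP x hxR⟩
  have hgpR : ((g ^ p : ↥P) : Ω) ∈ R := R.pow_mem hgR p
  have hfx : fx ^ p = 1 := by
    apply Subtype.ext
    show (f x) ^ p = 1
    rw [← hm.map_pow hxR]
    have e : (x : Ω) ^ p = 1 := congrArg Subtype.val hx
    rw [e, hm.map_one]
  have e1 : fg ^ p = (g ^ p) ^ a := by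
    apply Subtype.ext
    show (f g) ^ p = _
    rw [← hm.map_pow hgR]
    exact hfu _ (H.pow g)
  have e2 : ⁅fx, fg⁆ = ⁅x, g⁆ ^ a := by
    apply Subtype.ext
    have h3 := hfu _ (H.comm x g)
    rw [← h3]
    have e3 : ((⁅x, g⁆ : ↥P) : Ω) = (x : Ω) * g * (x : Ω)⁻¹ * (g : Ω)⁻¹ := rfl
    rw [e3, hm.map_mul (R.mul_mem (R.mul_mem hxR hgR) (R.inv_mem hxR)) (R.inv_mem hgR),
      hm.map_mul (R.mul_mem hxR hgR) (R.inv_mem hxR), hm.map_mul hxR hgR, hm.map_inv hxR, hm.map_inv hgR]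
    rfl
  have h4 := H.L_core hp2 hBab hadvd hfx e1 e2
  exact congrArg Subtype.val h4

/-- Automorphisms give conjugate cyclic subgroups. -/
theorem aut_isConj {E : Subgroup Ω} (hES : E ≤ S) {β : MulAut E} (hβ : β ∈ F.autGroup E) (x : E) :
    F.IsConj (Subgroup.zpowers (x : Ω)) (Subgroup.zpowers ((β x : E) : Ω)) := by
  have hm := Mp.of_mem_autGroup hES hβ
  have hle : Subgroup.zpowers (x : Ω) ≤ E := Subgroup.zpowers_le.2 x.2
  have hm' := hm.restrict hle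
  have hv : toFun (E.subtype.comp β.toMonoidHom) (x : Ω) = ((β x : E) : Ω) := toFun_aut β x
  refine isConj_iff.mpr ⟨_, hm', ?_, ?_⟩
  · rintro _ ⟨k, rfl⟩
    show toFun (E.subtype.comp β.toMonoidHom) ((x : Ω) ^ k) ∈ _
    rw [hm.map_zpow x.2 k, hv]
    exact Subgroup.zpow_mem _ (Subgroup.mem_zpowers _) k
  · rintro _ ⟨k, rfl⟩
    refine ⟨(x : Ω) ^ k, Subgroup.zpow_mem _ (Subgroup.mem_zpowers _) k, ?_⟩
    show toFun (E.subtype.comp β.toMonoidHom) ((x : Ω) ^ k) = ((β x : E) : Ω) ^ k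
    rw [hm.map_zpow x.2 k, hv]

end Cfsg.Agent.H24
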