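import Mathlib
import Cfsg.Agent.Lib.H24.GES4

/-!
Strongly closed generalized extraspecial subgroups: the final case `p` odd, exponent `p²`.
-/

set_option autoImplicit false
set_option linter.style.haveILetI false
set_option maxHeartbeats 1000000

namespace Cfsg.Agent.H24

open Cfsg Cfsg.FusionSystem Cfsg.Agent.H25
open scoped commutatorElement

universe u

theorem GEData.comm_inv_right {G : Type*} [Group G] {p : ℕ} {z : G} (H : GEData p z) (a c : G) :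
    ⁅a, c⁻¹⁆ = ⁅a, c⁆⁻¹ := by
  have h := H.comm_mul_right a c⁻¹ c
  rw [inv_mul_cancel, commutatorElement_one_right] at h
  exact eq_inv_of_mul_eq_one_left h.symm

variable {Ω : Type u} [Group Ω] {S : Subgroup Ω} {F : FusionSystem S} {p : ℕ} [Fact p.Prime] {P : Subgroup Ω}

theorem ge_final [Finite S] (hS : IsPGroup p S) (hF : F.IsSaturated p) (hP : F.StronglyClosed P) {z : ↥P}
    (H : GEData p z) (hzS : ∀ s ∈ S, s * (z : Ω) * s⁻¹ = z) (hp2 : p ≠ 2) {E : Subgroup Ω} (hE : F.IsEssential p E)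
    {w : ↥P} (hw : w ^ p ≠ 1) {g : ↥P} (hgN : (g : Ω) ∈ normalizerIn S E) (hgE : (g : Ω) ∉ E)
    {α : MulAut E} (hα : α ∈ F.autGroup E) (ze : E) (hze : (ze : Ω) = z)
    (hmoved : ∀ hy : ((α ze : E) : Ω) ∈ P, (⟨_, hy⟩ : ↥P) ∉ Subgroup.zpowers z) : False := by
  classical
  have hp : p.Prime := Fact.out
  haveI : Finite ↥P := finite_of_le hP.1
  have hES : E ≤ S := hE.1.1
  haveI : Finite ↥E := finite_of_le hES
  have hrad : F.IsRadical p E := isRadical_of_isEssential hS hE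
  have hAP : ∀ β ∈ F.autGroup E, ∀ x : E, (x : Ω) ∈ P → ((β x : E) : Ω) ∈ P :=
    fun β hβ x hx => aut_mem_inf hP hES hβ hx x.2
  have hzP : (ze : Ω) ∈ P := by
    rw [hze]
    exact z.2
  have hzne : z ≠ 1 := by
    intro h0
    have h2 := H.ord
    rw [h0, orderOf_one] at h2
    exact hp.one_lt.ne h2
  have hzeE : (z : Ω) ∈ E := hze ▸ ze.2
  have hzmem : ∀ u : ↥P, u ∈ Subgroup.zpowers z → (u : Ω) ∈ E := by
    rintro _ ⟨k, rfl⟩
    show ((z : Ω)) ^ k ∈ E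
    exact E.zpow_mem hzeE k
  have hzc : ∀ u : ↥P, u ∈ Subgroup.zpowers z → ∀ s ∈ S, s * (u : Ω) * s⁻¹ = u := by
    rintro _ ⟨k, rfl⟩ s hs
    show s * ((z : Ω)) ^ k * s⁻¹ = ((z : Ω)) ^ k
    rw [← conj_zpow, hzS s hs]
  -- the conjugates of `z`
  obtain ⟨ye, hye⟩ : ∃ ye : E, ye = α ze := ⟨_, rfl⟩
  have hyP : (ye : Ω) ∈ P := hye ▸ hAP α hα ze hzP
  have hyz : (⟨ye, hyP⟩ : ↥P) ∉ Subgroup.zpowers z := by
    subst hye
    exact hmoved hyP
  obtain ⟨ye', hye'⟩ : ∃ ye' : E, α ye' = ze := ⟨α⁻¹ ze, by simp⟩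
  have hye'2 : ye' = α⁻¹ ze := by
    rw [← hye']
    simp
  have hy'P : (ye' : Ω) ∈ P := by
    rw [hye'2]
    exact hAP _ (Subgroup.inv_mem _ hα) ze hzP
  have hy'z : (⟨ye', hy'P⟩ : ↥P) ∉ Subgroup.zpowers z := by
    intro hmem
    have hne : (⟨ye', hy'P⟩ : ↥P) ≠ 1 := by
      intro h1
      have h2 : (ye' : Ω) = 1 := congrArg Subtype.val h1
      have h3 : ye' = 1 := Subtype.ext h2
      rw [h3, map_one] at hye'
      apply hzne
      apply Subtype.ext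
      rw [← hze, ← hye']
      rfl
    obtain ⟨k, hk⟩ := H.exists_gen_pow hp hmem hne (Subgroup.mem_zpowers z)
    have e : ze = ye' ^ k := by
      apply Subtype.ext
      rw [hze]
      exact congrArg Subtype.val hk
    have e2 : ye = ze ^ k := by
      rw [hye]
      conv_lhs => rw [e]
      rw [map_pow, hye']
    apply hyz
    have e3 : (⟨ye, hyP⟩ : ↥P) = z ^ k := by
      apply Subtype.ext
      show (ye : Ω) = (z : Ω) ^ k
      rw [e2, ← hze]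
      rfl
    rw [e3]
    exact Subgroup.pow_mem _ (Subgroup.mem_zpowers z) k
  have hyconj : F.IsConj (Subgroup.zpowers (ye : Ω)) (Subgroup.zpowers (z : Ω)) := by
    have h1 := aut_isConj hES hα ze
    rw [← hye, hze] at h1
    exact isConj_symm h1
  have hy'conj : F.IsConj (Subgroup.zpowers (ye' : Ω)) (Subgroup.zpowers (z : Ω)) := by
    have h1 := aut_isConj hES hα ye'
    rw [hye', hze] at h1
    exact h1
  obtain ⟨Fy1, Fy2⟩ := ge_facts hS hF hP H hzS hyz hyconj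
  obtain ⟨Fy1', Fy2'⟩ := ge_facts hS hF hP H hzS hy'z hy'conj
  have hB : ∀ a : ↥P, a ^ p = 1 → Commute a ⟨ye, hyP⟩ := fun a ha => H.commute_of_pow hp2 hw Fy2 ha
  have hBab : ∀ a b : ↥P, a ^ p = 1 → b ^ p = 1 → Commute a b := fun a b ha hb => Fy1 a b (hB a ha) (hB b hb)
  -- the intersection with `E` has exponent `p`
  have hQB : ∀ (x : E) (hx : (x : Ω) ∈ P), (⟨x, hx⟩ : ↥P) ^ p = 1 := by
    intro x hx
    by_contra hne
    obtain ⟨k, hk⟩ := H.exists_gen_pow hp (H.pow ⟨x, hx⟩) hne (Subgroup.mem_zpowers z)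
    have e : ze = (x ^ p) ^ k := by
      apply Subtype.ext
      rw [hze]
      exact congrArg Subtype.val hk
    have e2 : ye = ((α x) ^ p) ^ k := by
      rw [hye]
      conv_lhs => rw [e]
      rw [map_pow, map_pow]
    apply hyz
    have e3 : (⟨ye, hyP⟩ : ↥P) = ((⟨α x, hAP α hα x hx⟩ : ↥P) ^ p) ^ k := by
      apply Subtype.ext
      have h9 : (ye : Ω) = ((((α x) ^ p) ^ k : E) : Ω) := by rw [e2]
      exact h9
    rw [e3]
    exact Subgroup.pow_mem _ (H.pow _) k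
  have hgS : (g : Ω) ∈ S := hgN.1
  have hPS : S ≤ Subgroup.normalizer (P : Set Ω) := normalizer_of_stronglyClosed hP
  -- `g` has order `p²`
  have hgp : g ^ p ≠ 1 := by
    intro hg1
    apply hgE
    let cc : ℕ → Subgroup Ω := fun j =>
      match j with
      | 0 => E
      | 1 => E ⊓ P
      | (_ + 2) => ⊥
    refine mem_of_chain hS hE.1 hrad cc 2 rfl ?_ ?_ ?_ hgN ?_
    · intro j
      match j with
      | 0 => exact inf_le_left
      | 1 => exact bot_le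
      | (_ + 2) => exact le_rfl
    · intro j β hβ x hx hxE
      match j with
      | 0 => exact (β ⟨x, hxE⟩).2
      | 1 => exact ⟨(β ⟨x, hxE⟩).2, hAP β hβ ⟨x, hxE⟩ hx.2⟩
      | (_ + 2) =>
        have hx1 : x = 1 := hx
        subst hx1
        have h1 : β ⟨1, hxE⟩ = 1 := map_one β
        rw [h1]
        exact Subgroup.one_mem _
    · intro b _ _ x hx hxE
      have hx1 : x = 1 := hx
      subst hx1
      have h1 : b ⟨1, hxE⟩ = 1 := map_one b
      rw [h1]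
      rfl
    · intro j hj x hx
      match j, hj with
      | 0, _ =>
        have hxE : x ∈ E := hx
        refine ⟨E.mul_mem (E.inv_mem hxE) (conj_mem_of_normalizer hgN.2 hxE), ?_⟩
        have h1 : x⁻¹ * (g : Ω) * x ∈ P := by
          have := conj_mem_of_normalizer (hPS (hES (E.inv_mem hxE))) g.2
          simpa using this
        have h2 : x⁻¹ * ((g : Ω) * x * (g : Ω)⁻¹) = (x⁻¹ * (g : Ω) * x) * (g : Ω)⁻¹ := by group
        rw [h2]
        exact P.mul_mem h1 (P.inv_mem g.2)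
      | 1, _ =>
        have hxE : x ∈ E := hx.1
        have hxP : x ∈ P := hx.2
        have h1 := hBab g ⟨x, hxP⟩ hg1 (hQB ⟨x, hxE⟩ hxP)
        have h2 : (g : Ω) * x = x * g := congrArg Subtype.val h1.eq
        show x⁻¹ * ((g : Ω) * x * (g : Ω)⁻¹) = 1
        rw [h2]
        group
  have hgy : ¬ Commute g ⟨ye, hyP⟩ := fun h0 => hgp (Fy2 g h0)
  have hgy' : ¬ Commute g ⟨ye', hy'P⟩ := fun h0 => hgp (Fy2' g h0)
  -- the conjugation by `g`
  obtain ⟨c, hcR, hce⟩ := exists_conj_mem_R F hES hgN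
  have hcA : c ∈ F.autGroup E := autInducedBy_le hES hcR
  have hcomm_c : ∀ (x : E) (hx : (x : Ω) ∈ P) (hE' : ((⁅g, (⟨x, hx⟩ : ↥P)⁆ : ↥P) : Ω) ∈ E),
      c x = ⟨_, hE'⟩ * x := by
    intro x hx hE'
    apply Subtype.ext
    rw [hce x]
    show _ = (g : Ω) * x * (g : Ω)⁻¹ * (x : Ω)⁻¹ * x
    group
  have hfix_c : ∀ (x : E) (hx : (x : Ω) ∈ P), ⁅g, (⟨x, hx⟩ : ↥P)⁆ = 1 → c x = x := by
    intro x hx h1
    have h2 : Commute g ⟨x, hx⟩ := (H.commute_iff _ _).2 h1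
    have h3 : (g : Ω) * x = x * g := congrArg Subtype.val h2.eq
    apply Subtype.ext
    rw [hce x, h3]
    group
  have hcze : c ze = ze := by
    apply Subtype.ext
    rw [hce ze, hze]
    exact hzS _ hgS
  have hzcen : ∀ x : E, ze * x = x * ze := by
    intro x
    apply Subtype.ext
    have h1 := hzS _ (hES x.2)
    show (ze : Ω) * x = x * ze
    rw [hze]
    calc (z : Ω) * x = (x : Ω) * z * (x : Ω)⁻¹ * x := by rw [h1]
      _ = x * z := by group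
  -- the element of `⟨z⟩` moved to by the action on `y`
  have hv : ⁅g, (⟨ye, hyP⟩ : ↥P)⁆ ∈ Subgroup.zpowers z := H.comm _ _
  have hv1 : ⁅g, (⟨ye, hyP⟩ : ↥P)⁆ ≠ 1 := fun h1 => hgy ((H.commute_iff _ _).2 h1)
  obtain ⟨i, hi⟩ := H.exists_gen_pow hp hv hv1 (Subgroup.mem_zpowers z)
  obtain ⟨vE, hvE⟩ : ∃ vE : E, (vE : Ω) = ⁅g, (⟨ye, hyP⟩ : ↥P)⁆ := ⟨⟨_, hzmem _ hv⟩, rfl⟩
  have hcye : c ye = vE * ye := by
    have h1 := hcomm_c ye hyP (hvE ▸ vE.2)
    rw [h1]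
    congr 1
    exact Subtype.ext hvE.symm
  have hcvE : c vE = vE := by
    apply Subtype.ext
    rw [hce vE, hvE]
    exact hzc _ hv _ hgS
  have hci : (c ^ i) ye = ze * ye := by
    rw [pow_act c hcye hcvE i]
    congr 1
    apply Subtype.ext
    rw [hze, hi]
    show ((vE : Ω)) ^ i = _
    rw [hvE]
    rfl
  -- the same for the other conjugate
  have hv' : ⁅g, (⟨ye', hy'P⟩ : ↥P)⁆ ∈ Subgroup.zpowers z := H.comm _ _
  have hv'1 : ⁅g, (⟨ye', hy'P⟩ : ↥P)⁆ ≠ 1 := fun h1 => hgy' ((H.commute_iff _ _).2 h1)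
  obtain ⟨vE', hvE'⟩ : ∃ vE' : E, (vE' : Ω) = ⁅g, (⟨ye', hy'P⟩ : ↥P)⁆ := ⟨⟨_, hzmem _ hv'⟩, rfl⟩
  have hcye' : c ye' = vE' * ye' := by
    have h1 := hcomm_c ye' hy'P (hvE' ▸ vE'.2)
    rw [h1]
    congr 1
    exact Subtype.ext hvE'.symm
  -- the second transvection
  let c₁ : MulAut E := α * c * α⁻¹
  have hc₁A : c₁ ∈ F.autGroup E := Subgroup.mul_mem _ (Subgroup.mul_mem _ hα hcA) (Subgroup.inv_mem _ hα)
  have hc₁ : ∀ x : E, c₁ x = α (c (α⁻¹ x)) := fun x => rfl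
  have hc₁ye : c₁ ye = ye := by
    rw [hc₁, hye]
    simp [hcze]
  obtain ⟨t, ht⟩ := H.exists_gen_pow hp (Subgroup.mem_zpowers z) hzne hv'
  have hvE'z : vE' = ze ^ t := by
    apply Subtype.ext
    rw [hvE', ht]
    show _ = ((ze : Ω)) ^ t
    rw [hze]
    rfl
  obtain ⟨vy, hvy⟩ : ∃ vy : E, vy = α vE' := ⟨_, rfl⟩
  have hvyt : vy = ye ^ t := by
    rw [hvy, hvE'z, map_pow, hye]
  have hc₁ze : c₁ ze = vy * ze := by
    rw [hc₁, ← hye'2, hcye', map_mul, hye', hvy]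
  have hc₁vy : c₁ vy = vy := by
    rw [hvyt, map_pow, hc₁ye]
  have hordz : orderOf ze = p := by
    rw [← Subgroup.orderOf_coe, hze, Subgroup.orderOf_coe, H.ord]
  have hordy : orderOf ye = p := by
    rw [hye, MulEquiv.orderOf_eq, hordz]
  have hvyne : vy ≠ 1 := by
    intro h1
    rw [hvy] at h1
    have h2 : vE' = 1 := by
      have := (map_eq_one_iff α α.injective).1 h1
      exact this
    apply hv'1
    apply Subtype.ext
    rw [← hvE', h2]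
    rfl
  have hvymem : vy ∈ Subgroup.zpowers ye := by
    rw [hvyt]
    exact Subgroup.pow_mem _ (Subgroup.mem_zpowers ye) t
  obtain ⟨j, hj⟩ := exists_pow_of_prime_order hordy hvymem hvyne
    (Subgroup.inv_mem _ (Subgroup.mem_zpowers ye))
  have hc₁j : (c₁ ^ j) ze = ye⁻¹ * ze := by
    rw [pow_act c₁ hc₁ze hc₁vy j, ← hj]
  have hc₁jy : (c₁ ^ j) ye = ye := pow_fix c₁ hc₁ye j
  have hcizy : (c ^ i) ze = ze := pow_fix c hcze i
  let τ : MulAut E := (c ^ i * c₁ ^ j * c ^ i) * (c ^ i * c₁ ^ j * c ^ i)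
  have hτA : τ ∈ F.autGroup E := by
    have h1 : c ^ i * c₁ ^ j * c ^ i ∈ F.autGroup E :=
      Subgroup.mul_mem _ (Subgroup.mul_mem _ (Subgroup.pow_mem _ hcA i) (Subgroup.pow_mem _ hc₁A j))
        (Subgroup.pow_mem _ hcA i)
    exact Subgroup.mul_mem _ h1 h1
  have hτact : ∀ x₀ : E, c x₀ = x₀ → c₁ x₀ = x₀ → τ ze = ze⁻¹ ∧ τ ye = ye⁻¹ ∧ τ x₀ = x₀ := by
    intro x₀ h1 h2
    exact tau_act (c ^ i) (c₁ ^ j) (hzcen ye) hcizy hci hc₁jy hc₁j (pow_fix c h1 i) (pow_fix c₁ h2 j)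
  have hτze : τ ze = ze⁻¹ := (hτact 1 (map_one c) (map_one c₁)).1
  have hτye : τ ye = ye⁻¹ := (hτact 1 (map_one c) (map_one c₁)).2.1
  -- the action of `τ` on commutators with `g`
  have hχ : ∀ (x : E) (hx : (x : Ω) ∈ P) (hτx : ((τ x : E) : Ω) ∈ P),
      ⁅g, (⟨τ x, hτx⟩ : ↥P)⁆ = ⁅g, (⟨x, hx⟩ : ↥P)⁆⁻¹ := by
    intro x hx hτx
    obtain ⟨m', hm'⟩ := H.exists_gen_pow hp hv hv1 (H.comm g ⟨x, hx⟩)
    obtain ⟨x₁, hx₁⟩ : ∃ x₁ : E, x₁ = (ye ^ m')⁻¹ * x := ⟨_, rfl⟩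
    have hx₁P : (x₁ : Ω) ∈ P := by
      rw [hx₁]
      exact P.mul_mem (P.inv_mem (P.pow_mem hyP m')) hx
    have hx₁hat : (⟨x₁, hx₁P⟩ : ↥P) = ((⟨ye, hyP⟩ : ↥P) ^ m')⁻¹ * ⟨x, hx⟩ := by
      apply Subtype.ext
      have h9 : (x₁ : Ω) = (((ye ^ m')⁻¹ * x : E) : Ω) := by rw [hx₁]
      exact h9
    have hgx₁ : ⁅g, (⟨x₁, hx₁P⟩ : ↥P)⁆ = 1 := by
      rw [hx₁hat, H.comm_mul_right, H.comm_inv_right, H.comm_pow_right, hm', inv_mul_cancel]
    have hcx₁ : c x₁ = x₁ := hfix_c x₁ hx₁P hgx₁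
    obtain ⟨t', ht'⟩ : ∃ t' : E, α t' = x₁ := ⟨α⁻¹ x₁, by simp⟩
    have ht'2 : α⁻¹ x₁ = t' := by
      rw [← ht']
      simp
    have ht'P : (t' : Ω) ∈ P := by
      rw [← ht'2]
      exact hAP _ (Subgroup.inv_mem _ hα) x₁ hx₁P
    obtain ⟨m, hm⟩ := H.exists_gen_pow hp hv' hv'1 (H.comm g ⟨t', ht'P⟩)
    have hct' : c t' = vE' ^ m * t' := by
      apply Subtype.ext
      rw [hce t']
      have h1 : ((⁅g, (⟨t', ht'P⟩ : ↥P)⁆ : ↥P) : Ω) = (vE' : Ω) ^ m := by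
        rw [hm, hvE']
        rfl
      show _ = ((vE' : Ω)) ^ m * t'
      rw [← h1]
      show _ = (g : Ω) * t' * (g : Ω)⁻¹ * (t' : Ω)⁻¹ * t'
      group
    have hc₁x₁ : c₁ x₁ = vy ^ m * x₁ := by
      rw [hc₁, ht'2, hct', map_mul, map_pow, ht', hvy]
    obtain ⟨hx₀1, hx₀2⟩ := fix_split c c₁ (hzcen vy).symm hcze hcx₁ hc₁ze hc₁x₁
    obtain ⟨x₀, hx₀⟩ : ∃ x₀ : E, x₀ = (ze ^ m)⁻¹ * x₁ := ⟨_, rfl⟩
    rw [← hx₀] at hx₀1 hx₀2
    have hτx₀ := (hτact x₀ hx₀1 hx₀2).2.2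
    have hxdec : x = ye ^ m' * (ze ^ m * x₀) := by
      rw [hx₀, mul_inv_cancel_left, hx₁, mul_inv_cancel_left]
    have hτxdec : τ x = (ye⁻¹) ^ m' * ((ze⁻¹) ^ m * x₀) := by
      conv_lhs => rw [hxdec]
      rw [map_mul, map_mul, map_pow, map_pow, hτye, hτze, hτx₀]
    have hx₀P : (x₀ : Ω) ∈ P := by
      rw [hx₀]
      exact P.mul_mem (P.inv_mem (P.pow_mem hzP m)) hx₁P
    have hgx₀ : ⁅g, (⟨x₀, hx₀P⟩ : ↥P)⁆ = 1 := by
      rw [← H.commute_iff]
      apply Subtype.ext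
      have h1 := congrArg Subtype.val hx₀1
      rw [hce x₀] at h1
      show (g : Ω) * x₀ = x₀ * g
      calc (g : Ω) * x₀ = (g : Ω) * x₀ * (g : Ω)⁻¹ * g := by group
        _ = x₀ * g := by rw [h1]
    have hzg : ⁅g, z⁻¹⁆ = 1 := by
      rw [← H.commute_iff]
      exact (show Commute g z from H.cent g).inv_right
    have hzhat : (⟨ze, hzP⟩ : ↥P) = z := Subtype.ext hze
    have hat : (⟨τ x, hτx⟩ : ↥P) = ((⟨ye, hyP⟩ : ↥P)⁻¹) ^ m' * ((z⁻¹) ^ m * ⟨x₀, hx₀P⟩) := by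
      apply Subtype.ext
      rw [← hzhat]
      have h9 : ((τ x : E) : Ω) = (((ye⁻¹) ^ m' * ((ze⁻¹) ^ m * x₀) : E) : Ω) := by rw [hτxdec]
      exact h9
    rw [hat, H.comm_mul_right, H.comm_mul_right, H.comm_pow_right, H.comm_pow_right, hzg, hgx₀, one_pow, one_mul,
      mul_one, H.comm_inv_right, inv_pow, hm']
  -- the subgroups of `Aut_F(E)`
  let Cg : Subgroup Ω := Subgroup.centralizer ({(g : Ω)} : Set Ω)
  have hCg : ∀ u : Ω, u ∈ Cg ↔ u * g = g * u := fun u => Subgroup.mem_centralizer_singleton_iff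
  have hCgc : ∀ x : ↥P, (x : Ω) ∈ Cg ↔ ⁅g, x⁆ = 1 := by
    intro x
    rw [hCg, ← H.commute_iff]
    constructor
    · intro h
      exact Subtype.ext h.symm
    · intro h
      exact (congrArg Subtype.val h.eq).symm
  have hinvE : ∀ β : MulAut E, ∀ x : E, β (β⁻¹ x) = x := fun β x => by simp
  let K : Subgroup (F.autGroup E) :=
    { carrier := {β | ∀ x : E, (x : Ω) ∈ P → (x : Ω)⁻¹ * (((β : MulAut E) x : E) : Ω) ∈ Cg}
      mul_mem' := by
        intro β₁ β₂ h1 h2 x hx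
        have h3 := h2 x hx
        have h4 := h1 _ (hAP _ β₂.2 x hx)
        have e : (x : Ω)⁻¹ * (((β₁ * β₂ : F.autGroup E) : MulAut E) x : E) =
            ((x : Ω)⁻¹ * ((β₂ : MulAut E) x : E)) *
              ((((β₂ : MulAut E) x : E) : Ω)⁻¹ * ((β₁ : MulAut E) ((β₂ : MulAut E) x) : E)) := by
          show _ * (((β₁ : MulAut E) ((β₂ : MulAut E) x) : E) : Ω) = _
          group
        rw [e]
        exact Cg.mul_mem h3 h4
      one_mem' := by
        intro x _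
        have h1 : (x : Ω)⁻¹ * (((1 : F.autGroup E) : MulAut E) x : E) = 1 := by
          show (x : Ω)⁻¹ * x = 1
          group
        rw [h1]
        exact Cg.one_mem
      inv_mem' := by
        intro β h x hx
        have hy := hAP _ (Subgroup.inv_mem _ β.2) x hx
        have h1 := h _ hy
        rw [hinvE] at h1
        have h2 := Cg.inv_mem h1
        rw [mul_inv_rev, inv_inv] at h2
        exact h2 }
  let H₂ : Subgroup (F.autGroup E) :=
    { carrier := {β | ∀ x : E, (x : Ω) ∈ P → ((x : Ω) ∈ Cg ↔ (((β : MulAut E) x : E) : Ω) ∈ Cg)}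
      mul_mem' := by
        intro β₁ β₂ h1 h2 x hx
        rw [h2 x hx]
        exact h1 _ (hAP _ β₂.2 x hx)
      one_mem' := fun _ _ => Iff.rfl
      inv_mem' := by
        intro β h x hx
        have hy := hAP _ (Subgroup.inv_mem _ β.2) x hx
        have h1 := h _ hy
        rw [hinvE] at h1
        exact h1.symm }
  have hKH : K ≤ H₂ := by
    intro β hβ x hx
    have h1 := hβ x hx
    have e : (((β : MulAut E) x : E) : Ω) = (x : Ω) * ((x : Ω)⁻¹ * ((β : MulAut E) x : E)) := by group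
    rw [e, Cg.mul_mem_cancel_right h1]
  have hnK : ∀ h ∈ H₂, ∀ k ∈ K, h * k * h⁻¹ ∈ K := by
    intro h hh k hk x hx
    have hy := hAP _ (Subgroup.inv_mem _ h.2) x hx
    obtain ⟨y, hyy⟩ : ∃ y : E, y = ((h : MulAut E)⁻¹) x := ⟨_, rfl⟩
    rw [← hyy] at hy
    have hhy : (h : MulAut E) y = x := by
      rw [hyy, hinvE]
    have h1 := hk y hy
    obtain ⟨u, hu⟩ : ∃ u : E, u = y⁻¹ * (k : MulAut E) y := ⟨_, rfl⟩
    have huP : (u : Ω) ∈ P := by
      rw [hu]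
      exact P.mul_mem (P.inv_mem hy) (hAP _ k.2 y hy)
    have huC : (u : Ω) ∈ Cg := by
      rw [hu]
      exact h1
    have h2 := (hh u huP).1 huC
    have e : ((h * k * h⁻¹ : F.autGroup E) : MulAut E) x = x * (h : MulAut E) u := by
      show (h : MulAut E) ((k : MulAut E) (((h : MulAut E)⁻¹) x)) = _
      rw [← hyy, hu, map_mul, map_inv, hhy]
      group
    show (x : Ω)⁻¹ * (((h * k * h⁻¹ : F.autGroup E) : MulAut E) x : E) ∈ Cg
    rw [e]
    have e2 : (x : Ω)⁻¹ * ((x * (h : MulAut E) u : E) : Ω) = (((h : MulAut E) u : E) : Ω) := by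
      show (x : Ω)⁻¹ * ((x : Ω) * _) = _
      group
    rw [e2]
    exact h2
  have hFar := far_of_fullyNormalized hS hF hE.2.1
  obtain ⟨R, hR⟩ := hFar.auto.2
  have hRK : (R : Subgroup (F.autGroup E)) ≤ K := by
    intro t ht
    rw [hR] at ht
    obtain ⟨s, hs, hse⟩ := exists_of_mem_autInducedBy (show (t : MulAut E) ∈ autInducedBy S E from ht)
    intro x hx
    have h1 := ge_L hP H hp2 hBab (Mp.conj (F := F) le_rfl hs) hgS (hES x.2) hgp (hQB x hx)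
    rw [hse x, hCg]
    exact h1.symm
  have hτH : (⟨τ, hτA⟩ : F.autGroup E) ∈ H₂ := by
    intro x hx
    have hτx := hAP τ hτA x hx
    have h1 := hχ x hx hτx
    show (x : Ω) ∈ Cg ↔ ((τ x : E) : Ω) ∈ Cg
    have e1 := hCgc ⟨x, hx⟩
    have e2 := hCgc ⟨τ x, hτx⟩
    rw [show (x : Ω) ∈ Cg ↔ _ from e1, show ((τ x : E) : Ω) ∈ Cg ↔ _ from e2, h1, inv_eq_one]
  obtain ⟨k, hk, n, hn, hnN, he⟩ := frattini_elt R hRK hKH hnK hτH
  have hnKK : n ∈ K := by
    have hn' : ∀ r ∈ autInducedBy S E, (n : MulAut E) * r * (n : MulAut E)⁻¹ ∈ autInducedBy S E := by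
      intro r hr
      have hrA := autInducedBy_le (F := F) hES hr
      have h1 : (⟨r, hrA⟩ : F.autGroup E) ∈ (R : Subgroup (F.autGroup E)) := by
        rw [hR]
        exact hr
      have h2 := hnN _ h1
      rw [hR] at h2
      exact h2
    obtain ⟨ah, hah, hah2⟩ := far_ext_of_normalizes hFar n.2 hn'
    intro x hx
    have h1 := ge_L hP H hp2 hBab hah hgN (le_normalizerIn hES x.2) hgp (hQB x hx)
    have h2 : ah x = (((n : MulAut E) x : E) : Ω) := by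
      rw [hah2 x x.2]
      exact toFun_aut (n : MulAut E) x
    rw [h2] at h1
    rw [hCg]
    exact h1.symm
  have hτK : (⟨τ, hτA⟩ : F.autGroup E) ∈ K := by
    rw [he]
    exact K.mul_mem hk hnKK
  have hfin := hτK ye hyP
  have hfin2 : (ye : Ω)⁻¹ * (ye : Ω)⁻¹ ∈ Cg := by
    have e : (((⟨τ, hτA⟩ : F.autGroup E) : MulAut E) ye : E) = ye⁻¹ := hτye
    have h1 : (ye : Ω)⁻¹ * ((((⟨τ, hτA⟩ : F.autGroup E) : MulAut E) ye : E) : Ω) = (ye : Ω)⁻¹ * (ye : Ω)⁻¹ := by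
      rw [e]
      rfl
    rw [← h1]
    exact hfin
  have hyp1 : (ye : Ω) ^ p = 1 := by
    have h1 := Fy2 ⟨ye, hyP⟩ (Commute.refl _)
    exact congrArg Subtype.val h1
  obtain ⟨q, hq⟩ : ∃ q, p = 2 * q + 1 := by
    rcases hp.eq_two_or_odd' with h | h
    · exact absurd h hp2
    · obtain ⟨q, hq⟩ := h
      exact ⟨q, hq⟩
  have hyq : (ye : Ω) = ((ye : Ω)⁻¹ * (ye : Ω)⁻¹) ^ q := by
    have h1 : (ye : Ω)⁻¹ * (ye : Ω)⁻¹ = ((ye : Ω) ^ 2)⁻¹ := by
      rw [pow_two, mul_inv_rev]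
    rw [h1, inv_pow, ← pow_mul]
    rw [hq, pow_succ] at hyp1
    exact (eq_inv_of_mul_eq_one_right hyp1)
  have hyC : (ye : Ω) ∈ Cg := by
    rw [hyq]
    exact Cg.pow_mem hfin2 q
  apply hgy
  exact Subtype.ext ((hCg _).1 hyC).symm

end Cfsg.Agent.H24
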