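import Mathlib
import Cfsg.Agent.Lib.H24.GES5

/-!
Strongly closed generalized extraspecial subgroups are normal, outside the exceptional cases.
-/

set_option autoImplicit false
set_option linter.style.haveILetI false
set_option maxHeartbeats 1000000

namespace Cfsg.Agent.H24

open Cfsg Cfsg.FusionSystem Cfsg.Agent.H25
open scoped commutatorElement

universe u

variable {Ω : Type u} [Group Ω] {S : Subgroup Ω} {F : FusionSystem S} {p : ℕ} [Fact p.Prime] {P : Subgroup Ω}

/-- The key containment. -/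
theorem ge_le_essential [Finite S] (hS : IsPGroup p S) (hF : F.IsSaturated p) (hP : F.StronglyClosed P)
    (hge : frattini ↥P = commutator ↥P ∧ Nat.card ↥(commutator ↥P) = p)
    (h2 : p = 2 → ¬ ∃ (A : Type) (_ : CommGroup A), (∀ a : A, a ^ 2 = 1) ∧ Nonempty (↥P ≃* DihedralGroup 4 × A))
    (hodd : p ≠ 2 → ¬ ∃ (E : Type) (_ : Group E) (A : Type) (_ : CommGroup A), Cfsg.IsExtraspecial p E ∧
      Nat.card E = p ^ 3 ∧ Monoid.exponent E = p ∧ (∀ a : A, a ^ p = 1) ∧ Nonempty (↥P ≃* E × A))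
    {E : Subgroup Ω} (hE : F.IsEssential p E) : P ≤ E := by
  classical
  have hp : p.Prime := Fact.out
  obtain ⟨z, H, hzS⟩ := exists_gedata hS hP hge
  haveI : Finite ↥P := finite_of_le hP.1
  have hPp : IsPGroup p ↥P := hS.of_injective (Subgroup.inclusion hP.1) (Subgroup.inclusion_injective _)
  have hES : E ≤ S := hE.1.1
  haveI : Finite ↥E := finite_of_le hES
  have hrad : F.IsRadical p E := isRadical_of_isEssential hS hE
  by_contra hPE
  obtain ⟨g, hgN, hgE⟩ : ∃ g : ↥P, (g : Ω) ∈ normalizerIn S E ∧ (g : Ω) ∉ E := by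
    by_contra hno
    push Not at hno
    apply hPE
    refine le_of_normalizer_le hS hP.1 hES (hES.trans (normalizer_of_stronglyClosed hP)) fun g hg hgN => ?_
    exact hno ⟨g, hg⟩ ⟨hP.1 hg, hgN⟩
  have hPS : S ≤ Subgroup.normalizer (P : Set Ω) := normalizer_of_stronglyClosed hP
  have hzcen : ∀ s ∈ S, s * (z : Ω) = z * s := by
    intro s hs
    calc s * (z : Ω) = s * (z : Ω) * s⁻¹ * s := by group
      _ = z * s := by rw [hzS s hs]
  have hzE : (z : Ω) ∈ E := by
    apply hE.1.2 E (isConj_refl hES)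
    refine ⟨hP.1 z.2, Subgroup.mem_centralizer_iff.2 fun y hy => ?_⟩
    exact hzcen y (hES hy)
  have hAP : ∀ β ∈ F.autGroup E, ∀ x : E, (x : Ω) ∈ P → ((β x : E) : Ω) ∈ P :=
    fun β hβ x hx => aut_mem_inf hP hES hβ hx x.2
  obtain ⟨ze, hze⟩ : ∃ ze : E, (ze : Ω) = z := ⟨⟨z, hzE⟩, rfl⟩
  have hzP : (ze : Ω) ∈ P := by
    rw [hze]
    exact z.2
  have hzpE : ∀ x ∈ Subgroup.zpowers (z : Ω), x ∈ E := fun x hx => (Subgroup.zpowers_le.2 hzE) hx
  by_cases hinv : ∀ α ∈ F.autGroup E, ((α ze : E) : Ω) ∈ Subgroup.zpowers (z : Ω)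
  · apply hgE
    let cc : ℕ → Subgroup Ω := fun j =>
      match j with
      | 0 => E
      | 1 => E ⊓ P
      | 2 => Subgroup.zpowers (z : Ω)
      | (_ + 3) => ⊥
    refine mem_of_chain hS hE.1 hrad cc 3 rfl ?_ ?_ ?_ hgN ?_
    · intro j
      match j with
      | 0 => exact inf_le_left
      | 1 => exact Subgroup.zpowers_le.2 ⟨hzE, z.2⟩
      | 2 => exact bot_le
      | (_ + 3) => exact le_rfl
    · intro j β hβ x hx hxE
      match j with
      | 0 => exact (β ⟨x, hxE⟩).2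
      | 1 => exact ⟨(β ⟨x, hxE⟩).2, hAP β hβ ⟨x, hxE⟩ hx.2⟩
      | 2 =>
        obtain ⟨k, hk⟩ := hx
        have h1 : (⟨x, hxE⟩ : E) = ze ^ k := by
          apply Subtype.ext
          show x = ((ze : Ω)) ^ k
          rw [hze]
          exact hk.symm
        rw [h1, map_zpow]
        show (((β ze : E) : Ω)) ^ k ∈ _
        exact Subgroup.zpow_mem _ (hinv β hβ) k
      | (_ + 3) =>
        have hx1 : x = 1 := hx
        subst hx1
        have h1 : β ⟨1, hxE⟩ = 1 := map_one β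
        rw [h1]
        exact Subgroup.one_mem _
    · intro b _ _ x hx hxE
      have hx1 : x = 1 := hx
      subst hx1
      have h1 : b ⟨1, hxE⟩ = 1 := map_one b
      rw [h1]
      rfl
    · intro j hj x hx
      match j, hj with
      | 0, _ =>
        have hxE : x ∈ E := hx
        refine ⟨E.mul_mem (E.inv_mem hxE) (conj_mem_of_normalizer hgN.2 hxE), ?_⟩
        have h1 : x⁻¹ * (g : Ω) * x ∈ P := by
          have := conj_mem_of_normalizer (hPS (hES (E.inv_mem hxE))) g.2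
          simpa using this
        have h2 : x⁻¹ * ((g : Ω) * x * (g : Ω)⁻¹) = (x⁻¹ * (g : Ω) * x) * (g : Ω)⁻¹ := by group
        rw [h2]
        exact P.mul_mem h1 (P.inv_mem g.2)
      | 1, _ =>
        have hxP : x ∈ P := hx.2
        have h1 := coe_mem_zp (H.comm (⟨x, hxP⟩⁻¹ : ↥P) g)
        have h2 : x⁻¹ * ((g : Ω) * x * (g : Ω)⁻¹) = ((⁅(⟨x, hxP⟩⁻¹ : ↥P), g⁆ : ↥P) : Ω) := by
          show _ = x⁻¹ * (g : Ω) * (x⁻¹)⁻¹ * (g : Ω)⁻¹
          group
        rw [h2]
        exact h1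
      | 2, _ =>
        obtain ⟨k, hk⟩ := hx
        have hk' : (z : Ω) ^ k = x := hk
        have h1 : (g : Ω) * x * (g : Ω)⁻¹ = x := by
          rw [← hk', ← conj_zpow, hzS _ hgN.1]
        show x⁻¹ * ((g : Ω) * x * (g : Ω)⁻¹) = 1
        rw [h1]
        group
  · push Not at hinv
    obtain ⟨α, hα, hmov⟩ := hinv
    have hyP : ((α ze : E) : Ω) ∈ P := hAP α hα ze hzP
    have hyz : (⟨_, hyP⟩ : ↥P) ∉ Subgroup.zpowers z := fun h1 => hmov (coe_mem_zp h1)
    have hyconj : F.IsConj (Subgroup.zpowers ((α ze : E) : Ω)) (Subgroup.zpowers (z : Ω)) := by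
      have h1 := aut_isConj hES hα ze
      rw [hze] at h1
      exact isConj_symm h1
    obtain ⟨Fy1, Fy2⟩ := ge_facts hS hF hP H hzS hyz hyconj
    obtain ⟨x₀, hx₀⟩ : ∃ x₀ : ↥P, ¬ Commute x₀ ⟨_, hyP⟩ := by
      by_contra hno
      push Not at hno
      have hab : ∀ a b : ↥P, a * b = b * a := fun a b => Fy1 a b (hno a) (hno b)
      have hbot : commutator ↥P = ⊥ := by
        rw [commutator_def, Subgroup.commutator_eq_bot_iff_le_centralizer]
        intro a _ b _
        exact hab b a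
      have h1 := hge.2
      rw [hbot, Nat.card_eq_one_iff_unique.2 ⟨inferInstance, inferInstance⟩] at h1
      exact hp.one_lt.ne h1
    have hyp1 : (⟨_, hyP⟩ : ↥P) ^ p = 1 := Fy2 _ (Commute.refl _)
    by_cases hp2 : p = 2
    · subst hp2
      exact h2 rfl (ge_dihedral hPp H hx₀ hyp1 Fy1 Fy2)
    · by_cases hexp : ∀ w : ↥P, w ^ p = 1
      · exact hodd hp2 (ge_extra hPp H hx₀ hyp1 Fy1 Fy2 hexp)
      · push Not at hexp
        obtain ⟨w, hw⟩ := hexp
        exact ge_final hS hF hP H hzS hp2 hE hw hgN hgE hα ze hze (fun _ => hyz)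

/-- **Strongly closed generalized extraspecial subgroups are normal**, outside the exceptional cases. -/
theorem ges_main [Finite S] (hS : IsPGroup p S) (hF : F.IsSaturated p) (hP : F.StronglyClosed P)
    (hge : frattini ↥P = commutator ↥P ∧ Nat.card ↥(commutator ↥P) = p)
    (h2 : p = 2 → ¬ ∃ (A : Type) (_ : CommGroup A), (∀ a : A, a ^ 2 = 1) ∧ Nonempty (↥P ≃* DihedralGroup 4 × A))
    (hodd : p ≠ 2 → ¬ ∃ (E : Type) (_ : Group E) (A : Type) (_ : CommGroup A), Cfsg.IsExtraspecial p E ∧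
      Nat.card E = p ^ 3 ∧ Monoid.exponent E = p ∧ (∀ a : A, a ^ p = 1) ∧ Nonempty (↥P ≃* E × A)) :
    F.IsNormal P := by
  refine isNormal_of_aut hS hF hP.1 fun R hR => ?_
  have hRS : R ≤ S := by
    rcases hR with rfl | hR
    · exact le_rfl
    · exact hR.1.1
  have hPR : P ≤ R := by
    rcases hR with rfl | hR
    · exact hP.1
    · exact ge_le_essential hS hF hP hge h2 hodd hR
  exact ⟨hPR, fun α hα => aut_map_of_stronglyClosed hP hRS hPR hα⟩

end Cfsg.Agent.H24
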