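import Mathlib
import Cfsg.Agent.Lib.H18.MC
import Cfsg.Agent.Lib.H01.Basic

/-!
Power computations in metacyclic `p`-groups, `p` odd.
-/

set_option autoImplicit false
set_option linter.unusedSectionVars false

namespace Cfsg.Agent.H24

open Cfsg Cfsg.Agent.H18

section numbers

variable {p : ℕ} [hp : Fact p.Prime]

theorem geom_range_mul (q a b : ℕ) :
    ∑ u ∈ Finset.range (a * b), q ^ u = (∑ u ∈ Finset.range a, q ^ u) * ∑ v ∈ Finset.range b, (q ^ a) ^ v := by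
  induction b with
  | zero => simp
  | succ b ih =>
    rw [Nat.mul_succ, Finset.sum_range_add, ih, Finset.sum_range_succ (fun v => (q ^ a) ^ v) b, mul_add]
    congr 1
    rw [← pow_mul, Finset.sum_mul]
    apply Finset.sum_congr rfl
    intro u _
    rw [pow_add, mul_comm a b, mul_comm]

theorem geom_pp (hp2 : p ≠ 2) {q : ℕ} (hq : (q : ZMod p) = 1) (t : ℕ) :
    ∃ k, ∑ u ∈ Finset.range (p ^ t), q ^ u = p ^ t * (1 + p * k) := by
  induction t with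
  | zero => exact ⟨0, by simp⟩
  | succ t ih =>
    obtain ⟨k, hk⟩ := ih
    have hq' : ((q ^ p ^ t : ℕ) : ZMod p) = 1 := by
      push_cast
      rw [hq, one_pow]
    obtain ⟨k', hk'⟩ := H03.geom_sum_eq hp2 (q ^ p ^ t) hq'
    refine ⟨k + k' + p * k * k', ?_⟩
    rw [pow_succ, geom_range_mul, hk, hk']
    ring

end numbers

namespace MCP

variable {p : ℕ} [hp : Fact p.Prime] {G : Type*} [Group G] [Finite G] (D : MC p G)

theorem r_cast : ((D.r : ℕ) : ZMod p) = 1 := by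
  have h1 : 1 ≤ D.r := by have := D.hr1; omega
  have h2 : ((D.r - 1 : ℕ) : ZMod p) = 0 := (ZMod.natCast_eq_zero_iff _ _).2 D.hpr
  rw [Nat.cast_sub h1] at h2
  simpa [sub_eq_zero] using h2

theorem pow_pp (hp2 : p ≠ 2) (i j t : ℕ) :
    ∃ k, (D.a ^ i * D.b ^ j) ^ p ^ t = D.a ^ (i * (p ^ t * (1 + p * k))) * D.b ^ (j * p ^ t) := by
  have hq : ((D.r ^ j : ℕ) : ZMod p) = 1 := by
    push_cast
    rw [r_cast, one_pow]
  obtain ⟨k, hk⟩ := geom_pp hp2 hq t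
  refine ⟨k, ?_⟩
  rw [D.pow_form, hk]

theorem a_pow_eq_one {c : ℕ} (hc : p ^ D.m ∣ c) : D.a ^ c = 1 := by
  rw [← orderOf_dvd_iff_pow_eq_one, D.hord]
  exact hc

theorem a_pow_eq_one_iff {c : ℕ} : D.a ^ c = 1 ↔ p ^ D.m ∣ c := by
  rw [← orderOf_dvd_iff_pow_eq_one, D.hord]

theorem pow_top (hp2 : p ≠ 2) {t : ℕ} (ht : D.m ≤ t + 1) (i j : ℕ) :
    (D.a ^ i * D.b ^ j) ^ p ^ t = (D.a ^ p ^ t) ^ i * (D.b ^ p ^ t) ^ j := by
  obtain ⟨k, hk⟩ := pow_pp D hp2 i j t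
  rw [hk, ← pow_mul, ← pow_mul]
  congr 1
  · have e : i * (p ^ t * (1 + p * k)) = p ^ t * i + (p ^ (t + 1)) * (i * k) := by
      rw [pow_succ]
      ring
    rw [e, pow_add, a_pow_eq_one D (Dvd.dvd.mul_right (pow_dvd_pow p ht) _), mul_one]
  · rw [mul_comm]

theorem topA_pow {t : ℕ} (ht : D.m ≤ t + 1) : (D.a ^ p ^ t) ^ p = 1 := by
  rw [← pow_mul, ← pow_succ]
  exact a_pow_eq_one D (pow_dvd_pow p ht)

theorem topA_pow_of_cast {t : ℕ} (ht : D.m ≤ t + 1) {q : ℕ} (hq : (q : ZMod p) = 1) :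
    (D.a ^ p ^ t) ^ q = D.a ^ p ^ t := by
  have h0 : q ≡ 1 [MOD p] := by
    have : ((q : ℕ) : ZMod p) = ((1 : ℕ) : ZMod p) := by simpa using hq
    exact (ZMod.natCast_eq_natCast_iff _ _ _).1 this
  have h1 : orderOf (D.a ^ p ^ t) ∣ p := orderOf_dvd_of_pow_eq_one (topA_pow D ht)
  have h2 : (D.a ^ p ^ t) ^ q = (D.a ^ p ^ t) ^ 1 := by
    rw [pow_eq_pow_iff_modEq]
    exact h0.of_dvd h1
  rwa [pow_one] at h2

theorem r_pow_cast (j : ℕ) : ((D.r ^ j : ℕ) : ZMod p) = 1 := by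
  push_cast
  rw [r_cast, one_pow]

/-- The top power map is multiplicative. -/
theorem mul_pow_top (hp2 : p ≠ 2) {t : ℕ} (ht : D.m ≤ t + 1) (x y : G) :
    (x * y) ^ p ^ t = x ^ p ^ t * y ^ p ^ t := by
  obtain ⟨i, j, rfl⟩ := D.hgen x
  obtain ⟨k, l, rfl⟩ := D.hgen y
  rw [D.mul_form, pow_top D hp2 ht, pow_top D hp2 ht, pow_top D hp2 ht]
  have hcomm : Commute (D.a ^ p ^ t) (D.b ^ p ^ t) := by
    show D.a ^ p ^ t * D.b ^ p ^ t = D.b ^ p ^ t * D.a ^ p ^ t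
    rw [D.b_mul_a (p ^ t) (p ^ t), pow_mul (D.a) (p ^ t) (D.r ^ p ^ t),
      topA_pow_of_cast D ht (r_pow_cast D _)]
  rw [pow_add (D.a ^ p ^ t), pow_mul' (D.a ^ p ^ t) k, topA_pow_of_cast D ht (r_pow_cast D _), pow_add (D.b ^ p ^ t)]
  have h1 : (D.b ^ p ^ t) ^ j * (D.a ^ p ^ t) ^ k = (D.a ^ p ^ t) ^ k * (D.b ^ p ^ t) ^ j :=
    ((hcomm.pow_pow k j).eq).symm
  calc (D.a ^ p ^ t) ^ i * (D.a ^ p ^ t) ^ k * ((D.b ^ p ^ t) ^ j * (D.b ^ p ^ t) ^ l)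
      = (D.a ^ p ^ t) ^ i * ((D.a ^ p ^ t) ^ k * (D.b ^ p ^ t) ^ j) * (D.b ^ p ^ t) ^ l := by group
    _ = (D.a ^ p ^ t) ^ i * ((D.b ^ p ^ t) ^ j * (D.a ^ p ^ t) ^ k) * (D.b ^ p ^ t) ^ l := by rw [h1]
    _ = _ := by group


/-- The kernel of the top power map. -/
def topKer (hp2 : p ≠ 2) {t : ℕ} (ht : D.m ≤ t + 1) : Subgroup G where
  carrier := {x | x ^ p ^ t = 1}
  mul_mem' := by
    intro x y hx hy
    show (x * y) ^ p ^ t = 1
    rw [mul_pow_top D hp2 ht, show x ^ p ^ t = 1 from hx, show y ^ p ^ t = 1 from hy, one_mul]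
  one_mem' := one_pow _
  inv_mem' := by
    intro x hx
    show x⁻¹ ^ p ^ t = 1
    rw [inv_pow, show x ^ p ^ t = 1 from hx, inv_one]

theorem mem_topKer (hp2 : p ≠ 2) {t : ℕ} (ht : D.m ≤ t + 1) (x : G) :
    x ∈ topKer D hp2 ht ↔ x ^ p ^ t = 1 := Iff.rfl

/-- Every element of the derived subgroup is a `p`-th power of a power of `a^(p^(s-1))`. -/
theorem exists_of_mem_comm (hp2 : p ≠ 2) {x : G} (hx : x ∈ commutator G) :
    x ∈ Subgroup.zpowers ((D.a ^ p ^ (D.s - 1)) ^ p) := by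
  have h1 := D.commutator_le_Dt hp2 hx
  have e : (D.a ^ p ^ (D.s - 1)) ^ p = D.a ^ p ^ (D.s + 0) := by
    rw [← pow_mul, ← pow_succ, add_zero]
    congr 2
    have := D.s_pos
    omega
  rw [e]
  exact h1

/-- In the homocyclic case the subgroups `Gt c` are exactly the `Ω`s. -/
theorem pow_eq_one_iff_of_homo (hp2 : p ≠ 2) (he : D.e = D.m) (hb : D.b ^ p ^ D.m = 1) {c : ℕ} (hc : c ≤ D.m)
    (i j : ℕ) : (D.a ^ i * D.b ^ j) ^ p ^ (D.m - c) = 1 ↔ p ^ c ∣ i ∧ p ^ c ∣ j := by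
  have hpow : p ^ (D.m - c) * p ^ c = p ^ D.m := by
    rw [← pow_add]
    congr 1
    omega
  have hp0 : 0 < p ^ (D.m - c) := pow_pos hp.out.pos _
  obtain ⟨k, hk⟩ := pow_pp D hp2 i j (D.m - c)
  rw [hk]
  constructor
  · intro h
    have hbm : D.b ^ (j * p ^ (D.m - c)) ∈ Subgroup.zpowers D.a := by
      have h1 : D.b ^ (j * p ^ (D.m - c)) = (D.a ^ (i * (p ^ (D.m - c) * (1 + p * k))))⁻¹ := by
        exact eq_inv_of_mul_eq_one_right h
      rw [h1]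
      exact Subgroup.inv_mem _ (Subgroup.pow_mem _ (Subgroup.mem_zpowers _) _)
    rw [D.hbe, he, ← hpow, mul_comm j] at hbm
    have hj : p ^ c ∣ j := Nat.dvd_of_mul_dvd_mul_left hp0 hbm
    have hb1 : D.b ^ (j * p ^ (D.m - c)) = 1 := by
      obtain ⟨j', rfl⟩ := hj
      rw [show p ^ c * j' * p ^ (D.m - c) = p ^ D.m * j' by rw [← hpow]; ring, pow_mul, hb, one_pow]
    rw [hb1, mul_one, a_pow_eq_one_iff, ← hpow] at h
    have h2 : p ^ (D.m - c) * p ^ c ∣ p ^ (D.m - c) * (i * (1 + p * k)) := by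
      convert h using 1
      ring
    have h3 : p ^ c ∣ i * (1 + p * k) := Nat.dvd_of_mul_dvd_mul_left hp0 h2
    have hcop : Nat.Coprime (p ^ c) (1 + p * k) := by
      apply Nat.Coprime.pow_left
      rw [Nat.Prime.coprime_iff_not_dvd hp.out]
      intro hd
      have h4 : p ∣ 1 := (Nat.dvd_add_left (Dvd.intro k rfl)).1 hd
      exact hp.out.one_lt.ne' (Nat.dvd_one.1 h4)
    exact ⟨hcop.dvd_of_dvd_mul_right h3, hj⟩
  · rintro ⟨⟨i', rfl⟩, ⟨j', rfl⟩⟩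
    have h1 : D.a ^ (p ^ c * i' * (p ^ (D.m - c) * (1 + p * k))) = 1 := by
      apply a_pow_eq_one
      rw [← hpow]
      exact ⟨i' * (1 + p * k), by ring⟩
    have h2 : D.b ^ (p ^ c * j' * p ^ (D.m - c)) = 1 := by
      rw [show p ^ c * j' * p ^ (D.m - c) = p ^ D.m * j' by rw [← hpow]; ring, pow_mul, hb, one_pow]
    rw [h1, h2, one_mul]

theorem mem_Gt_iff_of_homo (hp2 : p ≠ 2) (he : D.e = D.m) (hb : D.b ^ p ^ D.m = 1) {c : ℕ} (hc : c ≤ D.m)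
    (u : G) : u ∈ D.Gt c ↔ u ^ p ^ (D.m - c) = 1 := by
  constructor
  · intro h
    obtain ⟨i, j, rfl⟩ := D.exists_of_mem_Gt h
    rw [pow_eq_one_iff_of_homo D hp2 he hb hc]
    exact ⟨Dvd.intro _ rfl, Dvd.intro _ rfl⟩
  · intro h
    obtain ⟨i, j, rfl⟩ := D.hgen u
    rw [pow_eq_one_iff_of_homo D hp2 he hb hc] at h
    exact D.mem_Gt_of h.1 h.2

/-- Conjugation and `Dt`: elements of `Gt c` have commutators in `Dt c`. -/
theorem comm_Gt (hp2 : p ≠ 2) {c : ℕ} {x : G} (hx : x ∈ D.Gt c) (g : G) : x⁻¹ * (g * x * g⁻¹) ∈ D.Dt c := by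
  obtain ⟨i, j, rfl⟩ := D.exists_of_mem_Gt hx
  obtain ⟨k, l, rfl⟩ := D.hgen g
  have h1 := D.comm_mem hp2 (p ^ c * i) (p ^ c * j) k l c ⟨i * l, by ring⟩ ⟨k * j, by ring⟩
  have h2 := (inferInstance : (D.Dt c).Normal).conj_mem _ h1 (D.a ^ (p ^ c * i) * D.b ^ (p ^ c * j))⁻¹
  convert h2 using 1
  group

theorem Dt_le_Gt_succ (hs : D.s = 1) (c : ℕ) : D.Dt c ≤ D.Gt (c + 1) := by
  have h1 : D.a ^ p ^ (D.s + c) ∈ D.Gt (c + 1) := by
    rw [hs, add_comm]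
    exact Subgroup.mem_sup_left (Subgroup.mem_zpowers _)
  exact Subgroup.zpowers_le.2 h1


/-- Replacing `b` by `a^i * b`: the new data. -/
noncomputable def shift (i : ℕ) : MC p G where
  a := D.a
  b := D.a ^ i * D.b
  r := D.r
  m := D.m
  e := D.e
  hr1 := D.hr1
  hpr := D.hpr
  hnorm := D.hnorm
  hord := D.hord
  hconj := by
    calc D.a ^ i * D.b * D.a * (D.a ^ i * D.b)⁻¹ = D.a ^ i * (D.b * D.a * D.b⁻¹) * (D.a ^ i)⁻¹ := by group
      _ = D.a ^ D.r := by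
        rw [D.hconj]
        have : Commute (D.a ^ i) (D.a ^ D.r) := (Commute.refl _).pow_pow _ _
        rw [this.eq]
        group
  hgen := by
    intro g
    obtain ⟨x, y, rfl⟩ := D.hgen g
    have h1 := D.pow_form i 1 y
    set w := i * ∑ u ∈ Finset.range y, (D.r ^ 1) ^ u with hw
    rw [one_mul] at h1
    refine ⟨x + (p ^ D.m - 1) * w, y, ?_⟩
    have hinv : (D.a ^ w)⁻¹ = D.a ^ ((p ^ D.m - 1) * w) := by
      rw [inv_eq_iff_mul_eq_one, ← pow_add]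
      apply a_pow_eq_one
      have hp1 : 1 ≤ p ^ D.m := Nat.one_le_pow _ _ hp.out.pos
      obtain ⟨c, hc⟩ : ∃ c, p ^ D.m = c + 1 := ⟨p ^ D.m - 1, by omega⟩
      rw [hc, Nat.add_sub_cancel]
      exact ⟨w, by ring⟩
    rw [pow_one] at h1
    rw [h1, pow_add, ← hinv]
    group
  hbe := by
    intro j
    rw [← D.hbe]
    have h1 := D.pow_form i 1 j
    rw [one_mul, pow_one] at h1
    rw [h1]
    constructor
    · intro h
      have h2 := Subgroup.mul_mem _ (Subgroup.inv_mem _ (Subgroup.pow_mem _ (Subgroup.mem_zpowers D.a)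
        (i * ∑ u ∈ Finset.range j, (D.r ^ 1) ^ u))) h
      simpa using h2
    · intro h
      exact Subgroup.mul_mem _ (Subgroup.pow_mem _ (Subgroup.mem_zpowers _) _) h

/-- The normalization: `b` can be replaced so that `b^(p^(m-1)) = 1`. -/
theorem exists_shift (hp2 : p ≠ 2) {t : ℕ} (ht : D.m = t + 1) (hn : D.n = D.m - 1) (he : D.e = t) :
    ∃ D' : MC p G, D'.a = D.a ∧ D'.r = D.r ∧ D'.m = D.m ∧ D'.e = D.e ∧ D'.b ^ p ^ t = 1 := by
  obtain ⟨w, hw⟩ := D.pow_mem_a (j := p ^ t) (by rw [he])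
  have hdvd := D.exp_dvd_of_pow_eq hp2 hw
  rw [hn, ht, Nat.add_sub_cancel] at hdvd
  obtain ⟨w', rfl⟩ := hdvd
  refine ⟨shift D ((p - 1) * w'), rfl, rfl, rfl, rfl, ?_⟩
  show (D.a ^ ((p - 1) * w') * D.b) ^ p ^ t = 1
  have h1 := pow_top D hp2 ht.le ((p - 1) * w') 1
  rw [pow_one, pow_one] at h1
  rw [h1, hw, ← pow_mul, ← pow_add]
  apply a_pow_eq_one
  rw [ht, show p ^ t * ((p - 1) * w') + p ^ t * w' = p ^ t * ((p - 1 + 1) * w') by ring,
    Nat.sub_add_cancel hp.out.one_lt.le]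
  exact ⟨w', by rw [pow_succ]; ring⟩


theorem pm_mem_L (hp2 : p ≠ 2) {t : ℕ} (hm : D.m = t + 1) (hb : D.b ^ p ^ t = 1) (i j : ℕ) :
    (D.a ^ i * D.b ^ j) ^ p ^ t = 1 ↔ p ∣ i := by
  rw [pow_top D hp2 hm.le, hb, one_pow, mul_one, ← pow_mul, a_pow_eq_one_iff, hm, pow_succ]
  exact Nat.mul_dvd_mul_iff_left (pow_pos hp.out.pos _)

theorem pm_mem_R (hp2 : p ≠ 2) {t : ℕ} (hm : D.m = t + 1) (he : D.e = t) (hb : D.b ^ p ^ t = 1) (hs : D.s = 1)
    (ht : 2 ≤ t) {x : G} (hx : x ^ p ^ t = 1) : x ^ p ^ (t - 1) ∈ D.Dt 1 ↔ x ∈ D.Gt 1 := by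
  obtain ⟨i, j, rfl⟩ := D.hgen x
  have hpi : p ∣ i := (pm_mem_L D hp2 hm hb i j).1 hx
  obtain ⟨i', rfl⟩ := hpi
  obtain ⟨k, hk⟩ := pow_pp D hp2 (p * i') j (t - 1)
  have hpt : p * p ^ (t - 1) = p ^ t := by
    rw [← pow_succ']
    congr 1
    omega
  have hA : D.a ^ (p * i' * (p ^ (t - 1) * (1 + p * k))) ∈ D.Dt 1 := by
    have e : p * i' * (p ^ (t - 1) * (1 + p * k)) = p ^ (D.s + 1) * (p ^ (t - 2) * (i' * (1 + p * k))) := by
      rw [hs]
      have h1 : p ^ t = p ^ (1 + 1) * p ^ (t - 2) := by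
        rw [← pow_add]
        congr 1
        omega
      calc p * i' * (p ^ (t - 1) * (1 + p * k)) = (p * p ^ (t - 1)) * (i' * (1 + p * k)) := by ring
        _ = _ := by rw [hpt, h1]; ring
    rw [e, pow_mul]
    exact Subgroup.pow_mem _ (Subgroup.mem_zpowers _) _
  rw [hk]
  constructor
  · intro h
    have h1 : D.b ^ (j * p ^ (t - 1)) ∈ D.Dt 1 := by
      have h2 := Subgroup.mul_mem _ (Subgroup.inv_mem _ hA) h
      simpa using h2
    have h3 : D.b ^ (j * p ^ (t - 1)) ∈ Subgroup.zpowers D.a := by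
      have h4 : D.Dt 1 ≤ Subgroup.zpowers D.a := Subgroup.zpowers_le.2 (Subgroup.pow_mem _ (Subgroup.mem_zpowers _) _)
      exact h4 h1
    rw [D.hbe, he, ← hpt, mul_comm p, mul_comm j] at h3
    have h5 : p ∣ j := Nat.dvd_of_mul_dvd_mul_left (pow_pos hp.out.pos _) h3
    exact D.mem_Gt_of (by simp) (by simpa using h5)
  · intro h
    have hn1 : 1 ≤ D.n := by
      show 1 ≤ D.m - D.s
      omega
    have h2 := ((D.mem_Gt_iff hp2 hn1 (p * i') j).1 h).2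
    rw [pow_one] at h2
    obtain ⟨j', rfl⟩ := h2
    have hbj : D.b ^ (p * j' * p ^ (t - 1)) = 1 := by
      rw [show p * j' * p ^ (t - 1) = (p * p ^ (t - 1)) * j' by ring, hpt, pow_mul, hb, one_pow]
    rw [hbj, mul_one]
    exact hA

theorem Gt_one_le_L (hp2 : p ≠ 2) {t : ℕ} (hm : D.m = t + 1) (hb : D.b ^ p ^ t = 1) {x : G} (hx : x ∈ D.Gt 1) :
    x ^ p ^ t = 1 := by
  obtain ⟨i, j, rfl⟩ := D.exists_of_mem_Gt hx
  rw [pm_mem_L D hp2 hm hb, pow_one]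
  exact Dvd.intro _ rfl

/-- The small case. -/
theorem small_facts (hp2 : p ≠ 2) (hm : D.m = 2) (hb : D.b ^ p = 1) (hs : D.s = 1) :
    frattini G = commutator G ∧ Nat.card (commutator G) = p := by
  have hG : IsPGroup p G := D.isPGroup
  have hcard : Nat.card (commutator G) = p := by
    rw [D.card_commutator hp2]
    have : D.n = 1 := by
      show D.m - D.s = 1
      omega
    rw [this, pow_one]
  refine ⟨le_antisymm ?_ (H01.commutator_le_frattini_of_isPGroup hG), hcard⟩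
  apply H01.frattini_le_of_comm_pow (p := p) _ le_rfl
  intro x
  rw [D.commutator_eq hp2]
  obtain ⟨i, j, rfl⟩ := D.hgen x
  obtain ⟨k, hk⟩ := pow_pp D hp2 i j 1
  rw [pow_one] at hk
  rw [hk, pow_mul' (D.b) j, hb, one_pow, mul_one]
  have e : i * (p * (1 + p * k)) = p ^ (D.s + 0) * (i * (1 + p * k)) := by
    rw [hs]
    ring
  rw [e, pow_mul]
  exact Subgroup.pow_mem _ (Subgroup.mem_zpowers _) _

end MCP

end Cfsg.Agent.H24
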