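import Mathlib
import Cfsg.Agent.Lib.H24.FusAG3

/-!
Chains of subgroups invariant under `Aut_F(E)` with trivial action of an element `g`, in inductive form.
-/

set_option autoImplicit false
set_option linter.style.haveILetI false

namespace Cfsg.Agent.H24

open Cfsg Cfsg.FusionSystem
open scoped commutatorElement

universe u

variable {Ω : Type u} [Group Ω] {S : Subgroup Ω} {F : FusionSystem S} {p : ℕ}

/-- `X` is invariant under `Aut_F(E)`. -/
def AInv (F : FusionSystem S) (E X : Subgroup Ω) : Prop :=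
  ∀ β ∈ F.autGroup E, ∀ x (_ : x ∈ X) (hxE : x ∈ E), ((β ⟨x, hxE⟩ : E) : Ω) ∈ X

/-- `X` has a chain of `Aut_F(E)`-invariant subgroups on which `g` acts trivially. -/
inductive GoodC (F : FusionSystem S) (E : Subgroup Ω) (g : Ω) : Subgroup Ω → Prop
  | bot : GoodC F E g ⊥
  | step {X Y : Subgroup Ω} (hY : GoodC F E g Y) (hYX : Y ≤ X) (hinv : AInv F E X)
      (hg : ∀ x ∈ X, x⁻¹ * (g * x * g⁻¹) ∈ Y) : GoodC F E g X

theorem aInv_bot (E : Subgroup Ω) : AInv F E (⊥ : Subgroup Ω) := by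
  intro β _ x hx hxE
  have hx1 : x = 1 := hx
  subst hx1
  have h1 : β ⟨1, hxE⟩ = 1 := map_one β
  rw [h1]
  exact Subgroup.one_mem _

theorem aInv_self (E : Subgroup Ω) : AInv F E E := fun β _ x _ hxE => (β ⟨x, hxE⟩).2

theorem GoodC.chain {E X : Subgroup Ω} {g : Ω} (h : GoodC F E g X) :
    ∃ (c : ℕ → Subgroup Ω) (n : ℕ), c 0 = X ∧ (∀ i, c (i + 1) ≤ c i) ∧ (∀ i, AInv F E (c i)) ∧ c n = ⊥ ∧
      ∀ i < n, ∀ x ∈ c i, x⁻¹ * (g * x * g⁻¹) ∈ c (i + 1) := by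
  induction h with
  | bot => exact ⟨fun _ => ⊥, 0, rfl, fun _ => le_rfl, fun _ => aInv_bot E, rfl, fun i hi => absurd hi (by omega)⟩
  | @step X Y _ hYX hinv hg ih =>
    obtain ⟨c, n, h0, hanti, hci, hn, hcg⟩ := ih
    refine ⟨fun i => match i with
      | 0 => X
      | (i + 1) => c i, n + 1, rfl, ?_, ?_, hn, ?_⟩
    · intro i
      match i with
      | 0 =>
        show c 0 ≤ X
        rw [h0]
        exact hYX
      | (i + 1) => exact hanti i
    · intro i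
      match i with
      | 0 => exact hinv
      | (i + 1) => exact hci i
    · intro i hi x hx
      match i, hi with
      | 0, _ =>
        show _ ∈ c 0
        rw [h0]
        exact hg x hx
      | (i + 1), hi => exact hcg i (by omega) x hx

theorem mem_of_goodC [Fact p.Prime] [Finite S] (hS : IsPGroup p S) {E : Subgroup Ω} (hC : F.IsCentric E)
    (hR : F.IsRadical p E) {g : Ω} (hg : g ∈ normalizerIn S E) (h : GoodC F E g E) : g ∈ E := by
  obtain ⟨c, n, h0, hanti, hci, hn, hcg⟩ := h.chain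
  refine mem_of_chain hS hC hR c n h0 hanti hci ?_ hg hcg
  intro b _ _ x hx hxE
  rw [hn] at hx
  have hx1 : x = 1 := hx
  subst hx1
  have h1 : b ⟨1, hxE⟩ = 1 := map_one b
  rw [h1]
  rfl

theorem aInv_inf {E P : Subgroup Ω} (hP : F.StronglyClosed P) (hES : E ≤ S) : AInv F E (E ⊓ P) := by
  intro β hβ x hx hxE
  exact ⟨(β ⟨x, hxE⟩).2, aut_mem_inf hP hES hβ hx.2 hxE⟩

/-- The derived subgroup of an invariant subgroup is invariant. -/
theorem AInv.commutator {E X : Subgroup Ω} (hX : AInv F E X) (hXE : X ≤ E) : AInv F E ⁅X, X⁆ := by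
  intro β hβ x hx hxE'
  have key : ∀ x ∈ ⁅X, X⁆, ∃ hxE : x ∈ E, ((β ⟨x, hxE⟩ : E) : Ω) ∈ ⁅X, X⁆ := by
    intro x hx
    rw [Subgroup.commutator_def] at hx
    induction hx using Subgroup.closure_induction with
    | mem y hy =>
      obtain ⟨a, ha, b, hb, rfl⟩ := hy
      have haE := hXE ha
      have hbE := hXE hb
      have hyE : ⁅a, b⁆ ∈ E := by
        rw [commutatorElement_def]
        exact E.mul_mem (E.mul_mem (E.mul_mem haE hbE) (E.inv_mem haE)) (E.inv_mem hbE)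
      refine ⟨hyE, ?_⟩
      have e : (⟨⁅a, b⁆, hyE⟩ : E) = ⁅(⟨a, haE⟩ : E), (⟨b, hbE⟩ : E)⁆ := rfl
      rw [e, map_commutatorElement]
      exact Subgroup.commutator_mem_commutator (hX β hβ a ha haE) (hX β hβ b hb hbE)
    | one =>
      refine ⟨E.one_mem, ?_⟩
      have h1 : β ⟨1, E.one_mem⟩ = 1 := map_one β
      rw [h1]
      exact Subgroup.one_mem _
    | mul y z _ _ hy hz =>
      obtain ⟨hyE, hy'⟩ := hy
      obtain ⟨hzE, hz'⟩ := hz
      refine ⟨E.mul_mem hyE hzE, ?_⟩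
      have e : (⟨y * z, E.mul_mem hyE hzE⟩ : E) = ⟨y, hyE⟩ * ⟨z, hzE⟩ := rfl
      rw [e, map_mul]
      exact Subgroup.mul_mem _ hy' hz'
    | inv y _ hy =>
      obtain ⟨hyE, hy'⟩ := hy
      refine ⟨E.inv_mem hyE, ?_⟩
      have e : (⟨y⁻¹, E.inv_mem hyE⟩ : E) = (⟨y, hyE⟩ : E)⁻¹ := rfl
      rw [e, map_inv]
      exact Subgroup.inv_mem _ hy'
  exact (key x hx).2

/-- Powers of a generator of an invariant cyclic subgroup generate invariant subgroups. -/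
theorem AInv.zpowers_pow {E : Subgroup Ω} {c : Ω} (hc : c ∈ E) (h : AInv F E (Subgroup.zpowers c)) (k : ℕ) :
    AInv F E (Subgroup.zpowers (c ^ k)) := by
  intro β hβ x hx hxE
  obtain ⟨i, rfl⟩ := Subgroup.mem_zpowers_iff.1 hx
  have e : (⟨(c ^ k) ^ i, hxE⟩ : E) = ((⟨c, hc⟩ : E) ^ k) ^ i := by
    apply Subtype.ext
    simp
  rw [e, map_zpow, map_pow]
  obtain ⟨j, hj⟩ := Subgroup.mem_zpowers_iff.1 (h β hβ c (Subgroup.mem_zpowers c) hc)
  refine Subgroup.mem_zpowers_iff.2 ⟨j * i, ?_⟩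
  have hj' : ((β ⟨c, hc⟩ : E) : Ω) = c ^ j := hj.symm
  show _ = (((β ⟨c, hc⟩ : E) ^ k) ^ i : E).1
  simp only [Subgroup.coe_zpow, Subgroup.coe_pow, hj']
  rw [← zpow_natCast, ← zpow_natCast, ← zpow_mul, ← zpow_mul, ← zpow_mul]
  congr 1
  ring

/-- Conjugation by a `p`-element on a cyclic `p`-group is a power congruent to 1 mod `p`. -/
theorem exists_conj_pow_one [Fact p.Prime] [Finite S] (hS : IsPGroup p S) {c g : Ω} (hgS : g ∈ S) {e : ℕ}
    (hc : orderOf c = p ^ (e + 1)) (hgn : g * c * g⁻¹ ∈ Subgroup.zpowers c) :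
    ∃ w : ℕ, g * c * g⁻¹ = c ^ w ∧ (w : ZMod p) = 1 := by
  have hp : p.Prime := Fact.out
  have hcf : 0 < orderOf c := by
    rw [hc]
    exact pow_pos hp.pos _
  have hc1 : IsOfFinOrder c := orderOf_pos_iff.1 hcf
  rw [← hc1.mem_powers_iff_mem_zpowers] at hgn
  obtain ⟨w, hw⟩ := hgn
  have hw' : g * c * g⁻¹ = c ^ w := hw.symm
  refine ⟨w, hw', ?_⟩
  have hk : ∀ k : ℕ, g ^ k * c * (g ^ k)⁻¹ = c ^ (w ^ k) := by
    intro k
    induction k with
    | zero => simp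
    | succ k ih =>
      calc g ^ (k + 1) * c * (g ^ (k + 1))⁻¹ = g * (g ^ k * c * (g ^ k)⁻¹) * g⁻¹ := by
            rw [pow_succ']
            group
        _ = (g * c * g⁻¹) ^ (w ^ k) := by rw [ih, conj_pow]
        _ = c ^ (w ^ (k + 1)) := by rw [hw', ← pow_mul, pow_succ']
  obtain ⟨N, hN⟩ := IsPGroup.iff_orderOf.1 hS ⟨g, hgS⟩
  have hgp : g ^ p ^ N = 1 := by
    have h1 : (⟨g, hgS⟩ : S) ^ p ^ N = 1 := by
      rw [← hN]
      exact pow_orderOf_eq_one _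
    exact congrArg Subtype.val h1
  have h1 := hk (p ^ N)
  rw [hgp] at h1
  simp only [one_mul, inv_one, mul_one] at h1
  have h2 : c ^ 1 = c ^ (w ^ p ^ N) := by rw [pow_one]; exact h1
  rw [pow_eq_pow_iff_modEq, hc] at h2
  have h3 : (1 : ℕ) ≡ w ^ p ^ N [MOD p] := h2.of_dvd (dvd_pow_self p (by omega))
  have h4 := (ZMod.natCast_eq_natCast_iff _ _ _).2 h3
  push_cast at h4
  rw [ZMod.pow_card_pow] at h4
  exact h4.symm

/-- A cyclic invariant subgroup has a good chain. -/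
theorem goodC_zpowers [Fact p.Prime] [Finite S] (hS : IsPGroup p S) {E : Subgroup Ω} {c g : Ω} (hc : c ∈ E)
    (hES : E ≤ S) (hinv : AInv F E (Subgroup.zpowers c)) (hgS : g ∈ S) (hgn : g * c * g⁻¹ ∈ Subgroup.zpowers c) :
    GoodC F E g (Subgroup.zpowers c) := by
  have hp : p.Prime := Fact.out
  obtain ⟨e, he⟩ := IsPGroup.iff_orderOf.1 hS ⟨c, hES hc⟩
  have he' : orderOf c = p ^ e := by
    rw [← he]
    exact (Subgroup.orderOf_mk c (hES hc)).symm
  clear he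
  induction e generalizing c with
  | zero =>
    have h1 : c = 1 := by
      rw [pow_zero] at he'
      exact orderOf_eq_one_iff.1 he'
    subst h1
    rw [Subgroup.zpowers_one_eq_bot]
    exact GoodC.bot
  | succ e ih =>
    have hcp : c ^ p ∈ E := E.pow_mem hc p
    have hordp : orderOf (c ^ p) = p ^ e := by
      rw [orderOf_pow' c hp.ne_zero, he', Nat.gcd_eq_right (dvd_pow_self p (by omega)), pow_succ,
        Nat.mul_div_cancel _ hp.pos]
    obtain ⟨w, hw, hw1⟩ := exists_conj_pow_one hS hgS he' hgn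
    have hconj : g * c ^ p * g⁻¹ = (c ^ p) ^ w := by
      rw [← conj_pow, hw, ← pow_mul, ← pow_mul, mul_comm]
    have hw0 : 1 ≤ w := by
      rcases Nat.eq_zero_or_pos w with h | h
      · subst h
        simp at hw1
      · exact h
    have hdvd : p ∣ w - 1 := by
      rw [← ZMod.natCast_eq_zero_iff, Nat.cast_sub hw0, hw1]
      simp
    obtain ⟨v, hv⟩ := hdvd
    refine GoodC.step (Y := Subgroup.zpowers (c ^ p)) (ih hcp (AInv.zpowers_pow hc hinv p) ?_ hordp) ?_ hinv ?_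
    · rw [hconj]
      exact Subgroup.pow_mem _ (Subgroup.mem_zpowers _) _
    · exact Subgroup.zpowers_le.2 (Subgroup.pow_mem _ (Subgroup.mem_zpowers _) _)
    · intro x hx
      obtain ⟨i, rfl⟩ := Subgroup.mem_zpowers_iff.1 hx
      have h1 : (c ^ i)⁻¹ * (g * c ^ i * g⁻¹) = ((c ^ p) ^ v) ^ i := by
        have h2 : c ^ w = (c ^ p) ^ v * c := by
          rw [← pow_mul, ← hv, ← pow_succ]
          congr 1
          omega
        have hcm : Commute ((c ^ p) ^ v) c := ((Commute.refl c).pow_left p).pow_left v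
        have hcm2 : Commute (((c ^ p) ^ v) ^ i) (c ^ i) := (hcm.zpow_left i).zpow_right i
        rw [← conj_zpow, hw, h2, hcm.mul_zpow, hcm2.eq]
        group
      rw [h1]
      exact Subgroup.zpow_mem _ (Subgroup.pow_mem _ (Subgroup.mem_zpowers _) _) _

/-- The abstract form of the chain through powers in an abelian section. -/
theorem goodC_of_hom {W : Type*} [CommGroup W] {E X Y : Subgroup Ω} {g : Ω} (f : ↥X →* W)
    (hker : ∀ x : ↥X, f x = 1 ↔ (x : Ω) ∈ Y) (hsurj : Function.Surjective f)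
    (hY : GoodC F E g Y) (hYX : Y ≤ X) (hXE : X ≤ E)
    (hXi : AInv F E X) (hYi : AInv F E Y)
    (hgX : ∀ x ∈ X, g * x * g⁻¹ ∈ X) (hgY : ∀ y ∈ Y, g * y * g⁻¹ ∈ Y)
    (hgc : ∀ x ∈ X, ∃ z ∈ X, ∃ y ∈ Y, x⁻¹ * (g * x * g⁻¹) = z ^ p * y)
    (N : ℕ) (hN : ∀ x ∈ X, x ^ p ^ N = 1) : GoodC F E g X := by
  classical
  let sig : ↥X →* ↥X := MonoidHom.mk' (fun u => ⟨g * u * g⁻¹, hgX u u.2⟩) (fun a b => by
    apply Subtype.ext
    show g * ((a : Ω) * b) * g⁻¹ = g * a * g⁻¹ * (g * b * g⁻¹)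
    group)
  have hsig : ∀ u : ↥X, ((sig u : ↥X) : Ω) = g * u * g⁻¹ := fun _ => rfl
  have heq : ∀ u v : ↥X, f u = f v ↔ ((u⁻¹ * v : ↥X) : Ω) ∈ Y := by
    intro u v
    rw [← hker, map_mul, map_inv, inv_mul_eq_one]
  have hfsig : ∀ u v : ↥X, f u = f v → f (sig u) = f (sig v) := by
    intro u v h
    rw [heq] at h ⊢
    have h1 := hgY _ h
    have e : ((sig u)⁻¹ * sig v : ↥X).1 = g * ((u⁻¹ * v : ↥X) : Ω) * g⁻¹ := by
      show ((g * u * g⁻¹)⁻¹ * (g * v * g⁻¹) : Ω) = g * ((u : Ω)⁻¹ * v) * g⁻¹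
      group
    rw [e]
    exact h1
  let M : ℕ → Subgroup Ω := fun j => ((powMonoidHom (p ^ j) : W →* W).range.comap f).map X.subtype
  have hM : ∀ j z, z ∈ M j ↔ ∃ h : z ∈ X, ∃ x : ↥X, f x ^ p ^ j = f ⟨z, h⟩ := by
    intro j z
    constructor
    · rintro ⟨u, ⟨w, hw⟩, rfl⟩
      obtain ⟨x, rfl⟩ := hsurj w
      exact ⟨u.2, x, hw⟩
    · rintro ⟨h, x, hx⟩
      exact ⟨⟨z, h⟩, ⟨f x, hx⟩, rfl⟩
  have hM0 : M 0 = X := by
    ext z
    rw [hM]
    constructor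
    · rintro ⟨h, _⟩
      exact h
    · intro h
      exact ⟨h, ⟨z, h⟩, by simp⟩
  have hMN : M N = Y := by
    ext z
    rw [hM]
    constructor
    · rintro ⟨h, x, hx⟩
      have h1 : x ^ p ^ N = 1 := Subtype.ext (hN x x.2)
      rw [← map_pow, h1, map_one] at hx
      exact (hker ⟨z, h⟩).1 hx.symm
    · intro h
      refine ⟨hYX h, 1, ?_⟩
      rw [map_one, one_pow, eq_comm, hker]
      exact h
  have hle : ∀ j, M (j + 1) ≤ M j := by
    intro j z hz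
    rw [hM] at hz ⊢
    obtain ⟨h, x, hx⟩ := hz
    refine ⟨h, x ^ p, ?_⟩
    rw [map_pow, ← pow_mul, ← pow_succ']
    exact hx
  have hinv : ∀ j, AInv F E (M j) := by
    intro j β hβ z hz hzE
    rw [hM] at hz ⊢
    obtain ⟨h, x, hx⟩ := hz
    have hxE : (x : Ω) ∈ E := hXE x.2
    have h1 := (heq ⟨z, h⟩ (x ^ p ^ j)).1 (by rw [map_pow]; exact hx.symm)
    have h1E : (((⟨z, h⟩ : ↥X)⁻¹ * x ^ p ^ j : ↥X) : Ω) ∈ E := hXE (Subtype.property _)
    have h2 := hYi β hβ _ h1 h1E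
    have e : (⟨((⟨z, h⟩ : ↥X)⁻¹ * x ^ p ^ j : ↥X), h1E⟩ : E) = (⟨z, hzE⟩ : E)⁻¹ * (⟨x, hxE⟩ : E) ^ p ^ j := by
      apply Subtype.ext
      rfl
    rw [e, map_mul, map_inv, map_pow] at h2
    refine ⟨hXi β hβ z h hzE, ⟨_, hXi β hβ x x.2 hxE⟩, ?_⟩
    rw [← map_pow, eq_comm, heq]
    exact h2
  have hstep : ∀ j, ∀ z ∈ M j, z⁻¹ * (g * z * g⁻¹) ∈ M (j + 1) := by
    intro j z hz
    rw [hM] at hz ⊢
    obtain ⟨h, x, hx⟩ := hz
    obtain ⟨v, hv, y, hy, hvy⟩ := hgc x x.2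
    have h1 : f (sig x) = f x * f ⟨v, hv⟩ ^ p := by
      have e : sig x = x * (⟨v, hv⟩ ^ p * ⟨y, hYX hy⟩) := by
        apply Subtype.ext
        show g * (x : Ω) * g⁻¹ = x * (v ^ p * y)
        rw [← hvy]
        group
      rw [e, map_mul, map_mul, map_pow, (hker ⟨y, hYX hy⟩).2 hy, mul_one]
    have h2 : f (sig ⟨z, h⟩) = f x ^ p ^ j * f ⟨v, hv⟩ ^ p ^ (j + 1) := by
      have h3 : f (⟨z, h⟩ : ↥X) = f (x ^ p ^ j) := by rw [map_pow]; exact hx.symm
      rw [hfsig _ _ h3, map_pow, map_pow, h1, mul_pow, ← pow_mul, pow_succ' p j]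
    have hzg : z⁻¹ * (g * z * g⁻¹) ∈ X := X.mul_mem (X.inv_mem h) (hgX z h)
    refine ⟨hzg, ⟨v, hv⟩, ?_⟩
    have e : (⟨z⁻¹ * (g * z * g⁻¹), hzg⟩ : ↥X) = (⟨z, h⟩ : ↥X)⁻¹ * sig ⟨z, h⟩ := rfl
    rw [e, map_mul, map_inv, h2, hx]
    simp
  have hgood : ∀ d j, j + d = N → GoodC F E g (M j) := by
    intro d
    induction d with
    | zero =>
      intro j hj
      have : j = N := by omega
      subst this
      rw [hMN]
      exact hY
    | succ d ih =>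
      intro j hj
      exact GoodC.step (ih (j + 1) (by omega)) (hle j) (hinv j) (hstep j)
  have := hgood N 0 (by omega)
  rwa [hM0] at this

/-- The chain through powers in an abelian section. -/
theorem goodC_of_abelian {E X Y : Subgroup Ω} {g : Ω}
    (hY : GoodC F E g Y) (hYX : Y ≤ X) (hXE : X ≤ E)
    (hXi : AInv F E X) (hYi : AInv F E Y)
    (hab : ∀ x ∈ X, ∀ y ∈ X, x * y * x⁻¹ * y⁻¹ ∈ Y)
    (hgX : ∀ x ∈ X, g * x * g⁻¹ ∈ X) (hgY : ∀ y ∈ Y, g * y * g⁻¹ ∈ Y)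
    (hgc : ∀ x ∈ X, ∃ z ∈ X, ∃ y ∈ Y, x⁻¹ * (g * x * g⁻¹) = z ^ p * y)
    (N : ℕ) (hN : ∀ x ∈ X, x ^ p ^ N = 1) : GoodC F E g X := by
  haveI hn : (Y.subgroupOf X).Normal := by
    refine ⟨fun n hn u => ?_⟩
    rw [Subgroup.mem_subgroupOf] at hn ⊢
    have h1 := hab u u.2 n n.2
    have e : ((u * n * u⁻¹ : ↥X) : Ω) = (u : Ω) * n * (u : Ω)⁻¹ * (n : Ω)⁻¹ * n := by
      show (u : Ω) * n * (u : Ω)⁻¹ = _
      group
    rw [e]
    exact Y.mul_mem h1 hn
  letI : CommGroup (↥X ⧸ Y.subgroupOf X) :=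
    { (inferInstance : Group (↥X ⧸ Y.subgroupOf X)) with
      mul_comm := by
        intro a b
        obtain ⟨a, rfl⟩ := QuotientGroup.mk_surjective a
        obtain ⟨b, rfl⟩ := QuotientGroup.mk_surjective b
        rw [← QuotientGroup.mk_mul, ← QuotientGroup.mk_mul, QuotientGroup.eq, Subgroup.mem_subgroupOf]
        have h1 := hab (b : Ω)⁻¹ (X.inv_mem b.2) (a : Ω)⁻¹ (X.inv_mem a.2)
        have e : (((a * b)⁻¹ * (b * a) : ↥X) : Ω) = (b : Ω)⁻¹ * (a : Ω)⁻¹ * ((b : Ω)⁻¹)⁻¹ * ((a : Ω)⁻¹)⁻¹ := by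
          show (((a : Ω) * b)⁻¹ * ((b : Ω) * a) : Ω) = _
          group
        rw [e]
        exact h1 }
  refine goodC_of_hom (QuotientGroup.mk' (Y.subgroupOf X)) ?_ (QuotientGroup.mk'_surjective _) hY hYX hXE hXi hYi hgX hgY
    hgc N hN
  intro x
  rw [QuotientGroup.mk'_apply, QuotientGroup.eq_one_iff, Subgroup.mem_subgroupOf]

end Cfsg.Agent.H24
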