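import Mathlib
import Cfsg.Agent.Lib.H24.MChain
import Cfsg.Agent.Lib.H24.MCP
import Cfsg.Agent.Lib.H24.GES6
import Cfsg.Agent.Lib.H06.Meta

/-!
Strongly closed metacyclic subgroups, `p` odd, are normal.
-/

set_option autoImplicit false
set_option linter.style.haveILetI false
set_option maxHeartbeats 1000000

namespace Cfsg.Agent.H24

open Cfsg Cfsg.FusionSystem Cfsg.Agent.H18
open scoped commutatorElement

universe u

variable {Ω : Type u} [Group Ω] {S : Subgroup Ω} {F : FusionSystem S} {p : ℕ} [hp : Fact p.Prime] {P : Subgroup Ω}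

theorem aInv_of_pow {E X Y Z : Subgroup Ω} (hX : AInv F E X) (hXE : X ≤ E) (hY : AInv F E Y) (hZX : Z ≤ X) (n : ℕ)
    (h1 : ∀ x ∈ Z, x ^ n ∈ Y) (h2 : ∀ x ∈ X, x ^ n ∈ Y → x ∈ Z) : AInv F E Z := by
  intro β hβ x hx hxE
  apply h2 _ (hX β hβ x (hZX hx) hxE)
  have h3 := hY β hβ _ (h1 x hx) (E.pow_mem hxE n)
  have e : (⟨x ^ n, E.pow_mem hxE n⟩ : E) = (⟨x, hxE⟩ : E) ^ n := rfl
  rw [e, map_pow] at h3
  exact h3

theorem conj_commutator_mem {Q : Subgroup Ω} {g : Ω} (h : ∀ x ∈ Q, g * x * g⁻¹ ∈ Q) {y : Ω} (hy : y ∈ ⁅Q, Q⁆) :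
    g * y * g⁻¹ ∈ ⁅Q, Q⁆ := by
  let φ : Ω →* Ω := (MulAut.conj g).toMonoidHom
  have h1 : Q.map φ ≤ Q := by
    rintro _ ⟨x, hx, rfl⟩
    exact h x hx
  have h2 : ⁅Q, Q⁆.map φ ≤ ⁅Q, Q⁆ := by
    rw [Subgroup.map_commutator]
    exact Subgroup.commutator_mono h1 h1
  exact h2 ⟨y, hy, rfl⟩

theorem commutator_self_le (Q : Subgroup Ω) : ⁅Q, Q⁆ ≤ Q := by
  rw [Subgroup.commutator_le]
  intro x hx y hy
  exact Q.mul_mem (Q.mul_mem (Q.mul_mem hx hy) (Q.inv_mem hx)) (Q.inv_mem hy)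

theorem exists_zpowers_eq_of_le {X : Subgroup Ω} {c : Ω} (h : X ≤ Subgroup.zpowers c) :
    ∃ c₀, X = Subgroup.zpowers c₀ := by
  have h1 : IsCyclic ↥X := Subgroup.isCyclic_of_le h
  obtain ⟨⟨x, hx⟩, hgen⟩ := h1.exists_generator
  refine ⟨x, le_antisymm ?_ (Subgroup.zpowers_le.2 hx)⟩
  intro y hy
  obtain ⟨k, hk⟩ := Subgroup.mem_zpowers_iff.1 (hgen ⟨y, hy⟩)
  exact Subgroup.mem_zpowers_iff.2 ⟨k, congrArg Subtype.val hk⟩

/-- A uniform exponent. -/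
theorem exists_exp [Finite S] (hS : IsPGroup p S) : ∃ N, ∀ x ∈ S, x ^ p ^ N = 1 := by
  obtain ⟨N, hN⟩ := IsPGroup.iff_card.1 hS
  refine ⟨N, fun x hx => ?_⟩
  have h1 : (⟨x, hx⟩ : S) ^ Nat.card S = 1 := pow_card_eq_one'
  rw [hN] at h1
  exact congrArg Subtype.val h1

theorem comm_coe_mem (G : Type*) [Group G] (u g : G) : u⁻¹ * (g * u * g⁻¹) ∈ commutator G := by
  have h1 : ⁅u⁻¹, g⁆ ∈ commutator G := Subgroup.commutator_mem_commutator (Subgroup.mem_top _) (Subgroup.mem_top _)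
  have h2 : ⁅u⁻¹, g⁆ = u⁻¹ * (g * u * g⁻¹) := by
    rw [commutatorElement_def]
    group
  rwa [h2] at h1

/-- The abstract version of the facts of `g`. -/
structure ChainCtx (S : Subgroup Ω) (F : FusionSystem S) (p : ℕ) (P E : Subgroup Ω) (g : Ω) : Prop where
  hS : IsPGroup p S
  hP : F.StronglyClosed P
  hC : F.IsCentric E
  hR : F.IsRadical p E
  hgP : g ∈ P
  hgN : g ∈ normalizerIn S E

namespace ChainCtx

variable {E : Subgroup Ω} {g : Ω} (H : ChainCtx S F p P E g)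

include H

theorem hES : E ≤ S := H.hC.1

theorem hPS : P ≤ S := H.hP.1

theorem hSn {s : Ω} (hs : s ∈ S) {x : Ω} (hx : x ∈ P) : s * x * s⁻¹ ∈ P :=
  conj_mem_of_normalizer (normalizer_of_stronglyClosed H.hP hs) hx

theorem hgE {x : Ω} (hx : x ∈ E) : g * x * g⁻¹ ∈ E := conj_mem_of_normalizer H.hgN.2 hx

theorem hgQ {x : Ω} (hx : x ∈ E ⊓ P) : g * x * g⁻¹ ∈ E ⊓ P :=
  ⟨H.hgE hx.1, H.hSn H.hgN.1 hx.2⟩

theorem comm_E {x : Ω} (hx : x ∈ E) : x⁻¹ * (g * x * g⁻¹) ∈ E ⊓ P := by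
  refine ⟨E.mul_mem (E.inv_mem hx) (H.hgE hx), ?_⟩
  have h1 : x⁻¹ * g * x ∈ P := by
    have := H.hSn (S.inv_mem (H.hES hx)) H.hgP
    simpa using this
  have h2 : x⁻¹ * (g * x * g⁻¹) = (x⁻¹ * g * x) * g⁻¹ := by group
  rw [h2]
  exact P.mul_mem h1 (P.inv_mem H.hgP)

/-- Finish: a good chain on `E ⊓ P` gives `g ∈ E`. -/
theorem finish [Finite S] (h : GoodC F E g (E ⊓ P)) : g ∈ E :=
  mem_of_goodC H.hS H.hC H.hR H.hgN
    (GoodC.step h inf_le_left (aInv_self E) fun _ hx => H.comm_E hx)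

/-- Case A: `P'` consists of `p`-th powers of a cyclic subgroup of `E ⊓ P`. -/
theorem caseA [Finite S] {c : Ω} (hc : c ∈ E ⊓ P)
    (hcd : ⁅P, P⁆ ≤ Subgroup.zpowers (c ^ p)) : g ∈ E := by
  apply H.finish
  set Q := E ⊓ P with hQ
  have hQi : AInv F E Q := aInv_inf H.hP H.hES
  have hQE : Q ≤ E := inf_le_left
  have hQ'le : ⁅Q, Q⁆ ≤ Subgroup.zpowers (c ^ p) :=
    (Subgroup.commutator_mono inf_le_right inf_le_right).trans hcd
  have hQ'i : AInv F E ⁅Q, Q⁆ := hQi.commutator hQE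
  obtain ⟨c₀, hc₀⟩ := exists_zpowers_eq_of_le hQ'le
  have hQ'Q : ⁅Q, Q⁆ ≤ Q := commutator_self_le Q
  have hgQ' : ∀ y ∈ ⁅Q, Q⁆, g * y * g⁻¹ ∈ ⁅Q, Q⁆ := fun y hy => conj_commutator_mem (fun x hx => H.hgQ hx) hy
  have hc₀mem : c₀ ∈ ⁅Q, Q⁆ := by
    rw [hc₀]
    exact Subgroup.mem_zpowers _
  have hgood : GoodC F E g ⁅Q, Q⁆ := by
    have h1 := hgQ' c₀ hc₀mem
    have h2 := hQE (hQ'Q hc₀mem)
    rw [hc₀] at hQ'i h1 ⊢
    exact goodC_zpowers H.hS h2 H.hES hQ'i H.hgN.1 h1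
  obtain ⟨N, hN⟩ := exists_exp H.hS
  refine goodC_of_abelian hgood hQ'Q hQE hQi hQ'i ?_ (fun x hx => H.hgQ hx) hgQ' ?_ N
    (fun x hx => hN x (H.hES (hQE hx)))
  · intro x hx y hy
    exact Subgroup.commutator_mem_commutator hx hy
  · intro x hx
    have h1 : x⁻¹ * (g * x * g⁻¹) ∈ ⁅P, P⁆ := by
      have h2 : ⁅x⁻¹, g⁆ ∈ ⁅P, P⁆ := Subgroup.commutator_mem_commutator (P.inv_mem ((inf_le_right : Q ≤ P) hx)) H.hgP
      have h3 : ⁅x⁻¹, g⁆ = x⁻¹ * (g * x * g⁻¹) := by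
        rw [commutatorElement_def]
        group
      rwa [h3] at h2
    obtain ⟨k, hk⟩ := Subgroup.mem_zpowers_iff.1 (hcd h1)
    refine ⟨c ^ k, Q.zpow_mem hc k, 1, Subgroup.one_mem _, ?_⟩
    rw [mul_one, ← hk, ← zpow_natCast, ← zpow_natCast, ← zpow_mul, ← zpow_mul, mul_comm]

/-- The commutators of elements of `P` with `g`. -/
theorem comm_coe (u : ↥P) : ((u⁻¹ * ((⟨g, H.hgP⟩ : ↥P) * u * (⟨g, H.hgP⟩ : ↥P)⁻¹) : ↥P) : Ω) = (u : Ω)⁻¹ * (g * u * g⁻¹) :=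
  rfl

/-- The homocyclic case. -/
theorem caseH [Finite S] (D : MC p ↥P) (hp2 : p ≠ 2) (hs : D.s = 1) (he : D.e = D.m) (hb : D.b ^ p ^ D.m = 1)
    (hm : 1 ≤ D.m) (hT : ∀ u : ↥P, u ∈ D.Gt 1 → (u : Ω) ∈ E) : g ∈ E := by
  haveI : Finite ↥P := finite_of_le H.hPS
  apply H.finish
  have hfE : E ⊓ P ≤ E := inf_le_left
  let c : ℕ → Subgroup Ω := fun t => (D.Gt t).map P.subtype
  have hcmem : ∀ t x, x ∈ c t ↔ ∃ hx : x ∈ P, (⟨x, hx⟩ : ↥P) ∈ D.Gt t := by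
    intro t x
    constructor
    · rintro ⟨u, hu, rfl⟩
      exact ⟨u.2, hu⟩
    · rintro ⟨hx, hu⟩
      exact ⟨⟨x, hx⟩, hu, rfl⟩
  have hmono : ∀ t, D.Gt (t + 1) ≤ D.Gt t := by
    intro t u hu
    obtain ⟨i, j, rfl⟩ := D.exists_of_mem_Gt hu
    exact D.mem_Gt_of (Dvd.dvd.mul_right (pow_dvd_pow _ (Nat.le_succ t)) _)
      (Dvd.dvd.mul_right (pow_dvd_pow _ (Nat.le_succ t)) _)
  have hle1 : ∀ t, 1 ≤ t → D.Gt t ≤ D.Gt 1 := by
    intro t ht
    induction t, ht using Nat.le_induction with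
    | base => exact le_rfl
    | succ t _ ih => exact (hmono t).trans ih
  have hcE : ∀ t, 1 ≤ t → c t ≤ E ⊓ P := by
    rintro t ht _ ⟨u, hu, rfl⟩
    exact ⟨hT u (hle1 t ht hu), u.2⟩
  have hinv : ∀ t, 1 ≤ t → t ≤ D.m → AInv F E (c t) := by
    intro t ht htm
    refine aInv_of_pow (aInv_inf H.hP H.hES) hfE (aInv_bot E) (hcE t ht) (p ^ (D.m - t)) ?_ ?_
    · rintro _ ⟨u, hu, rfl⟩
      have h1 := (MCP.mem_Gt_iff_of_homo D hp2 he hb htm u).1 hu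
      have h2 : ((u : Ω)) ^ p ^ (D.m - t) = 1 := congrArg Subtype.val h1
      exact h2
    · rintro x hx hx1
      refine (hcmem t x).2 ⟨hx.2, (MCP.mem_Gt_iff_of_homo D hp2 he hb htm _).2 ?_⟩
      apply Subtype.ext
      exact hx1
  have hstep : ∀ t, ∀ x ∈ c t, x⁻¹ * (g * x * g⁻¹) ∈ c (t + 1) := by
    rintro t _ ⟨u, hu, rfl⟩
    have h1 := MCP.comm_Gt D hp2 hu ⟨g, H.hgP⟩
    exact ⟨_, MCP.Dt_le_Gt_succ D hs t h1, rfl⟩
  have hgood : ∀ d t, 1 ≤ t → t + d = D.m → GoodC F E g (c t) := by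
    intro d
    induction d with
    | zero =>
      intro t ht htm
      have htm' : t = D.m := by omega
      subst htm'
      have h1 : c D.m = ⊥ := by
        rw [eq_bot_iff]
        rintro _ ⟨u, hu, rfl⟩
        have h2 := (MCP.mem_Gt_iff_of_homo D hp2 he hb le_rfl u).1 hu
        rw [Nat.sub_self, pow_zero, pow_one] at h2
        rw [h2]
        exact Subgroup.one_mem _
      rw [h1]
      exact GoodC.bot
    | succ d ih =>
      intro t ht htm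
      refine GoodC.step (ih (t + 1) (by omega) (by omega)) (Subgroup.map_mono (hmono t)) (hinv t ht (by omega)) (hstep t)
  refine GoodC.step (hgood (D.m - 1) 1 le_rfl (by omega)) (hcE 1 le_rfl) (aInv_inf H.hP H.hES) ?_
  intro x hx
  have h1 := D.commutator_le_Dt hp2 (comm_coe_mem ↥P ⟨x, hx.2⟩ ⟨g, H.hgP⟩)
  have h2 : D.Dt 0 ≤ D.Gt 1 := MCP.Dt_le_Gt_succ D hs 0
  exact ⟨_, h2 h1, rfl⟩

/-- The case `C_{p^m} ⋊ C_{p^(m-1)}`, `m ≥ 3`. -/
theorem casePm [Finite S] (D : MC p ↥P) (hp2 : p ≠ 2) {t : ℕ} (hm : D.m = t + 1) (he : D.e = t) (hb : D.b ^ p ^ t = 1)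
    (hs : D.s = 1) (ht : 2 ≤ t) (hL : ∀ u : ↥P, (u : Ω) ∈ E ↔ u ^ p ^ t = 1) : g ∈ E := by
  haveI : Finite ↥P := finite_of_le H.hPS
  have hp : p.Prime := Fact.out
  apply H.finish
  set Q := E ⊓ P with hQ
  have hQi : AInv F E Q := aInv_inf H.hP H.hES
  have hQE : Q ≤ E := inf_le_left
  have hQ'i : AInv F E ⁅Q, Q⁆ := hQi.commutator hQE
  have hQ'Q : ⁅Q, Q⁆ ≤ Q := commutator_self_le Q
  have hgQ' : ∀ y ∈ ⁅Q, Q⁆, g * y * g⁻¹ ∈ ⁅Q, Q⁆ := fun y hy => conj_commutator_mem (fun x hx => H.hgQ hx) hy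
  have hQmem : ∀ x, x ∈ Q ↔ ∃ hx : x ∈ P, (⟨x, hx⟩ : ↥P) ^ p ^ t = 1 := by
    intro x
    constructor
    · rintro ⟨hxE, hxP⟩
      exact ⟨hxP, (hL ⟨x, hxP⟩).1 hxE⟩
    · rintro ⟨hxP, h1⟩
      exact ⟨(hL ⟨x, hxP⟩).2 h1, hxP⟩
  -- the derived subgroup of `Q`
  have hQ' : ⁅Q, Q⁆ = (D.Dt 1).map P.subtype := by
    apply le_antisymm
    · rw [Subgroup.commutator_le]
      intro x hx y hy
      obtain ⟨hxP, hx1⟩ := (hQmem x).1 hx
      obtain ⟨hyP, hy1⟩ := (hQmem y).1 hy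
      obtain ⟨i, j, hij⟩ := D.hgen ⟨x, hxP⟩
      obtain ⟨k, l, hkl⟩ := D.hgen ⟨y, hyP⟩
      rw [hij, MCP.pm_mem_L D hp2 hm hb] at hx1
      rw [hkl, MCP.pm_mem_L D hp2 hm hb] at hy1
      have h1 := D.comm_mem hp2 k l i j 1 (by simpa using Dvd.dvd.mul_right hy1 j) (by simpa using Dvd.dvd.mul_right hx1 l)
      rw [← hij, ← hkl] at h1
      exact ⟨_, h1, rfl⟩
    · rw [show D.Dt 1 = Subgroup.zpowers (D.a ^ p ^ (D.s + 1)) from rfl, MonoidHom.map_zpowers, Subgroup.zpowers_le]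
      obtain ⟨c, hc⟩ : p ^ D.s ∣ D.r - 1 := pow_padicValNat_dvd
      have h0 : D.r - 1 ≠ 0 := by have := D.hr1; omega
      have hcop : ¬ p ∣ c := by
        intro hd
        have h2 : p ^ (D.s + 1) ∣ D.r - 1 := by
          rw [hc, pow_succ]
          exact Nat.mul_dvd_mul_left _ hd
        have h3 := (padicValNat_dvd_iff_le h0).1 h2
        have h4 : D.s = padicValNat p (D.r - 1) := rfl
        omega
      have hz : ((D.a ^ p ^ (D.s + 1) : ↥P) : Ω) ^ (p ^ D.m) = 1 := by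
        have h1 : (D.a ^ p ^ (D.s + 1)) ^ p ^ D.m = 1 := by
          rw [← pow_mul, mul_comm, pow_mul, MCP.a_pow_eq_one D (dvd_refl _), one_pow]
        exact congrArg Subtype.val h1
      have hbQ : ((D.b : ↥P) : Ω) ∈ Q := (hQmem _).2 ⟨D.b.2, hb⟩
      have haQ : ((D.a ^ p : ↥P) : Ω) ∈ Q := by
        refine (hQmem _).2 ⟨(D.a ^ p).2, ?_⟩
        show (D.a ^ p) ^ p ^ t = 1
        rw [← pow_mul, ← pow_succ', ← hm]
        exact MCP.a_pow_eq_one D (dvd_refl _)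
      refine mc_mem_of_pow_mem ((Nat.Coprime.pow_right _ ((Nat.Prime.coprime_iff_not_dvd hp).2 hcop).symm)) hz ?_
      have h5 : ⁅((D.b : ↥P) : Ω), ((D.a ^ p : ↥P) : Ω)⁆ ∈ ⁅Q, Q⁆ := Subgroup.commutator_mem_commutator hbQ haQ
      have h6 : ((⁅D.b, D.a ^ p⁆ : ↥P) : Ω) = ⁅((D.b : ↥P) : Ω), ((D.a ^ p : ↥P) : Ω)⁆ := rfl
      rw [← h6] at h5
      have h7 : ⁅D.b, D.a ^ p⁆ = (D.a ^ p ^ (D.s + 1)) ^ c := by
        have h8 := D.b_mul_a 1 p
        rw [pow_one, pow_one] at h8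
        have h9 : D.r = (D.r - 1) + 1 := by have := D.hr1; omega
        rw [commutatorElement_def, h8, mul_inv_cancel_right]
        have h10 : D.a ^ (p * D.r) = D.a ^ (p * (D.r - 1)) * D.a ^ p := by
          rw [← pow_add]
          congr 1
          nth_rw 1 [h9]
          ring
        rw [h10, mul_inv_cancel_right, hc, ← pow_mul, hs]
        congr 1
        ring
      rw [h7] at h5
      exact h5
  have hQ'le : ⁅Q, Q⁆ ≤ Subgroup.zpowers ((D.a ^ p ^ (D.s + 1) : ↥P) : Ω) := by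
    rw [hQ', show D.Dt 1 = Subgroup.zpowers (D.a ^ p ^ (D.s + 1)) from rfl, MonoidHom.map_zpowers]
    exact le_rfl
  have hgoodQ' : GoodC F E g ⁅Q, Q⁆ := by
    obtain ⟨c₀, hc₀⟩ := exists_zpowers_eq_of_le hQ'le
    have hc₀mem : c₀ ∈ ⁅Q, Q⁆ := by
      rw [hc₀]
      exact Subgroup.mem_zpowers _
    have h1 := hgQ' c₀ hc₀mem
    have h2 := hQE (hQ'Q hc₀mem)
    have h3 := hQ'i
    rw [hc₀] at h3 h1 ⊢
    exact goodC_zpowers H.hS h2 H.hES h3 H.hgN.1 h1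
  set R := (D.Gt 1).map P.subtype with hR
  have hRQ : R ≤ Q := by
    rintro _ ⟨u, hu, rfl⟩
    exact (hQmem _).2 ⟨u.2, MCP.Gt_one_le_L D hp2 hm hb hu⟩
  have hDG : D.Dt 1 ≤ D.Gt 1 := by
    refine Subgroup.zpowers_le.2 ?_
    have e : D.a ^ p ^ (D.s + 1) = (D.a ^ p ^ 1) ^ p ^ D.s := by
      rw [← pow_mul, ← pow_add, add_comm]
    rw [e]
    exact Subgroup.pow_mem _ (Subgroup.mem_sup_left (Subgroup.mem_zpowers _)) _
  have hRi : AInv F E R := by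
    refine aInv_of_pow hQi hQE hQ'i hRQ (p ^ (t - 1)) ?_ ?_
    · rintro _ ⟨u, hu, rfl⟩
      have h1 := (MCP.pm_mem_R D hp2 hm he hb hs ht (MCP.Gt_one_le_L D hp2 hm hb hu)).2 hu
      rw [hQ']
      exact ⟨_, h1, rfl⟩
    · intro x hx h
      obtain ⟨hxP, hx1⟩ := (hQmem x).1 hx
      rw [hQ'] at h
      obtain ⟨u, hu, hux⟩ := h
      have h1 : u = (⟨x, hxP⟩ : ↥P) ^ p ^ (t - 1) := Subtype.ext hux
      rw [h1] at hu
      exact ⟨⟨x, hxP⟩, (MCP.pm_mem_R D hp2 hm he hb hs ht hx1).1 hu, rfl⟩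
  have hgoodR : GoodC F E g R := by
    refine GoodC.step hgoodQ' (by rw [hQ']; exact Subgroup.map_mono hDG) hRi ?_
    rintro _ ⟨u, hu, rfl⟩
    rw [hQ']
    exact ⟨_, MCP.comm_Gt D hp2 hu ⟨g, H.hgP⟩, rfl⟩
  refine GoodC.step hgoodR hRQ hQi ?_
  intro x hx
  have hxP : x ∈ P := (inf_le_right : Q ≤ P) hx
  have h1 := D.commutator_le_Dt hp2 (comm_coe_mem ↥P ⟨x, hxP⟩ ⟨g, H.hgP⟩)
  have h2 : D.Dt 0 ≤ D.Gt 1 := MCP.Dt_le_Gt_succ D hs 0
  exact ⟨_, h2 h1, rfl⟩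

end ChainCtx

/-- The induction step. -/
theorem mc_step [Finite S] (hS : IsPGroup p S) (hF : F.IsSaturated p) (hp2 : p ≠ 2) (hP : F.StronglyClosed P)
    (hmc : IsMetacyclic ↥P)
    (IH : ∀ T : Subgroup Ω, Nat.card T < Nat.card P → F.StronglyClosed T → IsMetacyclic ↥T → F.IsNormal T) :
    F.IsNormal P := by
  have hp : p.Prime := Fact.out
  refine isNormal_of_stronglyClosed_le hS hF hP fun E hC hR => ?_
  by_contra hPE
  have hES : E ≤ S := hC.1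
  haveI : Finite ↥P := finite_of_le hP.1
  have hPp : IsPGroup p ↥P := hS.of_injective (Subgroup.inclusion hP.1) (Subgroup.inclusion_injective _)
  obtain ⟨g, hgP, hgN, hgE⟩ : ∃ g, g ∈ P ∧ g ∈ normalizerIn S E ∧ g ∉ E := by
    by_contra hno
    push Not at hno
    apply hPE
    refine le_of_normalizer_le hS hP.1 hES (hES.trans (normalizer_of_stronglyClosed hP)) fun g hg hgN => ?_
    exact hno g hg ⟨hP.1 hg, hgN⟩
  have H : ChainCtx S F p P E g := ⟨hS, hP, hC, hR, hgP, hgN⟩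
  by_cases hab : ⁅P, P⁆ = ⊥
  · refine hgE (H.caseA (c := 1) ⟨E.one_mem, P.one_mem⟩ ?_)
    rw [hab]
    exact bot_le
  obtain ⟨D⟩ := exists_mc hPp hmc
  -- the top exponent
  obtain ⟨t, ht1, ht2⟩ : ∃ t, (∀ x : ↥P, x ^ p ^ (t + 1) = 1) ∧ ∃ x : ↥P, x ^ p ^ t ≠ 1 := by
    obtain ⟨N, hN⟩ := IsPGroup.iff_card.1 hPp
    have hex : ∃ N, ∀ x : ↥P, x ^ p ^ N = 1 := ⟨N, fun x => by rw [← hN]; exact pow_card_eq_one'⟩
    classical
    have h0 : Nat.find hex ≠ 0 := by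
      intro h0
      have h1 := Nat.find_spec hex
      rw [h0] at h1
      apply hab
      rw [eq_bot_iff, Subgroup.commutator_le]
      intro x hx y hy
      have hx1 : (⟨x, hx⟩ : ↥P) = 1 := by simpa using h1 ⟨x, hx⟩
      have hx2 : x = 1 := congrArg Subtype.val hx1
      subst hx2
      simp
    obtain ⟨t, ht⟩ := Nat.exists_eq_succ_of_ne_zero h0
    refine ⟨t, ?_, ?_⟩
    · have h1 := Nat.find_spec hex
      rw [ht] at h1
      exact h1
    · have h1 := Nat.find_min hex (m := t) (by omega)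
      push Not at h1
      exact h1
  have hmt : D.m ≤ t + 1 := by
    have h1 : orderOf D.a ∣ p ^ (t + 1) := orderOf_dvd_of_pow_eq_one (ht1 _)
    rw [D.hord] at h1
    exact (Nat.pow_dvd_pow_iff_le_right hp.one_lt).1 h1
  set T := (MCP.topKer D hp2 hmt).map P.subtype with hTdef
  have hTP : T ≤ P := by
    rintro _ ⟨u, _, rfl⟩
    exact u.2
  have hTsc : F.StronglyClosed T := by
    refine ⟨hTP.trans hP.1, fun R hRT φ hφ x => ?_⟩
    have h1 := hP.2 R (hRT.trans hTP) φ hφ x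
    refine ⟨⟨_, h1⟩, ?_, rfl⟩
    apply Subtype.ext
    show (φ x) ^ p ^ t = 1
    rw [← map_pow]
    obtain ⟨u, hu, hux⟩ := hRT x.2
    have h2 : x ^ p ^ t = 1 := by
      apply Subtype.ext
      show (x : Ω) ^ p ^ t = 1
      rw [← hux]
      have h3 : u ^ p ^ t = 1 := hu
      exact congrArg Subtype.val h3
    rw [h2, map_one]
  have hTcard : Nat.card T < Nat.card P := by
    obtain ⟨x, hx⟩ := ht2
    have hne : T ≠ P := by
      intro h
      have hx' : (x : Ω) ∈ T := by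
        rw [h]
        exact x.2
      obtain ⟨u, hu, hux⟩ := hx'
      have h1 : u = x := Subtype.ext hux
      subst h1
      exact hx hu
    by_contra hge
    push Not at hge
    exact hne (Subgroup.eq_of_le_of_card_ge hTP hge)
  have hTm : IsMetacyclic ↥T :=
    Cfsg.Agent.H06.Meta.isMetacyclic_of_injective (Subgroup.inclusion hTP) (Subgroup.inclusion_injective _) hmc
  have hTE : T ≤ E := le_of_isNormal hS (IH T hTcard hTsc hTm) hC hR
  have hTmem : ∀ u : ↥P, u ^ p ^ t = 1 → (u : Ω) ∈ E := fun u hu => hTE ⟨u, hu, rfl⟩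
  -- Case A
  have hPP : ⁅P, P⁆ ≤ (commutator ↥P).map P.subtype := by
    rw [Subgroup.commutator_le]
    intro x hx y hy
    refine ⟨⁅(⟨x, hx⟩ : ↥P), (⟨y, hy⟩ : ↥P)⁆, ?_, rfl⟩
    exact Subgroup.commutator_mem_commutator (Subgroup.mem_top _) (Subgroup.mem_top _)
  have hsp := D.s_pos
  have hA : ((D.a ^ p ^ (D.s - 1) : ↥P) : Ω) ∉ E := by
    intro hA
    refine hgE (H.caseA (c := ((D.a ^ p ^ (D.s - 1) : ↥P) : Ω)) ⟨hA, Subtype.property _⟩ ?_)
    refine hPP.trans ?_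
    rintro _ ⟨u, hu, rfl⟩
    obtain ⟨k, hk⟩ := Subgroup.mem_zpowers_iff.1 (MCP.exists_of_mem_comm D hp2 hu)
    refine Subgroup.mem_zpowers_iff.2 ⟨k, ?_⟩
    rw [← hk]
    rfl
  have ha : ((D.a : ↥P) : Ω) ∉ E := by
    intro ha
    apply hA
    have e : ((D.a ^ p ^ (D.s - 1) : ↥P) : Ω) = ((D.a : ↥P) : Ω) ^ p ^ (D.s - 1) := rfl
    rw [e]
    exact E.pow_mem ha _
  have hat : D.a ^ p ^ t ≠ 1 := fun h => ha (by
    have := hTmem D.a h
    exact this)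
  have hm : D.m = t + 1 := by
    by_contra hne
    have hle : D.m ≤ t := by omega
    exact hat (MCP.a_pow_eq_one D (pow_dvd_pow p hle))
  have hap : ((D.a ^ p : ↥P) : Ω) ∈ E := by
    apply hTmem
    rw [← pow_mul, ← pow_succ']
    exact ht1 _
  have hs : D.s = 1 := by
    by_contra hne
    apply hA
    have h2 : p ^ (D.s - 1) = p * p ^ (D.s - 2) := by
      rw [← pow_succ']
      congr 1
      omega
    have e : ((D.a ^ p ^ (D.s - 1) : ↥P) : Ω) = ((D.a ^ p : ↥P) : Ω) ^ p ^ (D.s - 2) := by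
      rw [h2, pow_mul]
      rfl
    rw [e]
    exact E.pow_mem hap _
  have hn : D.n = t := by
    show D.m - D.s = t
    omega
  have ht0 : 1 ≤ t := by
    by_contra h0
    have h1 : D.n = 0 := by omega
    apply hab
    rw [eq_bot_iff]
    refine hPP.trans ?_
    have h2 := D.card_commutator hp2
    rw [h1, pow_zero] at h2
    have h3 : commutator ↥P = ⊥ := Subgroup.eq_bot_of_card_eq _ h2
    rw [h3, Subgroup.map_bot]
  have he1 : t ≤ D.e := hn ▸ D.n_le_e hp2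
  have he2 : D.e ≤ t + 1 := by
    have h1 : D.b ^ p ^ (t + 1) ∈ Subgroup.zpowers D.a := by
      rw [ht1]
      exact Subgroup.one_mem _
    rw [D.hbe] at h1
    exact (Nat.pow_dvd_pow_iff_le_right hp.one_lt).1 h1
  rcases (by omega : D.e = t + 1 ∨ D.e = t) with he | he
  · refine hgE (H.caseH D hp2 hs (by omega) (by rw [hm]; exact ht1 _) (by omega) ?_)
    intro u hu
    apply hTmem
    have h1 := (MCP.mem_Gt_iff_of_homo D hp2 (by omega) (by rw [hm]; exact ht1 _) (c := 1) (by omega) u).1 hu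
    rw [hm, Nat.add_sub_cancel] at h1
    exact h1
  · obtain ⟨D', hD'a, hD'r, hD'm, hD'e, hD'b⟩ := MCP.exists_shift D hp2 hm (by rw [hn]; omega) he
    have hs' : D'.s = 1 := by
      rw [← hs]
      show padicValNat p (D'.r - 1) = padicValNat p (D.r - 1)
      rw [hD'r]
    have hm' : D'.m = t + 1 := by rw [hD'm, hm]
    have he' : D'.e = t := by rw [hD'e, he]
    have hL : ∀ u : ↥P, (u : Ω) ∈ E ↔ u ^ p ^ t = 1 := by
      intro u
      refine ⟨fun hu => ?_, hTmem u⟩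
      obtain ⟨i, j, hij⟩ := D'.hgen u
      have hbE : ((D'.b : ↥P) : Ω) ∈ E := hTmem _ hD'b
      have h1 : ((D'.a ^ i : ↥P) : Ω) ∈ E := by
        have h2 : ((D'.a ^ i : ↥P) : Ω) = (u : Ω) * (((D'.b : ↥P) : Ω) ^ j)⁻¹ := by
          rw [hij]
          show (((D'.a ^ i : ↥P) : Ω)) = ((D'.a ^ i * D'.b ^ j : ↥P) : Ω) * ((((D'.b ^ j : ↥P)) : Ω))⁻¹
          rw [Subgroup.coe_mul, mul_inv_cancel_right]
        rw [h2]
        exact E.mul_mem hu (E.inv_mem (E.pow_mem hbE j))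
      rw [hij, MCP.pm_mem_L D' hp2 hm' hD'b]
      by_contra hpi
      apply ha
      rw [← hD'a]
      have h3 : ((D'.a : ↥P) : Ω) ^ (p ^ D'.m) = 1 := by
        have : D'.a ^ p ^ D'.m = 1 := MCP.a_pow_eq_one D' (dvd_refl _)
        exact congrArg Subtype.val this
      refine mc_mem_of_pow_mem (c := i) (Nat.Coprime.pow_right _ ((Nat.Prime.coprime_iff_not_dvd hp).2 hpi).symm) h3 ?_
      exact h1
    by_cases ht1' : t = 1
    · subst ht1'
      have hfacts := MCP.small_facts D' hp2 hm' (by simpa using hD'b) hs'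
      have hnorm : F.IsNormal P := by
        refine ges_main hS hF hP hfacts (fun h => absurd h hp2) ?_
        rintro - ⟨E₀, _, A₀, _, -, -, hexp, hA₀, ⟨φ⟩⟩
        apply hat
        have h1 : φ D.a ^ p = 1 := by
          apply Prod.ext
          · have h2 := Monoid.pow_exponent_eq_one (φ D.a).1
            rw [hexp] at h2
            rw [Prod.pow_fst, Prod.fst_one, h2]
          · rw [Prod.pow_snd, Prod.snd_one]
            exact hA₀ _
        apply φ.injective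
        rw [map_one, map_pow, pow_one]
        exact h1
      exact hPE (le_of_isNormal hS hnorm hC hR)
    · exact hgE (H.casePm D' hp2 hm' he' hD'b hs' (by omega) hL)

/-- Strongly closed metacyclic subgroups are normal, `p` odd. -/
theorem mc_main [Finite S] (hS : IsPGroup p S) (hF : F.IsSaturated p) (hp2 : p ≠ 2) (hP : F.StronglyClosed P)
    (hmc : IsMetacyclic ↥P) : F.IsNormal P := by
  generalize hn : Nat.card P = n
  induction n using Nat.strong_induction_on generalizing P with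
  | _ n ih =>
    refine mc_step hS hF hp2 hP hmc fun T hT hTs hTm => ih _ (by omega) hTs hTm rfl

end Cfsg.Agent.H24
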