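import Mathlib
import Cfsg.Agent.Lib.H24.MChain

/-!
Chains in an abelian section `X/Y`, through preimages of fully invariant subgroups.
-/

set_option autoImplicit false
set_option linter.style.haveILetI false

namespace Cfsg.Agent.H24

open Cfsg Cfsg.FusionSystem
open scoped commutatorElement

universe u

variable {Ω : Type u} [Group Ω] {S : Subgroup Ω} {F : FusionSystem S} {p : ℕ}

section W

variable {W : Type*} [CommGroup W] {E X Y : Subgroup Ω} {g : Ω}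

/-- The preimage in `Ω` of a subgroup of the section. -/
def preW (f : ↥X →* W) (V : Subgroup W) : Subgroup Ω := (V.comap f).map X.subtype

theorem mem_preW (f : ↥X →* W) (V : Subgroup W) (z : Ω) : z ∈ preW f V ↔ ∃ h : z ∈ X, f ⟨z, h⟩ ∈ V := by
  constructor
  · rintro ⟨u, hu, rfl⟩
    exact ⟨u.2, hu⟩
  · rintro ⟨h, hz⟩
    exact ⟨⟨z, h⟩, hz, rfl⟩

theorem preW_top (f : ↥X →* W) : preW f ⊤ = X := by
  ext z
  rw [mem_preW]
  exact ⟨fun ⟨h, _⟩ => h, fun h => ⟨h, Subgroup.mem_top _⟩⟩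

theorem preW_bot (f : ↥X →* W) (hker : ∀ x : ↥X, f x = 1 ↔ (x : Ω) ∈ Y) (hYX : Y ≤ X) : preW f ⊥ = Y := by
  ext z
  rw [mem_preW]
  constructor
  · rintro ⟨h, hz⟩
    exact (hker ⟨z, h⟩).1 hz
  · intro h
    exact ⟨hYX h, (hker ⟨z, hYX h⟩).2 h⟩

/-- The endomorphisms induced on the section by automorphisms in `Aut_F(E)`. -/
theorem exists_end (f : ↥X →* W) (hker : ∀ x : ↥X, f x = 1 ↔ (x : Ω) ∈ Y) (hsurj : Function.Surjective f)
    (φ : ↥X →* ↥X) (hφ : ∀ x : ↥X, (x : Ω) ∈ Y → ((φ x : ↥X) : Ω) ∈ Y) :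
    ∃ ψ : W →* W, ∀ u : ↥X, ψ (f u) = f (φ u) := by
  have hle : f.ker ≤ (f.comp φ).ker := by
    intro u hu
    rw [MonoidHom.mem_ker] at hu ⊢
    have h1 := hφ u ((hker u).1 hu)
    exact (hker _).2 h1
  refine ⟨(f.liftOfSurjective hsurj) ⟨f.comp φ, hle⟩, fun u => ?_⟩
  exact MonoidHom.liftOfRightInverse_comp_apply f _ _ ⟨f.comp φ, hle⟩ u

theorem aInv_preW (f : ↥X →* W) (hker : ∀ x : ↥X, f x = 1 ↔ (x : Ω) ∈ Y) (hsurj : Function.Surjective f)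
    (hXE : X ≤ E) (hXi : AInv F E X) (hYi : AInv F E Y) (hYX : Y ≤ X) {V : Subgroup W}
    (hV : ∀ ψ : W →* W, ∀ v ∈ V, ψ v ∈ V) : AInv F E (preW f V) := by
  intro β hβ z hz hzE
  rw [mem_preW] at hz ⊢
  obtain ⟨h, hz⟩ := hz
  -- the automorphism restricted to `X`
  let φ : ↥X →* ↥X := MonoidHom.mk' (fun u => ⟨(β ⟨u, hXE u.2⟩ : E), hXi β hβ u u.2 (hXE u.2)⟩) (fun a b => by
    apply Subtype.ext
    have e : (⟨((a * b : ↥X) : Ω), hXE (a * b).2⟩ : E) = ⟨a, hXE a.2⟩ * ⟨b, hXE b.2⟩ := rfl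
    show ((β ⟨((a * b : ↥X) : Ω), hXE (a * b).2⟩ : E) : Ω) = _
    rw [e, map_mul]
    rfl)
  obtain ⟨ψ, hψ⟩ := exists_end f hker hsurj φ (fun x hx => hYi β hβ x hx (hXE x.2))
  refine ⟨hXi β hβ z h hzE, ?_⟩
  have h1 := hV ψ _ hz
  rw [hψ] at h1
  exact h1

/-- One step of the chain. -/
theorem goodC_preW_step (f : ↥X →* W) (hker : ∀ x : ↥X, f x = 1 ↔ (x : Ω) ∈ Y) (hsurj : Function.Surjective f)
    (hXE : X ≤ E) (hXi : AInv F E X) (hYi : AInv F E Y) (hYX : Y ≤ X)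
    (hgX : ∀ x ∈ X, g * x * g⁻¹ ∈ X)
    (τ : W →* W) (hτ : ∀ u : ↥X, τ (f u) = f ⟨g * u * g⁻¹, hgX u u.2⟩)
    {V V' : Subgroup W} (hV' : GoodC F E g (preW f V')) (hle : V' ≤ V)
    (hV : ∀ ψ : W →* W, ∀ v ∈ V, ψ v ∈ V) (hst : ∀ v ∈ V, v⁻¹ * τ v ∈ V') : GoodC F E g (preW f V) := by
  refine GoodC.step hV' ?_ (aInv_preW f hker hsurj hXE hXi hYi hYX hV) ?_
  · intro z hz
    rw [mem_preW] at hz ⊢
    obtain ⟨h, hz⟩ := hz
    exact ⟨h, hle hz⟩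
  · intro z hz
    rw [mem_preW] at hz ⊢
    obtain ⟨h, hz⟩ := hz
    have hz2 : z⁻¹ * (g * z * g⁻¹) ∈ X := X.mul_mem (X.inv_mem h) (hgX z h)
    refine ⟨hz2, ?_⟩
    have e : (⟨z⁻¹ * (g * z * g⁻¹), hz2⟩ : ↥X) = (⟨z, h⟩ : ↥X)⁻¹ * ⟨g * z * g⁻¹, hgX z h⟩ := rfl
    rw [e, map_mul, map_inv, ← hτ ⟨z, h⟩]
    exact hst _ hz

/-- Existence of the map induced by conjugation by `g`. -/
theorem exists_tau (f : ↥X →* W) (hker : ∀ x : ↥X, f x = 1 ↔ (x : Ω) ∈ Y) (hsurj : Function.Surjective f)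
    (hgX : ∀ x ∈ X, g * x * g⁻¹ ∈ X) (hgY : ∀ y ∈ Y, g * y * g⁻¹ ∈ Y) :
    ∃ τ : W →* W, ∀ u : ↥X, τ (f u) = f ⟨g * u * g⁻¹, hgX u u.2⟩ := by
  let σ : ↥X →* ↥X := MonoidHom.mk' (fun u => ⟨g * u * g⁻¹, hgX u u.2⟩) (fun a b => by
    apply Subtype.ext
    show g * ((a : Ω) * b) * g⁻¹ = g * a * g⁻¹ * (g * b * g⁻¹)
    group)
  obtain ⟨τ, hτ⟩ := exists_end f hker hsurj σ (fun x hx => hgY x hx)
  exact ⟨τ, hτ⟩

/-- The mixed chain, from elements `z`, `w` of the section. -/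
theorem goodC_W_mixed [hp : Fact p.Prime] (f : ↥X →* W) (hker : ∀ x : ↥X, f x = 1 ↔ (x : Ω) ∈ Y)
    (hsurj : Function.Surjective f) (hY : GoodC F E g Y)
    (hXE : X ≤ E) (hXi : AInv F E X) (hYi : AInv F E Y) (hYX : Y ≤ X)
    (hgX : ∀ x ∈ X, g * x * g⁻¹ ∈ X)
    (τ : W →* W) (hτ : ∀ u : ↥X, τ (f u) = f ⟨g * u * g⁻¹, hgX u u.2⟩)
    (z w : W) (α : ℕ) (hα : 1 ≤ α) (hgen : ∀ v : W, ∃ c d : ℕ, v = z ^ c * w ^ d)
    (hz1 : z ^ p ^ α = 1) (hz2 : z ^ p ^ (α - 1) ≠ 1) (hw : w ^ p ^ (α - 1) = 1)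
    (c₀ ρ' : ℕ) (hτz : τ z = z * w ^ c₀) (hτw : τ w = w * (w ^ ρ') ^ p) : GoodC F E g X := by
  have hpp : p.Prime := hp.out
  have hpow : ∀ i, i < α → p ^ i * p ^ (α - 1 - i) = p ^ (α - 1) := by
    intro i hi
    rw [← pow_add]
    congr 1
    omega
  have hpa : p * p ^ (α - 1) = p ^ α := by
    rw [← pow_succ']
    congr 1
    omega
  let M : ℕ → Subgroup W := fun i => (powMonoidHom (p ^ i) : W →* W).range
  let R : ℕ → Subgroup W := fun i => M i ⊓ (powMonoidHom (p ^ (α - 1 - i)) : W →* W).ker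
  have hMmem : ∀ i v, v ∈ M i ↔ ∃ u : W, u ^ p ^ i = v := fun i v => Iff.rfl
  have hRmem : ∀ i v, v ∈ R i ↔ (∃ u : W, u ^ p ^ i = v) ∧ v ^ p ^ (α - 1 - i) = 1 := fun i v => Iff.rfl
  have hMfi : ∀ i, ∀ ψ : W →* W, ∀ v ∈ M i, ψ v ∈ M i := by
    intro i ψ v hv
    obtain ⟨u, rfl⟩ := (hMmem i v).1 hv
    exact (hMmem i _).2 ⟨ψ u, by rw [map_pow]⟩
  have hRfi : ∀ i, ∀ ψ : W →* W, ∀ v ∈ R i, ψ v ∈ R i := by
    intro i ψ v hv
    obtain ⟨⟨u, rfl⟩, hv2⟩ := (hRmem i v).1 hv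
    refine (hRmem i _).2 ⟨⟨ψ u, by rw [map_pow]⟩, ?_⟩
    rw [← map_pow, hv2, map_one]
  -- the action on elements
  have hτu : ∀ c d : ℕ, (z ^ c * w ^ d)⁻¹ * τ (z ^ c * w ^ d) = w ^ (c₀ * c + ρ' * p * d) := by
    intro c d
    have h1 : ((w ^ ρ') ^ p) ^ d = w ^ (ρ' * p * d) := by rw [← pow_mul, ← pow_mul, mul_assoc]
    have h2 : (w ^ c₀) ^ c = w ^ (c₀ * c) := by rw [← pow_mul]
    have e1 : τ (z ^ c * w ^ d) = z ^ c * w ^ d * w ^ (c₀ * c + ρ' * p * d) := by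
      rw [map_mul, map_pow, map_pow, hτz, hτw, mul_pow, mul_pow, h1, h2, pow_add, mul_assoc, mul_assoc,
        mul_left_comm (w ^ (c₀ * c)), mul_assoc]
    rw [e1, inv_mul_cancel_left]
  have hexp : ∀ v : W, v ^ p ^ α = 1 := by
    intro v
    obtain ⟨c, d, rfl⟩ := hgen v
    rw [mul_pow, ← pow_mul, mul_comm c, pow_mul, hz1, one_pow, one_mul, ← pow_mul, ← hpa, mul_comm d,
      mul_assoc, mul_comm p, pow_mul, pow_mul, hw, one_pow, one_pow]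
  have hzp : ∀ c : ℕ, (z ^ p ^ (α - 1)) ^ c = 1 → p ∣ c := by
    intro c hc
    have h1 : orderOf (z ^ p ^ (α - 1)) = p := by
      apply orderOf_eq_prime _ hz2
      rw [← pow_mul, ← pow_succ, show α - 1 + 1 = α by omega]
      exact hz1
    rw [← h1]
    exact orderOf_dvd_of_pow_eq_one hc
  have hgood : ∀ d i, i + d = α → GoodC F E g (preW f (M i)) := by
    intro d
    induction d with
    | zero =>
      intro i hi
      have hi' : i = α := by omega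
      subst hi'
      have h1 : M i = ⊥ := by
        rw [eq_bot_iff]
        intro v hv
        obtain ⟨u, rfl⟩ := (hMmem i v).1 hv
        rw [hexp]
        exact Subgroup.one_mem _
      rw [h1, preW_bot f hker hYX]
      exact hY
    | succ d ih =>
      intro i hi
      have hiα : i < α := by omega
      have hR : GoodC F E g (preW f (R i)) := by
        refine goodC_preW_step f hker hsurj hXE hXi hYi hYX hgX τ hτ (ih (i + 1) (by omega)) ?_ (hRfi i) ?_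
        · intro v hv
          obtain ⟨u, rfl⟩ := (hMmem (i + 1) v).1 hv
          refine (hRmem i _).2 ⟨⟨u ^ p, ?_⟩, ?_⟩
          · rw [← pow_mul, ← pow_succ']
          · rw [← pow_mul, ← pow_add]
            rw [show i + 1 + (α - 1 - i) = α by omega]
            exact hexp u
        · intro v hv
          obtain ⟨⟨u, rfl⟩, hv2⟩ := (hRmem i v).1 hv
          obtain ⟨c, d', rfl⟩ := hgen u
          rw [← pow_mul, hpow i hiα, mul_pow, ← pow_mul, ← pow_mul, mul_comm d', pow_mul w, hw, one_pow, mul_one,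
            mul_comm c, pow_mul] at hv2
          obtain ⟨c', rfl⟩ := hzp c hv2
          refine (hMmem (i + 1) _).2 ⟨w ^ (c₀ * c' + ρ' * d'), ?_⟩
          rw [map_pow, ← inv_pow, ← mul_pow, hτu, ← pow_mul, ← pow_mul, pow_succ]
          congr 1
          ring
      refine goodC_preW_step f hker hsurj hXE hXi hYi hYX hgX τ hτ hR inf_le_left (hMfi i) ?_
      intro v hv
      obtain ⟨u, rfl⟩ := (hMmem i v).1 hv
      obtain ⟨c, d', rfl⟩ := hgen u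
      refine (hRmem i _).2 ⟨⟨w ^ (c₀ * c + ρ' * p * d'), ?_⟩, ?_⟩
      · rw [map_pow, ← inv_pow, ← mul_pow, hτu]
      · rw [map_pow, ← inv_pow, ← mul_pow, hτu, ← pow_mul, ← pow_mul, mul_assoc, hpow i hiα, mul_comm, pow_mul, hw, one_pow]
  have := hgood α 0 (by omega)
  have h0 : M 0 = ⊤ := by
    rw [eq_top_iff]
    intro v _
    exact (hMmem 0 v).2 ⟨v, by simp⟩
  rw [h0, preW_top] at this
  exact this

end W

/-- An abelian section as a commutative group. -/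
theorem exists_section {G : Type u} [Group G] {X Y : Subgroup G} (hab : ∀ x ∈ X, ∀ y ∈ X, x * y * x⁻¹ * y⁻¹ ∈ Y) :
    ∃ (W : Type u) (_ : CommGroup W) (f : ↥X →* W), Function.Surjective f ∧ ∀ x : ↥X, f x = 1 ↔ (x : G) ∈ Y := by
  haveI hn : (Y.subgroupOf X).Normal := by
    refine ⟨fun n hn u => ?_⟩
    rw [Subgroup.mem_subgroupOf] at hn ⊢
    have h1 := hab u u.2 n n.2
    have e : ((u * n * u⁻¹ : ↥X) : G) = (u : G) * n * (u : G)⁻¹ * (n : G)⁻¹ * n := by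
      show (u : G) * n * (u : G)⁻¹ = _
      group
    rw [e]
    exact Y.mul_mem h1 hn
  letI : CommGroup (↥X ⧸ Y.subgroupOf X) :=
    { (inferInstance : Group (↥X ⧸ Y.subgroupOf X)) with
      mul_comm := by
        intro a b
        obtain ⟨a, rfl⟩ := QuotientGroup.mk_surjective a
        obtain ⟨b, rfl⟩ := QuotientGroup.mk_surjective b
        rw [← QuotientGroup.mk_mul, ← QuotientGroup.mk_mul, QuotientGroup.eq, Subgroup.mem_subgroupOf]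
        have h1 := hab (b : G)⁻¹ (X.inv_mem b.2) (a : G)⁻¹ (X.inv_mem a.2)
        have e : (((a * b)⁻¹ * (b * a) : ↥X) : G) = (b : G)⁻¹ * (a : G)⁻¹ * ((b : G)⁻¹)⁻¹ * ((a : G)⁻¹)⁻¹ := by
          show (((a : G) * b)⁻¹ * ((b : G) * a) : G) = _
          group
        rw [e]
        exact h1 }
  refine ⟨↥X ⧸ Y.subgroupOf X, inferInstance, QuotientGroup.mk' (Y.subgroupOf X), QuotientGroup.mk'_surjective _, ?_⟩
  intro x
  rw [QuotientGroup.mk'_apply, QuotientGroup.eq_one_iff, Subgroup.mem_subgroupOf]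

/-- The mixed chain, element version. -/
theorem goodC_mixed [Fact p.Prime] {E X Y : Subgroup Ω} {g : Ω} (hY : GoodC F E g Y) (hYX : Y ≤ X) (hXE : X ≤ E)
    (hXi : AInv F E X) (hYi : AInv F E Y) (hab : ∀ x ∈ X, ∀ y ∈ X, x * y * x⁻¹ * y⁻¹ ∈ Y)
    (hgX : ∀ x ∈ X, g * x * g⁻¹ ∈ X) (hgY : ∀ y ∈ Y, g * y * g⁻¹ ∈ Y)
    {x w₀ : Ω} (hx : x ∈ X) (hw₀ : w₀ ∈ X) {α : ℕ} (hα : 1 ≤ α)
    (hgen : ∀ y ∈ X, ∃ n k : ℕ, y = w₀ ^ n * x ^ k)
    (hx1 : x ^ p ^ α ∈ Y) (hx2 : x ^ p ^ (α - 1) ∉ Y) (hw : w₀ ^ p ^ (α - 1) ∈ Y)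
    {c₀ ρ' : ℕ} (hc : x⁻¹ * (g * x * g⁻¹) = w₀ ^ c₀) (hρ : g * w₀ * g⁻¹ = w₀ * (w₀ ^ ρ') ^ p) : GoodC F E g X := by
  obtain ⟨W, _, f, hs, hk⟩ := exists_section (X := X) (Y := Y) hab
  obtain ⟨τ, hτ⟩ := exists_tau f hk hs hgX hgY
  have hfpow : ∀ (u : ↥X) (n : ℕ), f u ^ n = 1 ↔ (u : Ω) ^ n ∈ Y := by
    intro u n
    rw [← map_pow, hk]
    rfl
  refine goodC_W_mixed (p := p) f hk hs hY hXE hXi hYi hYX hgX τ hτ (f ⟨x, hx⟩) (f ⟨w₀, hw₀⟩) α hα ?_ ?_ ?_ ?_ c₀ ρ' ?_ ?_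
  · intro v
    obtain ⟨u, rfl⟩ := hs v
    obtain ⟨n, k, h⟩ := hgen u u.2
    refine ⟨k, n, ?_⟩
    have e : u = (⟨w₀, hw₀⟩ : ↥X) ^ n * (⟨x, hx⟩ : ↥X) ^ k := Subtype.ext h
    rw [e, map_mul, map_pow, map_pow, mul_comm]
  · exact (hfpow ⟨x, hx⟩ _).2 hx1
  · intro h
    exact hx2 ((hfpow ⟨x, hx⟩ _).1 h)
  · exact (hfpow ⟨w₀, hw₀⟩ _).2 hw
  · rw [hτ]
    have e : (⟨g * x * g⁻¹, hgX x hx⟩ : ↥X) = ⟨x, hx⟩ * (⟨w₀, hw₀⟩ : ↥X) ^ c₀ := by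
      apply Subtype.ext
      show g * x * g⁻¹ = x * w₀ ^ c₀
      rw [← hc]
      group
    rw [e, map_mul, map_pow]
  · rw [hτ]
    have e : (⟨g * w₀ * g⁻¹, hgX w₀ hw₀⟩ : ↥X) = ⟨w₀, hw₀⟩ * ((⟨w₀, hw₀⟩ : ↥X) ^ ρ') ^ p := by
      apply Subtype.ext
      exact hρ
    rw [e, map_mul, map_pow, map_pow]

end Cfsg.Agent.H24
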