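import Mathlib
import Cfsg.Agent.Lib.H24.MChain2
import Cfsg.Agent.Lib.H24.MCM

/-!
The analysis of a metacyclic `2`-group relative to a subgroup normalized by `g` with `g² ∈ L`.
-/

set_option autoImplicit false
set_option linter.style.haveILetI false
set_option linter.unusedSectionVars false
set_option maxHeartbeats 1000000

namespace Cfsg.Agent.H24

open Cfsg Cfsg.Agent.H18
open scoped commutatorElement

namespace MC2

universe u

variable {G : Type u} [Group G] [Finite G] (D : MC 2 G)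

theorem r_odd : D.r % 2 = 1 := by
  have h1 := D.hr1
  have h2 := D.hpr
  omega

theorem pow_odd_of_odd {r : ℕ} (hr : r % 2 = 1) (j : ℕ) : r ^ j % 2 = 1 := by
  rw [Nat.pow_mod, hr]
  simp

theorem conj_a (i j : ℕ) : (D.a ^ i * D.b ^ j) * D.a * (D.a ^ i * D.b ^ j)⁻¹ = D.a ^ (D.r ^ j) := by
  have h1 := D.b_mul_a j 1
  rw [pow_one, one_mul] at h1
  calc (D.a ^ i * D.b ^ j) * D.a * (D.a ^ i * D.b ^ j)⁻¹
      = D.a ^ i * (D.b ^ j * D.a) * (D.b ^ j)⁻¹ * (D.a ^ i)⁻¹ := by group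
    _ = D.a ^ i * D.a ^ (D.r ^ j) * (D.a ^ i)⁻¹ := by rw [h1]; group
    _ = D.a ^ (D.r ^ j) := by
      have : Commute (D.a ^ i) (D.a ^ D.r ^ j) := (Commute.refl _).pow_pow _ _
      rw [this.eq]
      group

theorem mem_A_pow {y : G} (hy : y ∈ Subgroup.zpowers D.a) : ∃ t : ℕ, y = D.a ^ t := by
  have h1 : IsOfFinOrder D.a := isOfFinOrder_of_finite _
  rw [← h1.mem_powers_iff_mem_zpowers] at hy
  obtain ⟨t, ht⟩ := hy
  exact ⟨t, ht.symm⟩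

/-- Conjugation acts on elements of `⟨a⟩` as on `a`. -/
theorem conj_of_mem {y w : G} {q : ℕ} (hq : y * D.a * y⁻¹ = D.a ^ q) (hw : w ∈ Subgroup.zpowers D.a) :
    y * w * y⁻¹ = w ^ q := by
  obtain ⟨t, rfl⟩ := mem_A_pow D hw
  rw [← conj_pow, hq, ← pow_mul, ← pow_mul, mul_comm]

/-- The quotient by `⟨a⟩` is abelian. -/
theorem comm_mem_A (y z : G) : y⁻¹ * (z * y * z⁻¹) ∈ Subgroup.zpowers D.a := by
  haveI := D.hnorm
  rw [← QuotientGroup.eq_one_iff]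
  obtain ⟨i, j, rfl⟩ := D.hgen y
  obtain ⟨k, l, rfl⟩ := D.hgen z
  have ha : ((D.a : G) : G ⧸ Subgroup.zpowers D.a) = 1 :=
    (QuotientGroup.eq_one_iff _).2 (Subgroup.mem_zpowers _)
  simp only [QuotientGroup.mk_mul, QuotientGroup.mk_inv, QuotientGroup.mk_pow, ha, one_pow, one_mul]
  have h1 : Commute (((D.b : G) : G ⧸ Subgroup.zpowers D.a) ^ l) (((D.b : G) : G ⧸ Subgroup.zpowers D.a) ^ j) :=
    (Commute.refl _).pow_pow _ _
  rw [h1.eq]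
  group

/-- Equal elements in normal form have congruent `b`-exponents. -/
theorem modEq_of_eq {u₁ u₂ : G} (hu₁ : u₁ ∈ Subgroup.zpowers D.a) (hu₂ : u₂ ∈ Subgroup.zpowers D.a) {s t : ℕ}
    (h : u₁ * D.b ^ s = u₂ * D.b ^ t) : s ≡ t [MOD 2 ^ D.e] := by
  rcases le_total s t with hst | hst
  · have h1 : D.b ^ (t - s) = u₂⁻¹ * u₁ := by
      have h2 : D.b ^ t = D.b ^ (t - s) * D.b ^ s := by
        rw [← pow_add]
        congr 1
        omega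
      rw [h2, ← mul_assoc] at h
      have h3 := mul_right_cancel h
      rw [h3]
      group
    have h2 : D.b ^ (t - s) ∈ Subgroup.zpowers D.a := by
      rw [h1]
      exact Subgroup.mul_mem _ (Subgroup.inv_mem _ hu₂) hu₁
    rw [D.hbe] at h2
    exact (Nat.modEq_iff_dvd' hst).2 h2
  · have h1 : D.b ^ (s - t) = u₁⁻¹ * u₂ := by
      have h2 : D.b ^ s = D.b ^ (s - t) * D.b ^ t := by
        rw [← pow_add]
        congr 1
        omega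
      rw [h2, ← mul_assoc] at h
      have h3 := mul_right_cancel h
      rw [← h3]
      group
    have h2 : D.b ^ (s - t) ∈ Subgroup.zpowers D.a := by
      rw [h1]
      exact Subgroup.mul_mem _ (Subgroup.inv_mem _ hu₁) hu₂
    rw [D.hbe] at h2
    exact ((Nat.modEq_iff_dvd' hst).2 h2).symm

/-- Generators of a subgroup modulo `⟨a⟩`. -/
theorem exists_gen (L : Subgroup G) {w₀ : G} (hw₀ : L ⊓ Subgroup.zpowers D.a = Subgroup.zpowers w₀) :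
    ∃ x ∈ L, ∀ y ∈ L, ∃ n k : ℕ, y = w₀ ^ n * x ^ k := by
  classical
  haveI := D.hnorm
  let π : G →* G ⧸ Subgroup.zpowers D.a := QuotientGroup.mk' _
  haveI : IsCyclic (G ⧸ Subgroup.zpowers D.a) := by
    refine ⟨⟨((D.b : G) : G ⧸ Subgroup.zpowers D.a), fun u => ?_⟩⟩
    obtain ⟨y, rfl⟩ := QuotientGroup.mk_surjective u
    obtain ⟨i, j, rfl⟩ := D.hgen y
    have ha : ((D.a : G) : G ⧸ Subgroup.zpowers D.a) = 1 :=
      (QuotientGroup.eq_one_iff _).2 (Subgroup.mem_zpowers _)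
    refine ⟨(j : ℤ), ?_⟩
    simp only [QuotientGroup.mk_mul, QuotientGroup.mk_pow, ha, one_pow, one_mul, zpow_natCast]
  obtain ⟨⟨u, x, hx, rfl⟩, hgen⟩ := (inferInstance : IsCyclic (L.map π)).exists_generator
  refine ⟨x, hx, fun y hy => ?_⟩
  have h1 := hgen ⟨π y, y, hy, rfl⟩
  have hfin : IsOfFinOrder (⟨π x, x, hx, rfl⟩ : L.map π) := isOfFinOrder_of_finite _
  rw [← hfin.mem_powers_iff_mem_zpowers] at h1
  obtain ⟨k, hk⟩ := h1
  have h2 : π (x ^ k) = π y := by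
    have := congrArg Subtype.val hk
    simpa using this
  have h3 : y * (x ^ k)⁻¹ ∈ L ⊓ Subgroup.zpowers D.a := by
    refine ⟨L.mul_mem hy (L.inv_mem (L.pow_mem hx k)), ?_⟩
    show y * (x ^ k)⁻¹ ∈ Subgroup.zpowers D.a
    rw [← QuotientGroup.eq_one_iff]
    show π (y * (x ^ k)⁻¹) = 1
    rw [map_mul, map_inv, h2, mul_inv_cancel]
  rw [hw₀] at h3
  have hfin2 : IsOfFinOrder w₀ := isOfFinOrder_of_finite _
  rw [← hfin2.mem_powers_iff_mem_zpowers] at h3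
  obtain ⟨n, hn⟩ := h3
  refine ⟨n, k, ?_⟩
  have hn' : w₀ ^ n = y * (x ^ k)⁻¹ := hn
  rw [hn']
  group

/-- A `2`-element in the cyclic group generated by its square is trivial. -/
theorem eq_one_of_mem_zpowers_sq {y : G} (hG : IsPGroup 2 G) (h : y ∈ Subgroup.zpowers (y ^ 2)) : y = 1 := by
  obtain ⟨N, hN⟩ := IsPGroup.iff_orderOf.1 hG y
  have h1 : Subgroup.zpowers (y ^ 2) = Subgroup.zpowers y :=
    le_antisymm (Subgroup.zpowers_le.2 (Subgroup.pow_mem _ (Subgroup.mem_zpowers _) _)) (Subgroup.zpowers_le.2 h)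
  have h2 : orderOf (y ^ 2) = orderOf y := by
    rw [← Nat.card_zpowers, h1, Nat.card_zpowers]
  rcases Nat.eq_zero_or_pos N with rfl | hNpos
  · rw [pow_zero] at hN
    exact orderOf_eq_one_iff.1 hN
  · exfalso
    have h3 := mc_orderOf_pow_prime_pow (p := 2) hN 1
    rw [pow_one] at h3
    rw [h3, hN] at h2
    have := Nat.pow_right_injective (le_refl 2) h2
    omega

/-- The coprime power lemma for `2`-elements. -/
theorem mem_of_odd_pow {y : G} (hG : IsPGroup 2 G) {L : Subgroup G} {n : ℕ} (hn : n % 2 = 1) (h : y ^ n ∈ L) : y ∈ L := by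
  obtain ⟨N, hN⟩ := IsPGroup.iff_orderOf.1 hG y
  have hy : y ^ 2 ^ N = 1 := by
    rw [← hN]
    exact pow_orderOf_eq_one y
  refine mc_mem_of_pow_mem (c := n) (w := 2 ^ N) ?_ hy h
  apply Nat.Coprime.pow_right
  exact Nat.Coprime.symm ((Nat.Prime.coprime_iff_not_dvd Nat.prime_two).2 (by omega))

/-- The commutators of a subgroup generated modulo a cyclic part. -/
theorem comm_le {L : Subgroup G} {x w₀ : G} {q : ℕ} (hq1 : 1 ≤ q) (hxw : x * w₀ * x⁻¹ = w₀ ^ q)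
    (hgen : ∀ y ∈ L, ∃ n k : ℕ, y = w₀ ^ n * x ^ k) : ⁅L, L⁆ ≤ Subgroup.zpowers (w₀ ^ (q - 1)) := by
  have hk : ∀ k : ℕ, x ^ k * w₀ * (x ^ k)⁻¹ = w₀ ^ (q ^ k) := by
    intro k
    induction k with
    | zero => simp
    | succ k ih =>
      calc x ^ (k + 1) * w₀ * (x ^ (k + 1))⁻¹ = x ^ k * (x * w₀ * x⁻¹) * (x ^ k)⁻¹ := by
            rw [pow_succ]
            group
        _ = (x ^ k * w₀ * (x ^ k)⁻¹) ^ q := by rw [hxw, conj_pow]
        _ = w₀ ^ (q ^ (k + 1)) := by rw [ih, ← pow_mul, pow_succ]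
  have hkn : ∀ k n : ℕ, x ^ k * w₀ ^ n = w₀ ^ (n * q ^ k) * x ^ k := by
    intro k n
    have h1 : x ^ k * w₀ ^ n * (x ^ k)⁻¹ = (w₀ ^ q ^ k) ^ n := by
      rw [← hk, conj_pow]
    rw [pow_mul' w₀ n, ← h1]
    group
  have hsub : ∀ k : ℕ, ∃ v, q ^ k = 1 + (q - 1) * v := by
    intro k
    obtain ⟨d, rfl⟩ : ∃ d, q = d + 1 := ⟨q - 1, by omega⟩
    have := mc_sum_mul d k
    refine ⟨∑ u ∈ Finset.range k, (d + 1) ^ u, ?_⟩
    rw [Nat.add_sub_cancel, ← this]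
    ring
  rw [Subgroup.commutator_le]
  intro y₁ hy₁ y₂ hy₂
  obtain ⟨n₁, k₁, rfl⟩ := hgen y₁ hy₁
  obtain ⟨n₂, k₂, rfl⟩ := hgen y₂ hy₂
  obtain ⟨v₁, hv₁⟩ := hsub k₁
  obtain ⟨v₂, hv₂⟩ := hsub k₂
  have e1 : w₀ ^ n₁ * x ^ k₁ * (w₀ ^ n₂ * x ^ k₂) = w₀ ^ n₁ * w₀ ^ n₂ * w₀ ^ (n₂ * ((q - 1) * v₁)) * x ^ (k₁ + k₂) := by
    calc w₀ ^ n₁ * x ^ k₁ * (w₀ ^ n₂ * x ^ k₂) = w₀ ^ n₁ * (x ^ k₁ * w₀ ^ n₂) * x ^ k₂ := by group
      _ = _ := by
        rw [hkn, hv₁, Nat.mul_add, mul_one, pow_add w₀ n₂, pow_add x]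
        group
  have e2 : w₀ ^ n₂ * x ^ k₂ * (w₀ ^ n₁ * x ^ k₁) = w₀ ^ n₁ * w₀ ^ n₂ * w₀ ^ (n₁ * ((q - 1) * v₂)) * x ^ (k₁ + k₂) := by
    calc w₀ ^ n₂ * x ^ k₂ * (w₀ ^ n₁ * x ^ k₁) = w₀ ^ n₂ * (x ^ k₂ * w₀ ^ n₁) * x ^ k₁ := by group
      _ = _ := by
        have hc : w₀ ^ n₂ * w₀ ^ n₁ = w₀ ^ n₁ * w₀ ^ n₂ := (Commute.refl w₀).pow_pow _ _
        rw [hkn, hv₂, Nat.mul_add, mul_one, pow_add w₀ n₁, add_comm k₁, pow_add x]
        calc w₀ ^ n₂ * (w₀ ^ n₁ * w₀ ^ (n₁ * ((q - 1) * v₂)) * x ^ k₂) * x ^ k₁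
            = (w₀ ^ n₂ * w₀ ^ n₁) * w₀ ^ (n₁ * ((q - 1) * v₂)) * (x ^ k₂ * x ^ k₁) := by group
          _ = _ := by rw [hc]
  have e3 : w₀ ^ n₁ * x ^ k₁ * (w₀ ^ n₂ * x ^ k₂) * (w₀ ^ n₁ * x ^ k₁)⁻¹ * (w₀ ^ n₂ * x ^ k₂)⁻¹
      = (w₀ ^ n₁ * w₀ ^ n₂) * (w₀ ^ (n₂ * ((q - 1) * v₁)) * (w₀ ^ (n₁ * ((q - 1) * v₂)))⁻¹) * (w₀ ^ n₁ * w₀ ^ n₂)⁻¹ := by
    calc _ = (w₀ ^ n₁ * x ^ k₁ * (w₀ ^ n₂ * x ^ k₂)) * (w₀ ^ n₂ * x ^ k₂ * (w₀ ^ n₁ * x ^ k₁))⁻¹ := by group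
      _ = _ := by
        rw [e1, e2]
        group
  rw [commutatorElement_def, e3]
  have hcm : Commute (w₀ ^ n₁ * w₀ ^ n₂) (w₀ ^ (n₂ * ((q - 1) * v₁)) * (w₀ ^ (n₁ * ((q - 1) * v₂)))⁻¹) := by
    have h1 : w₀ ^ n₁ * w₀ ^ n₂ = w₀ ^ (n₁ + n₂) := by rw [pow_add]
    rw [h1]
    exact ((Commute.refl w₀).pow_pow _ _).mul_right ((Commute.refl w₀).pow_pow _ _).inv_right
  rw [hcm.eq, mul_inv_cancel_right]
  refine Subgroup.mul_mem _ ?_ (Subgroup.inv_mem _ ?_)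
  · rw [show n₂ * ((q - 1) * v₁) = (q - 1) * (n₂ * v₁) by ring, pow_mul]
    exact Subgroup.pow_mem _ (Subgroup.mem_zpowers _) _
  · rw [show n₁ * ((q - 1) * v₂) = (q - 1) * (n₁ * v₂) by ring, pow_mul]
    exact Subgroup.pow_mem _ (Subgroup.mem_zpowers _) _

theorem pow_mod_four (r : ℕ) (hr : r % 2 = 1) (j : ℕ) :
    (r ^ j % 4 = 1 ∧ (r % 4 = 1 ∨ j % 2 = 0)) ∨ (r ^ j % 4 = 3 ∧ r % 4 = 3 ∧ j % 2 = 1) := by
  have h4 : r % 4 = 1 ∨ r % 4 = 3 := by omega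
  rcases h4 with h4 | h4
  · left
    refine ⟨?_, Or.inl h4⟩
    rw [Nat.pow_mod, h4]
    simp
  · have h9 : ∀ t : ℕ, 3 ^ (2 * t) % 4 = 1 := by
      intro t
      induction t with
      | zero => rfl
      | succ t ih =>
        rw [show 2 * (t + 1) = 2 * t + 2 by ring, pow_add]
        omega
    obtain ⟨t, rfl | rfl⟩ : ∃ t, j = 2 * t ∨ j = 2 * t + 1 := ⟨j / 2, by omega⟩
    · left
      refine ⟨?_, Or.inr (by omega)⟩
      rw [Nat.pow_mod, h4]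
      exact h9 t
    · right
      refine ⟨?_, h4, by omega⟩
      rw [Nat.pow_mod, h4, pow_succ]
      have := h9 t
      omega

/-- The data for the analysis. -/
structure KC (D : MC 2 G) (L : Subgroup G) (g x w₀ : G) (i j k l c : ℕ) : Prop where
  hgL : ∀ y ∈ L, g * y * g⁻¹ ∈ L
  hg2 : g ^ 2 ∈ L
  hw₀ : L ⊓ Subgroup.zpowers D.a = Subgroup.zpowers w₀
  hxL : x ∈ L
  hgen : ∀ y ∈ L, ∃ n k : ℕ, y = w₀ ^ n * x ^ k
  hx : x = D.a ^ i * D.b ^ j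
  hg : g = D.a ^ k * D.b ^ l
  hc : x⁻¹ * (g * x * g⁻¹) = w₀ ^ c
  hodd : ¬ ∃ h : ℕ, x⁻¹ * (g * x * g⁻¹) = (w₀ ^ h) ^ 2

namespace KC

variable {D : MC 2 G} {L : Subgroup G} {g x w₀ : G} {i j k l c : ℕ} (H : KC D L g x w₀ i j k l c)

include H

theorem hwmem : w₀ ∈ L ⊓ Subgroup.zpowers D.a := by
  rw [H.hw₀]
  exact Subgroup.mem_zpowers _

theorem hwL : w₀ ∈ L := H.hwmem.1

theorem hwA : w₀ ∈ Subgroup.zpowers D.a := H.hwmem.2

theorem hxa : x * D.a * x⁻¹ = D.a ^ (D.r ^ j) := by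
  rw [H.hx]
  exact conj_a D i j

theorem hga : g * D.a * g⁻¹ = D.a ^ (D.r ^ l) := by
  rw [H.hg]
  exact conj_a D k l

theorem hxw : x * w₀ * x⁻¹ = w₀ ^ (D.r ^ j) := conj_of_mem D H.hxa H.hwA

theorem hgw : g * w₀ * g⁻¹ = w₀ ^ (D.r ^ l) := conj_of_mem D H.hga H.hwA

theorem hgw_pow (n : ℕ) : g * w₀ ^ n * g⁻¹ = w₀ ^ (D.r ^ l * n) := by
  rw [← conj_pow, H.hgw, ← pow_mul]

theorem c_odd : c % 2 = 1 := by
  by_contra hne
  apply H.hodd
  refine ⟨c / 2, ?_⟩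
  rw [H.hc, ← pow_mul]
  congr 1
  omega

theorem w_ne : w₀ ≠ 1 := by
  intro h1
  apply H.hodd
  refine ⟨0, ?_⟩
  rw [H.hc, h1]
  simp

theorem hq_odd : D.r ^ j % 2 = 1 := pow_odd_of_odd (r_odd D) j

theorem hρ_odd : D.r ^ l % 2 = 1 := pow_odd_of_odd (r_odd D) l

theorem hgx : g * x * g⁻¹ = x * w₀ ^ c := by
  rw [← H.hc]
  group

/-- Elements of `⟨w₀⟩` have even commutators. -/
theorem x_not_mem_A : x ∉ Subgroup.zpowers D.a := by
  intro hxA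
  have h1 : x ∈ L ⊓ Subgroup.zpowers D.a := ⟨H.hxL, hxA⟩
  rw [H.hw₀] at h1
  have hfin : IsOfFinOrder w₀ := isOfFinOrder_of_finite _
  rw [← hfin.mem_powers_iff_mem_zpowers] at h1
  obtain ⟨n, hn⟩ := h1
  have hn' : x = w₀ ^ n := hn.symm
  apply H.hodd
  refine ⟨(D.r ^ l / 2) * n, ?_⟩
  have hodd := H.hρ_odd
  have e : D.r ^ l * n = n + 2 * ((D.r ^ l / 2) * n) := by
    conv_lhs => rw [show D.r ^ l = 1 + 2 * (D.r ^ l / 2) by omega]
    ring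
  rw [hn', H.hgw_pow, e, pow_add, inv_mul_cancel_left, ← pow_mul]
  rw [mul_comm 2]

theorem hL1 : w₀ ^ (D.r ^ j - 1) ∈ ⁅L, L⁆ := by
  have h1 : ⁅x, w₀⁆ ∈ ⁅L, L⁆ := Subgroup.commutator_mem_commutator H.hxL H.hwL
  rw [commutatorElement_def, H.hxw] at h1
  have hq := H.hq_odd
  have e : w₀ ^ D.r ^ j * w₀⁻¹ = w₀ ^ (D.r ^ j - 1) := by
    rw [mul_inv_eq_iff_eq_mul, ← pow_succ]
    congr 1
    omega
  rwa [e] at h1

theorem hL2 : ⁅L, L⁆ ≤ Subgroup.zpowers (w₀ ^ (D.r ^ j - 1)) := by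
  have hq := H.hq_odd
  exact comm_le (by omega) H.hxw H.hgen

theorem hg2c : w₀ ^ (c * (1 + D.r ^ l)) ∈ ⁅L, L⁆ := by
  have h1 : ⁅x⁻¹, g ^ 2⁆ ∈ ⁅L, L⁆ := Subgroup.commutator_mem_commutator (L.inv_mem H.hxL) H.hg2
  have e : ⁅x⁻¹, g ^ 2⁆ = w₀ ^ (c * (1 + D.r ^ l)) := by
    have e1 : g ^ 2 * x * (g ^ 2)⁻¹ = g * (g * x * g⁻¹) * g⁻¹ := by
      rw [pow_two]
      group
    have e2 : g * (w₀ ^ c) * g⁻¹ = w₀ ^ (D.r ^ l * c) := H.hgw_pow c
    have e3 : g * (x * w₀ ^ c) * g⁻¹ = (g * x * g⁻¹) * (g * w₀ ^ c * g⁻¹) := by group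
    calc ⁅x⁻¹, g ^ 2⁆ = x⁻¹ * (g ^ 2 * x * (g ^ 2)⁻¹) := by
          rw [commutatorElement_def]
          group
      _ = w₀ ^ (c * (1 + D.r ^ l)) := by
          rw [e1, H.hgx, e3, e2, H.hgx, mul_assoc, inv_mul_cancel_left, ← pow_add]
          congr 1
          ring
  rwa [e] at h1

theorem pG : IsPGroup 2 G := D.isPGroup

/-- The case excluded: `ρ ≡ 3`, `q ≡ 1` mod 4. -/
theorem not_case (hρ : D.r ^ l % 4 = 3) (hq : D.r ^ j % 4 = 1) : False := by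
  have hG : IsPGroup 2 G := pG H
  have hr := r_odd D
  have hl : l % 2 = 1 := by
    rcases pow_mod_four D.r hr l with ⟨h1, _⟩ | ⟨_, _, h3⟩
    · omega
    · exact h3
  have hr3 : D.r % 4 = 3 := by
    rcases pow_mod_four D.r hr l with ⟨h1, _⟩ | ⟨_, h2, _⟩
    · omega
    · exact h2
  have hj : j % 2 = 0 := by
    rcases pow_mod_four D.r hr j with ⟨_, h2⟩ | ⟨h1, _, _⟩
    · rcases h2 with h2 | h2
      · omega
      · exact h2
    · omega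
  obtain ⟨n₂, o, hg2⟩ := H.hgen _ H.hg2
  by_cases ho : o % 2 = 0
  · -- exponents of `b`
    have h1 : D.b ^ (j * o) * 1 = D.b ^ (j * o) := mul_one _
    have hx_pow : x ^ o = D.a ^ (i * ∑ u ∈ Finset.range o, (D.r ^ j) ^ u) * D.b ^ (j * o) := by
      rw [H.hx, D.pow_form]
    have hg_pow : g ^ 2 = D.a ^ (k * ∑ u ∈ Finset.range 2, (D.r ^ l) ^ u) * D.b ^ (l * 2) := by
      rw [H.hg, D.pow_form]
    have h2 : D.a ^ (k * ∑ u ∈ Finset.range 2, (D.r ^ l) ^ u) * D.b ^ (l * 2)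
        = (w₀ ^ n₂ * D.a ^ (i * ∑ u ∈ Finset.range o, (D.r ^ j) ^ u)) * D.b ^ (j * o) := by
      rw [← hg_pow, hg2, hx_pow]
      group
    have hmod := modEq_of_eq D (Subgroup.pow_mem _ (Subgroup.mem_zpowers _) _)
      (Subgroup.mul_mem _ (Subgroup.pow_mem _ H.hwA _) (Subgroup.pow_mem _ (Subgroup.mem_zpowers _) _)) h2
    by_cases he : 2 ≤ D.e
    · have h4 : l * 2 ≡ j * o [MOD 4] := by
        apply hmod.of_dvd
        exact pow_dvd_pow 2 he (m := 2) |>.trans (dvd_refl _) |> fun h => by simpa using h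
      obtain ⟨j', rfl⟩ : 2 ∣ j := Nat.dvd_of_mod_eq_zero hj
      obtain ⟨o', rfl⟩ : 2 ∣ o := Nat.dvd_of_mod_eq_zero ho
      have h5 : 2 * j' * (2 * o') = 4 * (j' * o') := by ring
      rw [h5] at h4
      have h6 := h4
      unfold Nat.ModEq at h6
      omega
    · have he1 : 2 ^ D.e ∣ j := by
        have h3 : D.e = 0 ∨ D.e = 1 := by omega
        rcases h3 with h3 | h3
        · rw [h3]
          simp
        · rw [h3, pow_one]
          exact Nat.dvd_of_mod_eq_zero hj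
      have h5 : D.b ^ j ∈ Subgroup.zpowers D.a := (D.hbe j).2 he1
      apply H.x_not_mem_A
      rw [H.hx]
      exact Subgroup.mul_mem _ (Subgroup.pow_mem _ (Subgroup.mem_zpowers _) _) h5
  · have ho1 : o % 2 = 1 := by omega
    -- the computation in the section
    obtain ⟨W, _, f, hs, hk⟩ := exists_section (X := L) (Y := ⁅L, L⁆)
      (fun a ha b hb => Subgroup.commutator_mem_commutator ha hb)
    have hY : ∀ y ∈ ⁅L, L⁆, g * y * g⁻¹ ∈ ⁅L, L⁆ := fun y hy => conj_commutator_mem H.hgL hy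
    obtain ⟨τ, hτ⟩ := exists_tau f hk hs H.hgL hY
    set X : ↥L := ⟨x, H.hxL⟩ with hX
    set Z : ↥L := ⟨w₀, H.hwL⟩ with hZ
    have hτZ : τ (f Z) = f Z ^ (D.r ^ l) := by
      rw [hτ, ← map_pow]
      congr 1
      exact Subtype.ext H.hgw
    have hτX : τ (f X) = f X * f Z ^ c := by
      rw [hτ, ← map_pow, ← map_mul]
      congr 1
      exact Subtype.ext H.hgx
    have hG2 : (⟨g ^ 2, H.hg2⟩ : ↥L) = Z ^ n₂ * X ^ o := Subtype.ext hg2
    have hτG : τ (f ⟨g ^ 2, H.hg2⟩) = f ⟨g ^ 2, H.hg2⟩ := by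
      rw [hτ]
      congr 1
      apply Subtype.ext
      show g * g ^ 2 * g⁻¹ = g ^ 2
      rw [pow_two]
      group
    rw [hG2, map_mul, map_pow, map_pow, map_mul, map_pow, map_pow, hτZ, hτX, mul_pow, ← pow_mul, ← pow_mul] at hτG
    have hE : f Z ^ (D.r ^ l * n₂ + c * o) = f Z ^ n₂ := by
      have h1 : f X ^ o * f Z ^ (D.r ^ l * n₂ + c * o) = f X ^ o * f Z ^ n₂ := by
        calc f X ^ o * f Z ^ (D.r ^ l * n₂ + c * o) = f Z ^ (D.r ^ l * n₂) * (f X ^ o * f Z ^ (c * o)) := by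
              rw [pow_add]
              exact mul_left_comm _ _ _
          _ = f Z ^ n₂ * f X ^ o := hτG
          _ = _ := mul_comm _ _
      exact mul_left_cancel h1
    have hc1 := H.c_odd
    have hρ1 := H.hρ_odd
    have hle : n₂ ≤ D.r ^ l * n₂ := Nat.le_mul_of_pos_left _ (by omega)
    have hE2 : f Z ^ (D.r ^ l * n₂ - n₂ + c * o) = 1 := by
      have h1 : D.r ^ l * n₂ + c * o = n₂ + (D.r ^ l * n₂ - n₂ + c * o) := by omega
      rw [h1, pow_add] at hE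
      exact mul_eq_left.1 hE
    have hEodd : (D.r ^ l * n₂ - n₂ + c * o) % 2 = 1 := by
      have h1 : (c * o) % 2 = 1 := by
        rw [Nat.mul_mod, hc1, ho1]
      have h2 : (D.r ^ l * n₂ - n₂) % 2 = 0 := by
        obtain ⟨v, hv⟩ : ∃ v, D.r ^ l = 2 * v + 1 := ⟨D.r ^ l / 2, by omega⟩
        rw [hv, show (2 * v + 1) * n₂ - n₂ = 2 * (v * n₂) by
          have : (2 * v + 1) * n₂ = 2 * (v * n₂) + n₂ := by ring
          omega]
        omega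
      omega
    have hZL : w₀ ∈ ⁅L, L⁆ := by
      apply mem_of_odd_pow hG hEodd
      have := (hk (Z ^ (D.r ^ l * n₂ - n₂ + c * o))).1 (by rw [map_pow]; exact hE2)
      exact this
    have hZ2 : w₀ ∈ Subgroup.zpowers (w₀ ^ 2) := by
      have h1 := H.hL2 hZL
      have h2 : D.r ^ j - 1 = 2 * ((D.r ^ j - 1) / 2) := by omega
      rw [h2, pow_mul] at h1
      exact (Subgroup.zpowers_le.2 (Subgroup.pow_mem _ (Subgroup.mem_zpowers _) _)) h1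
    exact H.w_ne (eq_one_of_mem_zpowers_sq hG hZ2)

/-- The square of `w₀` lies in the derived subgroup of `L`. -/
theorem hw2 : w₀ ^ 2 ∈ ⁅L, L⁆ := by
  have hG : IsPGroup 2 G := pG H
  have hρ1 := H.hρ_odd
  have hq1 := H.hq_odd
  have hc1 := H.c_odd
  by_cases hρ : D.r ^ l % 4 = 1
  · have h1 := H.hg2c
    obtain ⟨v, hv⟩ : ∃ v, 1 + D.r ^ l = 2 * (2 * v + 1) := ⟨(1 + D.r ^ l) / 4, by omega⟩
    rw [hv, show c * (2 * (2 * v + 1)) = 2 * (c * (2 * v + 1)) by ring, pow_mul] at h1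
    refine mem_of_odd_pow hG ?_ h1
    rw [Nat.mul_mod, hc1]
    omega
  · have hρ3 : D.r ^ l % 4 = 3 := by omega
    by_cases hq : D.r ^ j % 4 = 3
    · have h1 := H.hL1
      obtain ⟨v, hv⟩ : ∃ v, D.r ^ j - 1 = 2 * (2 * v + 1) := ⟨(D.r ^ j - 1) / 4, by omega⟩
      rw [hv, pow_mul] at h1
      refine mem_of_odd_pow hG ?_ h1
      omega
    · exact (H.not_case hρ3 (by omega)).elim

/-- The case `x² ∈ L'` with `q ≡ 1` mod 4 is impossible. -/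
theorem not_sq_case1 (hq : D.r ^ j % 4 = 1) (hx2 : x ^ 2 ∈ ⁅L, L⁆) : False := by
  have hG : IsPGroup 2 G := pG H
  have hρ1 := H.hρ_odd
  have hc1 := H.c_odd
  have hw2 := H.hw2
  -- `w₀² = 1`
  obtain ⟨v, hv⟩ : ∃ v, D.r ^ j - 1 = 2 * (2 * v) := ⟨(D.r ^ j - 1) / 4, by omega⟩
  have hw21 : w₀ ^ 2 = 1 := by
    have h1 := H.hL2 hw2
    rw [hv, pow_mul] at h1
    have h2 : Subgroup.zpowers ((w₀ ^ 2) ^ (2 * v)) ≤ Subgroup.zpowers ((w₀ ^ 2) ^ 2) := by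
      apply Subgroup.zpowers_le.2
      rw [pow_mul]
      exact Subgroup.pow_mem _ (Subgroup.mem_zpowers _) _
    exact eq_one_of_mem_zpowers_sq hG (h2 h1)
  have hwpow : ∀ n : ℕ, n % 2 = 0 → w₀ ^ n = 1 := by
    intro n hn
    obtain ⟨t, rfl⟩ := Nat.dvd_of_mod_eq_zero hn
    rw [pow_mul, hw21, one_pow]
  have hwodd : ∀ n : ℕ, n % 2 = 1 → w₀ ^ n = w₀ := by
    intro n hn
    have h1 : n = 2 * (n / 2) + 1 := by omega
    rw [h1, pow_succ, pow_mul, hw21, one_pow, one_mul]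
  have hx21 : x ^ 2 = 1 := by
    have h1 := H.hL2 hx2
    rw [hwpow _ (by omega), Subgroup.zpowers_one_eq_bot] at h1
    exact h1
  have hxodd : ∀ n : ℕ, n % 2 = 1 → x ^ n = x := by
    intro n hn
    have h1 : n = 2 * (n / 2) + 1 := by omega
    rw [h1, pow_succ, pow_mul, hx21, one_pow, one_mul]
  have hxeven : ∀ n : ℕ, n % 2 = 0 → x ^ n = 1 := by
    intro n hn
    obtain ⟨t, rfl⟩ := Nat.dvd_of_mod_eq_zero hn
    rw [pow_mul, hx21, one_pow]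
  have hgx : g * x * g⁻¹ = x * w₀ := by
    rw [H.hgx, hwodd c hc1]
  have hgw : g * w₀ * g⁻¹ = w₀ := by
    rw [H.hgw, hwodd _ hρ1]
  have hxw : x * w₀ = w₀ * x := by
    have h1 := H.hxw
    rw [hwodd _ H.hq_odd] at h1
    calc x * w₀ = (x * w₀ * x⁻¹) * x := by group
      _ = w₀ * x := by rw [h1]
  have hw1 := H.w_ne
  -- `g²` lies in `⟨w₀⟩`
  obtain ⟨n₂, o, hg2⟩ := H.hgen _ H.hg2
  have ho : o % 2 = 0 := by
    by_contra hne
    have h1 : g ^ 2 = w₀ ^ n₂ * x := by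
      rw [hg2, hxodd o (by omega)]
    have h2 : g * g ^ 2 * g⁻¹ = g ^ 2 := by
      rw [pow_two]
      group
    rw [h1] at h2
    have h3 : g * (w₀ ^ n₂ * x) * g⁻¹ = (g * w₀ * g⁻¹) ^ n₂ * (g * x * g⁻¹) := by
      rw [conj_pow]
      group
    rw [h3, hgw, hgx] at h2
    have h4 : w₀ ^ n₂ * (x * w₀) = w₀ ^ n₂ * x := h2
    rw [mul_right_inj] at h4
    exact hw1 (mul_eq_left.1 h4)
  have hg21 : g ^ 2 = w₀ ^ n₂ := by
    rw [hg2, hxeven o ho, mul_one]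
  have hg4 : (w₀ ^ n₂) ^ 2 = 1 := by
    rw [← pow_mul, mul_comm, pow_mul, hw21, one_pow]
  -- exponents of `b`
  have hx2A : D.b ^ (j * 2) ∈ Subgroup.zpowers D.a := by
    have h1 : x ^ 2 = 1 := hx21
    rw [H.hx, D.pow_form] at h1
    have h2 := eq_inv_of_mul_eq_one_right h1
    rw [h2]
    exact Subgroup.inv_mem _ (Subgroup.pow_mem _ (Subgroup.mem_zpowers _) _)
  have hg2A : D.b ^ (l * 2) ∈ Subgroup.zpowers D.a := by
    have h1 : g ^ 2 = w₀ ^ n₂ := hg21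
    rw [H.hg, D.pow_form] at h1
    have h2 : D.b ^ (l * 2) = (D.a ^ (k * ∑ u ∈ Finset.range 2, (D.r ^ l) ^ u))⁻¹ * w₀ ^ n₂ := by
      rw [← h1]
      group
    rw [h2]
    exact Subgroup.mul_mem _ (Subgroup.inv_mem _ (Subgroup.pow_mem _ (Subgroup.mem_zpowers _) _))
      (Subgroup.pow_mem _ H.hwA _)
  rw [D.hbe] at hx2A hg2A
  have hxnA : ¬ 2 ^ D.e ∣ j := by
    intro h
    apply H.x_not_mem_A
    rw [H.hx]
    exact Subgroup.mul_mem _ (Subgroup.pow_mem _ (Subgroup.mem_zpowers _) _) ((D.hbe j).2 h)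
  -- an element of `⟨a⟩` acting as `g`
  obtain ⟨y, hyA, hyx, hy4⟩ : ∃ y ∈ Subgroup.zpowers D.a, y * x * y⁻¹ = x * w₀ ∧ y ^ 4 = 1 := by
    by_cases hl : 2 ^ D.e ∣ l
    · refine ⟨g, ?_, hgx, ?_⟩
      · rw [H.hg]
        exact Subgroup.mul_mem _ (Subgroup.pow_mem _ (Subgroup.mem_zpowers _) _) ((D.hbe l).2 hl)
      · rw [show 4 = 2 * 2 from rfl, pow_mul, hg21, hg4]
    · refine ⟨g * x, ?_, ?_, ?_⟩
      · have hjl : 2 ^ D.e ∣ l + j := by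
          obtain ⟨e', he'⟩ : ∃ e', D.e = e' + 1 := by
            rcases Nat.eq_zero_or_pos D.e with h0 | h0
            · rw [h0] at hxnA
              simp at hxnA
            · exact ⟨D.e - 1, by omega⟩
          rw [he', pow_succ] at hx2A hg2A hxnA hl ⊢
          have h1 : 2 ^ e' ∣ j := Nat.dvd_of_mul_dvd_mul_right (by omega) hx2A
          have h2 : 2 ^ e' ∣ l := Nat.dvd_of_mul_dvd_mul_right (by omega) hg2A
          obtain ⟨j', rfl⟩ := h1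
          obtain ⟨l', rfl⟩ := h2
          have hj' : j' % 2 = 1 := by
            by_contra hne
            apply hxnA
            exact Nat.mul_dvd_mul_left _ (Nat.dvd_of_mod_eq_zero (by omega))
          have hl' : l' % 2 = 1 := by
            by_contra hne
            apply hl
            exact Nat.mul_dvd_mul_left _ (Nat.dvd_of_mod_eq_zero (by omega))
          rw [← Nat.mul_add]
          exact Nat.mul_dvd_mul_left _ (Nat.dvd_of_mod_eq_zero (by omega))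
        rw [H.hg, H.hx, D.mul_form]
        exact Subgroup.mul_mem _ (Subgroup.pow_mem _ (Subgroup.mem_zpowers _) _) ((D.hbe _).2 hjl)
      · calc g * x * x * (g * x)⁻¹ = g * x * g⁻¹ := by group
          _ = x * w₀ := hgx
      · have h1 : (g * x) ^ 2 = w₀ ^ (1 + n₂) := by
          calc (g * x) ^ 2 = (g * x * g⁻¹) * g ^ 2 * x := by
                rw [pow_two, pow_two]
                group
            _ = x * w₀ * w₀ ^ n₂ * x := by rw [hgx, hg21]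
            _ = x * (w₀ ^ (1 + n₂) * x) := by rw [pow_add, pow_one]; group
            _ = w₀ ^ (1 + n₂) * x ^ 2 := by
                have h5 : Commute x (w₀ ^ (1 + n₂)) := Commute.pow_right hxw _
                rw [← mul_assoc, h5.eq, pow_two]
                group
            _ = w₀ ^ (1 + n₂) := by rw [hx21, mul_one]
        rw [show 4 = 2 * 2 from rfl, pow_mul, h1, ← pow_mul, mul_comm, pow_mul, hw21, one_pow]
  -- `x` centralizes `y`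
  have h5 : x * y * x⁻¹ = y := by
    rw [conj_of_mem D H.hxa hyA]
    obtain ⟨t, ht⟩ : ∃ t, D.r ^ j = 4 * t + 1 := ⟨D.r ^ j / 4, by omega⟩
    rw [ht, pow_succ, pow_mul, hy4, one_pow, one_mul]
  have h6 : y * x * y⁻¹ = x := by
    have h7 : x * y = y * x := by
      calc x * y = (x * y * x⁻¹) * x := by group
        _ = y * x := by rw [h5]
    rw [← h7]
    group
  rw [hyx] at h6
  exact hw1 (mul_eq_left.1 h6)

/-- The case `x² ∈ L'` with `q ≡ 3` mod 4: `⟨a⟩` has index 2. -/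
theorem sq_case3 (hq : D.r ^ j % 4 = 3) (hx2 : x ^ 2 ∈ ⁅L, L⁆)
    (hexcl : ∀ (y : G) (q' : ℕ), q' % 4 = 3 → y * D.a * y⁻¹ = D.a ^ q' → y ^ 2 ∈ Subgroup.zpowers D.a →
      (∀ z, z ∈ Subgroup.zpowers D.a ∨ y⁻¹ * z ∈ Subgroup.zpowers D.a) → 2 ≤ D.m → False) : False := by
  have hr := r_odd D
  have hj : j % 2 = 1 := by
    rcases pow_mod_four D.r hr j with ⟨h1, _⟩ | ⟨_, _, h3⟩
    · omega
    · exact h3
  have hxA : x ^ 2 ∈ Subgroup.zpowers D.a := by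
    have h1 := H.hL2 hx2
    exact (Subgroup.zpowers_le.2 (Subgroup.pow_mem _ H.hwA _)) h1
  have hm2 : 2 ≤ D.m := by
    by_contra hne
    have ha2 : D.a ^ 2 = 1 := MCP.a_pow_eq_one D (by
      have : D.m ≤ 1 := by omega
      simpa using pow_dvd_pow 2 this)
    have hrr : D.a ^ D.r = D.a := by
      have : D.r = 2 * (D.r / 2) + 1 := by omega
      rw [this, pow_succ, pow_mul, ha2, one_pow, one_mul]
    have hba : D.b * D.a = D.a * D.b := by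
      have h1 := D.hconj
      rw [hrr] at h1
      calc D.b * D.a = (D.b * D.a * D.b⁻¹) * D.b := by group
        _ = D.a * D.b := by rw [h1]
    have hcomm : ∀ u v : G, u * v = v * u := by
      intro u v
      obtain ⟨i₁, j₁, rfl⟩ := D.hgen u
      obtain ⟨i₂, j₂, rfl⟩ := D.hgen v
      have h1 : Commute D.a D.b := hba.symm
      calc D.a ^ i₁ * D.b ^ j₁ * (D.a ^ i₂ * D.b ^ j₂) = D.a ^ i₁ * (D.b ^ j₁ * D.a ^ i₂) * D.b ^ j₂ := by group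
        _ = D.a ^ i₁ * (D.a ^ i₂ * D.b ^ j₁) * D.b ^ j₂ := by rw [(h1.pow_pow i₂ j₁).eq]
        _ = D.a ^ i₂ * (D.a ^ i₁ * D.b ^ j₂) * D.b ^ j₁ := by
          have h2 : Commute (D.a ^ i₁) (D.a ^ i₂) := (Commute.refl _).pow_pow _ _
          have h3 : Commute (D.b ^ j₁) (D.b ^ j₂) := (Commute.refl _).pow_pow _ _
          calc D.a ^ i₁ * (D.a ^ i₂ * D.b ^ j₁) * D.b ^ j₂ = (D.a ^ i₁ * D.a ^ i₂) * (D.b ^ j₁ * D.b ^ j₂) := by group
            _ = (D.a ^ i₂ * D.a ^ i₁) * (D.b ^ j₂ * D.b ^ j₁) := by rw [h2.eq, h3.eq]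
            _ = _ := by group
        _ = D.a ^ i₂ * (D.b ^ j₂ * D.a ^ i₁) * D.b ^ j₁ := by rw [(h1.pow_pow i₁ j₂).eq]
        _ = _ := by group
    apply H.hodd
    refine ⟨0, ?_⟩
    rw [hcomm g x]
    simp
  -- the index
  have hb2 : 2 ^ D.e ∣ 2 := by
    have h1 : D.b ^ (j * 2) ∈ Subgroup.zpowers D.a := by
      rw [H.hx, D.pow_form] at hxA
      have h2 := Subgroup.mul_mem _ (Subgroup.inv_mem _ (Subgroup.pow_mem _ (Subgroup.mem_zpowers D.a)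
        (i * ∑ u ∈ Finset.range 2, (D.r ^ j) ^ u))) hxA
      simpa using h2
    rw [D.hbe, mul_comm] at h1
    refine Nat.Coprime.dvd_of_dvd_mul_right ?_ h1
    apply Nat.Coprime.pow_left
    exact (Nat.Prime.coprime_iff_not_dvd Nat.prime_two).2 (by omega)
  have hcover : ∀ z, z ∈ Subgroup.zpowers D.a ∨ x⁻¹ * z ∈ Subgroup.zpowers D.a := by
    intro z
    obtain ⟨s, t, rfl⟩ := D.hgen z
    by_cases ht : t % 2 = 0
    · left
      have h1 : 2 ^ D.e ∣ t := hb2.trans (Nat.dvd_of_mod_eq_zero ht)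
      exact Subgroup.mul_mem _ (Subgroup.pow_mem _ (Subgroup.mem_zpowers _) _) ((D.hbe t).2 h1)
    · right
      have h1 : 2 ^ D.e ∣ j + t := hb2.trans (Nat.dvd_of_mod_eq_zero (by omega))
      have h2 : x * (D.a ^ s * D.b ^ t) ∈ Subgroup.zpowers D.a := by
        rw [H.hx, D.mul_form]
        exact Subgroup.mul_mem _ (Subgroup.pow_mem _ (Subgroup.mem_zpowers _) _) ((D.hbe _).2 h1)
      have e : x⁻¹ * (D.a ^ s * D.b ^ t) = (x ^ 2)⁻¹ * (x * (D.a ^ s * D.b ^ t)) := by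
        rw [pow_two]
        group
      rw [e]
      exact Subgroup.mul_mem _ (Subgroup.inv_mem _ hxA) h2
  exact hexcl x _ hq H.hxa hxA hcover hm2

end KC

/-- The left alternative: all commutators are squares. -/
theorem left_case {L : Subgroup G} {g x w₀ : G} (hgL : ∀ y ∈ L, g * y * g⁻¹ ∈ L) (hwL : w₀ ∈ L) (hwA : w₀ ∈ Subgroup.zpowers D.a)
    (hxL : x ∈ L) (hgen : ∀ y ∈ L, ∃ n k : ℕ, y = w₀ ^ n * x ^ k) {h : ℕ}
    (hgx : x⁻¹ * (g * x * g⁻¹) = (w₀ ^ h) ^ 2) :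
    ∀ y ∈ L, ∃ z ∈ L, y⁻¹ * (g * y * g⁻¹) = z ^ 2 := by
  classical
  set N := Subgroup.zpowers (w₀ ^ 2) with hN
  have hact : ∀ y : G, ∃ s : ℕ, y * w₀ * y⁻¹ = w₀ ^ s := by
    intro y
    obtain ⟨i, j, rfl⟩ := D.hgen y
    exact ⟨D.r ^ j, conj_of_mem D (conj_a D i j) hwA⟩
  have hNconj : ∀ y : G, ∀ u ∈ N, y * u * y⁻¹ ∈ N := by
    intro y u hu
    obtain ⟨t, rfl⟩ := Subgroup.mem_zpowers_iff.1 hu
    obtain ⟨s, hs⟩ := hact y
    rw [← conj_zpow, ← conj_pow, hs, ← pow_mul, mul_comm, pow_mul]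
    exact Subgroup.zpow_mem _ (Subgroup.pow_mem _ (Subgroup.mem_zpowers _) _) _
  have hmul : ∀ y₁ y₂ : G, y₁⁻¹ * (g * y₁ * g⁻¹) ∈ N → y₂⁻¹ * (g * y₂ * g⁻¹) ∈ N →
      (y₁ * y₂)⁻¹ * (g * (y₁ * y₂) * g⁻¹) ∈ N := by
    intro y₁ y₂ h₁ h₂
    have e : (y₁ * y₂)⁻¹ * (g * (y₁ * y₂) * g⁻¹)
        = (y₂⁻¹ * (y₁⁻¹ * (g * y₁ * g⁻¹)) * y₂⁻¹⁻¹) * (y₂⁻¹ * (g * y₂ * g⁻¹)) := by group
    rw [e]
    exact N.mul_mem (hNconj _ _ h₁) h₂
  have hone : (1 : G)⁻¹ * (g * 1 * g⁻¹) ∈ N := by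
    simp
  have hpow : ∀ y : G, y⁻¹ * (g * y * g⁻¹) ∈ N → ∀ n : ℕ, (y ^ n)⁻¹ * (g * y ^ n * g⁻¹) ∈ N := by
    intro y hy n
    induction n with
    | zero =>
      rw [pow_zero]
      exact hone
    | succ n ih =>
      rw [pow_succ]
      exact hmul _ _ ih hy
  have hw : w₀⁻¹ * (g * w₀ * g⁻¹) ∈ N := by
    obtain ⟨i, j, hg⟩ := D.hgen g
    have h1 : g * w₀ * g⁻¹ = w₀ ^ (D.r ^ j) := by
      rw [hg]
      exact conj_of_mem D (conj_a D i j) hwA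
    rw [h1]
    have hodd := pow_odd_of_odd (r_odd D) j
    have e : w₀⁻¹ * w₀ ^ D.r ^ j = (w₀ ^ 2) ^ (D.r ^ j / 2) := by
      rw [← pow_mul]
      conv_lhs => rw [show D.r ^ j = 1 + 2 * (D.r ^ j / 2) by omega]
      rw [pow_add, pow_one, inv_mul_cancel_left]
    rw [e]
    exact Subgroup.pow_mem _ (Subgroup.mem_zpowers _) _
  have hx : x⁻¹ * (g * x * g⁻¹) ∈ N := by
    rw [hgx, ← pow_mul, mul_comm, pow_mul]
    exact Subgroup.pow_mem _ (Subgroup.mem_zpowers _) _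
  intro y hy
  obtain ⟨n, k, rfl⟩ := hgen y hy
  have h1 := hmul _ _ (hpow w₀ hw n) (hpow x hx k)
  have hfin : IsOfFinOrder (w₀ ^ 2) := isOfFinOrder_of_finite _
  rw [← hfin.mem_powers_iff_mem_zpowers] at h1
  obtain ⟨t, ht⟩ := h1
  have ht' : (w₀ ^ 2) ^ t = _ := ht
  refine ⟨w₀ ^ t, L.pow_mem hwL t, ?_⟩
  rw [← ht', ← pow_mul, ← pow_mul, mul_comm]

/-- The analysis. -/
theorem key {L : Subgroup G} {g : G} (hgL : ∀ y ∈ L, g * y * g⁻¹ ∈ L) (hg2 : g ^ 2 ∈ L)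
    (hexcl : ∀ (y : G) (q' : ℕ), q' % 4 = 3 → y * D.a * y⁻¹ = D.a ^ q' → y ^ 2 ∈ Subgroup.zpowers D.a →
      (∀ z, z ∈ Subgroup.zpowers D.a ∨ y⁻¹ * z ∈ Subgroup.zpowers D.a) → 2 ≤ D.m → False) :
    (∀ y ∈ L, ∃ z ∈ L, y⁻¹ * (g * y * g⁻¹) = z ^ 2) ∨
    (∃ (x w₀ : G) (α c₀ ρ' : ℕ), x ∈ L ∧ w₀ ∈ L ∧ 1 ≤ α ∧ (∀ y ∈ L, ∃ n k : ℕ, y = w₀ ^ n * x ^ k) ∧
      x ^ 2 ^ α ∈ ⁅L, L⁆ ∧ x ^ 2 ^ (α - 1) ∉ ⁅L, L⁆ ∧ w₀ ^ 2 ^ (α - 1) ∈ ⁅L, L⁆ ∧
      x⁻¹ * (g * x * g⁻¹) = w₀ ^ c₀ ∧ g * w₀ * g⁻¹ = w₀ * (w₀ ^ ρ') ^ 2) := by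
  classical
  obtain ⟨w₀, hw₀⟩ := exists_zpowers_eq_of_le (X := L ⊓ Subgroup.zpowers D.a) inf_le_right
  obtain ⟨x, hxL, hgen⟩ := exists_gen D L hw₀
  obtain ⟨i, j, hx⟩ := D.hgen x
  obtain ⟨k, l, hg⟩ := D.hgen g
  have hwm : w₀ ∈ L ⊓ Subgroup.zpowers D.a := by
    rw [hw₀]
    exact Subgroup.mem_zpowers _
  have hcm : x⁻¹ * (g * x * g⁻¹) ∈ L ⊓ Subgroup.zpowers D.a :=
    ⟨L.mul_mem (L.inv_mem hxL) (hgL x hxL), comm_mem_A D x g⟩
  rw [hw₀] at hcm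
  have hfin2 : IsOfFinOrder w₀ := isOfFinOrder_of_finite _
  rw [← hfin2.mem_powers_iff_mem_zpowers] at hcm
  obtain ⟨c, hc⟩ := hcm
  by_cases hodd : ∃ h : ℕ, x⁻¹ * (g * x * g⁻¹) = (w₀ ^ h) ^ 2
  · left
    obtain ⟨h, hh⟩ := hodd
    exact left_case D hgL hwm.1 hwm.2 hxL hgen hh
  · right
    have H : KC D L g x w₀ i j k l c := ⟨hgL, hg2, hw₀, hxL, hgen, hx, hg, hc.symm, hodd⟩
    have hG : IsPGroup 2 G := H.pG
    by_cases hx2 : x ^ 2 ∈ ⁅L, L⁆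
    · exfalso
      have hq := H.hq_odd
      by_cases hq1 : D.r ^ j % 4 = 1
      · exact H.not_sq_case1 hq1 hx2
      · exact H.sq_case3 (by omega) hx2 hexcl
    · -- the exponent of `x`
      obtain ⟨N, hN⟩ := IsPGroup.iff_orderOf.1 hG x
      have hex : ∃ α, x ^ 2 ^ α ∈ ⁅L, L⁆ := ⟨N, by
        rw [← hN, pow_orderOf_eq_one]
        exact Subgroup.one_mem _⟩
      have hα := Nat.find_spec hex
      have hmin := fun m => Nat.find_min hex (m := m)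
      set α := Nat.find hex with hαdef
      have hα0 : α ≠ 0 := by
        intro h0
        rw [h0, pow_zero, pow_one] at hα
        apply hx2
        rw [pow_two]
        exact Subgroup.mul_mem _ hα hα
      have hα1 : α ≠ 1 := by
        intro h0
        rw [h0, pow_one] at hα
        exact hx2 hα
      have hw2 := H.hw2
      have hρ1 := H.hρ_odd
      refine ⟨x, w₀, α, c, D.r ^ l / 2, hxL, hwm.1, by omega, hgen, hα, hmin _ (by omega), ?_, hc.symm, ?_⟩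
      · have e : 2 ^ (α - 1) = 2 * 2 ^ (α - 2) := by
          rw [← pow_succ']
          congr 1
          omega
        rw [e, pow_mul]
        exact Subgroup.pow_mem _ hw2 _
      · rw [H.hgw, ← pow_mul, ← pow_succ']
        congr 1
        omega

end MC2

end Cfsg.Agent.H24
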