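import Mathlib
import Cfsg.Agent.Lib.H15.Cyc2
import Cfsg.Agent.Lib.H24.MC2
import Cfsg.Prelude.Def_CaseTheorems

/-!
Groups with a cyclic subgroup of index 2 on which the complement acts by a power `≡ 3` mod 4.
-/

set_option autoImplicit false
set_option linter.style.haveILetI false
set_option maxHeartbeats 1000000

namespace Cfsg.Agent.H24

open Cfsg

universe u

/-- Recognition of generalized quaternion groups. -/
theorem quaternion_of {S : Type*} [Group S] [Finite S] (a x : S) (m : ℕ) (hm : m ≠ 0)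
    (ha : orderOf a = 2 * m) (hx : x * x = a ^ m) (hrel : x * a * x⁻¹ = a⁻¹) (hcard : Nat.card S = 4 * m)
    (hxa : x ∉ Subgroup.zpowers a) : Nonempty (S ≃* QuaternionGroup m) := by
  classical
  haveI : NeZero m := ⟨hm⟩
  haveI : NeZero (2 * m) := ⟨by positivity⟩
  have hψadd : ∀ i j : ZMod (2 * m), a ^ (i + j).val = a ^ i.val * a ^ j.val := by
    intro i j
    have e : (i.val + j.val) % (2 * m) = (i.val + j.val) % orderOf a := by rw [ha]
    rw [ZMod.val_add, e, pow_mod_orderOf, pow_add]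
  have hψneg : ∀ i : ZMod (2 * m), a ^ (-i).val = (a ^ i.val)⁻¹ := by
    intro i
    rw [eq_inv_iff_mul_eq_one, ← hψadd, neg_add_cancel, ZMod.val_zero, pow_zero]
  have hcomm : ∀ i j : ℕ, a ^ i * a ^ j = a ^ j * a ^ i := by
    intro i j
    rw [← pow_add, ← pow_add, add_comm]
  have hx₀a : ∀ e : ℕ, a ^ e * x = x * (a ^ e)⁻¹ := by
    intro e
    have h1 : x * (a ^ e)⁻¹ * x⁻¹ = a ^ e := by
      rw [← inv_pow, ← conj_pow]
      have h2 : x * a⁻¹ * x⁻¹ = a := by
        have := congrArg (fun y => y⁻¹) hrel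
        simpa [mul_assoc] using this
      rw [h2]
    calc a ^ e * x = (x * (a ^ e)⁻¹ * x⁻¹) * x := by rw [h1]
      _ = x * (a ^ e)⁻¹ := by group
  have hzval : a ^ ((m : ℕ) : ZMod (2 * m)).val = a ^ m := by
    rw [ZMod.val_natCast, Nat.mod_eq_of_lt (by omega)]
  let f : QuaternionGroup m → S := fun y =>
    match y with
    | QuaternionGroup.a i => a ^ i.val
    | QuaternionGroup.xa i => x * a ^ i.val
  have hfmul : ∀ y y' : QuaternionGroup m, f (y * y') = f y * f y' := by
    rintro (i | i) (j | j)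
    · exact hψadd i j
    · change x * a ^ (j - i).val = a ^ i.val * (x * a ^ j.val)
      rw [sub_eq_add_neg, hψadd, hψneg, ← mul_assoc (a ^ i.val), hx₀a, mul_assoc x]
      congr 1
      rw [eq_inv_mul_iff_mul_eq, ← mul_assoc, hcomm i.val j.val, mul_assoc, mul_inv_cancel, mul_one]
    · change x * a ^ (i + j).val = x * a ^ i.val * a ^ j.val
      rw [hψadd, mul_assoc]
    · change a ^ ((m : ZMod (2 * m)) + j - i).val = x * a ^ i.val * (x * a ^ j.val)
      rw [sub_eq_add_neg, hψadd, hψadd, hψneg, hzval]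
      have e1 : x * a ^ i.val * (x * a ^ j.val) = x * (a ^ i.val * x) * a ^ j.val := by group
      rw [e1, hx₀a, ← mul_assoc x x, hx, mul_assoc (a ^ m), mul_assoc (a ^ m)]
      congr 1
      rw [mul_inv_eq_iff_eq_mul, mul_assoc, hcomm j.val i.val, ← mul_assoc, inv_mul_cancel, one_mul]
  let F : QuaternionGroup m →* S := MonoidHom.mk' f hfmul
  have hFinj : Function.Injective F := by
    rw [injective_iff_map_eq_one]
    rintro (i | i) hi
    · have h1 : a ^ i.val = 1 := hi
      have h2 : orderOf a ∣ i.val := orderOf_dvd_of_pow_eq_one h1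
      rw [ha] at h2
      have h3 : i.val < 2 * m := ZMod.val_lt i
      have h4 : i.val = 0 := Nat.eq_zero_of_dvd_of_lt h2 h3
      have h5 : i = 0 := (ZMod.val_eq_zero i).mp h4
      rw [h5]
      rfl
    · exfalso
      have h1 : x * a ^ i.val = 1 := hi
      apply hxa
      have h2 : x = (a ^ i.val)⁻¹ := eq_inv_of_mul_eq_one_left h1
      rw [h2]
      exact Subgroup.inv_mem _ (Subgroup.pow_mem _ (Subgroup.mem_zpowers _) _)
  have hbij : Function.Bijective F := by
    apply hFinj.bijective_of_nat_card_le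
    rw [hcard, Nat.card_eq_fintype_card, QuaternionGroup.card]
  exact ⟨(MulEquiv.ofBijective F hbij).symm⟩

/-- The classification. -/
theorem exists_iso_of_index_two {G : Type*} [Group G] [Finite G] (a y : G) (m q : ℕ) (hm : 2 ≤ m)
    (ha : orderOf a = 2 ^ m) (hq : q % 4 = 3) (hya : y * a * y⁻¹ = a ^ q) (hy2 : y ^ 2 ∈ Subgroup.zpowers a)
    (hcover : ∀ z, z ∈ Subgroup.zpowers a ∨ y⁻¹ * z ∈ Subgroup.zpowers a) :
    (∃ n : ℕ, Nonempty (G ≃* DihedralGroup n)) ∨ (∃ n : ℕ, Nonempty (G ≃* QuaternionGroup n)) ∨ IsQuasiDihedral G := by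
  classical
  set A := Subgroup.zpowers a with hA
  have h4 : 4 ∣ 2 ^ m := by
    have := pow_dvd_pow 2 hm
    simpa using this
  have hpow : ∀ w w' : ℕ, a ^ w = a ^ w' ↔ w ≡ w' [MOD 2 ^ m] := by
    intro w w'
    rw [pow_eq_pow_iff_modEq, ha]
  have hone : ∀ w : ℕ, a ^ w = 1 ↔ 2 ^ m ∣ w := by
    intro w
    rw [← orderOf_dvd_iff_pow_eq_one, ha]
  have hyA : y ∉ A := by
    intro h
    obtain ⟨k, hk⟩ := Subgroup.mem_zpowers_iff.1 h
    have h1 : y * a * y⁻¹ = a := by
      rw [← hk]
      have : Commute (a ^ k) a := (Commute.refl a).zpow_left k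
      rw [this.eq]
      group
    rw [h1] at hya
    have h2 : a ^ (q - 1) = 1 := by
      have h3 : a ^ q = a ^ (q - 1) * a := by
        rw [← pow_succ]
        congr 1
        omega
      rw [h3] at hya
      exact mul_eq_right.1 hya.symm
    rw [hone] at h2
    have h3 := h4.trans h2
    omega
  have hconj : ∀ w : ℕ, y * a ^ w * y⁻¹ = a ^ (q * w) := by
    intro w
    rw [← conj_pow, hya, ← pow_mul]
  have hfin : IsOfFinOrder a := isOfFinOrder_of_finite _
  obtain ⟨w, hw⟩ : ∃ w : ℕ, y ^ 2 = a ^ w := by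
    rw [hA, ← hfin.mem_powers_iff_mem_zpowers] at hy2
    obtain ⟨w, hw⟩ := hy2
    exact ⟨w, hw.symm⟩
  -- the card
  have hAnorm : ∀ z ∈ A, y * z * y⁻¹ ∈ A := by
    intro z hz
    obtain ⟨k, rfl⟩ := Subgroup.mem_zpowers_iff.1 hz
    rw [← conj_zpow, hya]
    exact Subgroup.zpow_mem _ (Subgroup.pow_mem _ (Subgroup.mem_zpowers _) _) _
  have hindex : A.index = 2 := by
    rw [Subgroup.index_eq_two_iff]
    refine ⟨y, fun z => ?_⟩
    by_cases hz : z ∈ A
    · refine Or.inr ⟨hz, fun h => hyA ?_⟩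
      have := Subgroup.mul_mem _ (Subgroup.inv_mem _ hz) h
      simpa using this
    · refine Or.inl ⟨?_, hz⟩
      rcases hcover z with h | h
      · exact absurd h hz
      · have e : z * y = y * (y⁻¹ * z) * y⁻¹ * y ^ 2 := by
          rw [pow_two]
          group
        rw [e]
        exact Subgroup.mul_mem _ (hAnorm _ h) hy2
  have hcard : Nat.card G = 2 ^ (m + 1) := by
    have h1 := A.card_mul_index
    rw [hindex, hA, Nat.card_zpowers, ha] at h1
    rw [← h1, pow_succ]
  obtain ⟨t, ht⟩ : ∃ t, q = 4 * t + 3 := ⟨q / 4, by omega⟩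
  have hodd : Nat.Coprime (2 ^ (m - 1)) (2 * t + 1) := by
    apply Nat.Coprime.pow_left
    exact (Nat.Prime.coprime_iff_not_dvd Nat.prime_two).2 (by omega)
  have hm1 : 2 ^ m = 2 * 2 ^ (m - 1) := by
    rw [← pow_succ']
    congr 1
    omega
  -- `w`
  have hw1 : 2 ^ (m - 1) ∣ w := by
    have h1 : y * y ^ 2 * y⁻¹ = y ^ 2 := by
      rw [pow_two]
      group
    rw [hw, hconj] at h1
    have h2 : q * w ≡ w [MOD 2 ^ m] := (hpow _ _).1 h1
    have h3 : 2 ^ m ∣ (q - 1) * w := by
      have h4 : w ≤ q * w := Nat.le_mul_of_pos_left _ (by omega)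
      have h5 := (Nat.modEq_iff_dvd' h4).1 h2.symm
      have h6 : q * w - w = (q - 1) * w := by
        rw [Nat.sub_mul, one_mul]
      rwa [h6] at h5
    rw [hm1, show q - 1 = 2 * (2 * t + 1) by omega, mul_assoc] at h3
    have h7 := Nat.dvd_of_mul_dvd_mul_left (by omega) h3
    exact hodd.dvd_of_dvd_mul_left h7
  obtain ⟨w', rfl⟩ := hw1
  -- `q`
  have hq1 : 2 ^ (m - 1) ∣ q + 1 := by
    have h1 : y ^ 2 * a * (y ^ 2)⁻¹ = a := by
      rw [hw]
      have : Commute (a ^ (2 ^ (m - 1) * w')) a := (Commute.refl a).pow_left _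
      rw [this.eq]
      group
    have h2 : y ^ 2 * a * (y ^ 2)⁻¹ = a ^ (q * q) := by
      calc y ^ 2 * a * (y ^ 2)⁻¹ = y * (y * a * y⁻¹) * y⁻¹ := by
            rw [pow_two]
            group
        _ = a ^ (q * q) := by rw [hya, hconj]
    rw [h2] at h1
    have h3 : a ^ (q * q - 1) = 1 := by
      have h4 : a ^ (q * q) = a ^ (q * q - 1) * a := by
        rw [← pow_succ]
        congr 1
        have : 1 ≤ q * q := Nat.mul_pos (by omega) (by omega)
        omega
      rw [h4] at h1
      exact mul_eq_right.1 h1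
    rw [hone, hm1] at h3
    have h5 : q * q - 1 = 2 * ((2 * t + 1) * (q + 1)) := by
      subst ht
      have : (4 * t + 3) * (4 * t + 3) = 2 * ((2 * t + 1) * (4 * t + 3 + 1)) + 1 := by ring
      omega
    rw [h5] at h3
    have h7 := Nat.dvd_of_mul_dvd_mul_left (by omega) h3
    exact hodd.dvd_of_dvd_mul_left h7
  obtain ⟨v, hv⟩ := hq1
  have hzz : (a ^ 2 ^ (m - 1)) ^ 2 = 1 := by
    rw [← pow_mul, mul_comm, ← hm1, hone]
  by_cases hve : v % 2 = 0
  · -- `a` is inverted
    have hinv : y * a * y⁻¹ = a⁻¹ := by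
      rw [hya, eq_inv_iff_mul_eq_one, ← pow_succ, hone, hv, hm1, mul_comm 2]
      exact Nat.mul_dvd_mul_left _ (Nat.dvd_of_mod_eq_zero hve)
    by_cases hwe : w' % 2 = 0
    · left
      have hyy : y * y = 1 := by
        rw [← pow_two, hw, hone, hm1, mul_comm 2]
        exact Nat.mul_dvd_mul_left _ (Nat.dvd_of_mod_eq_zero hwe)
      refine ⟨2 ^ m, Cfsg.Agent.H15.dihedral_of a y (2 ^ m) (by positivity) ha hyy hinv ?_ hyA⟩
      rw [hcard, pow_succ, mul_comm]
    · right
      left
      have hyy : y * y = a ^ (2 ^ (m - 1)) := by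
        rw [← pow_two, hw, hpow]
        have e : 2 ^ (m - 1) * w' = 2 ^ (m - 1) + 2 ^ m * (w' / 2) := by
          rw [hm1]
          conv_lhs => rw [show w' = 1 + 2 * (w' / 2) by omega]
          ring
        rw [e]
        simp [Nat.ModEq]
      refine ⟨2 ^ (m - 1), quaternion_of a y (2 ^ (m - 1)) (by positivity) ?_ hyy hinv ?_ hyA⟩
      · rw [ha, hm1]
      · rw [hcard, pow_succ, hm1]
        ring
  · -- the semidihedral case
    right
    right
    have hm3 : 3 ≤ m := by
      by_contra hne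
      have hm2 : m = 2 := by omega
      subst hm2
      simp at hv
      omega
    have hconj2 : a ^ q = a ^ (2 ^ (m - 1) - 1) := by
      rw [hpow]
      have hp1 : 1 ≤ 2 ^ (m - 1) := Nat.one_le_pow _ _ (by omega)
      have hv' : v = 2 * (v / 2) + 1 := by omega
      have e : q = (2 ^ (m - 1) - 1) + 2 ^ m * (v / 2) := by
        have h1 : q + 1 = 2 ^ (m - 1) * (2 * (v / 2) + 1) := by rw [hv, ← hv']
        have h2 : 2 ^ (m - 1) * (2 * (v / 2) + 1) = 2 ^ m * (v / 2) + 2 ^ (m - 1) := by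
          rw [hm1]
          ring
        omega
      rw [e]
      simp [Nat.ModEq]
    obtain ⟨Y, hY1, hY2, hY3⟩ : ∃ Y, Y ^ 2 = 1 ∧ Y ∉ A ∧ Y * a * Y⁻¹ = a ^ q := by
      by_cases hwe : w' % 2 = 0
      · refine ⟨y, ?_, hyA, hya⟩
        rw [hw, hone, hm1, mul_comm 2]
        exact Nat.mul_dvd_mul_left _ (Nat.dvd_of_mod_eq_zero hwe)
      · refine ⟨a * y, ?_, ?_, ?_⟩
        · have e : (a * y) ^ 2 = a ^ (1 + q + 2 ^ (m - 1) * w') := by
            calc (a * y) ^ 2 = a * (y * a * y⁻¹) * y ^ 2 := by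
                  rw [pow_two, pow_two]
                  group
              _ = _ := by
                rw [hya, hw, pow_add, pow_add, pow_one]
          rw [e, hone, show 1 + q = q + 1 by ring, hv, ← Nat.mul_add, hm1, mul_comm 2]
          exact Nat.mul_dvd_mul_left _ (Nat.dvd_of_mod_eq_zero (by omega))
        · intro h
          apply hyA
          have := Subgroup.mul_mem _ (Subgroup.inv_mem _ (Subgroup.mem_zpowers a)) h
          simpa using this
        · calc a * y * a * (a * y)⁻¹ = a * (y * a * y⁻¹) * a⁻¹ := by group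
            _ = a ^ q := by
              rw [hya]
              have : Commute a (a ^ q) := (Commute.refl a).pow_right _
              rw [this.eq]
              group
    refine ⟨m, hm3, hcard, a, Y, ha, ?_, ?_⟩
    · haveI : Fact (Nat.Prime 2) := ⟨Nat.prime_two⟩
      refine orderOf_eq_prime hY1 ?_
      intro h1
      apply hY2
      rw [h1]
      exact Subgroup.one_mem _
    · rw [hY3, hconj2]

end Cfsg.Agent.H24
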