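import Mathlib
import Cfsg.Agent.Lib.H24.MC2X

/-!
Strongly closed metacyclic `2`-subgroups, not dihedral, semidihedral or quaternion, are normal.
-/

set_option autoImplicit false
set_option linter.style.haveILetI false
set_option maxHeartbeats 1000000

namespace Cfsg.Agent.H24

open Cfsg Cfsg.FusionSystem Cfsg.Agent.H18
open scoped commutatorElement

universe u

variable {Ω : Type u} [Group Ω] {S : Subgroup Ω} {F : FusionSystem S} {P : Subgroup Ω}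

/-- The core: containment in centric radical subgroups. -/
theorem mc2_le [Finite S] [Fact (Nat.Prime 2)] (hS : IsPGroup 2 S) (hP : F.StronglyClosed P)
    (hmc : IsMetacyclic ↥P)
    (hd : ¬ ∃ m : ℕ, Nonempty (↥P ≃* DihedralGroup m)) (hq : ¬ ∃ m : ℕ, Nonempty (↥P ≃* QuaternionGroup m))
    (hsd : ¬ IsQuasiDihedral ↥P) {E : Subgroup Ω} (hC : F.IsCentric E) (hR : F.IsRadical 2 E) : P ≤ E := by
  by_contra hPE
  have hES : E ≤ S := hC.1
  haveI : Finite ↥P := finite_of_le hP.1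
  have hPp : IsPGroup 2 ↥P := hS.of_injective (Subgroup.inclusion hP.1) (Subgroup.inclusion_injective _)
  obtain ⟨g₀, hg₀P, hg₀N, hg₀E⟩ : ∃ g, g ∈ P ∧ g ∈ normalizerIn S E ∧ g ∉ E := by
    by_contra hno
    push Not at hno
    apply hPE
    refine le_of_normalizer_le hS hP.1 hES (hES.trans (normalizer_of_stronglyClosed hP)) fun g hg hgN => ?_
    exact hno g hg ⟨hP.1 hg, hgN⟩
  -- a power with square in `E`
  obtain ⟨g, hgP, hgN, hgE, hg2⟩ : ∃ g, g ∈ P ∧ g ∈ normalizerIn S E ∧ g ∉ E ∧ g ^ 2 ∈ E := by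
    classical
    obtain ⟨N, hN⟩ := exists_exp hS
    have hex : ∃ i, g₀ ^ 2 ^ i ∈ E := ⟨N, by
      rw [hN g₀ (hP.1 hg₀P)]
      exact E.one_mem⟩
    have hi := Nat.find_spec hex
    have hmin := fun m => Nat.find_min hex (m := m)
    set i := Nat.find hex with hidef
    have hi0 : i ≠ 0 := by
      intro h0
      rw [h0, pow_zero, pow_one] at hi
      exact hg₀E hi
    refine ⟨g₀ ^ 2 ^ (i - 1), P.pow_mem hg₀P _, Subgroup.pow_mem _ hg₀N _, hmin _ (by omega), ?_⟩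
    rw [← pow_mul, ← pow_succ, show i - 1 + 1 = i by omega]
    exact hi
  have H : ChainCtx S F 2 P E g := ⟨hS, hP, hC, hR, hgP, hgN⟩
  obtain ⟨D⟩ := exists_mc hPp hmc
  apply hgE
  apply H.finish
  set Q := E ⊓ P with hQ
  have hQi : AInv F E Q := aInv_inf H.hP H.hES
  have hQE : Q ≤ E := inf_le_left
  have hQP : Q ≤ P := inf_le_right
  have hQ'i : AInv F E ⁅Q, Q⁆ := hQi.commutator hQE
  have hQ'Q : ⁅Q, Q⁆ ≤ Q := commutator_self_le Q
  have hgQ' : ∀ y ∈ ⁅Q, Q⁆, g * y * g⁻¹ ∈ ⁅Q, Q⁆ := fun y hy => conj_commutator_mem (fun x hx => H.hgQ hx) hy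
  -- the derived subgroup is cyclic
  have hQ'le : ⁅Q, Q⁆ ≤ Subgroup.zpowers ((D.a : ↥P) : Ω) := by
    rw [Subgroup.commutator_le]
    intro x hx y hy
    have h1 := MC2.comm_mem_A D (⟨x, hQP hx⟩ : ↥P)⁻¹ ⟨y, hQP hy⟩
    obtain ⟨k, hk⟩ := Subgroup.mem_zpowers_iff.1 h1
    refine Subgroup.mem_zpowers_iff.2 ⟨k, ?_⟩
    have h2 := congrArg Subtype.val hk
    have e : ((D.a ^ k : ↥P) : Ω) = ((D.a : ↥P) : Ω) ^ k := rfl
    rw [← e, h2]
    show ((x : Ω)⁻¹)⁻¹ * (y * (x : Ω)⁻¹ * y⁻¹) = _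
    rw [commutatorElement_def]
    group
  have hgoodQ' : GoodC F E g ⁅Q, Q⁆ := by
    obtain ⟨c₀, hc₀⟩ := exists_zpowers_eq_of_le hQ'le
    have hc₀mem : c₀ ∈ ⁅Q, Q⁆ := by
      rw [hc₀]
      exact Subgroup.mem_zpowers _
    have h1 := hgQ' c₀ hc₀mem
    have h2 := hQE (hQ'Q hc₀mem)
    have h3 := hQ'i
    rw [hc₀] at h3 h1 ⊢
    exact goodC_zpowers H.hS h2 H.hES h3 H.hgN.1 h1
  -- the analysis in `↥P`
  let g' : ↥P := ⟨g, hgP⟩
  let L : Subgroup ↥P := Q.subgroupOf P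
  have hLmem : ∀ u : ↥P, u ∈ L ↔ (u : Ω) ∈ Q := fun u => Subgroup.mem_subgroupOf
  have hLmap : L.map P.subtype = Q := by
    ext z
    constructor
    · rintro ⟨u, hu, rfl⟩
      exact (hLmem u).1 hu
    · intro hz
      exact ⟨⟨z, hQP hz⟩, (hLmem _).2 hz, rfl⟩
  have hL' : ∀ u : ↥P, u ∈ ⁅L, L⁆ ↔ (u : Ω) ∈ ⁅Q, Q⁆ := by
    intro u
    have h1 : ⁅L, L⁆.map P.subtype = ⁅Q, Q⁆ := by
      rw [Subgroup.map_commutator, hLmap]
    rw [← h1]
    constructor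
    · intro hu
      exact ⟨u, hu, rfl⟩
    · rintro ⟨v, hv, hvu⟩
      have : v = u := Subtype.ext hvu
      rwa [← this]
  have hkey := MC2.key D (L := L) (g := g') (fun y hy => (hLmem _).2 (H.hgQ ((hLmem _).1 hy)))
    ((hLmem _).2 ⟨hg2, P.pow_mem hgP 2⟩) (by
      intro y q' hq' hya hy2 hcover hm2
      rcases exists_iso_of_index_two D.a y D.m q' hm2 D.hord hq' hya hy2 hcover with h | h | h
      · exact hd h
      · exact hq h
      · exact hsd h)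
  obtain ⟨N, hN⟩ := exists_exp H.hS
  rcases hkey with hA | ⟨x, w₀, α, c₀, ρ', hx, hw₀, hα, hgen, hx1, hx2, hw, hc, hρ⟩
  · refine goodC_of_abelian hgoodQ' hQ'Q hQE hQi hQ'i ?_ (fun x hx => H.hgQ hx) hgQ' ?_ N
      (fun x hx => hN x (H.hES (hQE hx)))
    · intro x hx y hy
      exact Subgroup.commutator_mem_commutator hx hy
    · intro x hx
      obtain ⟨z, hz, hzz⟩ := hA ⟨x, hQP hx⟩ ((hLmem _).2 hx)
      refine ⟨z, (hLmem _).1 hz, 1, Subgroup.one_mem _, ?_⟩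
      rw [mul_one]
      exact congrArg Subtype.val hzz
  · refine goodC_mixed (p := 2) hgoodQ' hQ'Q hQE hQi hQ'i ?_ (fun x hx => H.hgQ hx) hgQ' ((hLmem _).1 hx) ((hLmem _).1 hw₀) hα
      ?_ ((hL' _).1 hx1) (fun h => hx2 ((hL' _).2 h)) ((hL' _).1 hw) (congrArg Subtype.val hc) (congrArg Subtype.val hρ)
    · intro x hx y hy
      exact Subgroup.commutator_mem_commutator hx hy
    · intro y hy
      obtain ⟨n, k, hnk⟩ := hgen ⟨y, hQP hy⟩ ((hLmem _).2 hy)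
      exact ⟨n, k, congrArg Subtype.val hnk⟩

/-- S5235. -/
theorem mc2_main [Finite S] [Fact (Nat.Prime 2)] (hS : IsPGroup 2 S) (hF : F.IsSaturated 2) (hP : F.StronglyClosed P)
    (hmc : IsMetacyclic ↥P)
    (hd : ¬ ∃ m : ℕ, Nonempty (↥P ≃* DihedralGroup m)) (hq : ¬ ∃ m : ℕ, Nonempty (↥P ≃* QuaternionGroup m))
    (hsd : ¬ IsQuasiDihedral ↥P) : F.IsNormal P :=
  isNormal_of_stronglyClosed_le hS hF hP fun _ hC hR => mc2_le hS hP hmc hd hq hsd hC hR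

end Cfsg.Agent.H24
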