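import Mathlib
import Cfsg.Agent.Lib.H24.MCOdd
import Cfsg.Agent.Lib.H25.FocP5
import Cfsg.Agent.Lib.H25.FusInner

/-!
Saturated fusion systems over metacyclic `2`-groups (other than homocyclic, dihedral, semidihedral, quaternion)
are inner.
-/

set_option autoImplicit false
set_option linter.style.haveILetI false

namespace Cfsg.Agent.H24

open Cfsg Cfsg.FusionSystem Cfsg.Agent.H25

variable {Ω : Type*} [Group Ω] {S : Subgroup Ω} {F : FusionSystem S}

theorem mc2_inner [Finite S] (hS : IsPGroup 2 S) (hF : F.IsSaturated 2) (hm : IsMetacyclic ↥S)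
    (hh : ¬ ∃ n k : ℕ, Nonempty (↥S ≃* Multiplicative (Fin k → ZMod (2 ^ n))))
    (hd : ¬ ∃ m : ℕ, Nonempty (↥S ≃* DihedralGroup m)) (hq : ¬ ∃ m : ℕ, Nonempty (↥S ≃* QuaternionGroup m))
    (hsd : ¬ IsQuasiDihedral ↥S) : ∀ P : Subgroup Ω, F.Hom P = (innerFusionSystem S).Hom P := by
  haveI : Fact (Nat.Prime 2) := ⟨Nat.prime_two⟩
  have hSc : F.StronglyClosed S := stronglyClosed_top F
  have hnorm : F.IsNormal S :=
    isNormal_of_stronglyClosed_le hS hF hSc fun E hC hR => mc2_le hS hSc hm hd hq hsd hC hR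
  have hA : IsPGroup 2 (F.autGroup S) := by
    intro x
    obtain ⟨k, o, ho, hx⟩ := Nat.exists_eq_two_pow_mul_odd (orderOf_pos x).ne'
    refine ⟨k, ?_⟩
    have hy : orderOf (x ^ 2 ^ k) = o := by
      rw [orderOf_pow' x (by positivity), hx]
      have h1 : (2 ^ k * o).gcd (2 ^ k) = 2 ^ k := Nat.gcd_eq_right (Dvd.intro _ rfl)
      rw [h1]
      exact Nat.mul_div_cancel_left _ (by positivity)
    have h1 := mc2_odd_aut hS hm hh hq ((x ^ 2 ^ k : F.autGroup S) : MulAut S)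
      (by rw [Subgroup.orderOf_coe, hy]; exact ho)
    exact Subtype.ext h1
  have hinn : ∀ a, Iso F S S a → ∃ s ∈ S, ∀ x ∈ S, a x = s * x * s⁻¹ := fun a hI =>
    inner_of_top_pgroup hS hF hA hI
  intro P
  apply Set.Subset.antisymm
  · intro φ hφ
    have hP : P ≤ S := (mp_of_mem hφ).le
    obtain ⟨ψ, hψ, hψφ, -⟩ := hnorm.2 P φ hφ
    have e : P ⊔ S = S := sup_eq_right.2 hP
    have hmp' : Mp F (P ⊔ S) (toFun ψ) := mp_of_mem hψ
    have key : ∀ {R : Subgroup Ω} {f : Ω → Ω}, R = S → Mp F R f → Mp F S f := by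
      rintro R f rfl h
      exact h
    have hmp : Mp F S (toFun ψ) := key e hmp'
    have hI : Iso F S S (toFun ψ) := Iso.of_maps hmp (fun x hx => hmp.mem hx)
    obtain ⟨s, hs, hsv⟩ := hinn _ hI
    refine ⟨hP, s, hs, fun x => ?_⟩
    have h1 := toFun_coe ψ (Subgroup.inclusion le_sup_left x)
    rw [← hψφ x, ← h1, hsv ((Subgroup.inclusion le_sup_left x : ↥(P ⊔ S)) : Ω) (hP x.2)]
    rfl
  · intro φ hφ
    exact inner_le (F := F) le_rfl P hφ

end Cfsg.Agent.H24
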