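import Mathlib
import Cfsg.Agent.Lib.H24.EssA
import Cfsg.Agent.Lib.H19.MaxClass

/-!
Essential subgroups of order `p⁴`: invariant flags are impossible.
-/

set_option autoImplicit false
set_option linter.style.haveILetI false

namespace Cfsg.Agent.H24
namespace Ord4

variable {X : Type*} [Group X] {p : ℕ}

/-- One step in the staircase. -/
theorem stab_pow (U T : Subgroup X) [T.Normal] (hTU : T ≤ U) (b : MulAut X) (h1 : ∀ x, b x * x⁻¹ ∈ U)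
    (h2 : ∀ u ∈ U, b u * u⁻¹ ∈ T) (h3 : ∀ u ∈ U, u ^ p ∈ T) (x : X) : (b ^ p) x * x⁻¹ ∈ T := by
  obtain ⟨d, hd⟩ : ∃ d, d = b x * x⁻¹ := ⟨_, rfl⟩
  have hdU : d ∈ U := hd ▸ h1 x
  have hbd : ((b d : X) : X ⧸ T) = (d : X ⧸ T) := mk_eq_of_mul_inv_mem T (h2 d hdU)
  have hbT : ∀ t ∈ T, b t ∈ T := by
    intro t ht
    have := T.mul_mem (h2 t (hTU ht)) ht
    simpa using this
  have hbx : ((b x : X) : X ⧸ T) = (d : X ⧸ T) * (x : X ⧸ T) := by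
    rw [← QuotientGroup.mk_mul, hd]
    congr 1
    group
  have hj : ∀ j : ℕ, (((b ^ j) x : X) : X ⧸ T) = (d : X ⧸ T) ^ j * (x : X ⧸ T) := by
    intro j
    induction j with
    | zero => simp
    | succ j ih =>
      have e : ((b ^ j) x : X) * (d ^ j * x)⁻¹ ∈ T := by
        apply mul_inv_mem_of_mk_eq
        rw [ih, QuotientGroup.mk_mul, QuotientGroup.mk_pow]
      obtain ⟨t, ht, hte⟩ : ∃ t ∈ T, (b ^ j) x = t * (d ^ j * x) :=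
        ⟨_, e, by group⟩
      rw [pow_succ', MulAut.mul_apply, hte, map_mul, map_mul, map_pow]
      rw [QuotientGroup.mk_mul, QuotientGroup.mk_mul, QuotientGroup.mk_pow, hbd, hbx]
      have ht1 : ((b t : X) : X ⧸ T) = 1 := (QuotientGroup.eq_one_iff _).2 (hbT t ht)
      rw [ht1, one_mul, pow_succ, mul_assoc]
  apply mul_inv_mem_of_mk_eq
  rw [hj p, ← QuotientGroup.mk_pow]
  have : ((d ^ p : X) : X ⧸ T) = 1 := (QuotientGroup.eq_one_iff _).2 (h3 d hdU)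
  rw [this, one_mul]

variable {A : Subgroup (MulAut X)}

/-- The automorphisms in `A` which move `U` into `T` (modulo the right-hand factor). -/
def layer (A : Subgroup (MulAut X)) (U T : Subgroup X) (hU : ∀ γ ∈ A, ∀ x ∈ U, γ x ∈ U) :
    Subgroup (MulAut X) where
  carrier := {α | α ∈ A ∧ ∀ u ∈ U, α u * u⁻¹ ∈ T}
  mul_mem' := by
    rintro a b ⟨haA, ha⟩ ⟨hbA, hb⟩
    refine ⟨A.mul_mem haA hbA, ?_⟩
    intro u hu
    have e : (a * b) u * u⁻¹ = a (b u) * (b u)⁻¹ * (b u * u⁻¹) := by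
      show a (b u) * u⁻¹ = _
      group
    rw [e]
    exact T.mul_mem (ha _ (hU b hbA u hu)) (hb u hu)
  one_mem' := by
    refine ⟨A.one_mem, ?_⟩
    intro u _
    show u * u⁻¹ ∈ _
    simp [T.one_mem]
  inv_mem' := by
    rintro a ⟨haA, ha⟩
    refine ⟨A.inv_mem haA, ?_⟩
    intro u hu
    have hinv : a (a⁻¹ u) = u := by
      show a (a.symm u) = u
      simp
    have h3 := ha (a⁻¹ u) (hU _ (A.inv_mem haA) u hu)
    rw [hinv] at h3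
    have h4 := T.inv_mem h3
    simpa using h4

theorem mem_layer {U T : Subgroup X} {hU : ∀ γ ∈ A, ∀ x ∈ U, γ x ∈ U} {α : MulAut X} :
    α ∈ layer A U T hU ↔ α ∈ A ∧ ∀ u ∈ U, α u * u⁻¹ ∈ T := Iff.rfl

theorem layer_conj {U T : Subgroup X} {hU : ∀ γ ∈ A, ∀ x ∈ U, γ x ∈ U}
    (hT : ∀ γ ∈ A, ∀ x ∈ T, γ x ∈ T) {γ n : MulAut X} (hγ : γ ∈ A) (hn : n ∈ layer A U T hU) :
    γ * n * γ⁻¹ ∈ layer A U T hU := by
  refine ⟨A.mul_mem (A.mul_mem hγ hn.1) (A.inv_mem hγ), ?_⟩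
  intro u hu
  have e1 : γ (γ⁻¹ u) = u := by
    show γ (γ.symm u) = u
    simp
  have e : (γ * n * γ⁻¹) u * u⁻¹ = γ (n (γ⁻¹ u) * (γ⁻¹ u)⁻¹) := by
    rw [map_mul, map_inv, e1]
    rfl
  rw [e]
  exact hT γ hγ _ (hn.2 _ (hU _ (A.inv_mem hγ) u hu))

theorem map_eq_of_inv (M : Subgroup X) (hM : ∀ γ ∈ A, ∀ x ∈ M, γ x ∈ M) {α : MulAut X} (hα : α ∈ A) :
    M.map α.toMonoidHom = M := by
  apply le_antisymm
  · rintro _ ⟨y, hy, rfl⟩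
    exact hM α hα y hy
  · intro y hy
    refine ⟨α⁻¹ y, hM _ (A.inv_mem hα) y hy, ?_⟩
    show α (α.symm y) = y
    simp

/-- A complete flag of invariant subgroups is impossible. -/
theorem EssData.flag [Finite X] [Fact p.Prime] (hd : EssData p A) (M₁ M₂ M₃ : Subgroup X)
    [M₁.Normal] [M₂.Normal] [M₃.Normal] (h12 : M₁ ≤ M₂) (h23 : M₂ ≤ M₃)
    (h₁ : ∀ γ ∈ A, ∀ x ∈ M₁, γ x ∈ M₁) (h₂ : ∀ γ ∈ A, ∀ x ∈ M₂, γ x ∈ M₂)
    (h₃ : ∀ γ ∈ A, ∀ x ∈ M₃, γ x ∈ M₃)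
    (hc₁ : Nat.card M₁ = p) (hc₂ : Nat.card M₂ = p ^ 2) (hc₃ : Nat.card M₃ = p ^ 3)
    (hc : Nat.card X = p ^ 4) : False := by
  have hp := (Fact.out : p.Prime)
  have hpos := hp.pos
  have htop : ∀ γ ∈ A, ∀ x ∈ (⊤ : Subgroup X), γ x ∈ (⊤ : Subgroup X) := fun _ _ _ _ => trivial
  -- sections
  have hs23 : Nat.card (M₃.map (QuotientGroup.mk' M₂)) = p := by
    have h := Cfsg.Agent.H19.card_map_mk_mul_card (Z := M₂) h23
    rw [hc₂, hc₃] at h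
    have h' : Nat.card (M₃.map (QuotientGroup.mk' M₂)) * p ^ 2 = p * p ^ 2 := by rw [h]; ring
    exact Nat.eq_of_mul_eq_mul_right (pow_pos hpos 2) h'
  have hs12 : Nat.card (M₂.map (QuotientGroup.mk' M₁)) = p := by
    have h := Cfsg.Agent.H19.card_map_mk_mul_card (Z := M₁) h12
    rw [hc₁, hc₂] at h
    have h' : Nat.card (M₂.map (QuotientGroup.mk' M₁)) * p = p * p := by rw [h]; ring
    exact Nat.eq_of_mul_eq_mul_right hpos h'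
  have hi3 : M₃.index = p := by
    have h := Subgroup.card_mul_index M₃
    rw [hc₃, hc] at h
    have h' : p ^ 3 * M₃.index = p ^ 3 * p := by rw [h]; ring
    exact Nat.eq_of_mul_eq_mul_left (pow_pos hpos 3) h'
  -- powers
  have hpow23 : ∀ u ∈ M₃, u ^ p ∈ M₂ := by
    intro u hu
    rw [← QuotientGroup.eq_one_iff, QuotientGroup.mk_pow]
    have h := pow_card_eq_one' (G := M₃.map (QuotientGroup.mk' M₂)) (x := ⟨(u : X ⧸ M₂), u, hu, rfl⟩)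
    rw [hs23] at h
    exact congrArg Subtype.val h
  have hpow12 : ∀ u ∈ M₂, u ^ p ∈ M₁ := by
    intro u hu
    rw [← QuotientGroup.eq_one_iff, QuotientGroup.mk_pow]
    have h := pow_card_eq_one' (G := M₂.map (QuotientGroup.mk' M₁)) (x := ⟨(u : X ⧸ M₁), u, hu, rfl⟩)
    rw [hs12] at h
    exact congrArg Subtype.val h
  have hpow1 : ∀ u ∈ M₁, u ^ p = 1 := by
    intro u hu
    have h := pow_card_eq_one' (G := M₁) (x := ⟨u, hu⟩)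
    rw [hc₁] at h
    exact congrArg Subtype.val h
  let K : Subgroup (MulAut X) :=
    layer A ⊤ M₃ htop ⊓ layer A M₃ M₂ h₃ ⊓ layer A M₂ M₁ h₂ ⊓ layer A M₁ ⊥ h₁
  have hbot : ∀ γ ∈ A, ∀ x ∈ (⊥ : Subgroup X), γ x ∈ (⊥ : Subgroup X) := by
    intro γ _ x hx
    rw [Subgroup.mem_bot] at hx ⊢
    rw [hx, map_one]
  have hKA : K ≤ A := fun a ha => ha.2.1
  have hKn : ∀ γ ∈ A, ∀ n ∈ K, γ * n * γ⁻¹ ∈ K := by
    rintro γ hγ n ⟨⟨⟨h4, h5⟩, h6⟩, h7⟩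
    exact ⟨⟨⟨layer_conj h₃ hγ h4, layer_conj h₂ hγ h5⟩, layer_conj h₁ hγ h6⟩, layer_conj hbot hγ h7⟩
  have hKp : IsPGroup p K := by
    rintro ⟨a, ha⟩
    obtain ⟨⟨⟨h4, h5⟩, h6⟩, h7⟩ := ha
    have s₁ : ∀ x, (a ^ p) x * x⁻¹ ∈ M₂ :=
      stab_pow M₃ M₂ h23 a (fun x => h4.2 x trivial) h5.2 hpow23
    have s₂ : ∀ x, ((a ^ p) ^ p) x * x⁻¹ ∈ M₁ :=
      stab_pow M₂ M₁ h12 (a ^ p) s₁ (Subgroup.pow_mem _ h6 p).2 hpow12
    have s₃ : ∀ x, (((a ^ p) ^ p) ^ p) x * x⁻¹ ∈ (⊥ : Subgroup X) :=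
      stab_pow M₁ ⊥ bot_le ((a ^ p) ^ p) s₂ (Subgroup.pow_mem _ (Subgroup.pow_mem _ h7 p) p).2
        (fun u hu => by rw [Subgroup.mem_bot]; exact hpow1 u hu)
    refine ⟨3, Subtype.ext ?_⟩
    show a ^ (p ^ 3) = 1
    have e : a ^ (p ^ 3) = ((a ^ p) ^ p) ^ p := by
      rw [← pow_mul, ← pow_mul]
      congr 1
      ring
    rw [e]
    ext x
    have := s₃ x
    rw [Subgroup.mem_bot, mul_inv_eq_one] at this
    exact this
  have hKI := hd.normal_inner K hKA hKn hKp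
  obtain ⟨α, hαA, ⟨k, hk⟩, hαI⟩ := hd.exists_elt
  apply hαI
  apply hKI
  refine ⟨⟨⟨⟨hαA, fun x _ => ?_⟩, ⟨hαA, ?_⟩⟩, ⟨hαA, ?_⟩⟩, ⟨hαA, ?_⟩⟩
  · exact triv_of_pelt M₃ α (map_eq_of_inv M₃ h₃ hαA) k hk hi3 x
  · exact triv_of_pelt₂ M₂ M₃ h23 α (map_eq_of_inv M₂ h₂ hαA) (h₃ α hαA) k hk hs23
  · exact triv_of_pelt₂ M₁ M₂ h12 α (map_eq_of_inv M₁ h₁ hαA) (h₂ α hαA) k hk hs12
  · intro u hu
    have := fix_of_prime_card M₁ hc₁ α (h₁ α hαA) k hk u hu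
    rw [Subgroup.mem_bot, this, mul_inv_cancel]

end Ord4
end Cfsg.Agent.H24
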