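import Mathlib
import Cfsg.Agent.Lib.H24.Ord4A
import Cfsg.Agent.Lib.H24.Ess185
import Cfsg.Agent.Lib.H09.KSeq2

/-!
Essential subgroups of order `p⁴`: two generators force abelian.
-/

set_option autoImplicit false
set_option linter.style.haveILetI false

namespace Cfsg.Agent.H24
namespace Ord4

variable {X : Type*} [Group X] {p : ℕ}

theorem map_mem_comm (γ : MulAut X) {z : X} (hz : z ∈ commutator X) : γ z ∈ commutator X := by
  have h : (commutator X).Characteristic := inferInstance
  have hz' : z ∈ (commutator X).comap γ.toMonoidHom := by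
    rw [h.fixed γ]; exact hz
  exact hz'

theorem comm_mem (a b : X) : a * b * a⁻¹ * b⁻¹ ∈ commutator X := by
  rw [commutator_def]
  exact Subgroup.commutator_mem_commutator (Subgroup.mem_top _) (Subgroup.mem_top _)

theorem commute_of_comm_eq_one {a b : X} (h : a * b * a⁻¹ * b⁻¹ = 1) : a * b = b * a := by
  rw [mul_inv_eq_one, mul_inv_eq_iff_eq_mul] at h
  exact h

/-- A normal subgroup of prime order is central. -/
theorem central_of_card_prime [Finite X] [Fact p.Prime] (hX : IsPGroup p X) (M : Subgroup X) [M.Normal]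
    (hM : Nat.card M = p) : M ≤ Subgroup.center X := by
  have hp := (Fact.out : p.Prime)
  have hne : M ≠ ⊥ := by
    rintro rfl
    rw [Subgroup.card_bot] at hM
    exact hp.one_lt.ne hM
  have h1 := Cfsg.Agent.H09.normal_inf_center_ne_bot hX M hne
  have hd : Nat.card (M ⊓ Subgroup.center X : Subgroup X) ∣ p :=
    hM ▸ Subgroup.card_dvd_of_le inf_le_left
  rcases (Nat.dvd_prime hp).1 hd with h | h
  · exact absurd (Subgroup.card_eq_one.1 h) h1
  · have h2 : M ⊓ Subgroup.center X = M :=
      Subgroup.eq_of_le_of_card_ge inf_le_left (by rw [h, hM])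
    exact inf_eq_left.1 h2

theorem comm_words {Q : Type*} [Group Q] {A B F G : Q} (hAB : Commute A B) (hF : ∀ g, Commute F g)
    (hG : ∀ g, Commute G g) (i j k l : ℕ) : Commute (A ^ i * B ^ j * F) (A ^ k * B ^ l * G) := by
  refine Commute.mul_left (Commute.mul_left ?_ ?_) (hF _)
  · refine Commute.mul_right (Commute.mul_right ?_ ?_) ((hG _).symm)
    · exact (Commute.refl A).pow_pow i k
    · exact hAB.pow_pow i l
  · refine Commute.mul_right (Commute.mul_right ?_ ?_) ((hG _).symm)
    · exact hAB.symm.pow_pow j k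
    · exact (Commute.refl B).pow_pow j l

variable {A : Subgroup (MulAut X)}

/-- Two generators: the commutator subgroup can't have order `p`. -/
theorem EssData.not_comm_prime [Finite X] [Fact p.Prime] (hd : EssData p A) (hc : Nat.card X = p ^ 4)
    (hr : (frattini X).index = p ^ 2) (hC : Nat.card (commutator X) = p) : False := by
  classical
  have hp := (Fact.out : p.Prime)
  have hpos := hp.pos
  have hX := hd.hX
  have hCΦ : commutator X ≤ frattini X := Cfsg.Agent.H01.commutator_le_frattini_of_isPGroup hX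
  have hcΦ : Nat.card (frattini X) = p ^ 2 := by
    have h := Subgroup.card_mul_index (frattini X)
    rw [hc, hr] at h
    have h' : Nat.card (frattini X) * p ^ 2 = p ^ 2 * p ^ 2 := by rw [h]; ring
    exact Nat.eq_of_mul_eq_mul_right (pow_pos hpos 2) h'
  have hq : ∀ u v : X ⧸ commutator X, u * v = v * u := by
    intro u v
    obtain ⟨a, rfl⟩ := QuotientGroup.mk_surjective u
    obtain ⟨b, rfl⟩ := QuotientGroup.mk_surjective v
    rw [← QuotientGroup.mk_mul, ← QuotientGroup.mk_mul]
    apply mk_eq_of_mul_inv_mem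
    have e : a * b * (b * a)⁻¹ = a * b * a⁻¹ * b⁻¹ := by group
    rw [e]
    exact comm_mem a b
  let ψ : X →* X ⧸ commutator X := MonoidHom.mk' (fun x => ((x ^ p : X) : X ⧸ commutator X)) (by
    intro a b
    simp only [QuotientGroup.mk_pow, QuotientGroup.mk_mul]
    exact (show Commute (a : X ⧸ commutator X) b from hq _ _).mul_pow p)
  have hψ : ∀ x, ψ x = ((x ^ p : X) : X ⧸ commutator X) := fun x => rfl
  have hmem : ∀ x, x ∈ ψ.ker ↔ x ^ p ∈ commutator X := by
    intro x
    rw [MonoidHom.mem_ker, hψ, QuotientGroup.eq_one_iff]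
  have hsec : Nat.card ((frattini X).map (QuotientGroup.mk' (commutator X))) = p := by
    have h := Cfsg.Agent.H19.card_map_mk_mul_card (Z := commutator X) hCΦ
    rw [hC, hcΦ] at h
    have h' : Nat.card ((frattini X).map (QuotientGroup.mk' (commutator X))) * p = p * p := by
      rw [h]; ring
    exact Nat.eq_of_mul_eq_mul_right hpos h'
  have hrle : ψ.range ≤ (frattini X).map (QuotientGroup.mk' (commutator X)) := by
    rintro _ ⟨x, rfl⟩
    exact ⟨x ^ p, Cfsg.Agent.H01.pow_mem_frattini_of_isPGroup hX x, rfl⟩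
  have hrne : Nat.card ψ.range ≠ 1 := by
    intro h1
    have h2 := Subgroup.card_eq_one.1 h1
    have h3 : frattini X ≤ commutator X := by
      apply Cfsg.Agent.H01.frattini_le_of_comm_pow (p := p) _ le_rfl
      intro x
      rw [← QuotientGroup.eq_one_iff, ← Subgroup.mem_bot, ← h2]
      exact ⟨x, rfl⟩
    have h4 := Subgroup.card_le_of_le h3
    rw [hC, hcΦ] at h4
    have := hp.one_lt
    nlinarith
  have hrc : Nat.card ψ.range = p := by
    have hdv : Nat.card ψ.range ∣ p := hsec ▸ Subgroup.card_dvd_of_le hrle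
    exact ((Nat.dvd_prime hp).1 hdv).resolve_left hrne
  have hi : ψ.ker.index = p := by
    rw [Subgroup.index_ker, hrc]
  have hpp : ∀ x, ψ x ^ p = 1 := by
    intro x
    have h := pow_card_eq_one' (G := ψ.range) (x := ⟨ψ x, x, rfl⟩)
    rw [hrc] at h
    exact congrArg Subtype.val h
  have hΦ : frattini X ≤ ψ.ker := by
    apply Cfsg.Agent.H01.frattini_le_of_comm_pow (p := p)
    · intro c hc'
      rw [hmem]
      exact Subgroup.pow_mem _ hc' p
    · intro x
      rw [MonoidHom.mem_ker, map_pow]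
      exact hpp x
  refine EssData.chain hd ψ.ker hΦ ?_ hi hr
  intro γ _ x hx
  rw [hmem] at hx ⊢
  rw [← map_pow]
  exact map_mem_comm γ hx

/-- Central commutators: the class two case. -/
theorem class_two_comm_le [Finite X] [Fact p.Prime] (hX : IsPGroup p X) (hr : (frattini X).index = p ^ 2)
    (hZ : frattini X ≤ Subgroup.center X) {a b : X} (hab : a * b ≠ b * a) :
    Nat.card (commutator X) ≤ p := by
  classical
  have hp := (Fact.out : p.Prime)
  have hcen : ∀ φ ∈ frattini X, ∀ g : X, φ * g = g * φ := fun φ hφ g =>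
    (Subgroup.mem_center_iff.1 (hZ hφ) g).symm
  set z := b * a * b⁻¹ * a⁻¹ with hz
  have hzΦ : z ∈ frattini X := Cfsg.Agent.H01.commutator_le_frattini_of_isPGroup hX (comm_mem b a)
  have hzc : ∀ g : X, z * g = g * z := hcen z hzΦ
  have hz1 : z ≠ 1 := by
    intro h
    exact hab (commute_of_comm_eq_one h).symm
  have hconj : ∀ n : ℕ, b * a ^ n * b⁻¹ = z ^ n * a ^ n := by
    intro n
    induction n with
    | zero => simp
    | succ n ih =>
      calc b * a ^ (n + 1) * b⁻¹ = (b * a ^ n * b⁻¹) * (b * a * b⁻¹) := by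
            rw [pow_succ]
            group
        _ = z ^ n * a ^ n * (z * a) := by
            rw [ih, hz]
            group
        _ = z ^ n * (a ^ n * z) * a := by group
        _ = z ^ n * (z * a ^ n) * a := by rw [hzc (a ^ n)]
        _ = z ^ (n + 1) * a ^ (n + 1) := by
            rw [pow_succ z, pow_succ a]
            group
  have hzp : z ^ p = 1 := by
    have h1 := hconj p
    have h2 : b * a ^ p * b⁻¹ = a ^ p := by
      rw [← hcen _ (Cfsg.Agent.H01.pow_mem_frattini_of_isPGroup hX a) b]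
      group
    rw [h2] at h1
    have h3 : (1 : X) * a ^ p = z ^ p * a ^ p := by rw [one_mul]; exact h1
    exact (mul_right_cancel h3).symm
  have hzo : orderOf z = p := orderOf_eq_prime hzp hz1
  set N := Subgroup.zpowers z with hN
  have hNc : Nat.card N = p := by rw [hN, Nat.card_zpowers, hzo]
  haveI hNn : N.Normal := by
    constructor
    rintro _ ⟨k, rfl⟩ g
    have h1 : g * (fun k : ℤ => z ^ k) k * g⁻¹ = z ^ k := by
      have h2 : Commute g (z ^ k) := (Commute.zpow_right (show Commute g z from (hzc g).symm) k)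
      show g * z ^ k * g⁻¹ = z ^ k
      rw [h2.eq]
      group
    rw [h1]
    exact ⟨k, rfl⟩
  -- the Frattini quotient is elementary of order `p²`
  have hcq : Nat.card (X ⧸ frattini X) = p ^ 2 := hr
  have hcommq : ∀ u v : X ⧸ frattini X, u * v = v * u :=
    IsPGroup.commutative_of_card_eq_prime_sq hcq
  have hexpq : ∀ u : X ⧸ frattini X, u ^ p = 1 := by
    intro u
    obtain ⟨x, rfl⟩ := QuotientGroup.mk_surjective u
    rw [← QuotientGroup.mk_pow, QuotientGroup.eq_one_iff]
    exact Cfsg.Agent.H01.pow_mem_frattini_of_isPGroup hX x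
  have he1 : (a : X ⧸ frattini X) ≠ 1 := by
    rw [Ne, QuotientGroup.eq_one_iff]
    intro ha
    exact hab (hcen a ha b)
  have he2 : (b : X ⧸ frattini X) ∉ Subgroup.zpowers (a : X ⧸ frattini X) := by
    rintro ⟨k, hk⟩
    have h1 : (a ^ k : X) * b⁻¹ ∈ frattini X := by
      apply mul_inv_mem_of_mk_eq
      rw [QuotientGroup.mk_zpow]
      exact hk
    obtain ⟨φ, hφ⟩ : ∃ φ, φ = a ^ k * b⁻¹ := ⟨_, rfl⟩
    rw [← hφ] at h1
    have hb : b = φ⁻¹ * a ^ k := by rw [hφ]; group
    have hinv : φ⁻¹ ∈ frattini X := (frattini X).inv_mem h1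
    have h4 : a ^ k * a = a * a ^ k := ((Commute.refl a).zpow_left k).eq
    apply hab
    rw [hb]
    calc a * (φ⁻¹ * a ^ k) = (a * φ⁻¹) * a ^ k := by group
      _ = (φ⁻¹ * a) * a ^ k := by rw [hcen _ hinv a]
      _ = φ⁻¹ * (a * a ^ k) := by group
      _ = φ⁻¹ * (a ^ k * a) := by rw [h4]
      _ = φ⁻¹ * a ^ k * a := by group
  have hdec : ∀ x : X, ∃ (i j : ℕ) (φ : X), φ ∈ frattini X ∧ x = a ^ i * b ^ j * φ := by
    intro x
    obtain ⟨i, j, hij⟩ := elem_decomp hcq hcommq hexpq _ _ he1 he2 (x : X ⧸ frattini X)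
    refine ⟨i, j, (a ^ i * b ^ j)⁻¹ * x, ?_, by group⟩
    have h1 : (x : X ⧸ frattini X) = ((a ^ i * b ^ j : X) : X ⧸ frattini X) := by
      rw [hij, QuotientGroup.mk_mul, QuotientGroup.mk_pow, QuotientGroup.mk_pow]
    exact QuotientGroup.eq.1 h1.symm
  have hz1' : (z : X ⧸ N) = 1 := (QuotientGroup.eq_one_iff _).2 (Subgroup.mem_zpowers z)
  have hab' : Commute (a : X ⧸ N) (b : X ⧸ N) := by
    have e : b * a = z * (a * b) := by rw [hz]; group
    show (a : X ⧸ N) * b = b * a
    rw [← QuotientGroup.mk_mul, ← QuotientGroup.mk_mul, e, QuotientGroup.mk_mul N z, hz1', one_mul]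
  have hcq2 : ∀ φ ∈ frattini X, ∀ g : X ⧸ N, Commute (φ : X ⧸ N) g := by
    intro φ hφ g
    obtain ⟨g, rfl⟩ := QuotientGroup.mk_surjective g
    show (φ : X ⧸ N) * g = g * φ
    rw [← QuotientGroup.mk_mul, ← QuotientGroup.mk_mul, hcen φ hφ g]
  have hle : commutator X ≤ N := by
    rw [commutator_def, Subgroup.commutator_le]
    intro x _ y _
    rw [← QuotientGroup.eq_one_iff, commutatorElement_def]
    obtain ⟨i, j, φ, hφ, rfl⟩ := hdec x
    obtain ⟨k, l, ψ, hψ, rfl⟩ := hdec y
    have h1 := comm_words hab' (hcq2 φ hφ) (hcq2 ψ hψ) i j k l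
    simp only [QuotientGroup.mk_mul, QuotientGroup.mk_inv, QuotientGroup.mk_pow]
    rw [h1.eq]
    group
  have := Subgroup.card_le_of_le hle
  rwa [hNc] at this

end Ord4
end Cfsg.Agent.H24
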