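import Mathlib
import Cfsg.Agent.Lib.H24.Ord4B
import Cfsg.Agent.Lib.H24.Pearl4

/-!
Essential subgroups of order `p⁴`: two generators force abelian; abelian with three generators.
-/

set_option autoImplicit false
set_option linter.style.haveILetI false

namespace Cfsg.Agent.H24
namespace Ord4

variable {X : Type*} [Group X] {p : ℕ}

variable {A : Subgroup (MulAut X)}

theorem EssData.rank_two_comm [Finite X] [Fact p.Prime] (hd : EssData p A) (hc : Nat.card X = p ^ 4)
    (hr : (frattini X).index = p ^ 2) (a b : X) : a * b = b * a := by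
  classical
  by_contra hab
  have hp := (Fact.out : p.Prime)
  have hpos := hp.pos
  have h1p := hp.one_lt
  have hX := hd.hX
  set C := commutator X with hCdef
  have hCΦ : C ≤ frattini X := Cfsg.Agent.H01.commutator_le_frattini_of_isPGroup hX
  have hcΦ : Nat.card (frattini X) = p ^ 2 := by
    have h := Subgroup.card_mul_index (frattini X)
    rw [hc, hr] at h
    have h' : Nat.card (frattini X) * p ^ 2 = p ^ 2 * p ^ 2 := by rw [h]; ring
    exact Nat.eq_of_mul_eq_mul_right (pow_pos hpos 2) h'
  have hCne : C ≠ ⊥ := by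
    intro h
    have h1 := comm_mem a b
    rw [← hCdef, h, Subgroup.mem_bot] at h1
    exact hab (commute_of_comm_eq_one h1)
  have hCcard : Nat.card C = p ^ 2 := by
    have hdv : Nat.card C ∣ p ^ 2 := hcΦ ▸ Subgroup.card_dvd_of_le hCΦ
    obtain ⟨i, hi, hi2⟩ := (Nat.dvd_prime_pow hp).1 hdv
    interval_cases i
    · rw [pow_zero] at hi2
      exact absurd (Subgroup.card_eq_one.1 hi2) hCne
    · rw [pow_one] at hi2
      exact (EssData.not_comm_prime hd hc hr hi2).elim
    · exact hi2
  have hCeq : C = frattini X := Subgroup.eq_of_le_of_card_ge hCΦ (by rw [hCcard, hcΦ])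
  have hD := Cfsg.Agent.H09.normal_inf_center_ne_bot hX C hCne
  set D := C ⊓ Subgroup.center X with hDdef
  have hdvD : p ∣ Nat.card D := by
    obtain ⟨n, hn⟩ := IsPGroup.iff_card.1 (hX.to_subgroup D)
    have hn0 : n ≠ 0 := by
      rintro rfl
      rw [pow_zero] at hn
      exact hD (Subgroup.card_eq_one.1 hn)
    rw [hn]
    exact dvd_pow_self _ hn0
  obtain ⟨⟨t, htD⟩, hto⟩ := exists_prime_orderOf_dvd_card' p hdvD
  have hto' : orderOf t = p := by rwa [Subgroup.orderOf_mk] at hto
  have htC : t ∈ C := htD.1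
  have htZ : ∀ g, g * t = t * g := fun g => Subgroup.mem_center_iff.1 htD.2 g
  set N := Subgroup.zpowers t with hN
  have hNc : Nat.card N = p := by rw [hN, Nat.card_zpowers, hto']
  have hNC : N ≤ C := by
    rw [hN, Subgroup.zpowers_le]
    exact htC
  have hNcen : ∀ n ∈ N, ∀ g : X, g * n = n * g := by
    rintro _ ⟨k, rfl⟩ g
    exact ((show Commute g t from htZ g).zpow_right k).eq
  haveI hNn : N.Normal := by
    constructor
    intro n hn g
    have : g * n * g⁻¹ = n := by
      rw [hNcen n hn g]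
      group
    rwa [this]
  have hsec : Nat.card (C.map (QuotientGroup.mk' N)) = p := by
    have h := Cfsg.Agent.H19.card_map_mk_mul_card (Z := N) hNC
    rw [hNc, hCcard] at h
    have h' : Nat.card (C.map (QuotientGroup.mk' N)) * p = p * p := by rw [h]; ring
    exact Nat.eq_of_mul_eq_mul_right hpos h'
  have hXq : IsPGroup p (X ⧸ N) := hX.to_quotient N
  haveI hCbn : (C.map (QuotientGroup.mk' N)).Normal :=
    Subgroup.Normal.map inferInstance _ (QuotientGroup.mk'_surjective N)
  have hcen := central_of_card_prime hXq (C.map (QuotientGroup.mk' N)) hsec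
  have hcomN : ∀ x : X, ∀ c ∈ C, x * c * x⁻¹ * c⁻¹ ∈ N := by
    intro x c hc
    have h1 : ((c : X) : X ⧸ N) ∈ Subgroup.center (X ⧸ N) := hcen ⟨c, hc, rfl⟩
    have h2 := Subgroup.mem_center_iff.1 h1 (x : X ⧸ N)
    rw [← QuotientGroup.mk_mul, ← QuotientGroup.mk_mul] at h2
    have h3 := mul_inv_mem_of_mk_eq N h2
    have e : x * c * (c * x)⁻¹ = x * c * x⁻¹ * c⁻¹ := by group
    rwa [e] at h3
  have hCab : ∀ u : C, ∀ v : C, u * v = v * u := IsPGroup.commutative_of_card_eq_prime_sq hCcard
  obtain ⟨c, hcC, hcN⟩ : ∃ c ∈ C, c ∉ N := by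
    apply SetLike.not_le_iff_exists.1
    intro hle
    have := Subgroup.card_le_of_le hle
    rw [hCcard, hNc] at this
    nlinarith
  set M := Subgroup.centralizer (C : Set X) with hM
  have hMc : M = Subgroup.centralizer ({c} : Set X) := by
    apply le_antisymm
    · intro g hg
      rw [Subgroup.mem_centralizer_iff] at hg ⊢
      intro h hh
      rw [Set.mem_singleton_iff] at hh
      rw [hh]
      exact hg c hcC
    · intro g hg
      rw [Subgroup.mem_centralizer_iff] at hg ⊢
      intro w hw
      have hgc : c * g = g * c := hg c rfl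
      have hcb : (⟨(c : X ⧸ N), c, hcC, rfl⟩ : C.map (QuotientGroup.mk' N)) ≠ 1 := by
        intro h
        have h2 := congrArg Subtype.val h
        exact hcN ((QuotientGroup.eq_one_iff _).1 h2)
      obtain ⟨k, hk⟩ := mem_zpowers_of_prime_card hsec hcb
        (g' := (⟨(w : X ⧸ N), w, hw, rfl⟩ : C.map (QuotientGroup.mk' N)))
      have hk' := congrArg Subtype.val hk
      have hk2 : ((c ^ k : X) : X ⧸ N) = (w : X ⧸ N) := by
        rw [QuotientGroup.mk_zpow]
        exact hk'
      have h3 := QuotientGroup.eq.1 hk2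
      obtain ⟨n, hn⟩ : ∃ n, n = (c ^ k)⁻¹ * w := ⟨_, rfl⟩
      rw [← hn] at h3
      have hw2 : w = c ^ k * n := by rw [hn]; group
      rw [hw2]
      have h4 : Commute (c ^ k) g := (show Commute c g from hgc).zpow_left k
      have h5 : Commute n g := (hNcen n h3 g).symm
      exact (h4.mul_left h5).eq
  have hbound := Cfsg.Agent.H19.card_le_mul_inf_centralizer (⊤ : Subgroup X) N c
    (fun g _ => hcomN g c hcC)
  rw [top_inf_eq, ← hMc, Subgroup.card_top, hc, hNc] at hbound
  have hMtop : M ≠ ⊤ := by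
    intro htop
    have hZ : frattini X ≤ Subgroup.center X := by
      rw [← hCeq]
      intro u hu
      rw [Subgroup.mem_center_iff]
      intro g
      have hg : g ∈ M := by rw [htop]; trivial
      exact (Subgroup.mem_centralizer_iff.1 hg) u hu |>.symm
    have h1 := class_two_comm_le hX hr hZ hab
    rw [← hCdef, hCcard] at h1
    nlinarith
  have hMle : p * Nat.card M ≤ p ^ 4 := by
    have := Pearl.card_mul_le_of_lt hX (le_top : M ≤ ⊤) hMtop
    rwa [Subgroup.card_top, hc] at this
  have hMcard : Nat.card M = p ^ 3 := by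
    have h1 : p * p ^ 3 ≤ p * Nat.card M := by
      calc p * p ^ 3 = p ^ 4 := by ring
        _ ≤ _ := hbound
    have h2 : p * Nat.card M ≤ p * p ^ 3 := by
      calc _ ≤ p ^ 4 := hMle
        _ = _ := by ring
    exact Nat.eq_of_mul_eq_mul_left hpos (le_antisymm h2 h1)
  have hi : M.index = p := by
    have h := Subgroup.card_mul_index M
    rw [hMcard, hc] at h
    have h' : p ^ 3 * M.index = p ^ 3 * p := by rw [h]; ring
    exact Nat.eq_of_mul_eq_mul_left (pow_pos hpos 3) h'
  have hΦM : frattini X ≤ M := by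
    rw [← hCeq]
    intro u hu
    rw [Subgroup.mem_centralizer_iff]
    intro w hw
    exact congrArg Subtype.val (hCab ⟨w, hw⟩ ⟨u, hu⟩)
  refine EssData.chain hd M hΦM ?_ hi hr
  intro γ _ x hx
  rw [Subgroup.mem_centralizer_iff] at hx ⊢
  intro w hw
  have e1 : γ (γ⁻¹ w) = w := by
    show γ (γ.symm w) = w
    simp
  have h1 := hx (γ⁻¹ w) (map_mem_comm γ⁻¹ hw)
  have h2 := congrArg γ h1
  rwa [map_mul, map_mul, e1] at h2

end Ord4
end Cfsg.Agent.H24
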