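import Mathlib
import Cfsg.Agent.Lib.H24.Ord4C

/-!
Abelian groups of order `p⁴` with Frattini subgroup of order `p`.
-/

set_option autoImplicit false
set_option linter.style.haveILetI false

namespace Cfsg.Agent.H24
namespace Ord4

variable {X : Type*} [Group X] {p : ℕ}

theorem mem_of_pow_mem' (hp : p.Prime) (N : Subgroup X) {v : X} (hv : v ^ p = 1) {e : ℕ} (he : ¬ p ∣ e)
    (hve : v ^ e ∈ N) : v ∈ N := by
  have hco : Nat.Coprime e p := ((Nat.Prime.coprime_iff_not_dvd hp).2 he).symm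
  obtain ⟨m, -, hm⟩ := Nat.exists_mul_mod_eq_one_of_coprime hco hp.one_lt
  have h1 : v ^ (e * m) = v := by
    rw [pow_eq_pow_mod (e * m) hv, hm, pow_one]
  rw [← h1, pow_mul]
  exact N.pow_mem hve m

theorem mem_of_zpow_mem' (hp : p.Prime) (N : Subgroup X) {v : X} (hv : v ^ p = 1) {k : ℤ}
    (hk : ¬ (p : ℤ) ∣ k) (hve : v ^ k ∈ N) : v ∈ N := by
  have hcop : IsCoprime k (p : ℤ) :=
    (((Nat.prime_iff_prime_int.1 hp).coprime_iff_not_dvd).2 hk).symm
  obtain ⟨m, n, hmn⟩ := hcop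
  have hvz : v ^ (p : ℤ) = 1 := by
    rw [zpow_natCast]
    exact hv
  have h1 : v = (v ^ k) ^ m := by
    calc v = v ^ (m * k + n * p) := by rw [hmn, zpow_one]
      _ = (v ^ k) ^ m * (v ^ (p : ℤ)) ^ n := by
        rw [zpow_add, mul_comm m k, zpow_mul, mul_comm n, zpow_mul]
      _ = _ := by rw [hvz, one_zpow, mul_one]
  rw [h1]
  exact N.zpow_mem hve m

/-- The abelian group `C_{p²} × C_p × C_p`. -/
theorem abelian_iso [Finite X] [Fact p.Prime] (hX : IsPGroup p X) (hcomm : ∀ a b : X, a * b = b * a)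
    (hc : Nat.card X = p ^ 4) (hΦc : Nat.card (frattini X) = p) :
    Nonempty (X ≃* Multiplicative (ZMod (p ^ 2) × ZMod p × ZMod p)) := by
  classical
  have hp := (Fact.out : p.Prime)
  have hpos := hp.pos
  have h1p := hp.one_lt
  letI iC : CommGroup X := { (inferInstance : Group X) with mul_comm := hcomm }
  have hpowΦ : ∀ u ∈ frattini X, u ^ p = 1 := by
    intro u hu
    have h := pow_card_eq_one' (G := frattini X) (x := ⟨u, hu⟩)
    rw [hΦc] at h
    exact congrArg Subtype.val h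
  obtain ⟨x, hx⟩ : ∃ x : X, x ^ p ≠ 1 := by
    by_contra hall
    push Not at hall
    have h1 : frattini X ≤ ⊥ := by
      apply Cfsg.Agent.H01.frattini_le_of_comm_pow (p := p)
      · rw [commutator_def, Subgroup.commutator_le]
        intro a _ b _
        rw [commutatorElement_def, mul_comm a b, Subgroup.mem_bot]
        simp
      · intro y
        rw [hall y]
        exact Subgroup.one_mem _
    have h2 := Subgroup.card_le_of_le h1
    rw [hΦc, Subgroup.card_bot] at h2
    omega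
  set ω := x ^ p with hω
  have hωΦ : ω ∈ frattini X := Cfsg.Agent.H01.pow_mem_frattini_of_isPGroup hX x
  have hωp : ω ^ p = 1 := hpowΦ ω hωΦ
  have hxp2 : x ^ (p ^ 2) = 1 := by
    rw [pow_two, pow_mul]
    exact hωp
  have hΦz : frattini X = Subgroup.zpowers ω := by
    symm
    apply Subgroup.eq_of_le_of_card_ge ((Subgroup.zpowers_le).2 hωΦ)
    rw [Nat.card_zpowers, orderOf_eq_prime hωp hx, hΦc]
  -- the kernel of the `p`-power map
  let P : X →* X := powMonoidHom p
  have hPr : P.range = frattini X := by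
    apply le_antisymm
    · rintro _ ⟨y, rfl⟩
      exact Cfsg.Agent.H01.pow_mem_frattini_of_isPGroup hX y
    · rw [hΦz, Subgroup.zpowers_le]
      exact ⟨x, rfl⟩
  have hΩ : ∀ y, y ∈ P.ker ↔ y ^ p = 1 := fun y => by
    rw [MonoidHom.mem_ker]
    rfl
  have hΩc : Nat.card P.ker = p ^ 3 := by
    have h1 := Subgroup.card_mul_index P.ker
    rw [Subgroup.index_ker, hPr, hΦc, hc] at h1
    have h2 : Nat.card P.ker * p = p ^ 3 * p := by rw [h1]; ring
    exact Nat.eq_of_mul_eq_mul_right hpos h2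
  -- choose `y`
  obtain ⟨y, hyΩ, hyΦ⟩ : ∃ y ∈ P.ker, y ∉ frattini X := by
    apply SetLike.not_le_iff_exists.1
    intro hle
    have := Subgroup.card_le_of_le hle
    rw [hΩc, hΦc] at this
    have h3 : p ^ 1 < p ^ 3 := Nat.pow_lt_pow_right h1p (by norm_num)
    rw [pow_one] at h3
    omega
  have hyp : y ^ p = 1 := (hΩ y).1 hyΩ
  set B := frattini X ⊔ Subgroup.zpowers y with hB
  have hBc : Nat.card B ≤ p ^ 2 := by
    have h1 : Nat.card (Subgroup.zpowers y) ≤ p := by
      rw [Nat.card_zpowers]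
      exact orderOf_le_of_pow_eq_one hpos hyp
    have h2 : (frattini X).relIndex (frattini X ⊔ Subgroup.zpowers y) = (frattini X).relIndex (Subgroup.zpowers y) :=
      Subgroup.relIndex_sup_left _ _
    have h3 : (frattini X).relIndex (Subgroup.zpowers y) ≤ Nat.card (Subgroup.zpowers y) :=
      Nat.le_of_dvd Nat.card_pos (Subgroup.relIndex_dvd_card _ _)
    have h4 := Subgroup.relIndex_mul_relIndex (⊥ : Subgroup X) (frattini X) B bot_le le_sup_left
    rw [Subgroup.relIndex_bot_left, Subgroup.relIndex_bot_left] at h4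
    rw [← h4, hΦc, hB, h2, pow_two]
    exact Nat.mul_le_mul_left p (h3.trans h1)
  obtain ⟨w, hwΩ, hwB⟩ : ∃ w ∈ P.ker, w ∉ B := by
    apply SetLike.not_le_iff_exists.1
    intro hle
    have := Subgroup.card_le_of_le hle
    rw [hΩc] at this
    have h3 : p ^ 2 < p ^ 3 := Nat.pow_lt_pow_right h1p (by norm_num)
    omega
  have hwp : w ^ p = 1 := (hΩ w).1 hwΩ
  -- the map
  let f₁ : ZMod (p ^ 2) →+ Additive X := ZMod.lift (p ^ 2) ⟨zmultiplesHom _ (Additive.ofMul x), by
    simp only [zmultiplesHom_apply]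
    norm_cast⟩
  let f₂ : ZMod p →+ Additive X := ZMod.lift p ⟨zmultiplesHom _ (Additive.ofMul y), by
    simp only [zmultiplesHom_apply]
    norm_cast⟩
  let f₃ : ZMod p →+ Additive X := ZMod.lift p ⟨zmultiplesHom _ (Additive.ofMul w), by
    simp only [zmultiplesHom_apply]
    norm_cast⟩
  let g : ZMod (p ^ 2) × ZMod p × ZMod p →+ Additive X := f₁.coprod (f₂.coprod f₃)
  let ι : Multiplicative (ZMod (p ^ 2) × ZMod p × ZMod p) →* X := AddMonoidHom.toMultiplicativeLeft g
  have hι : ∀ i j k : ℤ, ι (Multiplicative.ofAdd ((i : ZMod (p ^ 2)), (j : ZMod p), (k : ZMod p))) =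
      x ^ i * y ^ j * w ^ k := by
    intro i j k
    show Additive.toMul (g ((i : ZMod (p ^ 2)), (j : ZMod p), (k : ZMod p))) = _
    have e : g ((i : ZMod (p ^ 2)), (j : ZMod p), (k : ZMod p)) =
        f₁ (i : ZMod (p ^ 2)) + (f₂ (j : ZMod p) + f₃ (k : ZMod p)) := rfl
    rw [e, ZMod.lift_coe, ZMod.lift_coe, ZMod.lift_coe]
    simp only [zmultiplesHom_apply, toMul_add, toMul_zsmul, toMul_ofMul, mul_assoc]
  have hxo : orderOf x = p ^ 2 := by
    have := orderOf_eq_prime_pow (p := p) (n := 1) (x := x) (by rwa [pow_one]) hxp2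
    rwa [show 1 + 1 = 2 from rfl] at this
  have hωo : orderOf ω = p := orderOf_eq_prime hωp hx
  have hinj : Function.Injective ι := by
    rw [injective_iff_map_eq_one]
    intro q hq
    obtain ⟨⟨a, b, c⟩, rfl⟩ := Multiplicative.ofAdd.surjective q
    obtain ⟨i, rfl⟩ := ZMod.intCast_surjective a
    obtain ⟨j, rfl⟩ := ZMod.intCast_surjective b
    obtain ⟨k, rfl⟩ := ZMod.intCast_surjective c
    rw [hι] at hq
    -- the `p`-th power
    have h1 : ω ^ i = 1 := by
      have h2 := congrArg (fun u => u ^ p) hq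
      simp only [mul_pow, one_pow] at h2
      have e1 : (y ^ j) ^ p = 1 := by
        rw [← zpow_natCast, zpow_comm, zpow_natCast, hyp, one_zpow]
      have e2 : (w ^ k) ^ p = 1 := by
        rw [← zpow_natCast, zpow_comm, zpow_natCast, hwp, one_zpow]
      rw [e1, e2, mul_one, mul_one] at h2
      rw [hω, ← zpow_natCast, zpow_comm, zpow_natCast]
      exact h2
    obtain ⟨i', hi'⟩ : (p : ℤ) ∣ i := by
      have := orderOf_dvd_iff_zpow_eq_one.2 h1
      rwa [hωo] at this
    have hxi : x ^ i = ω ^ i' := by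
      rw [hi', hω, zpow_mul, zpow_natCast]
    have hxiΦ : x ^ i ∈ frattini X := by
      rw [hxi]
      exact Subgroup.zpow_mem _ hωΦ _
    have hxiB : x ^ i ∈ B := (le_sup_left : frattini X ≤ B) hxiΦ
    have hyjB : y ^ j ∈ B :=
      (le_sup_right : Subgroup.zpowers y ≤ B) (Subgroup.zpow_mem _ (Subgroup.mem_zpowers y) j)
    have hwk : w ^ k ∈ B := by
      have e : w ^ k = (x ^ i * y ^ j)⁻¹ := eq_inv_of_mul_eq_one_right hq
      rw [e]
      exact B.inv_mem (B.mul_mem hxiB hyjB)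
    have hk : (p : ℤ) ∣ k := by
      by_contra hd
      exact hwB (mem_of_zpow_mem' hp B hwp hd hwk)
    have hwk1 : w ^ k = 1 := by
      obtain ⟨k', rfl⟩ := hk
      rw [zpow_mul, zpow_natCast, hwp, one_zpow]
    rw [hwk1, mul_one] at hq
    have hyj : y ^ j ∈ frattini X := by
      have e : y ^ j = (x ^ i)⁻¹ := eq_inv_of_mul_eq_one_right hq
      rw [e]
      exact Subgroup.inv_mem _ hxiΦ
    have hj : (p : ℤ) ∣ j := by
      by_contra hd
      exact hyΦ (mem_of_zpow_mem' hp _ hyp hd hyj)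
    have hyj1 : y ^ j = 1 := by
      obtain ⟨j', rfl⟩ := hj
      rw [zpow_mul, zpow_natCast, hyp, one_zpow]
    rw [hyj1, mul_one] at hq
    have hi2 : ((p ^ 2 : ℕ) : ℤ) ∣ i := by
      have := orderOf_dvd_iff_zpow_eq_one.2 hq
      rwa [hxo] at this
    have e1 : ((i : ℤ) : ZMod (p ^ 2)) = 0 := (ZMod.intCast_zmod_eq_zero_iff_dvd i (p ^ 2)).2 hi2
    have e2 : ((j : ℤ) : ZMod p) = 0 := (ZMod.intCast_zmod_eq_zero_iff_dvd j p).2 hj
    have e3 : ((k : ℤ) : ZMod p) = 0 := (ZMod.intCast_zmod_eq_zero_iff_dvd k p).2 hk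
    rw [e1, e2, e3]
    rfl
  have hcard : Nat.card (Multiplicative (ZMod (p ^ 2) × ZMod p × ZMod p)) = Nat.card X := by
    rw [hc, Nat.card_congr Multiplicative.toAdd, Nat.card_prod, Nat.card_prod, Nat.card_zmod,
      Nat.card_zmod]
    ring
  have hbij := (Nat.bijective_iff_injective_and_card ι).2 ⟨hinj, hcard⟩
  exact ⟨(MulEquiv.ofBijective ι hbij).symm⟩

end Ord4
end Cfsg.Agent.H24
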