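import Mathlib
import Cfsg.Agent.Lib.H24.Ord4D
import Cfsg.Agent.Lib.H24.GES2

/-!
Essential subgroups of order `p⁴`: three generators, nonabelian.
-/

set_option autoImplicit false
set_option linter.style.haveILetI false

namespace Cfsg.Agent.H24
namespace Ord4

open Cfsg
open scoped commutatorElement

variable {X : Type*} [Group X] [Finite X] {p : ℕ} [Fact p.Prime] {z : X}

/-- The centre has order `p²`, and elements decompose. -/
theorem center_decomp (hX : IsPGroup p X) (H : GEData p z) (hc : Nat.card X = p ^ 4) {a b : X}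
    (h : ¬ Commute a b) :
    (∀ g : X, ∃ c ∈ Subgroup.center X, ∃ j k : ℕ, g = c * b ^ j * a ^ k) ∧
      Nat.card (Subgroup.center X) = p ^ 2 := by
  have hp := (Fact.out : p.Prime)
  have hpos := hp.pos
  set Z₀ := Subgroup.zpowers z with hZ₀
  have hZc : Nat.card Z₀ = p := by rw [hZ₀, Nat.card_zpowers, H.ord]
  set Ca := Subgroup.centralizer ({a} : Set X) with hCa
  set Cb := Subgroup.centralizer ({b} : Set X) with hCb
  have memCa : ∀ g, g ∈ Ca ↔ Commute g a := by
    intro g
    rw [hCa, Subgroup.mem_centralizer_singleton_iff]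
    rfl
  have memCb : ∀ g, g ∈ Cb ↔ Commute g b := by
    intro g
    rw [hCb, Subgroup.mem_centralizer_singleton_iff]
    rfl
  have hb1 := Cfsg.Agent.H19.card_le_mul_inf_centralizer (⊤ : Subgroup X) Z₀ a
    (fun g _ => by
      have := H.comm g a
      rwa [commutatorElement_def] at this)
  have hb2 := Cfsg.Agent.H19.card_le_mul_inf_centralizer Ca Z₀ b
    (fun g _ => by
      have := H.comm g b
      rwa [commutatorElement_def] at this)
  rw [top_inf_eq, Subgroup.card_top, hc, hZc] at hb1
  rw [hZc] at hb2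
  set C₀ := Ca ⊓ Cb with hC₀
  have hCatop : Ca ≠ ⊤ := by
    intro he
    have : b ∈ Ca := by rw [he]; trivial
    exact h ((memCa b).1 this).symm
  have hl1 : p * Nat.card Ca ≤ p ^ 4 := by
    have := Pearl.card_mul_le_of_lt hX (le_top : Ca ≤ ⊤) hCatop
    rwa [Subgroup.card_top, hc] at this
  have hC₀ne : C₀ ≠ Ca := by
    intro he
    have h1 : a ∈ Ca := (memCa a).2 (Commute.refl a)
    rw [← he] at h1
    exact h ((memCb a).1 h1.2)
  have hl2 : p * Nat.card C₀ ≤ Nat.card Ca := Pearl.card_mul_le_of_lt hX inf_le_left hC₀ne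
  have hC₀card : Nat.card C₀ = p ^ 2 := by
    have h1 : p ^ 2 * Nat.card C₀ ≤ p ^ 2 * p ^ 2 := by
      calc p ^ 2 * Nat.card C₀ = p * (p * Nat.card C₀) := by ring
        _ ≤ p * Nat.card Ca := Nat.mul_le_mul_left p hl2
        _ ≤ p ^ 4 := hl1
        _ = _ := by ring
    have h2 : p ^ 2 * p ^ 2 ≤ p ^ 2 * Nat.card C₀ := by
      calc p ^ 2 * p ^ 2 = p ^ 4 := by ring
        _ ≤ p * Nat.card Ca := hb1
        _ ≤ p * (p * Nat.card C₀) := Nat.mul_le_mul_left p hb2
        _ = _ := by ring
    exact Nat.eq_of_mul_eq_mul_left (pow_pos hpos 2) (le_antisymm h1 h2)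
  have hC₀ab : ∀ u v : C₀, u * v = v * u := IsPGroup.commutative_of_card_eq_prime_sq hC₀card
  have hdec : ∀ g : X, ∃ c ∈ C₀, ∃ j k : ℕ, g = c * b ^ j * a ^ k := by
    intro g
    obtain ⟨k, c₁, hc₁, rfl⟩ := H.exists_split hp h g
    have h' : ¬ Commute b a := fun h1 => h h1.symm
    obtain ⟨j, c, hc', rfl⟩ := H.exists_split hp h' c₁
    refine ⟨c, ⟨(memCa c).2 hc', (memCb c).2 ?_⟩, j, k, rfl⟩
    have h2 : Commute (c * b ^ j * (b ^ j)⁻¹) b :=
      hc₁.mul_left ((Commute.refl b).pow_left j).inv_left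
    simpa using h2
  have hle : C₀ ≤ Subgroup.center X := by
    intro u hu
    rw [Subgroup.mem_center_iff]
    intro g
    obtain ⟨c, hcC, j, k, rfl⟩ := hdec g
    have h1 : c * u = u * c := congrArg Subtype.val (hC₀ab ⟨c, hcC⟩ ⟨u, hu⟩)
    have h2 : Commute u b := (memCb u).1 hu.2
    have h3 : Commute u a := (memCa u).1 hu.1
    have h4 : Commute (c * b ^ j * a ^ k) u :=
      Commute.mul_left (Commute.mul_left h1 (h2.pow_right j).symm) (h3.pow_right k).symm
    exact h4.eq
  have hge : Subgroup.center X ≤ C₀ := by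
    intro u hu
    refine ⟨(memCa u).2 ?_, (memCb u).2 ?_⟩
    · exact (Subgroup.mem_center_iff.1 hu a).symm
    · exact (Subgroup.mem_center_iff.1 hu b).symm
  have heq : C₀ = Subgroup.center X := le_antisymm hle hge
  refine ⟨?_, by rw [← heq, hC₀card]⟩
  intro g
  obtain ⟨c, hc', j, k, hg⟩ := hdec g
  exact ⟨c, hle hc', j, k, hg⟩

theorem map_mem_center (γ : MulAut X) {c : X} (hc : c ∈ Subgroup.center X) :
    γ c ∈ Subgroup.center X := by
  rw [Subgroup.mem_center_iff]
  intro g
  have e1 : γ (γ⁻¹ g) = g := by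
    show γ (γ.symm g) = g
    simp
  have h1 := Subgroup.mem_center_iff.1 hc (γ⁻¹ g)
  have h2 := congrArg γ h1
  rwa [map_mul, map_mul, e1] at h2

variable {A : Subgroup (MulAut X)}

/-- The odd case. -/
theorem EssData.odd_case (hd : EssData p A) (H : GEData p z) (hc : Nat.card X = p ^ 4)
    (hΦ : frattini X = Subgroup.zpowers z) (hp2 : p ≠ 2) (hZexp : ∀ c ∈ Subgroup.center X, c ^ p = 1)
    {a b : X} (h : ¬ Commute a b) :
    ∃ (E : Type) (_ : Group E) (_ : Finite E), IsExtraspecial p E ∧ Nat.card E = p ^ 3 ∧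
      (∀ x : E, x ^ p = 1) ∧ Nonempty (X ≃* E × Multiplicative (ZMod p)) := by
  classical
  have hp := (Fact.out : p.Prime)
  have hpos := hp.pos
  have hX := hd.hX
  obtain ⟨hdec, hZc⟩ := center_decomp hX H hc h
  by_cases hexp : ∀ w : X, w ^ p = 1
  · have hab : ∀ u v : X, Commute u b → Commute v b → Commute u v := by
      have key : ∀ u : X, Commute u b → ∃ c ∈ Subgroup.center X, ∃ j : ℕ, u = c * b ^ j := by
        intro u hu
        obtain ⟨c, hc', j, k, rfl⟩ := hdec u
        have hcb : Commute c b := Subgroup.mem_center_iff.1 hc' b |>.symm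
        have h1 : Commute (a ^ k) b := by
          have h2 : Commute ((c * b ^ j)⁻¹ * (c * b ^ j * a ^ k)) b :=
            Commute.mul_left (hcb.mul_left ((Commute.refl b).pow_left j)).inv_left hu
          have e : (c * b ^ j)⁻¹ * (c * b ^ j * a ^ k) = a ^ k := by group
          rwa [e] at h2
        have h2 : ⁅a, b⁆ ^ k = 1 := by
          rw [← H.comm_pow_left, commutatorElement_eq_one_iff_commute]
          exact h1
        have hk : p ∣ k := by
          by_contra hk
          exact h (commutatorElement_eq_one_iff_commute.1 (H.eq_one_of_pow hp (H.comm a b) hk h2))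
        obtain ⟨q, rfl⟩ := hk
        refine ⟨c, hc', j, ?_⟩
        rw [pow_mul, hexp a, one_pow, mul_one]
      intro u v hu hv
      obtain ⟨c, hc', j, rfl⟩ := key u hu
      obtain ⟨c₂, hc₂, j₂, rfl⟩ := key v hv
      have h1 : ∀ y, Commute c y := fun y => (Subgroup.mem_center_iff.1 hc' y).symm
      have h2 : ∀ y, Commute c₂ y := fun y => (Subgroup.mem_center_iff.1 hc₂ y).symm
      refine Commute.mul_left (h1 _) ?_
      refine Commute.mul_right (h2 _).symm ?_
      exact (Commute.refl b).pow_pow j j₂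
    obtain ⟨E, iE, A', iA, hext, hcardE, hexpE, hA, ⟨e⟩⟩ :=
      ge_extra hX H h (hexp b) hab (fun a' _ => hexp a') hexp
    have hfE : Finite E := Nat.finite_of_card_ne_zero (by rw [hcardE]; exact pow_ne_zero _ hp.ne_zero)
    have hfA : Finite A' := Finite.of_surjective (Prod.snd ∘ e) (Prod.snd_surjective.comp e.surjective)
    have hcA : Nat.card A' = p := by
      have h1 := Nat.card_congr e.toEquiv
      rw [Nat.card_prod, hc, hcardE] at h1
      have h2 : p ^ 3 * Nat.card A' = p ^ 3 * p := by rw [← h1]; ring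
      exact Nat.eq_of_mul_eq_mul_left (pow_pos hpos 3) h2
    have hcyc : IsCyclic A' := isCyclic_of_prime_card hcA
    have he₂ : Nonempty (Multiplicative (ZMod p) ≃* A') := by
      have key : ∀ n, Nat.card A' = n → Nonempty (Multiplicative (ZMod n) ≃* A') := by
        rintro _ rfl
        exact ⟨zmodCyclicMulEquiv hcyc⟩
      exact key p hcA
    obtain ⟨e₂⟩ := he₂
    refine ⟨E, iE, hfE, hext, hcardE, ?_, ⟨e.trans (MulEquiv.prodCongr (MulEquiv.refl E) e₂.symm)⟩⟩
    intro x
    have := Monoid.pow_exponent_eq_one x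
    rwa [hexpE] at this
  · exfalso
    push Not at hexp
    obtain ⟨w, hw⟩ := hexp
    let P : X →* X := MonoidHom.mk' (fun x => x ^ p) (H.pow_mul_odd hp hp2)
    have hP : ∀ x, P x = x ^ p := fun x => rfl
    have memΩ : ∀ x, x ∈ P.ker ↔ x ^ p = 1 := by
      intro x
      rw [MonoidHom.mem_ker, hP]
    have hrle : P.range ≤ Subgroup.zpowers z := by
      rintro _ ⟨x, rfl⟩
      exact H.pow x
    have hZ₀c : Nat.card (Subgroup.zpowers z) = p := by rw [Nat.card_zpowers, H.ord]
    have hrc : Nat.card P.range = p := by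
      have hdv : Nat.card P.range ∣ p := hZ₀c ▸ Subgroup.card_dvd_of_le hrle
      refine ((Nat.dvd_prime hp).1 hdv).resolve_left ?_
      intro h1
      have h2 := Subgroup.card_eq_one.1 h1
      have h3 : P w ∈ P.range := ⟨w, rfl⟩
      rw [h2, Subgroup.mem_bot] at h3
      exact hw h3
    have hΩc : Nat.card P.ker = p ^ 3 := by
      have h1 := Subgroup.card_mul_index P.ker
      rw [Subgroup.index_ker, hrc, hc] at h1
      have h2 : Nat.card P.ker * p = p ^ 3 * p := by rw [h1]; ring
      exact Nat.eq_of_mul_eq_mul_right hpos h2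
    have hZ₀Z : Subgroup.zpowers z ≤ Subgroup.center X := by
      intro u hu
      rw [Subgroup.mem_center_iff]
      intro g
      exact H.central hu g
    refine EssData.flag hd (frattini X) (Subgroup.center X) P.ker (hΦ ▸ hZ₀Z) ?_ ?_ ?_ ?_ ?_ hZc hΩc hc
    · intro c hc'
      rw [memΩ]
      exact hZexp c hc'
    · intro γ _ x hx
      exact map_mem_frattini γ hx
    · intro γ _ x hx
      exact map_mem_center γ hx
    · intro γ _ x hx
      rw [memΩ] at hx ⊢
      rw [← map_pow, hx, map_one]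
    · rw [hΦ, hZ₀c]

end Ord4
end Cfsg.Agent.H24
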