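import Mathlib
import Cfsg.Agent.Lib.H24.Ord4E
import Cfsg.Agent.Lib.H14.UniqueSub

/-!
Essential subgroups of order `16`: three generators, nonabelian.
-/

set_option autoImplicit false
set_option linter.style.haveILetI false

namespace Cfsg.Agent.H24
namespace Ord4

open Cfsg
open scoped commutatorElement

variable {X : Type*} [Group X] {z : X}

theorem mem_zp_two {v u : X} (hv : v ^ 2 = 1) (hu : u ∈ Subgroup.zpowers v) : u = 1 ∨ u = v := by
  obtain ⟨k, rfl⟩ := hu
  have hvz : v ^ (2 : ℤ) = 1 := by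
    rw [zpow_two, ← pow_two]
    exact hv
  rcases Int.even_or_odd' k with ⟨m, rfl | rfl⟩
  · left
    show v ^ (2 * m) = 1
    rw [zpow_mul, hvz, one_zpow]
  · right
    show v ^ (2 * m + 1) = v
    rw [zpow_add, zpow_mul, hvz, one_zpow, one_mul, zpow_one]

theorem sq_mul (H : GEData 2 z) (u v : X) : (u * v) ^ 2 = u ^ 2 * v ^ 2 * ⁅v, u⁆ := by
  have h1 := class2_pow u v ⁅v, u⁆ (by rw [commutatorElement_def]; group)
    (fun w => (H.comm_central v u w).symm) 2
  rwa [show Nat.choose 2 2 = 1 from rfl, pow_one] at h1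

theorem zp_eq (H : GEData 2 z) {u : X} (hu : u ∈ Subgroup.zpowers z) (hu1 : u ≠ 1) : u = z := by
  have hz2 : z ^ 2 = 1 := H.ord ▸ pow_orderOf_eq_one z
  exact (mem_zp_two hz2 hu).resolve_left hu1

theorem zpow_center (H : GEData 2 z) : Subgroup.zpowers z ≤ Subgroup.center X := by
  intro u hu
  rw [Subgroup.mem_center_iff]
  intro g
  exact H.central hu g

theorem z_ne_one (H : GEData 2 z) : z ≠ 1 := by
  intro h
  have := H.ord
  rw [h, orderOf_one] at this
  omega

variable [Finite X] [Fact (Nat.Prime 2)] {A : Subgroup (MulAut X)}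

/-- The dihedral-type case cannot occur. -/
theorem EssData.not_dihedral (hd : EssData 2 A) (H : GEData 2 z) (hc : Nat.card X = 2 ^ 4)
    (hΦ : frattini X = Subgroup.zpowers z) (hZexp : ∀ c ∈ Subgroup.center X, c ^ 2 = 1) {g₀ : X}
    (hg₀ : g₀ ∉ Subgroup.center X) (hg₀2 : g₀ ^ 2 = 1) : False := by
  classical
  have hX := hd.hX
  have hz1 := z_ne_one H
  have hz2 : z ^ 2 = 1 := H.ord ▸ pow_orderOf_eq_one z
  have hZ₀Z := zpow_center H
  have hcomz : ∀ u v : X, ¬ Commute v u → ⁅v, u⁆ = z := by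
    intro u v h
    exact zp_eq H (H.comm v u) (fun h1 => h (commutatorElement_eq_one_iff_commute.1 h1))
  -- a non-commuting element
  obtain ⟨h, hh⟩ : ∃ h, ¬ Commute h g₀ := by
    by_contra hall
    push Not at hall
    apply hg₀
    rw [Subgroup.mem_center_iff]
    exact hall
  -- normalising
  obtain ⟨h₁, hh₁2, hh₁c, hx₁2⟩ : ∃ h₁ : X, h₁ ^ 2 = 1 ∧ ¬ Commute h₁ g₀ ∧ (h₁ * g₀) ^ 2 = z := by
    have hτ : ⁅g₀, h⁆ = z := hcomz h g₀ (fun h1 => hh h1.symm)
    rcases mem_zp_two hz2 (H.pow h) with hs | hs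
    · refine ⟨h, hs, hh, ?_⟩
      rw [sq_mul H, hs, hg₀2, hτ]
      simp
    · refine ⟨h * g₀, ?_, ?_, ?_⟩
      · rw [sq_mul H, hs, hg₀2, hτ, mul_one, ← pow_two, hz2]
      · intro h1
        apply hh
        have h2 : Commute (h * g₀ * g₀⁻¹) g₀ := h1.mul_left (Commute.refl g₀).inv_left
        simpa using h2
      · rw [mul_assoc, ← pow_two, hg₀2, mul_one]
        exact hs
  obtain ⟨x₁, hx₁⟩ : ∃ x₁, x₁ = h₁ * g₀ := ⟨_, rfl⟩
  rw [← hx₁] at hx₁2
  obtain ⟨hdec, hZc⟩ := center_decomp hX H hc hh₁c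
  set P := Subgroup.zpowers x₁ ⊔ Subgroup.center X with hP
  have hcent : ∀ c ∈ Subgroup.center X, ∀ g : X, Commute c g := fun c hc' g =>
    (Subgroup.mem_center_iff.1 hc' g).symm
  have hP1 : ∀ g ∈ P, g ∈ Subgroup.center X ∨ g ^ 2 ≠ 1 := by
    intro g hg
    have hg' : g ∈ ((Subgroup.zpowers x₁ ⊔ Subgroup.center X : Subgroup X) : Set X) := hg
    rw [Subgroup.mul_normal] at hg'
    obtain ⟨y, ⟨i, hi⟩, u, hu, hgu⟩ := hg'
    have hyi : y = x₁ ^ i := hi.symm
    have hgu' : g = y * u := hgu.symm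
    rw [hgu']
    have hxz : x₁ ^ (2 : ℤ) = z := by
      rw [zpow_two, ← pow_two]
      exact hx₁2
    rcases Int.even_or_odd' i with ⟨m, hm | hm⟩
    · left
      rw [hyi, hm, zpow_mul, hxz]
      exact Subgroup.mul_mem _ (hZ₀Z (Subgroup.zpow_mem _ (Subgroup.mem_zpowers z) m)) hu
    · right
      have hzm : z ^ m ∈ Subgroup.center X := hZ₀Z (Subgroup.zpow_mem _ (Subgroup.mem_zpowers z) m)
      have e : y * u = x₁ * (z ^ m * u) := by
        rw [hyi, hm, zpow_add, zpow_mul, hxz, zpow_one, (hcent _ hzm x₁).eq, mul_assoc]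
      have hv : z ^ m * u ∈ Subgroup.center X := Subgroup.mul_mem _ hzm hu
      rw [e, (show Commute x₁ (z ^ m * u) from (hcent _ hv x₁).symm).mul_pow, hZexp _ hv, mul_one, hx₁2]
      exact hz1
  have hP2 : ∀ g, g ∈ Subgroup.center X ∨ g ^ 2 ≠ 1 → g ∈ P := by
    intro g hg
    rcases hg with hgc | hg2
    · exact (le_sup_right : Subgroup.center X ≤ P) hgc
    · obtain ⟨c, hc', j, k, rfl⟩ := hdec g
      have key : ∀ (v : X) (n : ℕ), v ^ 2 = 1 → v ^ n = 1 ∨ v ^ n = v := by
        intro v n hv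
        rcases Nat.even_or_odd' n with ⟨m, rfl | rfl⟩
        · left
          rw [pow_mul, hv, one_pow]
        · right
          rw [pow_add, pow_mul, hv, one_pow, one_mul, pow_one]
      rcases key g₀ j hg₀2 with hj | hj <;> rcases key h₁ k hh₁2 with hk | hk
      · rw [hj, hk, mul_one, mul_one]
        exact (le_sup_right : Subgroup.center X ≤ P) hc'
      · exfalso
        apply hg2
        rw [hj, hk, mul_one, (show Commute c h₁ from hcent c hc' h₁).mul_pow, hZexp c hc', hh₁2, one_mul]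
      · exfalso
        apply hg2
        rw [hj, hk, mul_one, (show Commute c g₀ from hcent c hc' g₀).mul_pow, hZexp c hc', hg₀2, one_mul]
      · rw [hj, hk]
        have e : c * g₀ * h₁ = (c * ⁅g₀, h₁⁆) * x₁ := by
          rw [hx₁, commutatorElement_def]
          group
        rw [e]
        refine P.mul_mem ((le_sup_right : Subgroup.center X ≤ P)
          (Subgroup.mul_mem _ hc' (hZ₀Z (H.comm g₀ h₁)))) ?_
        exact (le_sup_left : Subgroup.zpowers x₁ ≤ P) (Subgroup.mem_zpowers x₁)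
  have hx₁Z : x₁ ∉ Subgroup.center X := by
    intro h1
    have := hZexp x₁ h1
    rw [hx₁2] at this
    exact hz1 this
  have hx₁P : x₁ ∈ P := (le_sup_left : Subgroup.zpowers x₁ ≤ P) (Subgroup.mem_zpowers x₁)
  have hl1 : 2 * Nat.card (Subgroup.center X) ≤ Nat.card P := by
    apply Pearl.card_mul_le_of_lt hX (le_sup_right : Subgroup.center X ≤ P)
    intro he
    exact hx₁Z (he.ge hx₁P)
  have hl2 : 2 * Nat.card P ≤ Nat.card (⊤ : Subgroup X) := by
    apply Pearl.card_mul_le_of_lt hX le_top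
    intro he
    have h1 : g₀ ∈ P := by rw [he]; trivial
    rcases hP1 g₀ h1 with h2 | h2
    · exact hg₀ h2
    · exact h2 hg₀2
  rw [Subgroup.card_top, hc] at hl2
  rw [hZc] at hl1
  have hPc : Nat.card P = 2 ^ 3 := by omega
  haveI hPn : P.Normal := by
    constructor
    intro g hg x
    have e : x * g * x⁻¹ = ⁅x, g⁆ * g := by
      rw [commutatorElement_def]
      group
    rw [e]
    exact P.mul_mem ((le_sup_right : Subgroup.center X ≤ P) (hZ₀Z (H.comm x g))) hg
  refine EssData.flag hd (frattini X) (Subgroup.center X) P (hΦ ▸ hZ₀Z) le_sup_right ?_ ?_ ?_ ?_ hZc hPc hc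
  · intro γ _ x hx
    exact map_mem_frattini γ hx
  · intro γ _ x hx
    exact map_mem_center γ hx
  · intro γ _ x hx
    apply hP2
    rcases hP1 x hx with h1 | h1
    · exact Or.inl (map_mem_center γ h1)
    · right
      rw [← map_pow]
      intro h2
      apply h1
      exact (map_eq_one_iff γ γ.injective).1 h2
  · rw [hΦ, Nat.card_zpowers, H.ord]

/-- The quaternion case. -/
theorem quaternion_case (hX : IsPGroup 2 X) (H : GEData 2 z) (hc : Nat.card X = 2 ^ 4)
    (hZexp : ∀ c ∈ Subgroup.center X, c ^ 2 = 1)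
    (hQ : ∀ g, g ∉ Subgroup.center X → g ^ 2 ≠ 1) {a b : X} (h : ¬ Commute a b) :
    Nonempty (X ≃* QuaternionGroup 2 × Multiplicative (ZMod 2)) := by
  classical
  have hp2 : Nat.Prime 2 := Fact.out
  have hz1 := z_ne_one H
  have hz2 : z ^ 2 = 1 := H.ord ▸ pow_orderOf_eq_one z
  have hZ₀Z := zpow_center H
  obtain ⟨hdec, hZc⟩ := center_decomp hX H hc h
  have hZ₀c : Nat.card (Subgroup.zpowers z) = 2 := by rw [Nat.card_zpowers, H.ord]
  obtain ⟨c, hcZ, hcZ₀⟩ : ∃ c ∈ Subgroup.center X, c ∉ Subgroup.zpowers z := by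
    apply SetLike.not_le_iff_exists.1
    intro hle
    have := Subgroup.card_le_of_le hle
    rw [hZc, hZ₀c] at this
    omega
  have hc2 : c ^ 2 = 1 := hZexp c hcZ
  have hc1 : c ≠ 1 := by
    rintro rfl
    exact hcZ₀ (Subgroup.one_mem _)
  have hcent : ∀ u ∈ Subgroup.center X, ∀ g : X, Commute u g := fun u hu g =>
    (Subgroup.mem_center_iff.1 hu g).symm
  obtain ⟨M, hM⟩ := exists_M H a b
  have haM : a ∈ M := (hM a).2 ⟨1, 0, 0, by simp⟩
  have hbM : b ∈ M := (hM b).2 ⟨0, 1, 0, by simp⟩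
  have hzM : z ∈ M := (hM z).2 ⟨0, 0, 1, by simp⟩
  -- elements of `M` in the centre
  have hMZ : ∀ u ∈ M, u ∈ Subgroup.center X → u ∈ Subgroup.zpowers z := by
    intro u huM huZ
    obtain ⟨i, j, k, rfl⟩ := (hM u).1 huM
    obtain ⟨i₁, t₁, hi⟩ := exists_fin_zpow' H (w := a) hp2 i
    obtain ⟨j₁, t₂, hj⟩ := exists_fin_zpow' H (w := b) hp2 j
    have hvz : z ^ t₁ * z ^ t₂ * z ^ k ∈ Subgroup.zpowers z :=
      Subgroup.mul_mem _ (Subgroup.mul_mem _ ⟨t₁, rfl⟩ ⟨t₂, rfl⟩) ⟨k, rfl⟩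
    have hform : a ^ i * b ^ j * z ^ k = a ^ (i₁ : ℕ) * b ^ (j₁ : ℕ) * (z ^ t₁ * z ^ t₂ * z ^ k) := by
      rw [hi, hj]
      have h1 : z ^ t₁ * b ^ (j₁ : ℕ) = b ^ (j₁ : ℕ) * z ^ t₁ :=
        (H.central (u := z ^ t₁) ⟨t₁, rfl⟩ (b ^ (j₁ : ℕ))).symm
      calc a ^ (i₁ : ℕ) * z ^ t₁ * (b ^ (j₁ : ℕ) * z ^ t₂) * z ^ k
          = a ^ (i₁ : ℕ) * (z ^ t₁ * b ^ (j₁ : ℕ)) * z ^ t₂ * z ^ k := by simp only [mul_assoc]
        _ = a ^ (i₁ : ℕ) * (b ^ (j₁ : ℕ) * z ^ t₁) * z ^ t₂ * z ^ k := by rw [h1]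
        _ = _ := by simp only [mul_assoc]
    rw [hform] at huZ ⊢
    obtain ⟨v, hv⟩ : ∃ v, v = z ^ t₁ * z ^ t₂ * z ^ k := ⟨_, rfl⟩
    rw [← hv] at huZ hvz ⊢
    have hvc : ∀ g : X, Commute v g := fun g => (H.central hvz g).symm
    have hi₁ : (i₁ : ℕ) = 0 := by
      by_contra hne
      have he : (i₁ : ℕ) = 1 := by
        have := i₁.2
        omega
      rw [he, pow_one] at huZ
      apply h
      have h1 : Commute (a * b ^ (j₁ : ℕ) * v) b := hcent _ huZ b
      have h2 : Commute (a * b ^ (j₁ : ℕ) * v * v⁻¹ * (b ^ (j₁ : ℕ))⁻¹) b :=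
        Commute.mul_left (Commute.mul_left h1 (hvc b).inv_left)
          ((Commute.refl b).pow_left _).inv_left
      have e : a * b ^ (j₁ : ℕ) * v * v⁻¹ * (b ^ (j₁ : ℕ))⁻¹ = a := by group
      rwa [e] at h2
    have hj₁ : (j₁ : ℕ) = 0 := by
      by_contra hne
      have he : (j₁ : ℕ) = 1 := by
        have := j₁.2
        omega
      rw [he, pow_one, hi₁, pow_zero, one_mul] at huZ
      apply h
      have h1 : Commute (b * v) a := hcent _ huZ a
      have h2 : Commute (b * v * v⁻¹) a := Commute.mul_left h1 (hvc a).inv_left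
      have e : b * v * v⁻¹ = b := by group
      rw [e] at h2
      exact h2.symm
    rw [hi₁, hj₁, pow_zero, pow_zero, one_mul, one_mul]
    exact hvz
  have hdisj : ∀ u ∈ M, u ∈ Subgroup.zpowers c → u = 1 := by
    intro u huM hu
    rcases mem_zp_two hc2 hu with h1 | h1
    · exact h1
    · exfalso
      rw [h1] at huM
      exact hcZ₀ (hMZ c huM hcZ)
  have hAZ : ∀ u ∈ Subgroup.zpowers c, u ∈ Subgroup.center X := by
    intro u hu
    exact ((Subgroup.zpowers_le).2 hcZ) hu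
  -- the product decomposition
  set K := (Subgroup.zpowers z).subgroupOf (Subgroup.center X) with hK
  have hKc : Nat.card K = 2 := by
    rw [← hZ₀c]
    exact Nat.card_congr (Subgroup.subgroupOfEquivOfLe hZ₀Z).toEquiv
  have hKi : K.index = 2 := by
    have h1 := K.card_mul_index
    rw [hKc, hZc] at h1
    omega
  have hzpM : ∀ v ∈ Subgroup.zpowers z, v ∈ M := by
    intro v hv
    exact ((Subgroup.zpowers_le).2 hzM) hv
  have hgen : ∀ g : X, ∃ m ∈ M, ∃ u ∈ Subgroup.zpowers c, g = m * u := by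
    intro g
    obtain ⟨c', hc', j, k, rfl⟩ := hdec g
    by_cases hc'z : c' ∈ Subgroup.zpowers z
    · exact ⟨c' * b ^ j * a ^ k, M.mul_mem (M.mul_mem (hzpM _ hc'z) (M.pow_mem hbM j)) (M.pow_mem haM k),
        1, Subgroup.one_mem _, by simp⟩
    · have h1 : (⟨c', hc'⟩ : Subgroup.center X) * ⟨c, hcZ⟩ ∈ K := by
        rw [Subgroup.mul_mem_iff_of_index_two hKi]
        constructor
        · intro h2
          exact (hc'z h2).elim
        · intro h2
          exact (hcZ₀ h2).elim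
      have h2 : c' * c ∈ Subgroup.zpowers z := h1
      have e : c' * b ^ j * a ^ k = (c' * c) * b ^ j * a ^ k * c := by
        have h3 : c * c = 1 := by rw [← pow_two]; exact hc2
        have h4 : Commute c (b ^ j * a ^ k) := hcent c hcZ _
        calc c' * b ^ j * a ^ k = c' * (c * c) * (b ^ j * a ^ k) := by rw [h3]; group
          _ = c' * c * (c * (b ^ j * a ^ k)) := by group
          _ = c' * c * ((b ^ j * a ^ k) * c) := by rw [h4.eq]
          _ = _ := by group
      exact ⟨(c' * c) * b ^ j * a ^ k, M.mul_mem (M.mul_mem (hzpM _ h2) (M.pow_mem hbM j)) (M.pow_mem haM k),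
        c, Subgroup.mem_zpowers c, e⟩
  obtain ⟨e₁⟩ := exists_prod_equiv hAZ hdisj hgen
  have hco : orderOf c = 2 := orderOf_eq_prime hc2 hc1
  have hAc : Nat.card (Subgroup.zpowers c) = 2 := by rw [Nat.card_zpowers, hco]
  have hMc : Nat.card M = 8 := by
    have h1 := Nat.card_congr e₁.toEquiv
    rw [Nat.card_prod, hc, hAc] at h1
    omega
  have hMp : IsPGroup 2 M := hX.to_subgroup M
  have hu : Cfsg.Agent.H14.UniqueP 2 M := by
    intro u v hu hv
    have key : ∀ w : M, orderOf w = 2 → (w : X) = z := by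
      intro w hw
      have hw2 : (w : X) ^ 2 = 1 := by
        have := pow_orderOf_eq_one w
        rw [hw] at this
        exact congrArg Subtype.val this
      have hw1 : (w : X) ≠ 1 := by
        intro h1
        have h2 : w = 1 := Subtype.ext h1
        rw [h2, orderOf_one] at hw
        omega
      have hwZ : (w : X) ∈ Subgroup.center X := by
        by_contra hcon
        exact hQ _ hcon hw2
      exact zp_eq H (hMZ _ w.2 hwZ) hw1
    have huv : v = u := Subtype.ext (by rw [key u hu, key v hv])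
    rw [huv]
    exact Subgroup.mem_zpowers u
  rcases Cfsg.Agent.H14.isCyclic_or_quaternion hMp hu with hcyc | ⟨-, k, hk, ⟨e⟩⟩
  · exfalso
    have h9 : IsMulCommutative M := IsCyclic.isMulCommutative
    have h10 := h9.is_comm.comm ⟨a, haM⟩ ⟨b, hbM⟩
    exact h (congrArg Subtype.val h10)
  · have hcard : 4 * 2 ^ k = 8 := by
      have h1 := Nat.card_congr e.toEquiv
      rw [hMc, Nat.card_eq_fintype_card, QuaternionGroup.card] at h1
      omega
    have hk1 : k = 1 := by
      have h2 : 2 ^ k = 2 ^ 1 := by omega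
      exact Nat.pow_right_injective (le_refl 2) h2
    subst hk1
    have hcyc : IsCyclic (Subgroup.zpowers c) := inferInstance
    have he₂ : Nonempty (Multiplicative (ZMod 2) ≃* Subgroup.zpowers c) := by
      have key : ∀ n, Nat.card (Subgroup.zpowers c) = n →
          Nonempty (Multiplicative (ZMod n) ≃* Subgroup.zpowers c) := by
        rintro _ rfl
        exact ⟨zmodCyclicMulEquiv hcyc⟩
      exact key 2 hAc
    obtain ⟨e₂⟩ := he₂
    exact ⟨e₁.trans (MulEquiv.prodCongr e e₂.symm)⟩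

end Ord4
end Cfsg.Agent.H24
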