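import Mathlib
import Cfsg.Agent.Lib.H24.Ord4F
import Cfsg.Agent.Lib.H24.Ess187

/-!
Essential subgroups of order `p⁴`: the list.
-/

set_option autoImplicit false
set_option linter.style.haveILetI false

namespace Cfsg.Agent.H24
namespace Ord4

open Cfsg Cfsg.FusionSystem
open scoped commutatorElement

universe u

theorem essential_order_four {Ω : Type u} [Group Ω] {S : Subgroup Ω} [Finite S] (p : ℕ) [Fact p.Prime]
    (hS : IsPGroup p S) (F : Cfsg.FusionSystem S) (H : Subgroup Ω) (hH : F.IsEssential p H)
    (hcard : Nat.card H = p ^ 4) :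
    Cfsg.IsElementaryAbelian p H ∨
      Nonempty (↥H ≃* Multiplicative (ZMod (p ^ 2) × ZMod p × ZMod p)) ∨
      ((p = 2 ∨ p = 3) ∧ Nonempty (↥H ≃* Multiplicative (ZMod (p ^ 2) × ZMod (p ^ 2)))) ∨
      (Odd p ∧ ∃ (E : Type) (_ : Group E) (_ : Finite E), Cfsg.IsExtraspecial p E ∧ Nat.card E = p ^ 3 ∧
        (∀ x : E, x ^ p = 1) ∧ Nonempty (↥H ≃* E × Multiplicative (ZMod p))) ∨
      (p = 2 ∧ Nonempty (↥H ≃* QuaternionGroup 2 × Multiplicative (ZMod 2))) ∨
      (¬ IsMulCommutative ↥H ∧ (∀ x ∈ H, x ^ (p ^ 2) = 1) ∧ IsCyclic ↥(Subgroup.center ↥H) ∧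
        Nat.card (Subgroup.center ↥H) = p ^ 2) := by
  classical
  have hp := (Fact.out : p.Prime)
  have hpos := hp.pos
  have h1p := hp.one_lt
  haveI : Finite H := Cfsg.Agent.H25.finite_of_le hH.1.1
  have hd := essData_of_essential hS hH
  have hX := hd.hX
  have hcΦ := Subgroup.card_mul_index (frattini ↥H)
  rw [hcard] at hcΦ
  have hdv : (frattini ↥H).index ∣ p ^ 4 := ⟨_, by rw [← hcΦ]; ring⟩
  obtain ⟨r, hr4, hr⟩ := (Nat.dvd_prime_pow hp).1 hdv
  have hr0 : r ≠ 0 := by
    rintro rfl
    apply hd.rank_one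
    rw [hr, pow_zero]
    exact h1p.le
  have hr1 : r ≠ 1 := by
    rintro rfl
    apply hd.rank_one
    rw [hr, pow_one]
  rcases (by omega : r = 2 ∨ r = 3 ∨ r = 4) with rfl | rfl | rfl
  · -- two generators
    have hcomm := EssData.rank_two_comm hd hcard hr
    have hab : IsMulCommutative ↥H := ⟨⟨hcomm⟩⟩
    rcases essential_abelian_two_gen hS hH hab (by rw [hr]) with ⟨-, h2⟩ | ⟨hp3, k, ⟨e⟩⟩
    · exfalso
      rw [hcard] at h2
      have := Nat.pow_right_injective hp.two_le h2
      omega
    · right; right; left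
      have hk : k = 2 := by
        have h1 := Nat.card_congr e.toEquiv
        rw [hcard, Nat.card_congr Multiplicative.toAdd, Nat.card_prod, Nat.card_zmod, ← pow_add] at h1
        have := Nat.pow_right_injective hp.two_le h1
        omega
      subst hk
      refine ⟨?_, ⟨e⟩⟩
      have := hp.two_le
      omega
  · -- three generators
    have hΦc : Nat.card (frattini ↥H) = p := by
      rw [hr] at hcΦ
      have h1 : Nat.card (frattini ↥H) * p ^ 3 = p * p ^ 3 := by rw [hcΦ]; ring
      exact Nat.eq_of_mul_eq_mul_right (pow_pos hpos 3) h1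
    by_cases hcomm : ∀ a b : ↥H, a * b = b * a
    · right; left
      exact abelian_iso hX hcomm hcard hΦc
    · push Not at hcomm
      obtain ⟨a, b, hne⟩ := hcomm
      have hab : ¬ Commute a b := fun h1 => hne h1
      have hCΦ : commutator ↥H ≤ frattini ↥H := Cfsg.Agent.H01.commutator_le_frattini_of_isPGroup hX
      have hcommΦ : ∀ x y : ↥H, ⁅x, y⁆ ∈ frattini ↥H := by
        intro x y
        apply hCΦ
        rw [commutator_def]
        exact Subgroup.commutator_mem_commutator (Subgroup.mem_top _) (Subgroup.mem_top _)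
      set z := ⁅a, b⁆ with hz
      have hz1 : z ≠ 1 := fun h1 => hab (commutatorElement_eq_one_iff_commute.1 h1)
      have hzΦ : z ∈ frattini ↥H := hcommΦ a b
      have hzp : z ^ p = 1 := by
        have h1 := pow_card_eq_one' (G := frattini ↥H) (x := ⟨z, hzΦ⟩)
        rw [hΦc] at h1
        exact congrArg Subtype.val h1
      have hzo : orderOf z = p := orderOf_eq_prime hzp hz1
      have hΦ : frattini ↥H = Subgroup.zpowers z := by
        symm
        apply Subgroup.eq_of_le_of_card_ge ((Subgroup.zpowers_le).2 hzΦ)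
        rw [Nat.card_zpowers, hzo, hΦc]
      have hZ := central_of_card_prime hX (frattini ↥H) hΦc
      have Hd : GEData p z :=
        { ord := hzo
          comm := fun x y => hΦ ▸ hcommΦ x y
          pow := fun x => hΦ ▸ Cfsg.Agent.H01.pow_mem_frattini_of_isPGroup hX x
          cent := fun x => Subgroup.mem_center_iff.1 (hZ hzΦ) x }
      obtain ⟨hdec, hZc⟩ := center_decomp hX Hd hcard hab
      by_cases hcyc : IsCyclic ↥(Subgroup.center ↥H)
      · right; right; right; right; right
        refine ⟨?_, ?_, hcyc, hZc⟩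
        · intro h1
          exact hne (h1.is_comm.comm a b)
        · intro x hx
          have h1 := Cfsg.Agent.H01.pow_mem_frattini_of_isPGroup hX (⟨x, hx⟩ : ↥H)
          have h2 := pow_card_eq_one' (G := frattini ↥H) (x := ⟨_, h1⟩)
          rw [hΦc] at h2
          have h3 := congrArg (fun w => ((w : ↥(frattini ↥H)) : ↥H)) h2
          have h4 := congrArg Subtype.val h3
          simp only [Subgroup.coe_pow, Subgroup.coe_one, SubgroupClass.coe_pow, OneMemClass.coe_one] at h4
          rw [pow_two, pow_mul]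
          exact h4
      · have hZexp : ∀ c ∈ Subgroup.center ↥H, c ^ p = 1 := by
          intro c hc
          by_contra hcp
          apply hcyc
          have h1 := pow_card_eq_one' (G := Subgroup.center ↥H) (x := ⟨c, hc⟩)
          rw [hZc] at h1
          have h2 : orderOf (⟨c, hc⟩ : Subgroup.center ↥H) = p ^ (1 + 1) := by
            apply orderOf_eq_prime_pow
            · intro h3
              apply hcp
              rw [pow_one] at h3
              exact congrArg Subtype.val h3
            · exact h1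
          apply isCyclic_of_orderOf_eq_card (⟨c, hc⟩ : Subgroup.center ↥H)
          rw [h2, hZc]
        by_cases hp2 : p = 2
        · subst hp2
          by_cases hQ : ∀ g, g ∉ Subgroup.center ↥H → g ^ 2 ≠ 1
          · right; right; right; right; left
            exact ⟨rfl, quaternion_case hX Hd hcard hZexp hQ hab⟩
          · exfalso
            push Not at hQ
            obtain ⟨g₀, hg₀, hg₀2⟩ := hQ
            exact EssData.not_dihedral hd Hd hcard hΦ hZexp hg₀ hg₀2
        · right; right; right; left
          exact ⟨hp.odd_of_ne_two hp2, EssData.odd_case hd Hd hcard hΦ hp2 hZexp hab⟩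
  · -- four generators
    left
    have hΦb : frattini ↥H = ⊥ := by
      rw [hr] at hcΦ
      have h1 : Nat.card (frattini ↥H) * p ^ 4 = 1 * p ^ 4 := by rw [hcΦ, one_mul]
      exact Subgroup.card_eq_one.1 (Nat.eq_of_mul_eq_mul_right (pow_pos hpos 4) h1)
    refine ⟨⟨⟨?_⟩⟩, ?_⟩
    · intro x y
      have h1 : x * y * x⁻¹ * y⁻¹ ∈ frattini ↥H :=
        Cfsg.Agent.H01.commutator_le_frattini_of_isPGroup hX (comm_mem x y)
      rw [hΦb, Subgroup.mem_bot] at h1
      exact commute_of_comm_eq_one h1
    · intro a ha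
      have h1 := Cfsg.Agent.H01.pow_mem_frattini_of_isPGroup hX (⟨a, ha⟩ : ↥H)
      rw [hΦb, Subgroup.mem_bot] at h1
      exact congrArg Subtype.val h1

end Ord4
end Cfsg.Agent.H24
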