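import Mathlib
import Cfsg.Agent.Lib.H24.SecFree3

/-!
Section-freeness passes to normalizer systems of fully normalized subgroups (S5240).
-/

set_option autoImplicit false

namespace Cfsg.Agent.H24

open Cfsg Cfsg.FusionSystem Cfsg.Agent.H24.ModG

section Main

universe u

variable {Ω : Type u} [Group Ω] {S : Subgroup Ω} {F : FusionSystem S} {Q : Subgroup Ω} {p : ℕ} [Fact p.Prime]
  {N : FusionSystem (normalizerIn S Q)}

theorem sup_mem_normalizer {G : Type*} [Group G] {A B : Subgroup G} {w : G} (h1 : w ∈ Subgroup.normalizer (A : Set G))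
    (h2 : w ∈ Subgroup.normalizer (B : Set G)) : w ∈ Subgroup.normalizer ((A ⊔ B : Subgroup G) : Set G) := by
  refine mem_normalizer_of_forall ?_ ?_
  · have : A ⊔ B ≤ (A ⊔ B).comap (MulAut.conj w).toMonoidHom := by
      refine sup_le (fun a ha => ?_) (fun b hb => ?_)
      · exact Subgroup.mem_sup_left (conj_mem_of_normalizer h1 ha)
      · exact Subgroup.mem_sup_right (conj_mem_of_normalizer h2 hb)
    exact fun y hy => this hy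
  · have : A ⊔ B ≤ (A ⊔ B).comap (MulAut.conj w⁻¹).toMonoidHom := by
      refine sup_le (fun a ha => ?_) (fun b hb => ?_)
      · have := conj_inv_mem_of_normalizer h1 ha
        refine Subgroup.mem_sup_left ?_
        show w⁻¹ * a * w⁻¹⁻¹ ∈ A
        rwa [inv_inv]
      · have := conj_inv_mem_of_normalizer h2 hb
        refine Subgroup.mem_sup_right ?_
        show w⁻¹ * b * w⁻¹⁻¹ ∈ B
        rwa [inv_inv]
    intro y hy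
    have h3 := this hy
    have h4 : w⁻¹ * y * w⁻¹⁻¹ ∈ A ⊔ B := h3
    rwa [inv_inv] at h4

theorem sectionFree_normalizer [Finite S] (hS : IsPGroup p S) (hF : F.IsSaturated p) {A : Type*} [Group A]
    (hfree : F.IsSectionFree p A) (hQ : F.IsFullyNormalized Q) (hN : F.IsNormalizerSystem Q N) : N.IsSectionFree p A := by
  intro U hUn hUc N₁ hN₁ L₁ _ ιL hL₁ hA
  have hUT : U ≤ normalizerIn S Q := hUn.1
  have hQS : Q ≤ S := hQ.1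
  have hQT : Q ≤ normalizerIn S Q := le_normalizerIn hQS
  have hRT : U ⊔ Q ≤ normalizerIn S Q := sup_le hUT hQT
  have hRS : U ⊔ Q ≤ S := hRT.trans inf_le_left
  have hRc := centric_sup_of_normalizerSystem hS hF hQ hN hUc
  obtain ⟨Rs, hRRs, hRsn⟩ := exists_fullyNormalized_conj (F := F) hRS
  obtain ⟨h₁, h₂⟩ := fullyNormalized_props hS hF hRsn
  obtain ⟨ρ, hρ, hρv, hρR⟩ := exists_normalizer_map hS h₁ h₂ hRRs
  have hRsc : F.IsCentric Rs := ⟨hRsn.1, fun Q' hQ' => hRc.2 Q' (IsConj.trans' hRRs hQ')⟩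
  obtain ⟨Ns, hNs⟩ := Cfsg.Agent.H25.exists_isNormalizerSystem (F := F) hRsn.1
  have hfinNs : Finite (normalizerIn S Rs) := finite_of_le inf_le_left
  have hfinT : Finite (normalizerIn S Q) := finite_of_le inf_le_left
  have hSNs : IsPGroup p (normalizerIn S Rs) := hS.to_le inf_le_left
  obtain ⟨L, _, ι, hM⟩ := exists_model hSNs (constrained_normalizerSystem hS hF hRsn hRsc hNs)
  apply hfree Rs hRsn hRsc Ns hNs L ι hM
  have hfL : Finite L := hM.1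
  have hr := hM.2.1
  have hι := hr.1
  let 𝔦 : normalizerIn S (U ⊔ Q) →* L := ι.comp (ρ.codRestrict _ hρv)
  have h𝔦inj : Function.Injective 𝔦 := by
    intro a b hab
    have h1 := hι hab
    exact hom_inj hρ (congrArg Subtype.val h1)
  have hRN : U ⊔ Q ≤ normalizerIn S (U ⊔ Q) := le_normalizerIn hRS
  have hQN : Q ≤ normalizerIn S (U ⊔ Q) := le_sup_right.trans hRN
  have hUN : U ≤ normalizerIn S (U ⊔ Q) := le_sup_left.trans hRN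
  let IQ : Subgroup L := (Q.subgroupOf (normalizerIn S (U ⊔ Q))).map 𝔦
  let IU : Subgroup L := (U.subgroupOf (normalizerIn S (U ⊔ Q))).map 𝔦
  have hIQ : ∀ y ∈ IQ, ∃ q, ∃ hq : q ∈ Q, 𝔦 ⟨q, hQN hq⟩ = y := by
    rintro _ ⟨⟨q, hqR⟩, hq, rfl⟩
    exact ⟨q, hq, rfl⟩
  have hIU : ∀ y ∈ IU, ∃ q, ∃ hq : q ∈ U, 𝔦 ⟨q, hUN hq⟩ = y := by
    rintro _ ⟨⟨q, hqR⟩, hq, rfl⟩
    exact ⟨q, hq, rfl⟩
  have hIQ' : ∀ q (hq : q ∈ Q), 𝔦 ⟨q, hQN hq⟩ ∈ IQ := fun q hq => ⟨⟨q, hQN hq⟩, hq, rfl⟩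
  have hIU' : ∀ q (hq : q ∈ U), 𝔦 ⟨q, hUN hq⟩ ∈ IU := fun q hq => ⟨⟨q, hUN hq⟩, hq, rfl⟩
  let H₁ : Subgroup L := Subgroup.normalizer (IQ : Set L) ⊓ Subgroup.normalizer (IU : Set L)
  have hH₁Q : ∀ h ∈ H₁, ∀ q (hq : q ∈ Q), ∃ q', ∃ hq' : q' ∈ Q, h * 𝔦 ⟨q, hQN hq⟩ * h⁻¹ = 𝔦 ⟨q', hQN hq'⟩ := by
    intro h hh q hq
    have h1 := conj_mem_of_normalizer hh.1 (hIQ' q hq)
    obtain ⟨q', hq', e⟩ := hIQ _ h1
    exact ⟨q', hq', e.symm⟩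
  have hH₁U : ∀ h ∈ H₁, ∀ q (hq : q ∈ U), ∃ q', ∃ hq' : q' ∈ U, h * 𝔦 ⟨q, hUN hq⟩ * h⁻¹ = 𝔦 ⟨q', hUN hq'⟩ := by
    intro h hh q hq
    have h1 := conj_mem_of_normalizer hh.2 (hIU' q hq)
    obtain ⟨q', hq', e⟩ := hIU _ h1
    exact ⟨q', hq', e.symm⟩
  let W : Subgroup Ω := normalizerIn (normalizerIn S Q) U
  have hWR : W ≤ normalizerIn S (U ⊔ Q) := fun w hw => ⟨hw.1.1, sup_mem_normalizer hw.2 hw.1.2⟩
  have hUW : U ≤ W := le_normalizerIn hUT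
  have hW : ∀ w : W, 𝔦 (Subgroup.inclusion hWR w) ∈ H₁ := by
    intro w
    have hwQ := (show (w : Ω) ∈ normalizerIn S Q from w.2.1).2
    have hwU := (show (w : Ω) ∈ normalizerIn (normalizerIn S Q) U from w.2).2
    have hw' : ∀ {A : Subgroup Ω} (hA : A ≤ normalizerIn S (U ⊔ Q)) (hwA : (w : Ω) ∈ Subgroup.normalizer (A : Set Ω)),
        𝔦 (Subgroup.inclusion hWR w) ∈ Subgroup.normalizer (((A.subgroupOf (normalizerIn S (U ⊔ Q))).map 𝔦 : Subgroup L) : Set L) := by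
      intro A hA hwA
      refine mem_normalizer_of_forall ?_ ?_
      · rintro _ ⟨⟨q, hqR⟩, hq, rfl⟩
        have hq' : q ∈ A := hq
        have h1 : (w : Ω) * q * (w : Ω)⁻¹ ∈ A := conj_mem_of_normalizer hwA hq'
        refine ⟨⟨(w : Ω) * q * (w : Ω)⁻¹, hA h1⟩, h1, ?_⟩
        rw [← map_inv, ← map_mul, ← map_mul]
        rfl
      · rintro _ ⟨⟨q, hqR⟩, hq, rfl⟩
        have hq' : q ∈ A := hq
        have h1 : (w : Ω)⁻¹ * q * (w : Ω) ∈ A := conj_inv_mem_of_normalizer hwA hq'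
        refine ⟨⟨(w : Ω)⁻¹ * q * (w : Ω), hA h1⟩, h1, ?_⟩
        rw [← map_inv, ← map_mul, ← map_mul]
        rfl
    exact ⟨hw' hQN hwQ, hw' hUN hwU⟩
  let ι₁ : W →* H₁ := (𝔦.comp (Subgroup.inclusion hWR)).codRestrict H₁ hW
  have hι₁inj : Function.Injective ι₁ := by
    intro a b hab
    have h1 : 𝔦 (Subgroup.inclusion hWR a) = 𝔦 (Subgroup.inclusion hWR b) := congrArg Subtype.val hab
    exact Subgroup.inclusion_injective hWR (h𝔦inj h1)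
  have hr₁ : N₁.IsRealizedBy ι₁ := by
    refine ⟨hι₁inj, fun P hP φ hφv => ⟨fun hm => ?_, ?_⟩⟩
    · rw [hN₁ P] at hm
      obtain ⟨hφN, hPW, hφv', ψ₁, hψ₁, hψ₁φ, hψ₁U⟩ := hm
      rw [hN _] at hψ₁
      obtain ⟨hψ₁F, hPUT, hψ₁v, ψ₂, hψ₂, hψ₂ψ₁, hψ₂Q⟩ := hψ₁
      have hUB : U ≤ (P ⊔ U) ⊔ Q := le_sup_right.trans le_sup_left
      have hQB : Q ≤ (P ⊔ U) ⊔ Q := le_sup_right
      have hPB : P ≤ (P ⊔ U) ⊔ Q := le_sup_left.trans le_sup_left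
      have hUPU : U ≤ P ⊔ U := le_sup_right
      have hRB : U ⊔ Q ≤ (P ⊔ U) ⊔ Q := sup_le hUB hQB
      have hBN : (P ⊔ U) ⊔ Q ≤ normalizerIn S (U ⊔ Q) := sup_le (sup_le (hPW.trans hWR) hUN) hQN
      have hψ₂U : ∀ u (hu : u ∈ U), ψ₂ ⟨u, hUB hu⟩ = ψ₁ ⟨u, hUPU hu⟩ := fun u hu => hψ₂ψ₁ ⟨u, hUPU hu⟩
      have hψ₁U' := (map_subgroupOf_eq_iff hUPU ψ₁).1 hψ₁U
      have hψ₂Q' := (map_subgroupOf_eq_iff hQB ψ₂).1 hψ₂Q
      have hψ₂R : ∀ x (hx : x ∈ U ⊔ Q), ψ₂ ⟨x, hRB hx⟩ ∈ U ⊔ Q := by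
        have hle : U ⊔ Q ≤ ((U ⊔ Q).comap ψ₂).map ((P ⊔ U) ⊔ Q).subtype := by
          refine sup_le (fun u hu => ⟨⟨u, hUB hu⟩, ?_, rfl⟩) (fun q hq => ⟨⟨q, hQB hq⟩, ?_, rfl⟩)
          · show ψ₂ ⟨u, hUB hu⟩ ∈ U ⊔ Q
            rw [hψ₂U u hu]
            exact Subgroup.mem_sup_left (hψ₁U'.1 u hu)
          · show ψ₂ ⟨q, hQB hq⟩ ∈ U ⊔ Q
            exact Subgroup.mem_sup_right (hψ₂Q'.1 q hq)
        intro x hx
        obtain ⟨y, hy, e⟩ := hle hx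
        have e' : y = ⟨x, hRB hx⟩ := Subtype.ext e
        rw [← e']
        exact hy
      have hψ₂Rm : ((U ⊔ Q).subgroupOf ((P ⊔ U) ⊔ Q)).map ψ₂ = U ⊔ Q := map_subgroupOf_eq_of_le hRB hψ₂ hψ₂R
      have hψ₂v := val_mem_normalizerIn hψ₂ hRB hBN hψ₂Rm
      obtain ⟨g, hg⟩ := transport_forward hNs hr hρ hρv hρR hRS hRB hBN hψ₂ hψ₂v hψ₂Rm
      have hg' : ∀ x : ↥((P ⊔ U) ⊔ Q), 𝔦 ⟨ψ₂ x, hψ₂v x⟩ = g * 𝔦 ⟨x, hBN x.2⟩ * g⁻¹ := hg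
      have hgH₁ : g ∈ H₁ := by
        refine ⟨mem_normalizer_of_forall ?_ ?_, mem_normalizer_of_forall ?_ ?_⟩
        · intro y hy
          obtain ⟨q, hq, rfl⟩ := hIQ y hy
          have h1 := hg' ⟨q, hQB hq⟩
          have e : (⟨q, hBN (hQB hq)⟩ : normalizerIn S (U ⊔ Q)) = ⟨q, hQN hq⟩ := rfl
          rw [← e, ← h1]
          exact hIQ' _ (hψ₂Q'.1 q hq)
        · intro y hy
          obtain ⟨q, hq, rfl⟩ := hIQ y hy
          obtain ⟨q₀, hq₀, e₀⟩ := hψ₂Q'.2 q hq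
          have h1 := hg' ⟨q₀, hQB hq₀⟩
          have e : (⟨ψ₂ ⟨q₀, hQB hq₀⟩, hψ₂v _⟩ : normalizerIn S (U ⊔ Q)) = ⟨q, hQN hq⟩ := Subtype.ext e₀
          rw [e] at h1
          rw [h1]
          have e2 : g⁻¹ * (g * 𝔦 ⟨q₀, hBN (hQB hq₀)⟩ * g⁻¹) * g = 𝔦 ⟨q₀, hQN hq₀⟩ := by
            group
          rw [e2]
          exact hIQ' _ hq₀
        · intro y hy
          obtain ⟨q, hq, rfl⟩ := hIU y hy
          have h1 := hg' ⟨q, hUB hq⟩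
          have e : (⟨q, hBN (hUB hq)⟩ : normalizerIn S (U ⊔ Q)) = ⟨q, hUN hq⟩ := rfl
          rw [← e, ← h1]
          have e3 : (⟨ψ₂ ⟨q, hUB hq⟩, hψ₂v _⟩ : normalizerIn S (U ⊔ Q)) = ⟨ψ₁ ⟨q, hUPU hq⟩, hUN (hψ₁U'.1 q hq)⟩ := Subtype.ext (hψ₂U q hq)
          rw [e3]
          exact hIU' _ (hψ₁U'.1 q hq)
        · intro y hy
          obtain ⟨q, hq, rfl⟩ := hIU y hy
          obtain ⟨q₀, hq₀, e₀⟩ := hψ₁U'.2 q hq
          have h1 := hg' ⟨q₀, hUB hq₀⟩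
          have e : (⟨ψ₂ ⟨q₀, hUB hq₀⟩, hψ₂v _⟩ : normalizerIn S (U ⊔ Q)) = ⟨q, hUN hq⟩ := Subtype.ext ((hψ₂U q₀ hq₀).trans e₀)
          rw [e] at h1
          rw [h1]
          have e2 : g⁻¹ * (g * 𝔦 ⟨q₀, hBN (hUB hq₀)⟩ * g⁻¹) * g = 𝔦 ⟨q₀, hUN hq₀⟩ := by
            group
          rw [e2]
          exact hIU' _ hq₀
      refine ⟨⟨g, hgH₁⟩, fun x => Subtype.ext ?_⟩
      have h1 := hg' ⟨x, hPB x.2⟩
      have e1 : ψ₂ ⟨x, hPB x.2⟩ = φ x := by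
        rw [← hψ₁φ x]
        exact hψ₂ψ₁ ⟨x, le_sup_left (a := P) (b := U) x.2⟩
      have e2 : (⟨ψ₂ ⟨x, hPB x.2⟩, hψ₂v _⟩ : normalizerIn S (U ⊔ Q)) = Subgroup.inclusion hWR ⟨φ x, hφv x⟩ := Subtype.ext e1
      rw [e2] at h1
      exact h1
    · rintro ⟨⟨g, hgH⟩, hg⟩
      have hg' : ∀ x : P, 𝔦 (Subgroup.inclusion hWR ⟨φ x, hφv x⟩) = g * 𝔦 (Subgroup.inclusion hWR ⟨x, hP x.2⟩) * g⁻¹ :=
        fun x => congrArg Subtype.val (hg x)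
      have hUB : U ≤ (P ⊔ U) ⊔ Q := le_sup_right.trans le_sup_left
      have hQB : Q ≤ (P ⊔ U) ⊔ Q := le_sup_right
      have hPB : P ≤ (P ⊔ U) ⊔ Q := le_sup_left.trans le_sup_left
      have hUPU : U ≤ P ⊔ U := le_sup_right
      have hBN : (P ⊔ U) ⊔ Q ≤ normalizerIn S (U ⊔ Q) := sup_le (sup_le (hP.trans hWR) hUN) hQN
      have hmem : ∀ y : ↥((P ⊔ U) ⊔ Q), g * 𝔦 (Subgroup.inclusion hBN y) * g⁻¹ ∈ 𝔦.range := by
        have hle : (P ⊔ U) ⊔ Q ≤ (𝔦.range.comap ((MulAut.conj g).toMonoidHom.comp 𝔦)).map (normalizerIn S (U ⊔ Q)).subtype := by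
          refine sup_le (sup_le (fun x hx => ⟨⟨x, hWR (hP hx)⟩, ?_, rfl⟩) (fun u hu => ⟨⟨u, hUN hu⟩, ?_, rfl⟩)) (fun q hq => ⟨⟨q, hQN hq⟩, ?_, rfl⟩)
          · show g * 𝔦 ⟨x, hWR (hP hx)⟩ * g⁻¹ ∈ 𝔦.range
            have := hg' ⟨x, hx⟩
            rw [show g * 𝔦 ⟨x, hWR (hP hx)⟩ * g⁻¹ = _ from this.symm]
            exact ⟨_, rfl⟩
          · show g * 𝔦 ⟨u, hUN hu⟩ * g⁻¹ ∈ 𝔦.range
            obtain ⟨q', hq', e⟩ := hH₁U g hgH u hu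
            rw [e]
            exact ⟨_, rfl⟩
          · show g * 𝔦 ⟨q, hQN hq⟩ * g⁻¹ ∈ 𝔦.range
            obtain ⟨q', hq', e⟩ := hH₁Q g hgH q hq
            rw [e]
            exact ⟨_, rfl⟩
        rintro ⟨y, hy⟩
        obtain ⟨z, hz, e⟩ := hle hy
        have e' : z = ⟨y, hBN hy⟩ := Subtype.ext e
        rw [e'] at hz
        exact hz
      obtain ⟨ψ₂, hψ₂v, hψ₂⟩ := exists_conj_lift h𝔦inj hBN g hmem
      have hψ₂F : ψ₂ ∈ F.Hom ((P ⊔ U) ⊔ Q) := transport_backward hNs hr hρ hρv hBN hψ₂v hψ₂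
      have hψ₂P : ∀ x : P, ψ₂ ⟨x, hPB x.2⟩ = φ x := by
        intro x
        have h1 := hψ₂ ⟨x, hPB x.2⟩
        have h2 := hg' x
        exact congrArg Subtype.val (h𝔦inj (h1.trans h2.symm))
      have hψ₂Q' : ∀ q (hq : q ∈ Q), ψ₂ ⟨q, hQB hq⟩ ∈ Q := by
        intro q hq
        obtain ⟨q', hq', e⟩ := hH₁Q g hgH q hq
        have h1 := hψ₂ ⟨q, hQB hq⟩
        have h2 : (⟨ψ₂ ⟨q, hQB hq⟩, hψ₂v _⟩ : normalizerIn S (U ⊔ Q)) = ⟨q', hQN hq'⟩ := h𝔦inj (h1.trans e)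
        have h3 : ψ₂ ⟨q, hQB hq⟩ = q' := congrArg Subtype.val h2
        rw [h3]
        exact hq'
      have hψ₂U' : ∀ q (hq : q ∈ U), ψ₂ ⟨q, hUB hq⟩ ∈ U := by
        intro q hq
        obtain ⟨q', hq', e⟩ := hH₁U g hgH q hq
        have h1 := hψ₂ ⟨q, hUB hq⟩
        have h2 : (⟨ψ₂ ⟨q, hUB hq⟩, hψ₂v _⟩ : normalizerIn S (U ⊔ Q)) = ⟨q', hUN hq'⟩ := h𝔦inj (h1.trans e)
        have h3 : ψ₂ ⟨q, hUB hq⟩ = q' := congrArg Subtype.val h2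
        rw [h3]
        exact hq'
      have hψ₂Qm : (Q.subgroupOf ((P ⊔ U) ⊔ Q)).map ψ₂ = Q := map_subgroupOf_eq_of_le hQB hψ₂F hψ₂Q'
      have hψ₂Um : (U.subgroupOf ((P ⊔ U) ⊔ Q)).map ψ₂ = U := map_subgroupOf_eq_of_le hUB hψ₂F hψ₂U'
      have hPT : P ≤ normalizerIn S Q := fun x hx => (hP hx).1
      have hPUT : P ⊔ U ≤ normalizerIn S Q := sup_le hPT hUT
      have hBT : (P ⊔ U) ⊔ Q ≤ normalizerIn S Q := sup_le hPUT hQT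
      have hψ₂T := val_mem_normalizerIn hψ₂F hQB hBT hψ₂Qm
      obtain ⟨ψ₁, hψ₁, hψ₁v⟩ := exists_restrict (le_sup_left : P ⊔ U ≤ (P ⊔ U) ⊔ Q) hψ₂F
      have hψ₁N : ψ₁ ∈ N.Hom (P ⊔ U) := by
        rw [hN _]
        refine ⟨hψ₁, hPUT, fun x => ?_, ψ₂, hψ₂F, fun x => (hψ₁v x).symm, hψ₂Qm⟩
        rw [hψ₁v]
        exact hψ₂T _
      have hPQB : P ⊔ Q ≤ (P ⊔ U) ⊔ Q := sup_le hPB hQB
      obtain ⟨ψ₃, hψ₃, hψ₃v⟩ := exists_restrict hPQB hψ₂F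
      have hφF : φ ∈ F.Hom P := hom_of_agree hPB hψ₂F φ fun x => (hψ₂P x).symm
      have hφN : φ ∈ N.Hom P := by
        rw [hN _]
        refine ⟨hφF, hPT, fun x => (hφv x).1, ψ₃, hψ₃, fun x => ?_, ?_⟩
        · rw [hψ₃v]
          exact hψ₂P x
        · refine map_subgroupOf_eq_of_le le_sup_right hψ₃ fun x hx => ?_
          rw [hψ₃v]
          exact hψ₂Q' x hx
      rw [hN₁ P]
      refine ⟨hφN, hP, hφv, ψ₁, hψ₁N, fun x => ?_, ?_⟩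
      · rw [hψ₁v]
        exact hψ₂P x
      · refine map_subgroupOf_eq_of_le hUPU hψ₁ fun x hx => ?_
        rw [hψ₁v]
        exact hψ₂U' x hx
  have hSW : IsPGroup p W := hS.to_le (inf_le_left.trans inf_le_left)
  have hfinW : Finite W := finite_of_le inf_le_left
  have hcardr : Nat.card ι₁.range = Nat.card W := Nat.card_congr (MonoidHom.ofInjective hι₁inj).toEquiv.symm
  have hrp : IsPGroup p ι₁.range := hSW.of_surjective ι₁.rangeRestrict ι₁.rangeRestrict_surjective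
  have hmax : ∀ {D₁ : Subgroup H₁}, IsPGroup p D₁ → ι₁.range ≤ D₁ → D₁ = ι₁.range := by
    intro D₁ hD₁p hD₁le
    have hDp : IsPGroup p (D₁.map H₁.subtype) := hD₁p.map _
    have hD₁ : ∀ d ∈ D₁.map H₁.subtype, d ∈ H₁ := by
      rintro _ ⟨d, -, rfl⟩
      exact d.2
    have hb := card_le_of_normalizing hS hF hQ hN hUn hRsn.1 hNs hM hρ hρv hρR hRS hDp hQN hUN
      (fun d hd q hq => hH₁Q d (hD₁ d hd) q hq) (fun d hd q hq => hH₁U d (hD₁ d hd) q hq)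
    have hc : Nat.card (D₁.map H₁.subtype) = Nat.card D₁ :=
      Nat.card_congr (Subgroup.equivMapOfInjective D₁ H₁.subtype H₁.subtype_injective).toEquiv.symm
    have hfinH₁ : Finite H₁ := inferInstance
    exact (Subgroup.eq_of_le_of_card_ge hD₁le (by
      rw [hcardr, ← hc]
      exact hb)).symm
  let T₁ : Sylow p H₁ := ⟨ι₁.range, hrp, hmax⟩
  have hT₁ : (T₁ : Subgroup H₁) = ι₁.range := rfl
  let U₁ : Subgroup H₁ := (U.subgroupOf W).map ι₁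
  have hU₁n : U₁.Normal := by
    constructor
    rintro _ ⟨u, hu, rfl⟩ ⟨h, hh⟩
    obtain ⟨u', hu', e⟩ := hH₁U h hh u hu
    refine ⟨⟨u', hUW hu'⟩, hu', Subtype.ext ?_⟩
    exact e.symm
  have hU₁T : U₁ ≤ T₁ := by
    rw [hT₁]
    rintro _ ⟨z, -, rfl⟩
    exact ⟨z, rfl⟩
  have hCU₁ : ∀ x ∈ (T₁ : Subgroup H₁), (∀ u ∈ U₁, x * u = u * x) → x ∈ U₁ := by
    intro x hx hc
    rw [hT₁] at hx
    obtain ⟨z, rfl⟩ := hx
    have hzc : (z : Ω) ∈ centralizerIn (normalizerIn S Q) U := by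
      refine ⟨z.2.1, ?_⟩
      show (z : Ω) ∈ Subgroup.centralizer (U : Set Ω)
      rw [Subgroup.mem_centralizer_iff]
      intro w hw
      have h1 := hc (ι₁ ⟨w, hUW hw⟩) ⟨⟨w, hUW hw⟩, hw, rfl⟩
      rw [← map_mul, ← map_mul] at h1
      have h2 := congrArg Subtype.val (hι₁inj h1)
      exact h2.symm
    have hzU : (z : Ω) ∈ U := hUc.2 U (isConj_refl hUT) hzc
    exact ⟨z, hzU, rfl⟩
  have h1 := involves_of_realized hr₁ T₁ hT₁ U₁ hU₁n hU₁T hCU₁ hL₁ hA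
  exact Cfsg.Agent.H09.Involves.trans' h1 (Cfsg.Agent.H09.involves_subgroup H₁)

end Main

end Cfsg.Agent.H24
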