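import Mathlib
import Cfsg.Agent.Lib.H24.SecFree4
import Cfsg.Agent.Lib.H14.QdSection
import Cfsg.Agent.Lib.H14.QdInv
import Cfsg.Agent.Lib.H12.Qd2

/-!
`Qd(p)` in a group: maximal `p`-subgroups whose normalizers involve `Qd(p)` contain the Sylow subgroups of their centralizers.
-/

set_option autoImplicit false

namespace Cfsg.Agent.H24

open Cfsg Matrix MatrixGroups Cfsg.Agent.H12.Qd Cfsg.Agent.H14

section Basics

variable {G₁ : Type*} [Group G₁] [Finite G₁] {p : ℕ} [Fact p.Prime]

/-- Frattini's argument, elementwise. -/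
theorem exists_normalizer_mul_of_sylow (C : Subgroup G₁) [C.Normal] (T₀ : Sylow p C) (g : G₁) :
    ∃ n ∈ Subgroup.normalizer (((T₀ : Subgroup C).map C.subtype : Subgroup G₁) : Set G₁), ∃ c ∈ C, g = n * c := by
  have h := Sylow.normalizer_sup_eq_top T₀
  have h1 : g ∈ ((Subgroup.normalizer (((T₀ : Subgroup C).map C.subtype : Subgroup G₁) : Set G₁) ⊔ C : Subgroup G₁) : Set G₁) := by
    rw [h]
    trivial
  rw [Subgroup.mul_normal] at h1
  obtain ⟨n, hn, c, hc, e⟩ := Set.mem_mul.1 h1
  exact ⟨n, hn, c, hc, e.symm⟩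

/-- A homomorphism on `H`, trivial on `H ∩ C` for a normal `C`, extends to `HC`, trivially on `C`. -/
theorem exists_ext_trivial_on_normal {B : Type*} [Group B] (C : Subgroup G₁) [hC : C.Normal] (H : Subgroup G₁) (r : H →* B)
    (hr : ∀ h : H, (h : G₁) ∈ C → r h = 1) :
    ∃ (X : Subgroup G₁) (f : X →* B) (hHX : H ≤ X), (∀ h : H, f ⟨h, hHX h.2⟩ = r h) ∧ C ≤ X ∧ (∀ x : X, (x : G₁) ∈ C → f x = 1) ∧
      ∀ x : X, ∃ h : H, ∃ c ∈ C, (x : G₁) = h * c := by
  let q : G₁ →* G₁ ⧸ C := QuotientGroup.mk' C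
  let i : H →* G₁ ⧸ C := q.comp H.subtype
  have hle : i.rangeRestrict.ker ≤ r.ker := by
    intro h hh
    have h1 : q h = 1 := congrArg Subtype.val (MonoidHom.mem_ker.1 hh)
    exact hr h ((QuotientGroup.eq_one_iff _).1 h1)
  let f₀ : i.range →* B := i.rangeRestrict.liftOfSurjective i.rangeRestrict_surjective ⟨r, hle⟩
  have hf₀ : ∀ h : H, f₀ (i.rangeRestrict h) = r h := fun h => MonoidHom.liftOfRightInverse_comp_apply _ _ _ _ h
  let X : Subgroup G₁ := i.range.comap q
  have hq : ∀ x : X, (q.comp X.subtype) x ∈ i.range := fun x => x.2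
  let f : X →* B := f₀.comp ((q.comp X.subtype).codRestrict i.range hq)
  refine ⟨X, f, fun h hh => ⟨⟨h, hh⟩, rfl⟩, fun h => ?_, ?_, ?_, ?_⟩
  · exact hf₀ h
  · intro c hc
    show q c ∈ i.range
    have : q c = 1 := (QuotientGroup.eq_one_iff c).2 hc
    rw [this]
    exact Subgroup.one_mem _
  · intro x hx
    have h1 : (q.comp X.subtype).codRestrict i.range hq x = 1 := Subtype.ext ((QuotientGroup.eq_one_iff _).2 hx)
    show f₀ _ = 1
    rw [h1, map_one]
  · rintro ⟨x, hx⟩
    obtain ⟨h, hh⟩ := hx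
    refine ⟨h, (h : G₁)⁻¹ * x, ?_, by group⟩
    have h1 : q ((h : G₁)⁻¹ * x) = 1 := by
      rw [map_mul, map_inv]
      have e : q (h : G₁) = q x := hh
      rw [e, inv_mul_cancel]
    exact (QuotientGroup.eq_one_iff _).1 h1

/-- Injective homomorphisms preserve involvement. -/
theorem involves_of_injective {A X Y : Type*} [Group A] [Group X] [Group Y] (h : Involves A X) (j : X →* Y) (hj : Function.Injective j) :
    Involves A Y := by
  have h2 : Involves X Y := Cfsg.Agent.H09.involves_of_surjective j.range (MonoidHom.ofInjective hj).symm.toMonoidHom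
    (MulEquiv.surjective _)
  exact Cfsg.Agent.H09.Involves.trans' h h2

end Basics

section QdFacts

variable {p : ℕ} [Fact p.Prime]

/-- The group `Qd(p)`. -/
abbrev QdA (p : ℕ) [Fact p.Prime] : Type := ↥(Cfsg.qdOver (ZMod p))

/-- The block map. -/
abbrev qdBlock (p : ℕ) [Fact p.Prime] : QdA p →* SL(2, ZMod p) := block

/-- The translations in `Qd(p)`. -/
abbrev qdKer (p : ℕ) [Fact p.Prime] : Subgroup (QdA p) := (qdBlock p).ker

theorem translHom_injective : Function.Injective (translHom (p := p)) := by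
  intro a b hab
  have h1 : transl (Multiplicative.toAdd a) = transl (Multiplicative.toAdd b) := hab
  exact Multiplicative.toAdd.injective (transl_inj h1)

theorem translHom_range : (translHom (p := p)).range = (qdKer p) := by
  ext M
  constructor
  · rintro ⟨s, rfl⟩
    exact transl_mem_ker _
  · intro hM
    refine ⟨Multiplicative.ofAdd ![(M.1 : Matrix (Fin 3) (Fin 3) (ZMod p)) 0 2, (M.1 : Matrix (Fin 3) (Fin 3) (ZMod p)) 1 2], ?_⟩
    have h := (eq_transl_of_mem_ker hM).symm
    show transl (Multiplicative.toAdd (Multiplicative.ofAdd ![(M.1 : Matrix (Fin 3) (Fin 3) (ZMod p)) 0 2, (M.1 : Matrix (Fin 3) (Fin 3) (ZMod p)) 1 2])) = M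
    rw [toAdd_ofAdd]
    exact h

theorem translHom_conj (M : (QdA p)) (s : Multiplicative (Fin 2 → ZMod p)) :
    M * translHom s * M⁻¹ = translHom (slAct (qdBlock p M) s) := by
  show M * transl (Multiplicative.toAdd s) * M⁻¹ = _
  rw [conj_transl]
  rfl

/-- The translations are self-centralizing. -/
theorem mem_ker_of_centralizes {M : (QdA p)} (h : ∀ e ∈ (qdKer p), M * e = e * M) : M ∈ (qdKer p) := by
  rw [MonoidHom.mem_ker]
  apply block_eq_one_of_forall
  intro v
  have h1 := h (transl v) (transl_mem_ker v)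
  have h2 := conj_transl M v
  rw [h1, mul_inv_cancel_right] at h2
  exact (transl_inj h2).symm

/-- Every nontrivial normal subgroup contains the translations. -/
theorem ker_le_of_normal {W : Subgroup (QdA p)} (hW : W.Normal) (hne : W ≠ ⊥) : (qdKer p) ≤ W := by
  by_cases hb : W ⊓ (qdKer p) = ⊥
  · exfalso
    apply hne
    rw [eq_bot_iff]
    intro w hw
    have hk : w ∈ (qdKer p) := by
      refine mem_ker_of_centralizes fun e he => ?_
      have hEn : (qdKer p).Normal := MonoidHom.normal_ker _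
      have h1 : w * e * w⁻¹ * e⁻¹ ∈ W ⊓ (qdKer p) := by
        refine ⟨?_, (qdKer p).mul_mem (hEn.conj_mem e he w) ((qdKer p).inv_mem he)⟩
        have e1 : w * e * w⁻¹ * e⁻¹ = w * (e * w⁻¹ * e⁻¹) := by group
        rw [e1]
        exact W.mul_mem hw (hW.conj_mem _ (W.inv_mem hw) e)
      rw [hb, Subgroup.mem_bot] at h1
      rw [mul_inv_eq_one, mul_inv_eq_iff_eq_mul] at h1
      exact h1
    have h2 : w ∈ W ⊓ (qdKer p) := ⟨hw, hk⟩
    rw [hb] at h2
    exact h2
  · have hEn : (qdKer p).Normal := MonoidHom.normal_ker _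
    have hn : (W ⊓ (qdKer p)).Normal := Subgroup.normal_inf_normal _ _
    have := normal_le_ker_eq hn hb inf_le_right
    exact this.ge.trans inf_le_left

end QdFacts

end Cfsg.Agent.H24
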