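import Mathlib
import Cfsg.Agent.Lib.H24.QdLocal1

/-!
The core of the local analysis of `Qd(p)`-sections.
-/

set_option autoImplicit false

namespace Cfsg.Agent.H24

open Cfsg Matrix MatrixGroups Cfsg.Agent.H12.Qd Cfsg.Agent.H14

section Core

variable {G₁ : Type*} [Group G₁] [Finite G₁] {p : ℕ} [Fact p.Prime]

/-- Involvement through a surjective homomorphism. -/
theorem involves_of_hom_surj {X A : Type*} [Group X] [Group A] (θ : X →* A) (hθ : Function.Surjective θ) : Involves A X :=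
  Cfsg.Agent.H09.involves_of_surjective ⊤ (θ.comp (Subgroup.topEquiv (G := X)).toMonoidHom) (hθ.comp (Subgroup.topEquiv).surjective)

/-- Involvement in an overgroup of a subgroup mapping onto the section. -/
theorem involves_of_le_of_surj {A : Type*} [Group A] {N M : Subgroup G₁} (h : M ≤ N) (θ : M →* A) (hθ : Function.Surjective θ) :
    Involves A N :=
  involves_of_injective (involves_of_hom_surj θ hθ) (Subgroup.inclusion h) (Subgroup.inclusion_injective h)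

/-- A plane of `Q₁` covered by a section `Qd(p)` of a subgroup normalizing it: `Qd(p)` survives in the normalizer of a Sylow subgroup of `C(Q₁)`. -/
theorem involves_of_central_plane (hp2 : p ≠ 2) {Q₁ : Subgroup G₁} [hQ₁ : Q₁.Normal] (H₂ : Subgroup G₁) (θ₂ : H₂ →* QdA p)
    (hθ₂ : Function.Surjective θ₂) (Vg : Subgroup G₁) (hVgQ : Vg ≤ Q₁) (hVgH : Vg ≤ H₂) (hVgn : H₂ ≤ Subgroup.normalizer (Vg : Set G₁))
    (hVg1 : ∀ v (hv : v ∈ Vg), θ₂ ⟨v, hVgH hv⟩ ∈ qdKer p) (hVg2 : ∀ e ∈ qdKer p, ∃ v, ∃ hv : v ∈ Vg, θ₂ ⟨v, hVgH hv⟩ = e)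
    (T₀ : Sylow p (Subgroup.centralizer (Q₁ : Set G₁))) :
    Involves (QdA p) ↥(Subgroup.normalizer (((((T₀ : Subgroup _).map (Subgroup.centralizer (Q₁ : Set G₁)).subtype) ⊔ Q₁ : Subgroup G₁)) : Set G₁)) := by
  classical
  let C : Subgroup G₁ := Subgroup.centralizer (Q₁ : Set G₁)
  haveI hCn : C.Normal := Subgroup.normal_centralizer
  let T : Subgroup G₁ := (T₀ : Subgroup C).map C.subtype
  let D : Subgroup G₁ := T ⊔ Q₁
  have hCcomm : ∀ c ∈ C, ∀ v ∈ Q₁, c * v = v * c := fun c hc v hv => (Subgroup.mem_centralizer_iff.1 hc v hv).symm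
  let r : H₂ →* SL(2, ZMod p) := (qdBlock p).comp θ₂
  have hr : ∀ h : H₂, (h : G₁) ∈ C → r h = 1 := by
    intro h hh
    refine mem_ker_of_centralizes (M := θ₂ h) (fun e he => ?_)
    obtain ⟨v, hv, rfl⟩ := hVg2 e he
    rw [← map_mul, ← map_mul]
    congr 1
    apply Subtype.ext
    exact hCcomm h hh v (hVgQ hv)
  obtain ⟨X, f, hHX, hf, hCX, hfC, hdec⟩ := exists_ext_trivial_on_normal C H₂ r hr
  have hVgD : Vg ≤ D := hVgQ.trans le_sup_right
  let E₁ : Subgroup G₁ := X ⊓ Subgroup.normalizer (D : Set G₁)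
  have hVgE₁ : Vg ≤ E₁ := fun v hv => ⟨hHX (hVgH hv), Subgroup.le_normalizer (hVgD hv)⟩
  have hE₁X : E₁ ≤ X := inf_le_left
  let ζ : Vg →* QdA p := θ₂.comp (Subgroup.inclusion hVgH)
  let V₁g : Subgroup G₁ := ζ.ker.map Vg.subtype
  have hV₁gm : ∀ v (hv : v ∈ Vg), v ∈ V₁g ↔ ζ ⟨v, hv⟩ = 1 := by
    intro v hv
    constructor
    · rintro ⟨w, hw, e⟩
      have e' : w = ⟨v, hv⟩ := Subtype.ext e
      rw [← e']
      exact hw
    · intro h
      exact ⟨⟨v, hv⟩, h, rfl⟩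
  have hV₁gV : V₁g ≤ Vg := Subgroup.map_subtype_le _
  have hconjc : ∀ (h : H₂) (c : G₁) (_ : c ∈ C) (v : G₁) (_ : v ∈ Vg), ((h : G₁) * c) * v * ((h : G₁) * c)⁻¹ = (h : G₁) * v * (h : G₁)⁻¹ := by
    intro h c hc v hv
    have h1 : c * v = v * c := hCcomm c hc v (hVgQ hv)
    calc ((h : G₁) * c) * v * ((h : G₁) * c)⁻¹ = (h : G₁) * (c * v) * c⁻¹ * (h : G₁)⁻¹ := by group
      _ = (h : G₁) * (v * c) * c⁻¹ * (h : G₁)⁻¹ := by rw [h1]
      _ = _ := by group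
  let V₁ : Subgroup E₁ := V₁g.subgroupOf E₁
  have hζconj : ∀ (h : H₂) (v : G₁) (hv : v ∈ Vg), ∃ hv' : (h : G₁) * v * (h : G₁)⁻¹ ∈ Vg,
      ζ ⟨(h : G₁) * v * (h : G₁)⁻¹, hv'⟩ = θ₂ h * ζ ⟨v, hv⟩ * (θ₂ h)⁻¹ := by
    intro h v hv
    have hv' : (h : G₁) * v * (h : G₁)⁻¹ ∈ Vg := conj_mem_of_normalizer (hVgn h.2) hv
    refine ⟨hv', ?_⟩
    show θ₂ ⟨(h : G₁) * v * (h : G₁)⁻¹, hVgH hv'⟩ = θ₂ h * θ₂ ⟨v, hVgH hv⟩ * (θ₂ h)⁻¹
    rw [← map_inv, ← map_mul, ← map_mul]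
    rfl
  haveI hV₁N : V₁.Normal := by
    constructor
    intro x hx e
    have hx' : (x : G₁) ∈ V₁g := Subgroup.mem_subgroupOf.1 hx
    refine Subgroup.mem_subgroupOf.2 ?_
    obtain ⟨h, c, hc, he⟩ := hdec ⟨e, hE₁X e.2⟩
    have he' : (e : G₁) = (h : G₁) * c := he
    show (e : G₁) * x * (e : G₁)⁻¹ ∈ V₁g
    rw [he', hconjc h c hc x (hV₁gV hx')]
    obtain ⟨hv', e1⟩ := hζconj h x (hV₁gV hx')
    refine (hV₁gm _ hv').2 ?_
    rw [e1, (hV₁gm _ (hV₁gV hx')).1 hx', mul_one, mul_inv_cancel]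
  let π : E₁ →* E₁ ⧸ V₁ := QuotientGroup.mk' V₁
  have hπs : Function.Surjective π := QuotientGroup.mk'_surjective V₁
  let j : Vg →* E₁ := Subgroup.inclusion hVgE₁
  have hζr : ∀ v : Vg, ζ v ∈ (translHom (p := p)).range := by
    intro v
    rw [translHom_range]
    exact hVg1 v v.2
  let κ : Vg →* Multiplicative (Fin 2 → ZMod p) :=
    (MonoidHom.ofInjective (translHom_injective (p := p))).symm.toMonoidHom.comp (ζ.codRestrict _ hζr)
  have hκ : ∀ v, translHom (κ v) = ζ v := by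
    intro v
    have h1 := (MonoidHom.ofInjective (translHom_injective (p := p))).apply_symm_apply (ζ.codRestrict _ hζr v)
    exact congrArg Subtype.val h1
  have hκs : Function.Surjective κ := by
    intro s
    have hs : translHom s ∈ qdKer p := by
      have h1 : translHom s ∈ (translHom (p := p)).range := ⟨s, rfl⟩
      rwa [translHom_range] at h1
    obtain ⟨v, hv, e⟩ := hVg2 _ hs
    refine ⟨⟨v, hv⟩, translHom_injective ?_⟩
    rw [hκ]
    exact e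
  have hker : κ.ker ≤ (π.comp j).ker := by
    intro v hv
    have h1 : κ v = 1 := hv
    have h2 : ζ v = 1 := by
      rw [← hκ, h1, map_one]
    refine (QuotientGroup.eq_one_iff _).2 (Subgroup.mem_subgroupOf.2 ?_)
    exact (hV₁gm v v.2).2 h2
  let ψ : Multiplicative (Fin 2 → ZMod p) →* E₁ ⧸ V₁ := κ.liftOfSurjective hκs ⟨π.comp j, hker⟩
  have hψ : ∀ v, ψ (κ v) = π (j v) := fun v => MonoidHom.liftOfRightInverse_comp_apply _ _ _ _ v
  have hψinj : Function.Injective ψ := by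
    rw [injective_iff_map_eq_one]
    intro s hs
    obtain ⟨v, rfl⟩ := hκs s
    rw [hψ] at hs
    have h1 : j v ∈ V₁ := (QuotientGroup.eq_one_iff _).1 hs
    have h2 : (v : G₁) ∈ V₁g := Subgroup.mem_subgroupOf.1 h1
    have h3 := (hV₁gm v v.2).1 h2
    apply translHom_injective
    rw [hκ, map_one]
    exact h3
  let ρ₀ : E₁ →* SL(2, ZMod p) := f.comp (Subgroup.inclusion hE₁X)
  have hρ₀ : ∀ x ∈ V₁, ρ₀ x = 1 := by
    intro x hx
    have hx' : (x : G₁) ∈ V₁g := Subgroup.mem_subgroupOf.1 hx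
    have hxH : (x : G₁) ∈ H₂ := hVgH (hV₁gV hx')
    have h1 := hf ⟨x, hxH⟩
    have h2 : ρ₀ x = f ⟨x, hHX hxH⟩ := rfl
    rw [h2, h1]
    have h3 := (hV₁gm _ (hV₁gV hx')).1 hx'
    show qdBlock p (θ₂ ⟨x, hxH⟩) = 1
    have h4 : θ₂ ⟨x, hxH⟩ = 1 := h3
    rw [h4, map_one]
  let ρ : E₁ ⧸ V₁ →* SL(2, ZMod p) := QuotientGroup.lift V₁ ρ₀ hρ₀
  have hρπ : ∀ e : E₁, ρ (π e) = f ⟨e, hE₁X e.2⟩ := fun e => rfl
  have hρs : Function.Surjective ρ := by
    intro b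
    obtain ⟨a, rfl⟩ : ∃ a, qdBlock p a = b := block_surjective b
    obtain ⟨h, rfl⟩ := hθ₂ a
    obtain ⟨n, hn, c, hc, e⟩ := exists_normalizer_mul_of_sylow C T₀ (h : G₁)
    have hnX : n ∈ X := by
      have e1 : n = (h : G₁) * c⁻¹ := by
        rw [e]
        group
      rw [e1]
      exact X.mul_mem (hHX h.2) (X.inv_mem (hCX hc))
    have hnD : n ∈ Subgroup.normalizer (D : Set G₁) :=
      sup_mem_normalizer hn (by
        rw [Subgroup.normalizer_eq_top Q₁]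
        trivial)
    refine ⟨π ⟨n, hnX, hnD⟩, ?_⟩
    rw [hρπ]
    have h1 : (⟨(h : G₁), hHX h.2⟩ : X) = ⟨n, hnX⟩ * ⟨c, hCX hc⟩ := Subtype.ext e
    have h2 := hf h
    rw [h1, map_mul, hfC ⟨c, hCX hc⟩ hc, mul_one] at h2
    exact h2
  have hact : ∀ g s, g * ψ s * g⁻¹ = ψ (slAct (ρ g) s) := by
    intro g s
    obtain ⟨e, rfl⟩ := hπs g
    obtain ⟨v, rfl⟩ := hκs s
    obtain ⟨h, c, hc, he⟩ := hdec ⟨e, hE₁X e.2⟩
    have he' : (e : G₁) = (h : G₁) * c := he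
    obtain ⟨hv', e1⟩ := hζconj h v v.2
    let v' : Vg := ⟨(h : G₁) * v * (h : G₁)⁻¹, hv'⟩
    have e2 : e * j v * e⁻¹ = j v' := by
      apply Subtype.ext
      show (e : G₁) * v * (e : G₁)⁻¹ = (h : G₁) * v * (h : G₁)⁻¹
      rw [he']
      exact hconjc h c hc v v.2
    have e3 : ρ (π e) = r h := by
      rw [hρπ]
      have h1 : (⟨(e : G₁), hE₁X e.2⟩ : X) = ⟨h, hHX h.2⟩ * ⟨c, hCX hc⟩ := Subtype.ext he
      rw [h1, map_mul, hfC ⟨c, hCX hc⟩ hc, mul_one, hf h]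
    have e4 : κ v' = slAct (ρ (π e)) (κ v) := by
      apply translHom_injective
      rw [hκ, e3]
      have h2 := translHom_conj (θ₂ h) (κ v)
      rw [hκ] at h2
      refine e1.trans (h2.trans ?_)
      rfl
    rw [hψ, ← map_mul, ← map_inv, ← map_mul, e2, ← hψ, e4]
  have hinv := involves_qd_of_action hp2 ψ hψinj ρ hρs hact
  have h5 : Involves (QdA p) (E₁ ⧸ V₁) := hinv
  have h6 : Involves (E₁ ⧸ V₁) E₁ := Cfsg.Agent.H09.involves_quotient V₁
  have h7 : Involves (QdA p) E₁ := Cfsg.Agent.H09.Involves.trans' h5 h6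
  exact involves_of_injective h7 (Subgroup.inclusion (inf_le_right : E₁ ≤ Subgroup.normalizer (D : Set G₁)))
    (Subgroup.inclusion_injective _)

end Core

end Cfsg.Agent.H24
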