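import Mathlib
import Cfsg.Agent.Lib.H24.QdLocal2

/-!
A maximal `p`-subgroup `Q₁` whose normalizer involves `Qd(p)`, when `Q₁` is normal: the Sylow subgroups of `C(Q₁)` lie in `Q₁`.
-/

set_option autoImplicit false

namespace Cfsg.Agent.H24

open Cfsg Matrix MatrixGroups Cfsg.Agent.H12.Qd Cfsg.Agent.H14

section Core

variable {G₁ : Type*} [Group G₁] [Finite G₁] {p : ℕ} [Fact p.Prime]

theorem sylow_centralizer_le_of_max (hp2 : p ≠ 2) {Q₁ : Subgroup G₁} [hQ₁ : Q₁.Normal] (hQp : IsPGroup p Q₁)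
    (hmax : ∀ D : Subgroup G₁, IsPGroup p D → Q₁ < D → ¬ Involves (QdA p) ↥(Subgroup.normalizer (D : Set G₁)))
    {H : Subgroup G₁} (θ : H →* QdA p) (hθ : Function.Surjective θ)
    (T₀ : Sylow p (Subgroup.centralizer (Q₁ : Set G₁))) :
    (T₀ : Subgroup _).map (Subgroup.centralizer (Q₁ : Set G₁)).subtype ≤ Q₁ := by
  classical
  by_contra hT
  let C : Subgroup G₁ := Subgroup.centralizer (Q₁ : Set G₁)
  haveI hCn : C.Normal := Subgroup.normal_centralizer
  let T : Subgroup G₁ := (T₀ : Subgroup C).map C.subtype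
  let D : Subgroup G₁ := T ⊔ Q₁
  have hTp : IsPGroup p T := T₀.isPGroup'.map _
  have hDp : IsPGroup p D := hTp.to_sup_of_normal_right hQp
  have hlt : Q₁ < D := by
    refine lt_of_le_of_ne le_sup_right fun e => hT ?_
    have h1 : T ≤ D := le_sup_left
    rw [← e] at h1
    exact h1
  have hnot := hmax D hDp hlt
  by_cases hcase : ∀ h : H, (h : G₁) ∈ C → θ h = 1
  · -- `θ` kills `H ∩ C`: extend over `HC` and use the Frattini argument
    obtain ⟨X, f, hHX, hf, hCX, hfC, -⟩ := exists_ext_trivial_on_normal C H θ hcase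
    let M : Subgroup G₁ := X ⊓ Subgroup.normalizer (D : Set G₁)
    have hMX : M ≤ X := inf_le_left
    refine hnot (involves_of_le_of_surj (inf_le_right : M ≤ Subgroup.normalizer (D : Set G₁)) (f.comp (Subgroup.inclusion hMX)) ?_)
    intro a
    obtain ⟨h, rfl⟩ := hθ a
    obtain ⟨n, hn, c, hc, e⟩ := exists_normalizer_mul_of_sylow C T₀ (h : G₁)
    have hnX : n ∈ X := by
      have e1 : n = (h : G₁) * c⁻¹ := by
        rw [e]
        group
      rw [e1]
      exact X.mul_mem (hHX h.2) (X.inv_mem (hCX hc))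
    have hnD : n ∈ Subgroup.normalizer (D : Set G₁) :=
      sup_mem_normalizer hn (by
        rw [Subgroup.normalizer_eq_top Q₁]
        trivial)
    refine ⟨⟨n, hnX, hnD⟩, ?_⟩
    have h1 : (⟨(h : G₁), hHX h.2⟩ : X) = ⟨n, hnX⟩ * ⟨c, hCX hc⟩ := Subtype.ext e
    have h2 := hf h
    rw [h1, map_mul, hfC ⟨c, hCX hc⟩ hc, mul_one] at h2
    exact h2
  · -- `θ(H ∩ C)` contains the translations
    push Not at hcase
    obtain ⟨h₀, hh₀C, hh₀⟩ := hcase
    let CH : Subgroup H := C.subgroupOf H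
    haveI hCHn : CH.Normal := inferInstance
    let W : Subgroup (QdA p) := CH.map θ
    have hWn : W.Normal := Subgroup.Normal.map hCHn θ hθ
    have hWne : W ≠ ⊥ := by
      intro e
      have h1 : θ h₀ ∈ W := ⟨h₀, Subgroup.mem_subgroupOf.2 hh₀C, rfl⟩
      rw [e] at h1
      exact hh₀ h1
    have hkW : qdKer p ≤ W := ker_le_of_normal hWn hWne
    haveI hKn : (qdKer p).Normal := MonoidHom.normal_ker _
    let Y : Subgroup H := CH ⊓ (qdKer p).comap θ
    haveI hYn : Y.Normal := Subgroup.normal_inf_normal _ _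
    let θY : Y →* qdKer p := (θ.comp Y.subtype).codRestrict (qdKer p) (fun y => y.2.2)
    have hθY : Function.Surjective θY := by
      rintro ⟨e, he⟩
      obtain ⟨y, hy, rfl⟩ := hkW he
      exact ⟨⟨y, hy, he⟩, rfl⟩
    let V₀ : Sylow p Y := default
    have hkp : IsPGroup p (qdKer p) := isPGroup_ker_block p
    have hV₀ : (V₀ : Subgroup Y).map θY = ⊤ := by
      have h1 := (V₀.mapSurjective hθY).3 (Q := ⊤) (by
        intro x
        obtain ⟨k, hk⟩ := hkp x.1
        exact ⟨k, Subtype.ext hk⟩) le_top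
      rw [Sylow.coe_mapSurjective] at h1
      exact h1.symm
    let V : Subgroup H := (V₀ : Subgroup Y).map Y.subtype
    let Vg : Subgroup G₁ := V.map H.subtype
    have hVgp : IsPGroup p Vg := (V₀.isPGroup'.map _).map _
    let H₂ : Subgroup G₁ := H ⊓ Subgroup.normalizer (Vg : Set G₁)
    have hH₂H : H₂ ≤ H := inf_le_left
    let θ₂ : H₂ →* QdA p := θ.comp (Subgroup.inclusion hH₂H)
    have hVgH : Vg ≤ H₂ := le_inf (Subgroup.map_subtype_le _) Subgroup.le_normalizer
    have hVg2 : ∀ e ∈ qdKer p, ∃ v, ∃ hv : v ∈ Vg, θ₂ ⟨v, hVgH hv⟩ = e := by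
      intro e he
      have h1 : (⟨e, he⟩ : qdKer p) ∈ (V₀ : Subgroup Y).map θY := by
        rw [hV₀]
        trivial
      obtain ⟨y, hy, ey⟩ := h1
      have hv : ((y : H) : G₁) ∈ Vg := ⟨(y : H), ⟨y, hy, rfl⟩, rfl⟩
      refine ⟨_, hv, ?_⟩
      exact congrArg Subtype.val ey
    have hVg1 : ∀ v (hv : v ∈ Vg), θ₂ ⟨v, hVgH hv⟩ ∈ qdKer p := by
      rintro _ ⟨w, ⟨y, hy, rfl⟩, rfl⟩
      exact y.2.2
    have hθ₂ : Function.Surjective θ₂ := by
      intro a
      obtain ⟨h, rfl⟩ := hθ a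
      obtain ⟨n, hn, y, hy, e⟩ := exists_normalizer_mul_of_sylow Y V₀ h
      have hnVg : (n : G₁) ∈ Subgroup.normalizer (Vg : Set G₁) :=
        Subgroup.le_normalizer_map H.subtype (Subgroup.mem_map_of_mem _ hn)
      have hnH₂ : (n : G₁) ∈ H₂ := ⟨n.2, hnVg⟩
      have hyk : θ y ∈ qdKer p := hy.2
      obtain ⟨v, hv, ev⟩ := hVg2 _ hyk
      refine ⟨⟨n, hnH₂⟩ * ⟨v, hVgH hv⟩, ?_⟩
      rw [map_mul, ev]
      show θ n * θ y = θ h
      rw [← map_mul, ← e]
    by_cases hVgQ : Vg ≤ Q₁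
    · exact hnot (involves_of_central_plane hp2 H₂ θ₂ hθ₂ Vg hVgQ hVgH inf_le_right hVg1 hVg2 T₀)
    · -- otherwise `Vg Q₁` contradicts the maximality
      let D' : Subgroup G₁ := Vg ⊔ Q₁
      have hD'p : IsPGroup p D' := hVgp.to_sup_of_normal_right hQp
      have hlt' : Q₁ < D' := by
        refine lt_of_le_of_ne le_sup_right fun e => hVgQ ?_
        have h1 : Vg ≤ D' := le_sup_left
        rw [← e] at h1
        exact h1
      refine hmax D' hD'p hlt' (involves_of_le_of_surj (M := H₂) (fun x hx => ?_) θ₂ hθ₂)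
      exact sup_mem_normalizer hx.2 (by
        rw [Subgroup.normalizer_eq_top Q₁]
        trivial)

end Core

end Cfsg.Agent.H24
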