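import Mathlib
import Cfsg.Agent.Lib.H24.QdLocal3
import Cfsg.Agent.Lib.H24.ModSec
import Cfsg.Agent.Lib.H24.FusGroup

/-!
The normalizer system of a subgroup in the system of a group is realized by the normalizer; so a group without sections `A` has a system without
sections `A`.
-/

set_option autoImplicit false

namespace Cfsg.Agent.H24

open Cfsg Cfsg.FusionSystem Cfsg.Agent.H24.ModG

section Realize

universe u

variable {G : Type u} [Group G] {S Q : Subgroup G}

/-- The inclusion realizes the normalizer system of `Q` in `F_S(G)`. -/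
theorem realized_normalizer (hQS : Q ≤ S) {N : FusionSystem (normalizerIn S Q)}
    (hN : (groupFusionSystem S).IsNormalizerSystem Q N) :
    N.IsRealizedBy (Subgroup.inclusion (inf_le_right : normalizerIn S Q ≤ Subgroup.normalizer (Q : Set G))) := by
  refine ⟨Subgroup.inclusion_injective _, fun P hP φ hφ => ?_⟩
  rw [hN P]
  constructor
  · rintro ⟨h1, h2, h3, ψ, ⟨-, -, g, hg⟩, hψ, hm⟩
    rw [map_subgroupOf_eq_iff le_sup_right] at hm
    have hgn : g ∈ Subgroup.normalizer (Q : Set G) := by
      refine mem_normalizer_of_forall ?_ ?_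
      · intro y hy
        have := hm.1 y hy
        rwa [hg] at this
      · intro y hy
        obtain ⟨x, hx, e⟩ := hm.2 y hy
        rw [hg] at e
        have e1 : g⁻¹ * y * g = x := by
          rw [← e]
          group
        rw [e1]
        exact hx
    refine ⟨⟨g, hgn⟩, fun x => Subtype.ext ?_⟩
    show φ x = g * x * g⁻¹
    rw [← hψ x, hg]
    rfl
  · rintro ⟨⟨g, hgn⟩, hg⟩
    have hg' : ∀ x : P, φ x = g * x * g⁻¹ := fun x => congrArg Subtype.val (hg x)
    have hPS : P ≤ S := hP.trans inf_le_left
    have hPQS : P ⊔ Q ≤ S := sup_le hPS hQS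
    have hval : P ⊔ Q ≤ S.comap (MulAut.conj g).toMonoidHom := by
      refine sup_le (fun x hx => ?_) (fun q hq => ?_)
      · show g * x * g⁻¹ ∈ S
        rw [← hg' ⟨x, hx⟩]
        exact (hφ ⟨x, hx⟩).1
      · show g * q * g⁻¹ ∈ S
        exact hQS (conj_mem_of_normalizer hgn hq)
    refine ⟨⟨hPS, fun x => (hφ x).1, g, hg'⟩, hP, hφ, conjHom (P ⊔ Q) g, ⟨hPQS, fun x => hval x.2, g, fun x => rfl⟩, fun x => (hg' x).symm, ?_⟩
    rw [map_subgroupOf_eq_iff le_sup_right]
    refine ⟨fun x hx => conj_mem_of_normalizer hgn hx, fun y hy => ?_⟩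
    have h1 := conj_inv_mem_of_normalizer hgn hy
    refine ⟨_, h1, ?_⟩
    show g * (g⁻¹ * y * g) * g⁻¹ = y
    group

/-- A group without sections `A` has a system without sections `A`. -/
theorem sectionFree_of_not_involves [Finite G] {p : ℕ} [Fact p.Prime] (P : Sylow p G) {A : Type*} [Group A] (hA : ¬ Involves A G) :
    (groupFusionSystem (P : Subgroup G)).IsSectionFree p A := by
  intro Q hQn hQc N hN L _ ι hM hinv
  obtain ⟨T, hT⟩ := (fullyNormalized_iff P hQn.1).1 hQn
  have hr := realized_normalizer hQn.1 hN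
  have hT' : (T : Subgroup _) = (Subgroup.inclusion (inf_le_right : normalizerIn (P : Subgroup G) Q ≤ Subgroup.normalizer (Q : Set G))).range := by
    rw [hT, Subgroup.inclusion_range]
    rfl
  have hU := involves_of_realized hr T hT' (Q.subgroupOf (Subgroup.normalizer (Q : Set G))) Subgroup.normal_in_normalizer
    (by
      rw [hT]
      intro x hx
      exact Subgroup.mem_subgroupOf.2 ⟨hQn.1 (Subgroup.mem_subgroupOf.1 hx), x.2⟩)
    (by
      intro x hx hcen
      rw [hT] at hx
      have hx' : (x : G) ∈ centralizerIn (P : Subgroup G) Q := by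
        refine ⟨(Subgroup.mem_subgroupOf.1 hx).1, ?_⟩
        refine Subgroup.mem_centralizer_iff.2 fun q hq => ?_
        have h1 := hcen ⟨q, Subgroup.le_normalizer hq⟩ (Subgroup.mem_subgroupOf.2 hq)
        exact (congrArg Subtype.val h1).symm
      exact Subgroup.mem_subgroupOf.2 (hQc.2 Q (isConj_refl hQn.1) hx'))
    hM hinv
  exact hA (Cfsg.Agent.H09.Involves.trans' hU (Cfsg.Agent.H09.involves_subgroup _))

end Realize

end Cfsg.Agent.H24
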