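import Mathlib
import Cfsg.Agent.Lib.H24.CoreM
import Cfsg.Agent.Lib.H24.ZJFus2
import Cfsg.Agent.Lib.H08.CQ.Sect

/-!
`p`-stability passes to subgroups; the core of the system of a normal subgroup is normal in the system.
-/

set_option autoImplicit false
set_option linter.style.haveILetI false

namespace Cfsg.Agent.H24.Stb

open Cfsg Cfsg.FusionSystem Cfsg.Agent.H25

section StableSub

/-- Normalizer `p`-stability passes to subgroups. -/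
theorem stable_sub {G : Type*} [Group G] [Finite G] {p : ℕ} [Fact p.Prime] (hst : IsNormalizerPStable p G)
    (H : Subgroup G) : IsNormalizerPStable p H := by
  intro B hB g hg hq
  let B' : Subgroup G := B.map H.subtype
  have hB' : IsPGroup p B' := hB.map _
  have hn : ∀ x ∈ Subgroup.normalizer (B : Set H), (x : G) ∈ Subgroup.normalizer (B' : Set G) := by
    intro x hx
    rw [Subgroup.mem_normalizer_iff]
    intro y
    constructor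
    · rintro ⟨b, hb, rfl⟩
      exact ⟨x * b * x⁻¹, (Subgroup.mem_normalizer_iff.1 hx b).1 hb, rfl⟩
    · rintro ⟨b, hb, hbe⟩
      have hbe' : (b : G) = x * y * (x : G)⁻¹ := hbe
      have hyH : y = ((x⁻¹ * b * x : H) : G) := by
        show y = (x : G)⁻¹ * (b : G) * x
        rw [hbe']
        group
      rw [hyH]
      refine ⟨x⁻¹ * b * x, ?_, rfl⟩
      refine (Subgroup.mem_normalizer_iff.1 hx (x⁻¹ * b * x)).2 ?_
      have e : x * (x⁻¹ * b * x) * x⁻¹ = b := by group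
      rwa [e]
  have hq' : ⁅⁅B', Subgroup.zpowers (g : G)⁆, Subgroup.zpowers (g : G)⁆ = ⊥ := by
    have h1 : (Subgroup.zpowers g).map H.subtype = Subgroup.zpowers (g : G) := MonoidHom.map_zpowers _ _
    have h2 := congrArg (Subgroup.map H.subtype) hq
    rw [Subgroup.map_commutator, Subgroup.map_commutator, h1, Subgroup.map_bot] at h2
    exact h2
  have h1 := hst B' hB' g (hn g hg) hq'
  let X := Subgroup.normalizer (B : Set H)
  let Y := Subgroup.normalizer (B' : Set G)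
  let inc : X →* Y := MonoidHom.codRestrict (H.subtype.comp X.subtype) Y (fun x => hn x x.2)
  let K₁ : Subgroup X := (Subgroup.centralizer (B : Set H)).subgroupOf X
  let K₂ : Subgroup Y := (Subgroup.centralizer (B' : Set G)).subgroupOf Y
  let π₁ : X →* X ⧸ K₁ := QuotientGroup.mk' K₁
  let π₂ : X →* Y ⧸ K₂ := (QuotientGroup.mk' K₂).comp inc
  have hsurj : Function.Surjective π₁ := QuotientGroup.mk'_surjective K₁
  have hkey : ∀ y : X, π₂ y = 1 → π₁ y = 1 := by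
    intro y hy
    have h2 : inc y ∈ K₂ := (QuotientGroup.eq_one_iff _).1 hy
    refine (QuotientGroup.eq_one_iff _).2 ?_
    have h3 : ((y : H) : G) ∈ Subgroup.centralizer (B' : Set G) := h2
    rw [Subgroup.mem_subgroupOf, Subgroup.mem_centralizer_iff]
    intro b hb
    rw [Subgroup.mem_centralizer_iff] at h3
    exact Subtype.ext (h3 b ⟨b, hb, rfl⟩)
  let Tq : Subgroup (X ⧸ K₁) := ((Cfsg.pCore p (Y ⧸ K₂)).comap π₂).map π₁
  have hTn : Tq.Normal := by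
    haveI : (Cfsg.pCore p (Y ⧸ K₂)).Normal := Cfsg.Agent.H01.pCore_normal (G := Y ⧸ K₂) p
    exact Subgroup.Normal.map (Subgroup.Normal.comap inferInstance π₂) π₁ hsurj
  have hTp : IsPGroup p Tq := by
    rintro ⟨_, y, hy, rfl⟩
    obtain ⟨k, hk⟩ := (Cfsg.Agent.H01.pCore_isPGroup (G := Y ⧸ K₂) p) ⟨π₂ y, hy⟩
    have hk' : (π₂ y) ^ p ^ k = 1 := congrArg Subtype.val hk
    refine ⟨k, Subtype.ext ?_⟩
    show (π₁ y) ^ p ^ k = 1
    rw [← map_pow]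
    apply hkey
    rw [map_pow, hk']
  have hle : Tq ≤ Cfsg.pCore p (X ⧸ K₁) := Cfsg.Agent.H01.le_pCore hTn hTp
  exact hle ⟨⟨g, hg⟩, h1, rfl⟩

end StableSub

section Real

variable {Ω : Type*} [Group Ω] {S₁ : Subgroup Ω} {G : Type*} [Group G]

/-- A system realized by conjugation in a subgroup `N` of `G`. -/
def RealIn (F₁ : FusionSystem S₁) (ι₁ : S₁ →* G) (N : Subgroup G) : Prop :=
  Function.Injective ι₁ ∧ ∀ (P : Subgroup Ω) (hP : P ≤ S₁) (φ : P →* Ω) (hφ : ∀ x : P, φ x ∈ S₁),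
    φ ∈ F₁.Hom P ↔ ∃ g ∈ N, ∀ x : P, ι₁ ⟨φ x, hφ x⟩ = g * ι₁ ⟨x, hP x.2⟩ * g⁻¹

/-- The image of a subgroup. -/
def im (ι₁ : S₁ →* G) (A : Subgroup Ω) : Subgroup G := (A.comap S₁.subtype).map ι₁

variable {F₁ : FusionSystem S₁} {ι₁ : S₁ →* G} {N : Subgroup G} {A : Subgroup Ω}

theorem mem_im {x : G} : x ∈ im ι₁ A ↔ ∃ s : S₁, (s : Ω) ∈ A ∧ ι₁ s = x := by
  constructor
  · rintro ⟨s, hs, rfl⟩
    exact ⟨s, hs, rfl⟩
  · rintro ⟨s, hs, rfl⟩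
    exact ⟨s, hs, rfl⟩

theorem mem_im_iff (hι : Function.Injective ι₁) {s : S₁} : ι₁ s ∈ im ι₁ A ↔ (s : Ω) ∈ A := by
  constructor
  · intro h
    obtain ⟨t, ht, e⟩ := mem_im.1 h
    rwa [← hι e]
  · intro h
    exact mem_im.2 ⟨s, h, rfl⟩

theorem im_le_range : im ι₁ A ≤ ι₁.range := by
  rintro _ ⟨s, -, rfl⟩
  exact ⟨s, rfl⟩

theorem realIn_exists (h : RealIn F₁ ι₁ N) {P : Subgroup Ω} {φ : P →* Ω} (hφ : φ ∈ F₁.Hom P) :
    ∃ g ∈ N, ∀ x : P, ι₁ ⟨φ x, hom_val hφ x⟩ = g * ι₁ ⟨x, hom_le hφ x.2⟩ * g⁻¹ :=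
  (h.2 P (hom_le hφ) φ (hom_val hφ)).1 hφ

theorem realIn_mem (h : RealIn F₁ ι₁ N) {P : Subgroup Ω} (hP : P ≤ S₁) {φ : P →* Ω} (hφ : ∀ x : P, φ x ∈ S₁) {g : G}
    (hg : g ∈ N) (e : ∀ x : P, ι₁ ⟨φ x, hφ x⟩ = g * ι₁ ⟨x, hP x.2⟩ * g⁻¹) : φ ∈ F₁.Hom P :=
  (h.2 P hP φ hφ).2 ⟨g, hg, e⟩

/-- Control of conjugation by elements normalizing `W`. -/
def Ctl (ι₁ : S₁ →* G) (N W : Subgroup G) : Prop :=
  ∀ (V : Subgroup Ω) (hV : V ≤ S₁) (c : G), c ∈ N → (∀ (y : Ω) (hy : y ∈ V), c * ι₁ ⟨y, hV hy⟩ * c⁻¹ ∈ ι₁.range) →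
    ∃ c' ∈ N, (∀ (y : Ω) (hy : y ∈ V), c' * ι₁ ⟨y, hV hy⟩ * c'⁻¹ = c * ι₁ ⟨y, hV hy⟩ * c⁻¹) ∧
      c' ∈ Subgroup.normalizer (W : Set G)

theorem ctl_of_normal (hreal : RealIn F₁ ι₁ N) (hA : F₁.IsNormal A) : Ctl ι₁ N (im ι₁ A) := by
  intro V hV c hc hcv
  have hι := hreal.1
  obtain ⟨φ, hφv, hφe⟩ := exists_conj_lift hι hV c (fun y => hcv y y.2)
  have hφF : φ ∈ F₁.Hom V := realIn_mem hreal hV hφv hc hφe
  obtain ⟨ψ, hψ, hψe, hψA⟩ := hA.2 V φ hφF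
  obtain ⟨c', hc', hc'e⟩ := realIn_exists hreal hψ
  have hmap := (map_subgroupOf_eq_iff le_sup_right ψ).1 hψA
  refine ⟨c', hc', ?_, ?_⟩
  · intro y hy
    have h1 := hc'e (Subgroup.inclusion le_sup_left ⟨y, hy⟩)
    have h2 := hφe ⟨y, hy⟩
    have e : (⟨ψ (Subgroup.inclusion le_sup_left ⟨y, hy⟩), hom_val hψ _⟩ : S₁) = ⟨φ ⟨y, hy⟩, hφv _⟩ :=
      Subtype.ext (hψe ⟨y, hy⟩)
    rw [e, h2] at h1
    exact h1.symm
  · rw [Subgroup.mem_normalizer_iff]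
    intro x
    constructor
    · intro h
      obtain ⟨s, hs, rfl⟩ := mem_im.1 h
      have hsup : (s : Ω) ∈ V ⊔ A := Subgroup.mem_sup_right hs
      have h1 := hc'e ⟨s, hsup⟩
      have hmem : ψ ⟨s, hsup⟩ ∈ A := hmap.1 _ hs
      exact mem_im.2 ⟨⟨ψ ⟨s, hsup⟩, hom_val hψ _⟩, hmem, h1⟩
    · intro h
      obtain ⟨s, hs, hse⟩ := mem_im.1 h
      obtain ⟨a, ha, hae⟩ := hmap.2 s hs
      have h1 := hc'e ⟨a, Subgroup.mem_sup_right ha⟩
      have e : (⟨ψ ⟨a, Subgroup.mem_sup_right ha⟩, hom_val hψ _⟩ : S₁) = s := Subtype.ext hae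
      rw [e, hse] at h1
      have h2 : x = ι₁ ⟨a, hA.1 ha⟩ := by
        have h3 : c' * x * c'⁻¹ = c' * ι₁ ⟨a, hA.1 ha⟩ * c'⁻¹ := h1
        exact mul_left_cancel (mul_right_cancel h3)
      rw [h2]
      exact mem_im.2 ⟨_, ha, rfl⟩

theorem normal_of_ctl [Finite S₁] (hreal : RealIn F₁ ι₁ N) {W : Subgroup G} (hWr : W ≤ ι₁.range) (hctl : Ctl ι₁ N W) :
    F₁.IsNormal (ttN ι₁ W) := by
  have hι := hreal.1
  refine ⟨ttN_le, fun P φ hφ => ?_⟩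
  obtain ⟨c, hc, hce⟩ := realIn_exists hreal hφ
  have hPS : P ≤ S₁ := hom_le hφ
  obtain ⟨c', hc', hag, hnorm⟩ := hctl P hPS c hc (fun y hy => ⟨⟨φ ⟨y, hy⟩, hom_val hφ _⟩, hce ⟨y, hy⟩⟩)
  let A : Subgroup Ω := ttN ι₁ W
  have hAS : A ≤ S₁ := ttN_le
  have hsup : P ⊔ A ≤ S₁ := sup_le hPS hAS
  have hW : P ⊔ A ≤ (ι₁.range.comap ((MulAut.conj c').toMonoidHom.comp ι₁)).map S₁.subtype := by
    refine sup_le ?_ ?_
    · intro x hx
      refine ⟨⟨x, hPS hx⟩, ?_, rfl⟩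
      show c' * ι₁ ⟨x, hPS hx⟩ * c'⁻¹ ∈ ι₁.range
      rw [hag x hx]
      exact ⟨_, hce ⟨x, hx⟩⟩
    · intro x hx
      refine ⟨⟨x, hAS hx⟩, ?_, rfl⟩
      show c' * ι₁ ⟨x, hAS hx⟩ * c'⁻¹ ∈ ι₁.range
      exact hWr ((Subgroup.mem_normalizer_iff.1 hnorm _).1 (mem_ttN.1 hx).2)
  have hconj : ∀ y : (P ⊔ A : Subgroup Ω), c' * ι₁ (Subgroup.inclusion hsup y) * c'⁻¹ ∈ ι₁.range := by
    intro y
    obtain ⟨s, hs, hsy⟩ := hW y.2
    have : s = Subgroup.inclusion hsup y := Subtype.ext hsy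
    rw [← this]
    exact hs
  obtain ⟨ψ, hψ, hψv⟩ := exists_conj_lift hι hsup c' hconj
  have hψF : ψ ∈ F₁.Hom (P ⊔ A) := realIn_mem hreal hsup hψ hc' hψv
  refine ⟨ψ, hψF, fun x => ?_, ?_⟩
  · have h1 := hψv (Subgroup.inclusion le_sup_left x)
    have h2 := hce x
    have h3 := hag x x.2
    have e : ι₁ (Subgroup.inclusion hsup (Subgroup.inclusion le_sup_left x)) = ι₁ ⟨x, hPS x.2⟩ := rfl
    rw [e, h3, ← h2] at h1
    exact congrArg Subtype.val (hι h1)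
  · refine map_subgroupOf_eq_of_le le_sup_right hψF fun x hx => ?_
    have hxW := (mem_ttN.1 hx).2
    have h1 := hψv ⟨x, Subgroup.mem_sup_right hx⟩
    refine mem_ttN.2 ⟨hψ _, ?_⟩
    rw [h1]
    exact (Subgroup.mem_normalizer_iff.1 hnorm _).1 hxW

end Real

section Core

variable {Ω : Type*} [Group Ω] {S : Subgroup Ω} {F : FusionSystem S} {G : Type*} [Group G] {ι : S →* G} {p : ℕ}
  {N : Subgroup G}

/-- The inclusion of the part over `N` into `G`. -/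
abbrev iN (ι : S →* G) (N : Subgroup G) : ttN ι N →* G := ι.comp (Subgroup.inclusion ttN_le)

theorem iN_inj (hι : Function.Injective ι) (N : Subgroup G) : Function.Injective (iN ι N) := by
  intro a b h
  have h1 : (⟨(a : Ω), ttN_le a.2⟩ : S) = ⟨(b : Ω), ttN_le b.2⟩ := hι h
  have h2 : (a : Ω) = (b : Ω) := Subtype.mk.inj h1
  exact Subtype.ext h2

theorem mem_iN_range {x : G} : x ∈ (iN ι N).range ↔ x ∈ N ∧ x ∈ ι.range := by
  constructor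
  · rintro ⟨s, rfl⟩
    exact ⟨(mem_ttN.1 s.2).2, ⟨_, rfl⟩⟩
  · rintro ⟨hx, s, rfl⟩
    exact ⟨⟨s, mem_ttN.2 ⟨s.2, hx⟩⟩, rfl⟩

theorem realIn_EN (hι : Function.Injective ι) : RealIn (EN hι N) (iN ι N) N := by
  refine ⟨iN_inj hι N, fun P hP φ hφ => ⟨fun h => ?_, ?_⟩⟩
  · obtain ⟨hP', hv, g, hg, he⟩ := EN_hom h
    exact ⟨g, hg, he⟩
  · rintro ⟨g, hg, he⟩
    exact EN_hom_of hP hφ hg he

/-- The conjugate of a subgroup inside the part over `N`. -/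
def cjV (ι : S →* G) (N : Subgroup G) (h : G) (V : Subgroup Ω) : Subgroup Ω :=
  ttN (iN ι N) ((im (iN ι N) V).map (MulAut.conj h).toMonoidHom)

theorem cjV_le {h : G} {V : Subgroup Ω} : cjV ι N h V ≤ ttN ι N := ttN_le

theorem cjV_spec1 {h : G} {V : Subgroup Ω} (hh : h ∈ Subgroup.normalizer ((iN ι N).range : Set G))
    (hV : V ≤ ttN ι N) {y : Ω} (hy : y ∈ V) :
    ∃ x, ∃ hx : x ∈ cjV ι N h V, iN ι N ⟨x, cjV_le hx⟩ = h * iN ι N ⟨y, hV hy⟩ * h⁻¹ := by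
  have h1 : h * iN ι N ⟨y, hV hy⟩ * h⁻¹ ∈ (iN ι N).range :=
    (Subgroup.mem_normalizer_iff.1 hh _).1 ⟨_, rfl⟩
  obtain ⟨s, hs⟩ := h1
  refine ⟨s, mem_ttN.2 ⟨s.2, ?_⟩, hs⟩
  refine ⟨iN ι N ⟨y, hV hy⟩, mem_im.2 ⟨_, hy, rfl⟩, ?_⟩
  exact hs.symm

theorem cjV_spec2 {h : G} {V : Subgroup Ω} {x : Ω} (hx : x ∈ cjV ι N h V) :
    ∃ y, ∃ hy : y ∈ ttN ι N, y ∈ V ∧ iN ι N ⟨x, cjV_le hx⟩ = h * iN ι N ⟨y, hy⟩ * h⁻¹ := by
  obtain ⟨hx', w, hw, e⟩ := mem_ttN.1 hx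
  obtain ⟨s, hs, rfl⟩ := mem_im.1 hw
  exact ⟨s, s.2, hs, e.symm⟩

variable [Fact p.Prime]

/-- The core of the system of `N`: an element normalizing the part over `N` normalizes its image. -/
theorem normalizes_core [Finite G] [hN : N.Normal] (hι : Function.Injective ι) {h : G}
    (hh : h ∈ Subgroup.normalizer ((iN ι N).range : Set G)) :
    h ∈ Subgroup.normalizer ((im (iN ι N) (EN hι N).core : Subgroup G) : Set G) := by
  classical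
  haveI hfS : Finite S := Finite.of_injective ι hι
  haveI hfT : Finite (ttN ι N) := Cfsg.Agent.H24.finite_of_le (S := S) ttN_le
  let E := EN hι N
  have hreal : RealIn E (iN ι N) N := realIn_EN hι
  have hEn : E.IsNormal E.core := isNormal_core
  let W : Subgroup G := im (iN ι N) E.core
  have hctl : Ctl (iN ι N) N W := ctl_of_normal hreal hEn
  let W₁ : Subgroup G := W.map (MulAut.conj h).toMonoidHom
  have hmemW₁ : ∀ z, z ∈ W₁ ↔ h⁻¹ * z * h ∈ W := by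
    intro z
    constructor
    · rintro ⟨w, hw, rfl⟩
      have e : h⁻¹ * ((MulAut.conj h).toMonoidHom w) * h = w := by
        show h⁻¹ * (h * w * h⁻¹) * h = w
        group
      rw [e]
      exact hw
    · intro hz
      refine ⟨_, hz, ?_⟩
      show h * (h⁻¹ * z * h) * h⁻¹ = z
      group
  have hhinv : h⁻¹ ∈ Subgroup.normalizer ((iN ι N).range : Set G) := Subgroup.inv_mem _ hh
  have hW₁r : W₁ ≤ (iN ι N).range := by
    rintro _ ⟨w, hw, rfl⟩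
    exact (Subgroup.mem_normalizer_iff.1 hh _).1 (im_le_range hw)
  have hctl₁ : Ctl (iN ι N) N W₁ := by
    intro V hV c hc hcv
    let V₀ := cjV ι N h⁻¹ V
    have hdN : h⁻¹ * c * h ∈ N := by
      have := hN.conj_mem c hc h⁻¹
      rwa [inv_inv] at this
    have hd : ∀ (x : Ω) (hx : x ∈ V₀), (h⁻¹ * c * h) * iN ι N ⟨x, cjV_le hx⟩ * (h⁻¹ * c * h)⁻¹ ∈ (iN ι N).range := by
      intro x hx
      obtain ⟨y, hy, hyV, e⟩ := cjV_spec2 hx
      rw [e]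
      have h1 := hcv y hyV
      have e2 : (h⁻¹ * c * h) * (h⁻¹ * iN ι N ⟨y, hy⟩ * h⁻¹⁻¹) * (h⁻¹ * c * h)⁻¹
          = h⁻¹ * (c * iN ι N ⟨y, hV hyV⟩ * c⁻¹) * h⁻¹⁻¹ := by group
      rw [e2]
      exact (Subgroup.mem_normalizer_iff.1 hhinv _).1 h1
    obtain ⟨d', hd'N, hd'a, hd'n⟩ := hctl V₀ cjV_le (h⁻¹ * c * h) hdN hd
    refine ⟨h * d' * h⁻¹, hN.conj_mem d' hd'N h, ?_, ?_⟩
    · intro y hy
      obtain ⟨x, hx, e⟩ := cjV_spec1 hhinv hV hy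
      have h1 := hd'a x hx
      have e' : iN ι N ⟨y, hV hy⟩ = h * iN ι N ⟨x, cjV_le hx⟩ * h⁻¹ := by
        rw [e]
        group
      rw [e']
      have e3 : h * d' * h⁻¹ * (h * iN ι N ⟨x, cjV_le hx⟩ * h⁻¹) * (h * d' * h⁻¹)⁻¹
          = h * (d' * iN ι N ⟨x, cjV_le hx⟩ * d'⁻¹) * h⁻¹ := by group
      rw [e3, h1]
      group
    · rw [Subgroup.mem_normalizer_iff]
      intro z
      rw [hmemW₁, hmemW₁]
      have e : h⁻¹ * (h * d' * h⁻¹ * z * (h * d' * h⁻¹)⁻¹) * h = d' * (h⁻¹ * z * h) * d'⁻¹ := by group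
      rw [e]
      exact Subgroup.mem_normalizer_iff.1 hd'n _
  have hnorm₁ : E.IsNormal (ttN (iN ι N) W₁) := normal_of_ctl hreal hW₁r hctl₁
  have hle : ttN (iN ι N) W₁ ≤ E.core := le_sSup hnorm₁
  have hW₁W : W₁ ≤ W := by
    intro z hz
    obtain ⟨s, rfl⟩ := hW₁r hz
    exact mem_im.2 ⟨s, hle (mem_ttN.2 ⟨s.2, hz⟩), rfl⟩
  have hcard : Nat.card W₁ = Nat.card W :=
    Nat.card_congr (W.equivMapOfInjective _ (MulEquiv.injective _)).toEquiv.symm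
  have hEq : W₁ = W := Subgroup.eq_of_le_of_card_ge hW₁W hcard.ge
  rw [Subgroup.mem_normalizer_iff]
  intro z
  constructor
  · intro hz
    have hz2 : h * z * h⁻¹ ∈ W₁ := by
      refine (hmemW₁ _).2 ?_
      have e : h⁻¹ * (h * z * h⁻¹) * h = z := by group
      rwa [e]
    exact hW₁W hz2
  · intro hz
    have hz' : h * z * h⁻¹ ∈ W₁ := hEq.symm ▸ hz
    have := (hmemW₁ _).1 hz'
    have e : h⁻¹ * (h * z * h⁻¹) * h = z := by group
    rwa [e] at this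

/-- Frattini control: any conjugation between subgroups of the part over `N` agrees with an element
normalizing the image of the core of the system of `N`. -/
theorem control_core [Finite G] [hN : N.Normal] (hr : F.IsRealizedBy ι) (R : Sylow p G)
    (hR : (R : Subgroup G) = ι.range) {V : Subgroup Ω} (hV : V ≤ ttN ι N) (g : G)
    (hg : ∀ (y : Ω) (hy : y ∈ V), g * iN ι N ⟨y, hV hy⟩ * g⁻¹ ∈ ι.range) :
    ∃ g' ∈ Subgroup.normalizer ((im (iN ι N) (EN hr.1 N).core : Subgroup G) : Set G),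
      ∀ (y : Ω) (hy : y ∈ V), g' * iN ι N ⟨y, hV hy⟩ * g'⁻¹ = g * iN ι N ⟨y, hV hy⟩ * g⁻¹ := by
  classical
  have hι := hr.1
  haveI hfS : Finite S := Finite.of_injective ι hι
  haveI hfT : Finite (ttN ι N) := Cfsg.Agent.H24.finite_of_le (S := S) ttN_le
  let E := EN hι N
  have hEn : E.IsNormal E.core := isNormal_core
  have hctl : Ctl (iN ι N) N (im (iN ι N) E.core) := ctl_of_normal (realIn_EN hι) hEn
  obtain ⟨D, hD⟩ := EN_sylow R hR N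
  have hDm : (D.map N.subtype : Subgroup G) = (iN ι N).range := by
    ext x
    constructor
    · rintro ⟨y, hy, rfl⟩
      rw [SetLike.mem_coe, hD] at hy
      obtain ⟨s, rfl⟩ := hy
      exact ⟨s, rfl⟩
    · rintro ⟨s, rfl⟩
      refine ⟨iotaN ι N s, ?_, rfl⟩
      rw [SetLike.mem_coe, hD]
      exact ⟨s, rfl⟩
  have htop := Sylow.normalizer_sup_eq_top D
  rw [hDm] at htop
  have hgm : g ∈ ((Subgroup.normalizer ((iN ι N).range : Set G) ⊔ N : Subgroup G) : Set G) := by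
    rw [htop]
    trivial
  rw [Subgroup.mul_normal] at hgm
  obtain ⟨h, hh, n₀, hn₀, rfl⟩ := Set.mem_mul.1 hgm
  have hn : h * n₀ * h⁻¹ ∈ N := hN.conj_mem n₀ hn₀ h
  have hgeq : h * n₀ = (h * n₀ * h⁻¹) * h := by group
  let n : G := h * n₀ * h⁻¹
  let V₁ := cjV ι N h V
  have hd : ∀ (x : Ω) (hx : x ∈ V₁), n * iN ι N ⟨x, cjV_le hx⟩ * n⁻¹ ∈ (iN ι N).range := by
    intro x hx
    obtain ⟨y, hy, hyV, e⟩ := cjV_spec2 hx
    rw [e]
    refine mem_iN_range.2 ⟨?_, ?_⟩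
    · exact hN.conj_mem _ (hN.conj_mem _ (mem_ttN.1 hy).2 h) n
    · have h1 := hg y hyV
      rw [hgeq] at h1
      have e2 : n * (h * iN ι N ⟨y, hy⟩ * h⁻¹) * n⁻¹ = h * n₀ * h⁻¹ * h * iN ι N ⟨y, hV hyV⟩ * (h * n₀ * h⁻¹ * h)⁻¹ := by
        show (h * n₀ * h⁻¹) * (h * iN ι N ⟨y, hy⟩ * h⁻¹) * (h * n₀ * h⁻¹)⁻¹ = _
        group
      rw [e2]
      exact h1
  obtain ⟨n', hn'N, hn'a, hn'n⟩ := hctl V₁ cjV_le n hn hd
  refine ⟨n' * h, Subgroup.mul_mem _ hn'n (normalizes_core hι hh), ?_⟩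
  intro y hy
  obtain ⟨x, hx, e⟩ := cjV_spec1 hh hV hy
  have h1 := hn'a x hx
  rw [e] at h1
  have e2 : n' * iN ι N ⟨y, hV hy⟩ * (n' * h)⁻¹ = n' * iN ι N ⟨y, hV hy⟩ * h⁻¹ * n'⁻¹ := by group
  calc n' * h * iN ι N ⟨y, hV hy⟩ * (n' * h)⁻¹ = n' * (h * iN ι N ⟨y, hV hy⟩ * h⁻¹) * n'⁻¹ := by group
    _ = n * (h * iN ι N ⟨y, hV hy⟩ * h⁻¹) * n⁻¹ := h1
    _ = _ := by
      show (h * n₀ * h⁻¹) * (h * iN ι N ⟨y, hV hy⟩ * h⁻¹) * (h * n₀ * h⁻¹)⁻¹ = _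
      group

end Core

end Cfsg.Agent.H24.Stb
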