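import Mathlib
import Cfsg.Agent.Lib.H24.StbA
import Cfsg.Agent.Lib.H24.ZJFus1

/-!
The core of the system of a normal subgroup is normal in the whole system; for `p ≥ 5` a system realized
by a normalizer `p`-stable group is constrained.
-/

set_option autoImplicit false
set_option linter.style.haveILetI false

namespace Cfsg.Agent.H24.Stb

open Cfsg Cfsg.FusionSystem Cfsg.Agent.H25

section CoreNormal

variable {Ω : Type*} [Group Ω] {S : Subgroup Ω} {F : FusionSystem S} {G : Type*} [Group G] [Finite G] {ι : S →* G}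
  {p : ℕ} [Fact p.Prime] {N : Subgroup G} [hN : N.Normal]

theorem core_strongly (hr : F.IsRealizedBy ι) (R : Sylow p G) (hR : (R : Subgroup G) = ι.range) :
    F.StronglyClosed (EN hr.1 N).core := by
  have hι := hr.1
  haveI hfS : Finite S := Finite.of_injective ι hι
  haveI hfT : Finite (ttN ι N) := Cfsg.Agent.H24.finite_of_le (S := S) ttN_le
  let E := EN hι N
  have hEn : E.IsNormal E.core := isNormal_core
  have hAT : E.core ≤ ttN ι N := hEn.1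
  refine ⟨hAT.trans ttN_le, fun U hU φ hφ x => ?_⟩
  obtain ⟨g, hg⟩ := IsRealizedBy.exists_conj hr hφ
  have hUT : U ≤ ttN ι N := hU.trans hAT
  obtain ⟨g', hg'n, hg'a⟩ := control_core hr R hR hUT g (fun y hy => ⟨⟨φ ⟨y, hy⟩, hom_val hφ _⟩, hg ⟨y, hy⟩⟩)
  have h1 := hg x
  have h2 := hg'a x x.2
  have h3 : iN ι N ⟨x, hUT x.2⟩ ∈ im (iN ι N) E.core := mem_im.2 ⟨_, hU x.2, rfl⟩
  have h4 := (Subgroup.mem_normalizer_iff.1 hg'n _).1 h3
  rw [h2] at h4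
  obtain ⟨s, hs, hse⟩ := mem_im.1 h4
  have h5 : ι ⟨φ x, hom_val hφ x⟩ = ι ⟨s, ttN_le s.2⟩ := h1.trans hse.symm
  have h6 : φ x = s := congrArg Subtype.val (hι h5)
  rw [h6]
  exact hs

theorem core_le_radical (hS : IsPGroup p S) (hr : F.IsRealizedBy ι) (R : Sylow p G) (hR : (R : Subgroup G) = ι.range)
    {Q : Subgroup Ω} (hQc : F.IsCentric Q) (hQr : F.IsRadical p Q) : (EN hr.1 N).core ≤ Q := by
  classical
  have hι := hr.1
  haveI hfS : Finite S := Finite.of_injective ι hι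
  haveI hfT : Finite (ttN ι N) := Cfsg.Agent.H24.finite_of_le (S := S) ttN_le
  let E := EN hι N
  have hEn : E.IsNormal E.core := isNormal_core
  let A : Subgroup Ω := E.core
  have hAT : A ≤ ttN ι N := hEn.1
  have hAS : A ≤ S := hAT.trans ttN_le
  let W : Subgroup G := im (iN ι N) A
  have hQS : Q ≤ S := hQc.1
  haveI hfQ : Finite Q := finite_of_le hQS
  have hWN : W ≤ N := by
    rintro _ ⟨s, -, rfl⟩
    exact (mem_ttN.1 s.2).2
  have hmemW : ∀ (x : Ω) (hx : x ∈ S), ι ⟨x, hx⟩ ∈ W ↔ x ∈ A := by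
    intro x hx
    constructor
    · intro h
      obtain ⟨s, hs, e⟩ := mem_im.1 h
      have h1 : (⟨(s : Ω), ttN_le s.2⟩ : S) = ⟨x, hx⟩ := hι e
      have h2 : (s : Ω) = x := congrArg Subtype.val h1
      rwa [← h2]
    · intro h
      exact mem_im.2 ⟨⟨x, hAT h⟩, h, rfl⟩
  -- `S` normalizes `W`
  have hSW : ∀ s : S, ι s ∈ Subgroup.normalizer (W : Set G) := by
    intro s
    apply normalizes_core hι
    rw [Subgroup.mem_normalizer_iff]
    intro x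
    rw [mem_iN_range, mem_iN_range]
    have hsr : ι s ∈ ι.range := ⟨s, rfl⟩
    constructor
    · rintro ⟨h1, h2⟩
      exact ⟨hN.conj_mem _ h1 _, ι.range.mul_mem (ι.range.mul_mem hsr h2) (ι.range.inv_mem hsr)⟩
    · rintro ⟨h1, h2⟩
      have e : x = (ι s)⁻¹ * (ι s * x * (ι s)⁻¹) * ((ι s)⁻¹)⁻¹ := by group
      rw [e]
      exact ⟨hN.conj_mem _ h1 _, ι.range.mul_mem (ι.range.mul_mem (ι.range.inv_mem hsr) h2) (ι.range.inv_mem (ι.range.inv_mem hsr))⟩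
  have hAn : ∀ s ∈ S, ∀ a ∈ A, s * a * s⁻¹ ∈ A := by
    intro s hs a ha
    have h1 : ι ⟨a, hAS ha⟩ ∈ W := (hmemW a (hAS ha)).2 ha
    have h2 := (Subgroup.mem_normalizer_iff.1 (hSW ⟨s, hs⟩) _).1 h1
    have e : ι ⟨s, hs⟩ * ι ⟨a, hAS ha⟩ * (ι ⟨s, hs⟩)⁻¹ = ι ⟨s * a * s⁻¹, S.mul_mem (S.mul_mem hs (hAS ha)) (S.inv_mem hs)⟩ := by
      rw [← map_mul, ← map_inv, ← map_mul]
      rfl
    rw [e] at h2
    exact (hmemW _ _).1 h2
  by_contra hnot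
  obtain ⟨a, haA, haN, haQ⟩ := exists_normalizing_of_not_le hS hQS hAS hAn hnot
  -- the predicate defining the normal `p`-subgroup
  let Pd : MulAut Q → Prop := fun α =>
    (∀ q : Q, ((α q : Q) : Ω) * (q : Ω)⁻¹ ∈ ttN ι N) ∧
      ∃ a' ∈ W, ∀ (v : Q), (v : Ω) ∈ ttN ι N → ι ⟨α v, hQS (α v).2⟩ = a' * ι ⟨v, hQS v.2⟩ * a'⁻¹
  have hcomb : ∀ {x y : Ω}, x ∈ ttN ι N → y ∈ ttN ι N → x * y ∈ ttN ι N := fun h1 h2 => Subgroup.mul_mem _ h1 h2
  have hof : ∀ (α : MulAut Q) (hα : ∀ q : Q, ((α q : Q) : Ω) * (q : Ω)⁻¹ ∈ ttN ι N) (v : Q), (v : Ω) ∈ ttN ι N →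
      ((α v : Q) : Ω) ∈ ttN ι N := by
    intro α hα v hv
    have h1 := hcomb (hα v) hv
    simpa using h1
  have hPd1 : Pd 1 := by
    refine ⟨fun q => ?_, 1, W.one_mem, fun v _ => ?_⟩
    · have : ((1 : MulAut Q) q : Q) = q := rfl
      rw [this, mul_inv_cancel]
      exact Subgroup.one_mem _
    · have : ((1 : MulAut Q) v : Q) = v := rfl
      simp [this]
  have hPdmul : ∀ {α β : MulAut Q}, Pd α → Pd β → Pd (α * β) := by
    rintro α β ⟨hα1, a₁, ha₁, hα2⟩ ⟨hβ1, b₁, hb₁, hβ2⟩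
    refine ⟨fun q => ?_, a₁ * b₁, W.mul_mem ha₁ hb₁, fun v hv => ?_⟩
    · have e : (((α * β) q : Q) : Ω) * (q : Ω)⁻¹ = ((α (β q) : Q) : Ω) * ((β q : Q) : Ω)⁻¹ * (((β q : Q) : Ω) * (q : Ω)⁻¹) := by
        show ((α (β q) : Q) : Ω) * (q : Ω)⁻¹ = _
        group
      rw [e]
      exact hcomb (hα1 _) (hβ1 _)
    · have h1 := hα2 (β v) (hof β hβ1 v hv)
      have h2 := hβ2 v hv
      show ι ⟨((α (β v) : Q) : Ω), _⟩ = _
      rw [h1, h2]
      group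
  have hPdinv : ∀ {α : MulAut Q}, Pd α → Pd α⁻¹ := by
    rintro α ⟨hα1, a₁, ha₁, hα2⟩
    have hfirst : ∀ q : Q, ((α⁻¹ q : Q) : Ω) * (q : Ω)⁻¹ ∈ ttN ι N := by
      intro q
      have h1 := hα1 (α⁻¹ q)
      have e : ((α (α⁻¹ q) : Q)) = q := by
        show (α * α⁻¹) q = q
        rw [mul_inv_cancel]
        rfl
      rw [e] at h1
      have h2 := Subgroup.inv_mem _ h1
      simpa using h2
    refine ⟨hfirst, a₁⁻¹, W.inv_mem ha₁, fun v hv => ?_⟩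
    have hu := hof α⁻¹ hfirst v hv
    have h1 := hα2 (α⁻¹ v) hu
    have e : ((α (α⁻¹ v) : Q)) = v := by
      show (α * α⁻¹) v = v
      rw [mul_inv_cancel]
      rfl
    have h2 : ι ⟨v, hQS v.2⟩ = a₁ * ι ⟨(α⁻¹ v : Q), hQS (α⁻¹ v).2⟩ * a₁⁻¹ := by
      rw [← h1]
      congr 2
      exact (congrArg Subtype.val e).symm
    rw [h2]
    group
  have hPdpow : ∀ {α : MulAut Q}, Pd α → ∀ m : ℕ, Pd (α ^ m) := by
    intro α hα m
    induction m with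
    | zero =>
      rw [pow_zero]
      exact hPd1
    | succ m ih =>
      rw [pow_succ']
      exact hPdmul hα ih
  -- conjugation by `a` satisfies the predicate
  have haS : a ∈ S := hAS haA
  have hPda : Pd (autOfNormalizer Q haN) := by
    refine ⟨fun q => ?_, ι ⟨a, haS⟩, (hmemW a haS).2 haA, fun v _ => ?_⟩
    · refine mem_ttN.2 ⟨?_, ?_⟩
      · exact S.mul_mem (S.mul_mem (S.mul_mem haS (hQS q.2)) (S.inv_mem haS)) (S.inv_mem (hQS q.2))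
      · have e : (⟨((autOfNormalizer Q haN q : Q) : Ω) * (q : Ω)⁻¹, S.mul_mem (S.mul_mem (S.mul_mem haS (hQS q.2)) (S.inv_mem haS)) (S.inv_mem (hQS q.2))⟩ : S)
            = ⟨a, haS⟩ * ⟨q, hQS q.2⟩ * ⟨a, haS⟩⁻¹ * ⟨q, hQS q.2⟩⁻¹ := rfl
        rw [e, map_mul, map_mul, map_mul, map_inv, map_inv]
        have h1 : ι ⟨a, haS⟩ ∈ N := (mem_ttN.1 (hAT haA)).2
        have h2 := hN.conj_mem _ (N.inv_mem h1) (ι ⟨q, hQS q.2⟩)
        have e2 : ι ⟨a, haS⟩ * ι ⟨q, hQS q.2⟩ * (ι ⟨a, haS⟩)⁻¹ * (ι ⟨q, hQS q.2⟩)⁻¹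
            = ι ⟨a, haS⟩ * (ι ⟨q, hQS q.2⟩ * (ι ⟨a, haS⟩)⁻¹ * (ι ⟨q, hQS q.2⟩)⁻¹) := by group
        rw [e2]
        exact N.mul_mem h1 h2
    · have e : (⟨((autOfNormalizer Q haN v : Q) : Ω), hQS (autOfNormalizer Q haN v).2⟩ : S)
          = ⟨a, haS⟩ * ⟨v, hQS v.2⟩ * ⟨a, haS⟩⁻¹ := rfl
      rw [e, map_mul, map_mul, map_inv]
  -- elements satisfying the predicate have `p`-power order
  have hfix : ∀ (β : MulAut Q), (∀ q : Q, ((β q : Q) : Ω) * (q : Ω)⁻¹ ∈ ttN ι N) →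
      (∀ v : Q, (v : Ω) ∈ ttN ι N → β v = v) → β ^ Nat.card Q = 1 := by
    intro β hβ1 hβ2
    apply MulEquiv.ext
    intro q
    have hq₀ : ∀ q : Q, ((β q * q⁻¹ : Q) : Ω) ∈ ttN ι N := by
      intro q
      exact hβ1 q
    have hpow : ∀ m : ℕ, (β ^ m) q = (β q * q⁻¹) ^ m * q := by
      intro m
      induction m with
      | zero => simp
      | succ m ih =>
        rw [pow_succ']
        show β ((β ^ m) q) = _
        have e : β q = (β q * q⁻¹) * q := by group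
        rw [ih, map_mul, map_pow, hβ2 _ (hq₀ q), pow_succ, mul_assoc]
        congr 1
    rw [hpow, pow_card_eq_one', one_mul]
    rfl
  have hWp : ∀ w ∈ W, ∃ k : ℕ, w ^ p ^ k = 1 := by
    rintro _ ⟨s, -, rfl⟩
    obtain ⟨k, hk⟩ := hS (Subgroup.inclusion ttN_le s)
    refine ⟨k, ?_⟩
    show (ι (Subgroup.inclusion ttN_le s)) ^ p ^ k = 1
    rw [← map_pow, hk, map_one]
  have hPdp : ∀ {α : MulAut Q}, Pd α → ∃ n : ℕ, α ^ p ^ n = 1 := by
    intro α hα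
    obtain ⟨hα1, a₁, ha₁, hα2⟩ := id hα
    obtain ⟨k, hk⟩ := hWp a₁ ha₁
    -- the power acts on the part over `N` by the power of `a₁`
    have hact : ∀ (m : ℕ) (v : Q), (v : Ω) ∈ ttN ι N →
        ι ⟨(α ^ m) v, hQS ((α ^ m) v).2⟩ = a₁ ^ m * ι ⟨v, hQS v.2⟩ * (a₁ ^ m)⁻¹ := by
      intro m v hv
      induction m with
      | zero => simp
      | succ m ih =>
        have hmem : (((α ^ m) v : Q) : Ω) ∈ ttN ι N := hof (α ^ m) (hPdpow hα m).1 v hv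
        have h1 := hα2 ((α ^ m) v) hmem
        rw [ih] at h1
        have e : (α ^ (m + 1)) v = α ((α ^ m) v) := by
          rw [pow_succ']
          rfl
        have e' : (((α ^ (m + 1)) v : Q) : Ω) = ((α ((α ^ m) v) : Q) : Ω) := by rw [e]
        have e2 : (⟨((α ^ (m + 1)) v : Q), hQS ((α ^ (m + 1)) v).2⟩ : S) = ⟨α ((α ^ m) v), hQS (α ((α ^ m) v)).2⟩ :=
          Subtype.ext e'
        rw [e2, h1, pow_succ']
        group
    have hβ2 : ∀ v : Q, (v : Ω) ∈ ttN ι N → (α ^ p ^ k) v = v := by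
      intro v hv
      have h1 := hact (p ^ k) v hv
      rw [hk] at h1
      simp only [one_mul, inv_one, mul_one] at h1
      exact Subtype.ext (Subtype.mk.inj (hι h1))
    have h1 := hfix (α ^ p ^ k) (hPdpow hα _).1 hβ2
    obtain ⟨l, hl⟩ := IsPGroup.iff_card.1 (hS.to_le hQS)
    refine ⟨k + l, ?_⟩
    rw [pow_add, pow_mul, ← hl, h1]
  -- the normal subgroup of `Aut_F(Q)`
  let Λ : Subgroup (F.autGroup Q) :=
    { carrier := {γ | Pd (γ : MulAut Q)}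
      mul_mem' := fun h1 h2 => hPdmul h1 h2
      one_mem' := hPd1
      inv_mem' := fun h1 => hPdinv h1 }
  have hΛp : IsPGroup p Λ := by
    rintro ⟨⟨α, hα⟩, hαΛ⟩
    obtain ⟨n, hn⟩ := hPdp hαΛ
    exact ⟨n, Subtype.ext (Subtype.ext hn)⟩
  have hΛn : Λ.Normal := by
    constructor
    rintro ⟨α, hαF⟩ hαΛ ⟨γ, hγF⟩
    obtain ⟨hα1, a₁, ha₁, hα2⟩ := id hαΛ
    have hγH := (mem_autGroup_iff hQS γ).1 hγF
    obtain ⟨g, hg⟩ := IsRealizedBy.exists_conj hr hγH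
    have hγ : ∀ y : Q, ι ⟨γ y, hQS (γ y).2⟩ = g * ι ⟨y, hQS y.2⟩ * g⁻¹ := fun y => hg y
    have hγγ : ∀ y : Q, γ (γ⁻¹ y) = y := fun y => by
      show (γ * γ⁻¹) y = y
      rw [mul_inv_cancel]
      rfl
    have hγT : ∀ y : Q, (y : Ω) ∈ ttN ι N → ((γ y : Q) : Ω) ∈ ttN ι N := by
      intro y hy
      refine mem_ttN.2 ⟨hQS (γ y).2, ?_⟩
      rw [hγ]
      exact hN.conj_mem _ (mem_ttN.1 hy).2 g
    have hγTi : ∀ y : Q, ((γ y : Q) : Ω) ∈ ttN ι N → (y : Ω) ∈ ttN ι N := by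
      intro y hy
      refine mem_ttN.2 ⟨hQS y.2, ?_⟩
      have h1 := (mem_ttN.1 hy).2
      rw [hγ] at h1
      have h2 := hN.conj_mem _ h1 g⁻¹
      have e : g⁻¹ * (g * ι ⟨y, hQS y.2⟩ * g⁻¹) * g⁻¹⁻¹ = ι ⟨y, hQS y.2⟩ := by group
      rwa [e] at h2
    have hVT : Q ⊓ ttN ι N ≤ ttN ι N := inf_le_right
    obtain ⟨g', hg'n, hg'a⟩ := control_core hr R hR hVT g (fun y hy => by
      refine ⟨⟨γ ⟨y, hy.1⟩, hQS (γ ⟨y, hy.1⟩).2⟩, ?_⟩
      exact hγ ⟨y, hy.1⟩)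
    show Pd (γ * α * γ⁻¹)
    refine ⟨fun q => ?_, g' * a₁ * g'⁻¹, (Subgroup.mem_normalizer_iff.1 hg'n _).1 ha₁, fun v hv => ?_⟩
    · -- first condition
      have h1 := hα1 (γ⁻¹ q)
      have hq₁ : (((α (γ⁻¹ q)) * (γ⁻¹ q)⁻¹ : Q) : Ω) ∈ ttN ι N := h1
      have h2 := hγT _ hq₁
      have e : ((γ (α (γ⁻¹ q) * (γ⁻¹ q)⁻¹) : Q) : Ω) = ((γ * α * γ⁻¹) q : Q) * (q : Ω)⁻¹ := by
        rw [map_mul, map_inv, hγγ]
        rfl
      rwa [e] at h2
    · -- second condition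
      let q₀ : Q := γ⁻¹ v
      have hq₀v : γ q₀ = v := hγγ v
      have hq₀T : (q₀ : Ω) ∈ ttN ι N := hγTi q₀ (by rw [hq₀v]; exact hv)
      let u : Q := α q₀
      have huT : (u : Ω) ∈ ttN ι N := hof α hα1 q₀ hq₀T
      have h1 := hγ u
      have h2 := hg'a u ⟨u.2, huT⟩
      have h3 := hα2 q₀ hq₀T
      have h4 := hg'a q₀ ⟨q₀.2, hq₀T⟩
      have h5 := hγ q₀
      rw [hq₀v] at h5
      have e1 : iN ι N ⟨(u : Ω), hVT ⟨u.2, huT⟩⟩ = ι ⟨u, hQS u.2⟩ := rfl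
      have e2 : iN ι N ⟨(q₀ : Ω), hVT ⟨q₀.2, hq₀T⟩⟩ = ι ⟨q₀, hQS q₀.2⟩ := rfl
      rw [e1] at h2
      rw [e2] at h4
      show ι ⟨γ u, hQS (γ u).2⟩ = _
      rw [h1, ← h2, show ι ⟨(u : Ω), hQS u.2⟩ = _ from h3, h5, ← h4]
      group
  have hαF : autOfNormalizer Q haN ∈ F.autGroup Q :=
    autInducedBy_le_autGroup hQS (autOfNormalizer_mem haN haS)
  have hmemΛ : (⟨autOfNormalizer Q haN, hαF⟩ : F.autGroup Q) ∈ Λ := hPda
  have hle : Λ ≤ Cfsg.pCore p (F.autGroup Q) := Cfsg.Agent.H01.le_pCore hΛn hΛp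
  have hinn : autOfNormalizer Q haN ∈ Inn Q := by
    rw [← hQr.2]
    exact ⟨_, hle hmemΛ, rfl⟩
  exact haQ (mem_of_conj_mem_inn (hQc.2 Q (isConj_refl hQS)) hQS ⟨haS, haN⟩ hinn)

/-- The core of the system of a normal subgroup is normal in the system of `G`. -/
theorem core_isNormal (hS : IsPGroup p S) (hF : F.IsSaturated p) (hr : F.IsRealizedBy ι) (R : Sylow p G)
    (hR : (R : Subgroup G) = ι.range) : F.IsNormal (EN hr.1 N).core := by
  haveI hfS : Finite S := Finite.of_injective ι hr.1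
  exact isNormal_of_stronglyClosed_le hS hF (core_strongly hr R hR) (fun _ hc hrd => core_le_radical hS hr R hR hc hrd)

end CoreNormal

end Cfsg.Agent.H24.Stb
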