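import Mathlib
import Cfsg.Agent.Lib.H24.StbB
import Cfsg.Agent.Lib.H14.QdInv

/-!
For `p ≥ 5`, a system realized by a normalizer `p`-stable group has a nontrivial core and is constrained.
-/

set_option autoImplicit false
set_option linter.style.haveILetI false

namespace Cfsg.Agent.H24.Stb

open Cfsg Cfsg.FusionSystem Cfsg.Agent.H25

universe u

section Main

variable {p : ℕ} [Fact p.Prime]

theorem realIn_top {Ω G : Type*} [Group Ω] [Group G] {S : Subgroup Ω} {F : FusionSystem S} {ι : S →* G}
    (hr : F.IsRealizedBy ι) : RealIn F ι ⊤ :=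
  ⟨hr.1, fun P hP φ hφ => (hr.2 P hP φ hφ).trans
    ⟨fun ⟨g, hg⟩ => ⟨g, Subgroup.mem_top _, hg⟩, fun ⟨g, _, hg⟩ => ⟨g, hg⟩⟩⟩

/-- The core is nontrivial when `S` is nontrivial, given control of fusion by `N(Z(J(T)))`. -/
theorem core_ne_bot_of_control {Ω G : Type u} [Group Ω] [Group G] [Finite G] {S : Subgroup Ω} {F : FusionSystem S}
    {ι : S →* G} (hr : F.IsRealizedBy ι) (T : Sylow p G) (hT : (T : Subgroup G) = ι.range) (hne : S ≠ ⊥)
    (hctl : ∀ A : Set G, A ⊆ (T : Subgroup G) →
      ControlsStrongFusionOf (Subgroup.normalizer (centerThompsonAOf (T : Subgroup G) : Set G)) (T : Subgroup G) A) :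
    F.core ≠ ⊥ := by
  classical
  have hι := hr.1
  haveI hfS : Finite S := Finite.of_injective ι hι
  let Z : Subgroup G := centerThompsonAOf (T : Subgroup G)
  have hZT : Z ≤ ι.range := by
    rw [← hT]
    exact inf_le_left.trans (Subgroup.map_subtype_le _)
  have hC : Ctl ι ⊤ Z := by
    intro V hV c _ hc
    let A : Set G := {x | ∃ (y : Ω) (hy : y ∈ V), ι ⟨y, hV hy⟩ = x}
    have hAT : A ⊆ (T : Subgroup G) := by
      rintro _ ⟨y, hy, rfl⟩
      rw [SetLike.mem_coe, hT]
      exact ⟨_, rfl⟩
    have hcA : (fun a => c * a * c⁻¹) '' A ⊆ (T : Subgroup G) := by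
      rintro _ ⟨_, ⟨y, hy, rfl⟩, rfl⟩
      rw [SetLike.mem_coe, hT]
      exact hc y hy
    obtain ⟨x, hx, hxe⟩ := (hctl A hAT).2 c hcA
    exact ⟨x, Subgroup.mem_top _, fun y hy => (hxe _ ⟨y, hy, rfl⟩).symm, hx⟩
  have hN : F.IsNormal (ttN ι Z) := normal_of_ctl (realIn_top hr) hZT hC
  intro hbot
  have hle : ttN ι Z ≤ F.core := le_sSup hN
  have hZbot : Z = ⊥ := by
    rw [eq_bot_iff]
    intro z hz
    obtain ⟨s, rfl⟩ := hZT hz
    have h1 : (s : Ω) ∈ F.core := hle (mem_ttN.2 ⟨s.2, hz⟩)
    rw [hbot, Subgroup.mem_bot] at h1
    have h2 : s = 1 := Subtype.ext h1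
    rw [h2, map_one]
    exact Subgroup.one_mem _
  have hnt : Nontrivial (T : Subgroup G) := by
    obtain ⟨x, hx, hx1⟩ := (Subgroup.bot_or_exists_ne_one S).resolve_left hne
    refine (Subgroup.nontrivial_iff_ne_bot _).2 ?_
    intro h0
    have h1 : ι ⟨x, hx⟩ ∈ (T : Subgroup G) := by
      rw [hT]
      exact ⟨_, rfl⟩
    rw [h0, Subgroup.mem_bot] at h1
    have h2 : (⟨x, hx⟩ : S) = 1 := hι (by rw [h1, map_one])
    exact hx1 (congrArg Subtype.val h2)
  have h3 := (H14.isCharPFunctor_zjF (p := p)).1 (T : Subgroup G) T.isPGroup' hnt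
  have h4 : (H14.zjF (T : Subgroup G)).map (T : Subgroup G).subtype = Z := H14.inducedFunctor_zjF (T : Subgroup G)
  rw [hZbot, Subgroup.map_eq_bot_iff_of_injective _ (Subgroup.subtype_injective _)] at h4
  exact h3 h4

/-- A finite group has a proper subgroup of smaller order. -/
theorem card_lt_of_ne_top {G : Type*} [Group G] [Finite G] {H : Subgroup G} (h : H ≠ ⊤) : Nat.card H < Nat.card G := by
  have h1 := H.card_mul_index
  have h2 := Subgroup.one_lt_index_of_ne_top h
  have h3 : 0 < Nat.card H := Nat.card_pos
  nlinarith

/-- Main theorem: for `p ≥ 5`, a system realized by a normalizer `p`-stable group is constrained. -/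
theorem constrained_main (hp5 : 5 ≤ p) : ∀ (n : ℕ) (G : Type u) [Group G] [Finite G], Nat.card G < n →
    IsNormalizerPStable p G → ∀ (Ω : Type u) [Group Ω] (S : Subgroup Ω) (F : FusionSystem S) (ι : S →* G),
    F.IsRealizedBy ι → (∃ T : Sylow p G, (T : Subgroup G) = ι.range) → F.IsConstrained p := by
  intro n
  induction n with
  | zero =>
    intro G _ _ h
    omega
  | succ n ih =>
    intro G _ _ hcard hst Ω _ S F ι hr hTT
    classical
    obtain ⟨T, hT⟩ := hTT
    have hι := hr.1
    haveI hfS : Finite S := Finite.of_injective ι hι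
    have hS : IsPGroup p S := by
      intro s
      have h1 : ι s ∈ (T : Subgroup G) := by
        rw [hT]
        exact ⟨_, rfl⟩
      obtain ⟨k, hk⟩ := T.isPGroup' ⟨ι s, h1⟩
      refine ⟨k, hι ?_⟩
      rw [map_pow, map_one]
      exact congrArg Subtype.val hk
    have hsat : F.IsSaturated p := saturated_of_realized hr T hT
    have hOn : F.IsNormal F.core := isNormal_core
    have hOS : F.core ≤ S := hOn.1
    let W : Subgroup G := im ι F.core
    have hWr : W ≤ ι.range := im_le_range
    have hsmall : ∀ H : Subgroup G, H ≠ ⊤ → Nat.card H < n := fun H hH => by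
      have := card_lt_of_ne_top hH
      omega
    have hmemW : ∀ (x : Ω) (hx : x ∈ S), ι ⟨x, hx⟩ ∈ W ↔ x ∈ F.core := fun x hx => mem_im_iff hι (s := ⟨x, hx⟩)
    have hreal := realIn_top hr
    have hctl : Ctl ι ⊤ W := ctl_of_normal hreal hOn
    by_cases hWn : W.Normal
    · haveI := hWn
      let C : Subgroup G := Subgroup.centralizer (W : Set G)
      haveI hCn : C.Normal := inferInstance
      by_cases hCt : C = ⊤
      · by_cases hW1 : W = ⊥
        · -- the core is trivial
          have hcore : F.core = ⊥ := by
            rw [eq_bot_iff]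
            intro x hx
            have h1 : ι ⟨x, hOS hx⟩ ∈ W := (hmemW x (hOS hx)).2 hx
            rw [hW1, Subgroup.mem_bot] at h1
            have h2 : (⟨x, hOS hx⟩ : S) = 1 := hι (by rw [h1, map_one])
            exact Subgroup.mem_bot.2 (congrArg Subtype.val h2)
          by_cases hSb : S = ⊥
          · refine ⟨hsat, F.core, hOn, centric_of_normal hOn ?_⟩
            intro x hx
            have hx1 : x ∈ S := hx.1
            rw [hSb, Subgroup.mem_bot] at hx1
            rw [hx1]
            exact Subgroup.one_mem _
          · exact absurd hcore (core_ne_bot_of_control hr T hT hSb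
              (fun A hA => Cfsg.Agent.H08.CQ.strongFusion_of_stable hp5 hst T A hA))
        · -- quotient by the central subgroup
          have hWp : IsPGroup p W := by
            have h1 : IsPGroup p (F.core.comap S.subtype) := by
              intro y
              obtain ⟨k, hk⟩ := hS y.1
              refine ⟨k, Subtype.ext ?_⟩
              exact hk
            exact h1.map ι
          have hOc : ∀ g : G, (orderOf g).Coprime p → g ∈ Subgroup.centralizer (W : Set G) := by
            intro g _
            show g ∈ C
            rw [hCt]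
            exact Subgroup.mem_top _
          have hstq : IsNormalizerPStable p (G ⧸ W) := Cfsg.Agent.H08.CQ.stable_quot hp5 hst hWp hOc
          let π : G →* G ⧸ W := QuotientGroup.mk' W
          have hπ : Function.Surjective π := QuotientGroup.mk'_surjective W
          let θ : S →* G ⧸ W := π.comp ι
          let S' : Subgroup (G ⧸ W) := θ.range
          let E : FusionSystem S' := realSys S'.subtype (Subgroup.subtype_injective _)
          have hrE : E.IsRealizedBy S'.subtype := realSys_realized _ _
          have hcardq : Nat.card (G ⧸ W) < n := by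
            have h1 := Subgroup.card_eq_card_quotient_mul_card_subgroup W
            have hnt : Nontrivial W := (Subgroup.nontrivial_iff_ne_bot _).2 hW1
            have h2 : 1 < Nat.card W := Finite.one_lt_card
            have h3 : 0 < Nat.card (G ⧸ W) := Nat.card_pos
            nlinarith
          have hT' : ((T.mapSurjective hπ : Sylow p (G ⧸ W)) : Subgroup (G ⧸ W)) = S'.subtype.range := by
            rw [Sylow.coe_mapSurjective, hT, Subgroup.range_subtype, ← MonoidHom.range_comp]
          have hEc : E.IsConstrained p := ih (G ⧸ W) hcardq hstq (G ⧸ W) S' E S'.subtype hrE ⟨_, hT'⟩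
          have hfac : F.IsFactorSystem F.core θ E := by
            refine ⟨hOS, fun s => ?_, rfl, fun P' φ' => ?_⟩
            · exact (QuotientGroup.eq_one_iff _).trans (mem_im_iff hι)
            · constructor
              · intro h
                obtain ⟨gb, hgb⟩ := IsRealizedBy.exists_conj hrE h
                obtain ⟨g, rfl⟩ := hπ gb
                have hP' : P' ≤ S' := hom_le h
                let R : Subgroup Ω := preimageAlong θ P'
                have hRS : R ≤ S := Subgroup.map_subtype_le _
                have hmem : ∀ y : R, θ ⟨y, hRS y.2⟩ ∈ P' := by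
                  rintro ⟨_, s, hs, rfl⟩
                  exact hs
                have hφ'e : ∀ x : P', φ' x = π g * x * (π g)⁻¹ := fun x => hgb x
                have hconj : ∀ y : R, g * ι (Subgroup.inclusion hRS y) * g⁻¹ ∈ ι.range := by
                  intro y
                  have h1 : φ' ⟨θ ⟨y, hRS y.2⟩, hmem y⟩ ∈ S' := hom_val h _
                  obtain ⟨s, hs⟩ := h1
                  rw [hφ'e] at hs
                  have h2 : π (ι s) = π (g * ι ⟨y, hRS y.2⟩ * g⁻¹) := by
                    rw [map_mul, map_mul, map_inv]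
                    exact hs
                  have h3 : (ι s)⁻¹ * (g * ι ⟨y, hRS y.2⟩ * g⁻¹) ∈ W := QuotientGroup.eq.1 h2
                  have h4 := hWr h3
                  have h5 := ι.range.mul_mem (⟨s, rfl⟩ : ι s ∈ ι.range) h4
                  rw [mul_inv_cancel_left] at h5
                  exact h5
                obtain ⟨ψ, hψ, hψv⟩ := exists_conj_lift hι hRS g hconj
                have hψF : ψ ∈ F.Hom R := IsRealizedBy.hom_mem hr hRS hψ hψv
                refine ⟨hP', ψ, hψF, hRS, hψ, hmem, fun x => ?_⟩
                rw [hφ'e]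
                have h6 := hψv x
                show _ = π (ι ⟨ψ x, hψ x⟩)
                rw [h6, map_mul, map_mul, map_inv]
                rfl
              · rintro ⟨hP', φ, hφ, hPS, hφS, hP'm, hind⟩
                have hpre : ∀ x : P', ∃ y : preimageAlong θ P', θ ⟨y, hPS y.2⟩ = x := by
                  intro x
                  obtain ⟨s, hs⟩ := hP' x.2
                  have hs' : s ∈ (P'.comap θ) := by
                    show θ s ∈ P'
                    rw [hs]
                    exact x.2
                  exact ⟨⟨s, s, hs', rfl⟩, hs⟩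
                have hval : ∀ x : P', φ' x ∈ S' := by
                  intro x
                  obtain ⟨y, hy⟩ := hpre x
                  have h1 := hind y
                  have e : (⟨θ ⟨y, hPS y.2⟩, hP'm y⟩ : P') = x := Subtype.ext hy
                  rw [e] at h1
                  rw [h1]
                  exact ⟨_, rfl⟩
                obtain ⟨g, hg⟩ := IsRealizedBy.exists_conj hr hφ
                refine (hrE.2 P' hP' φ' hval).2 ⟨π g, fun x => ?_⟩
                obtain ⟨y, hy⟩ := hpre x
                have h1 := hind y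
                have e : (⟨θ ⟨y, hPS y.2⟩, hP'm y⟩ : P') = x := Subtype.ext hy
                rw [e] at h1
                show φ' x = π g * x * (π g)⁻¹
                rw [h1]
                show π (ι ⟨φ y, hφS y⟩) = _
                have h2 := hg y
                have e3 : ι ⟨φ y, hφS y⟩ = g * ι ⟨y, hPS y.2⟩ * g⁻¹ := h2
                rw [e3, map_mul, map_mul, map_inv]
                congr 2
          exact constrained_of_factor_constrained hS hsat hfac hEc
      · -- the centralizer is a proper normal subgroup
        have hEc : (EN hι C).IsConstrained p :=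
          ih C (hsmall C hCt) (stable_sub hst C) Ω (ttN ι C) (EN hι C) (iotaN ι C) (EN_realized hι C) (EN_sylow T hT C)
        haveI hfT : Finite (ttN ι C) := Cfsg.Agent.H24.finite_of_le (S := S) ttN_le
        have hAn : F.IsNormal (EN hι C).core := core_isNormal hS hsat hr T hT
        have hAO : (EN hι C).core ≤ F.core := le_sSup hAn
        have hcen := core_isCentric hEc
        have hcen' := hcen.2 _ (isConj_refl hcen.1)
        refine ⟨hsat, F.core, hOn, centric_of_normal hOn ?_⟩
        rintro x ⟨hxS, hxC⟩
        have hxC' : x ∈ Subgroup.centralizer ((F.core : Subgroup Ω) : Set Ω) := hxC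
        rw [Subgroup.mem_centralizer_iff] at hxC'
        have hxT : x ∈ ttN ι C := by
          refine mem_ttN.2 ⟨hxS, ?_⟩
          show ι ⟨x, hxS⟩ ∈ Subgroup.centralizer (W : Set G)
          rw [Subgroup.mem_centralizer_iff]
          intro w hw
          obtain ⟨s, hs, rfl⟩ := mem_im.1 hw
          have h1 := hxC' s hs
          have e : s * ⟨x, hxS⟩ = ⟨x, hxS⟩ * s := Subtype.ext h1
          rw [← map_mul, e, map_mul]
        have hxA : x ∈ Subgroup.centralizer (((EN hι C).core : Subgroup Ω) : Set Ω) := by
          rw [Subgroup.mem_centralizer_iff]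
          intro a ha
          exact hxC' a (hAO ha)
        exact hAO (hcen' ⟨hxT, hxA⟩)
    · -- pass to the normalizer of the image of the core
      let H : Subgroup G := Subgroup.normalizer (W : Set G)
      have hHt : H ≠ ⊤ := fun h => hWn (Subgroup.normalizer_eq_top_iff.1 h)
      have hnorm := normalizer_of_isNormal hOn
      have hSW : ∀ s : S, ι s ∈ H := by
        intro s
        show ι s ∈ Subgroup.normalizer (W : Set G)
        rw [Subgroup.mem_normalizer_iff]
        intro x
        have hsn := Subgroup.mem_normalizer_iff.1 (hnorm s.2)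
        constructor
        · intro hx
          obtain ⟨t, ht, rfl⟩ := mem_im.1 hx
          have h1 := (hsn t).1 ht
          refine mem_im.2 ⟨s * t * s⁻¹, h1, ?_⟩
          rw [map_mul, map_mul, map_inv]
        · intro hx
          obtain ⟨t, ht, hte⟩ := mem_im.1 hx
          have h1 : (s : Ω) * ((s⁻¹ * t * s : S) : Ω) * (s : Ω)⁻¹ ∈ F.core := by
            have e : (s : Ω) * ((s⁻¹ * t * s : S) : Ω) * (s : Ω)⁻¹ = t := by
              show (s : Ω) * ((s : Ω)⁻¹ * t * s) * (s : Ω)⁻¹ = t
              group
            rw [e]
            exact ht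
          have h2 := (hsn _).2 h1
          refine mem_im.2 ⟨s⁻¹ * t * s, h2, ?_⟩
          rw [map_mul, map_mul, map_inv, hte]
          group
      let ι' : S →* H := ι.codRestrict H hSW
      have hι' : Function.Injective ι' := fun a b h => hι (congrArg Subtype.val h)
      have hr' : F.IsRealizedBy ι' := by
        refine ⟨hι', fun P hP φ hφ => ⟨fun h => ?_, ?_⟩⟩
        · obtain ⟨g, hg⟩ := (hr.2 P hP φ hφ).1 h
          obtain ⟨c', -, hag, hnm⟩ := hctl P hP g (Subgroup.mem_top _) (fun y hy => ⟨_, hg ⟨y, hy⟩⟩)
          refine ⟨⟨c', hnm⟩, fun x => Subtype.ext ?_⟩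
          have h1 := hg x
          have h2 := hag x x.2
          show ι ⟨φ x, hφ x⟩ = c' * ι ⟨x, hP x.2⟩ * c'⁻¹
          rw [h2]
          exact h1
        · rintro ⟨g, hg⟩
          exact (hr.2 P hP φ hφ).2 ⟨g, fun x => congrArg Subtype.val (hg x)⟩
      have hTH : (T : Subgroup G) ≤ H := by
        rw [hT]
        rintro _ ⟨s, rfl⟩
        exact hSW s
      have hSyl : ((T.subtype hTH : Sylow p H) : Subgroup H) = ι'.range := by
        rw [Sylow.coe_subtype]
        ext x
        rw [Subgroup.mem_subgroupOf, hT]
        constructor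
        · rintro ⟨s, hs⟩
          exact ⟨s, Subtype.ext hs⟩
        · rintro ⟨s, rfl⟩
          exact ⟨s, rfl⟩
      exact ih H (hsmall H hHt) (stable_sub hst H) Ω S F ι' hr' ⟨_, hSyl⟩

end Main

end Cfsg.Agent.H24.Stb
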