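import Mathlib
import Cfsg.Prelude.Def_LieRecognition
import Cfsg.Agent.Lib.H24.SuzE
import Cfsg.Agent.Lib.H25.InvC

/-!
Suzuki 2-groups are resistant.
-/

set_option autoImplicit false

namespace Cfsg.Agent.H24.Suz

open Cfsg Cfsg.FusionSystem Cfsg.Agent.H25

open scoped commutatorElement

theorem ctx_of_suzuki {P : Type*} [Group P] (hP : Cfsg.IsSuzukiTwoGroup P) :
    ∃ ξ : MulAut P, Ctx ξ := by
  obtain ⟨hfin, hp, -, htwo, K, hcyc, hK⟩ := hP
  have : Finite (MulAut P) := MulEquiv.finite_left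
  obtain ⟨g, hg⟩ := hcyc.exists_generator
  have hpow : ∀ k : K, ∃ j : ℕ, k = g ^ j := by
    intro k
    have h1 := (mem_powers_iff_mem_zpowers (x := g) (y := k)).2 (hg k)
    obtain ⟨j, hj⟩ := h1
    exact ⟨j, hj.symm⟩
  refine ⟨(g : MulAut P), hp, ?_, ?_, htwo⟩
  · intro x y hx1 hx2 hy1 hy2
    obtain ⟨k, hk, -⟩ := hK x y hx1 hx2 hy1 hy2
    obtain ⟨j, rfl⟩ := hpow k
    exact ⟨j, hk⟩
  · intro j x hx1 hx2 h
    obtain ⟨k, -, hk⟩ := hK x x hx1 hx2 hx1 hx2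
    have h1 : g ^ j = k := hk (g ^ j) h
    have h2 : (1 : K) = k := hk 1 rfl
    have h3 : g ^ j = 1 := h1.trans h2.symm
    exact congrArg Subtype.val h3

variable {Ω : Type*} [Group Ω] {S : Subgroup Ω} {F : FusionSystem S} {P T : Subgroup Ω}

theorem essential_eq [Finite S] (hS : IsPGroup 2 S) (hTS : T ≤ S)
    (hTc : ∀ x ∈ S, ∀ t ∈ T, x * t = t * x) (hcomm : ∀ x ∈ S, ∀ y ∈ S, ⁅x, y⁆ ∈ T)
    (hchar : ∀ x ∈ S, x ∈ T ↔ x * x = 1) (hP : F.IsEssential 2 P) : P = S := by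
  have : Fact (Nat.Prime 2) := ⟨Nat.prime_two⟩
  have hQr := Cfsg.Agent.H24.isRadical_of_isEssential hS hP
  have hQc := hP.1
  have hQS : P ≤ S := hQc.1
  by_contra hne
  obtain ⟨c, hcN, hcP⟩ := exists_normalizer_not_mem hS hQS hne
  have hcS : c ∈ S := hcN.1
  have hcNN : c ∈ Subgroup.normalizer (P : Set Ω) := hcN.2
  obtain ⟨γ, hγC, hγm⟩ := exists_isC (F := F) hQS hcS hcNN
  have hiff : ∀ a ∈ F.autGroup P, ∀ t : P, (t : Ω) ∈ P ⊓ T ↔ ((a t : P) : Ω) ∈ P ⊓ T := by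
    intro a ha t
    have ht : (t : Ω) ∈ S := hQS t.2
    have ht' : ((a t : P) : Ω) ∈ S := hQS (a t).2
    have h1 : (t : Ω) ∈ T ↔ ((a t : P) : Ω) ∈ T := by
      rw [hchar _ ht, hchar _ ht']
      constructor
      · intro h
        have h2 : t * t = 1 := Subtype.ext h
        have h3 : a t * a t = 1 := by rw [← map_mul, h2, map_one]
        exact congrArg Subtype.val h3
      · intro h
        have h2 : a t * a t = 1 := Subtype.ext h
        have h3 : a (t * t) = a 1 := by rw [map_mul, h2, map_one]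
        exact congrArg Subtype.val (a.injective h3)
    constructor
    · intro h
      exact ⟨(a t).2, h1.1 h.2⟩
    · intro h
      exact ⟨t.2, h1.2 h.2⟩
  have hγst : γ ∈ stabCh P (P ⊓ T) := by
    refine ⟨fun t ht => Subtype.ext ?_, fun t => ?_⟩
    · rw [hγC t, hTc c hcS _ ht.2, mul_inv_cancel_right]
    · rw [hγC t]
      refine ⟨P.mul_mem (P.inv_mem t.2) (conj_mem_of_normalizer hcNN t.2), ?_⟩
      have e : (t : Ω)⁻¹ * (c * (t : Ω) * c⁻¹) = ⁅(t : Ω)⁻¹, c⁆ := by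
        simp only [commutatorElement_def]; group
      rw [e]
      exact hcomm _ (S.inv_mem (hQS t.2)) _ hcS
  have hW : stabCh P (P ⊓ T) ⊓ F.autGroup P ≤ pCoreOf 2 (F.autGroup P) := by
    haveI hfinR : Finite ↥(P ⊓ T) := finite_of_le (inf_le_right.trans hTS)
    haveI hfinQ : Finite ↥P := finite_of_le hQS
    haveI : Finite (MulAut ↥P) := MulEquiv.finite_left
    refine Cfsg.Agent.H13.le_pCoreOf inf_le_right ((stabCh_isPGroup (hS.to_le (inf_le_right.trans hTS))).to_le inf_le_left) ?_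
    intro b hb
    rw [Subgroup.mem_normalizer_iff]
    intro z
    constructor
    · rintro ⟨hz1, hz2⟩
      exact ⟨conj_mem_stabCh hz1 (hiff b hb), Subgroup.mul_mem _ (Subgroup.mul_mem _ hb hz2) (Subgroup.inv_mem _ hb)⟩
    · rintro ⟨hz1, hz2⟩
      have h1 := conj_mem_stabCh hz1 (hiff b⁻¹ (Subgroup.inv_mem _ hb))
      refine ⟨by simpa [mul_assoc] using h1, ?_⟩
      have h2 := Subgroup.mul_mem _ (Subgroup.mul_mem _ (Subgroup.inv_mem _ hb) hz2) hb
      simpa [mul_assoc] using h2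
  have hγI : γ ∈ Inn P := by
    have h1 := hW ⟨hγst, hγm⟩
    rw [← hQr.2]
    exact h1
  obtain ⟨q, hq, hqC⟩ := IsC.of_inn hγI
  have h2 : q⁻¹ * c ∈ P := by
    refine hQc.2 P (isConj_refl hQS) (mem_centralizerIn.mpr ⟨S.mul_mem (S.inv_mem (hQS hq)) hcS, fun y hy => ?_⟩)
    have h4 : c * y * c⁻¹ = q * y * q⁻¹ := (hγC ⟨y, hy⟩).symm.trans (hqC ⟨y, hy⟩)
    have h5 : c * y = q * y * q⁻¹ * c := by
      rw [← h4]
      group
    calc y * (q⁻¹ * c) = q⁻¹ * (q * y * q⁻¹ * c) := by group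
      _ = q⁻¹ * (c * y) := by rw [h5]
      _ = q⁻¹ * c * y := by group
  have h3 := P.mul_mem hq h2
  have e : q * (q⁻¹ * c) = c := by group
  rw [e] at h3
  exact hcP h3

theorem isNormal_of_suzuki [Finite S] (hS : IsPGroup 2 S) (hF : F.IsSaturated 2)
    (hsz : Cfsg.IsSuzukiTwoGroup ↥S) : F.IsNormal S := by
  have : Fact (Nat.Prime 2) := ⟨Nat.prime_two⟩
  obtain ⟨ξ, hc⟩ := ctx_of_suzuki hsz
  have hnon : ∃ a b : ↥S, a * b ≠ b * a := hsz.2.2.1
  let T : Subgroup Ω := (Om hc).map S.subtype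
  have hTS : T ≤ S := by
    rintro _ ⟨w, -, rfl⟩
    exact w.2
  have hTc : ∀ x ∈ S, ∀ t ∈ T, x * t = t * x := by
    rintro x hx _ ⟨w, hw, rfl⟩
    exact congrArg Subtype.val (hc.comm hw (⟨x, hx⟩ : S))
  have hcomm : ∀ x ∈ S, ∀ y ∈ S, ⁅x, y⁆ ∈ T := by
    intro x hx y hy
    exact ⟨_, comm_mem_Om hc hnon (⟨x, hx⟩ : S) (⟨y, hy⟩ : S), rfl⟩
  have hchar : ∀ x ∈ S, x ∈ T ↔ x * x = 1 := by
    intro x hx
    constructor
    · rintro ⟨w, hw, rfl⟩
      exact congrArg Subtype.val ((mem_Om hc).1 hw)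
    · intro h
      exact ⟨⟨x, hx⟩, (mem_Om hc).2 (Subtype.ext h), rfl⟩
  refine Cfsg.Agent.H24.isNormal_of_aut hS hF le_rfl ?_
  intro P hP
  have hPS : P = S := by
    rcases hP with rfl | hP
    · rfl
    · exact essential_eq hS hTS hTc hcomm hchar hP
  subst hPS
  refine ⟨le_rfl, fun α _ => ?_⟩
  have h1 : P.subgroupOf P = ⊤ := Subgroup.subgroupOf_self P
  rw [h1]
  exact Subgroup.map_top_of_surjective _ α.surjective

end Cfsg.Agent.H24.Suz
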